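import Cfsg.Agent.OddHalf.DblR.Basic

/-!
# Doubling of a long root group: existence of `W`

`R` is a Sylow 2-subgroup of `C_G(K)` (elementary abelian, tight), `X` a long root group of `K`, `P = C_K(X)^∞`, `Q = O_2(P)`,
`T0` the torus of `⟨X_ρ, X_{-ρ}⟩`. If some `g` normalises `R X`, `X`, `P`, `Q` but not `R` then there is a group `W`,
`X ≤ W ≤ C(P)`, with `[w, t] ∈ X`, and `w ↦ [w, t]` maps `W / X` isomorphically onto `X`, for all `t ∈ R#`.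
-/

set_option autoImplicit false

namespace Cfsg.Agent.OddHalf.DblR.Exist

variable {G : Type*} [Group G]

/-- The abstract situation. -/
structure Env (K R X P Q T0 : Subgroup G) : Prop where
  RK : ∀ r ∈ R, ∀ k ∈ K, r * k = k * r
  Rsq : ∀ r ∈ R, r * r = 1
  /-- the 2-elements of `C1 = C(K) ∩ C(R)` are in `R` -/
  C1R : ∀ c : G, (∀ k ∈ K, c * k = k * c) → (∀ r ∈ R, c * r = r * c) → ∀ j : ℕ, c ^ 2 ^ j = 1 → c ∈ R
  PK : P ≤ K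
  QP : Q ≤ P
  TK : T0 ≤ K
  XP : X ≤ P
  Xsq : ∀ x ∈ X, x * x = 1
  XPc : ∀ x ∈ X, ∀ p ∈ P, x * p = p * x
  Xc : ∀ x ∈ X, (∀ k ∈ K, x * k = k * x) → x = 1
  TX : ∀ h ∈ T0, ∀ x ∈ X, h * x * h⁻¹ ∈ X
  TPQ : ∀ h ∈ T0, ∀ p ∈ P, h * p * h⁻¹ * p⁻¹ ∈ Q
  Tc : ∀ h ∈ T0, ∀ k ∈ T0, h * k = k * h
  /-- `T0` is transitive on `X#` -/
  Ttr : ∀ x ∈ X, x ≠ 1 → ∀ y ∈ X, y ≠ 1 → ∃ h ∈ T0, h * x * h⁻¹ = y
  Tne : ∃ h ∈ T0, ∃ x ∈ X, h * x * h⁻¹ ≠ x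
  /-- tightness of `R` -/
  tight : ∀ g t : G, t ∈ R → t ≠ 1 → g * t = t * g → (∀ r ∈ R, g * r * g⁻¹ * r⁻¹ ∈ X) → ∀ r ∈ R, g * r = r * g
  /-- `C(P) ∩ C(R) ≤ X C1` -/
  k3 : ∀ c : G, (∀ p ∈ P, c * p = p * c) → (∀ r ∈ R, c * r = r * c) →
    ∃ x ∈ X, ∀ k ∈ K, x⁻¹ * c * k = k * (x⁻¹ * c)

/-- in a finite group, `g` normalising a subgroup -/
theorem conj_inv_mem [Finite G] {H : Subgroup G} {g : G} (h : ∀ x ∈ H, g * x * g⁻¹ ∈ H) : ∀ x ∈ H, g⁻¹ * x * g ∈ H := by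
  intro x hx
  have hinj : Function.Injective (fun y : H => (⟨g * y * g⁻¹, h y y.2⟩ : H)) := by
    intro a b hab
    have : g * (a : G) * g⁻¹ = g * b * g⁻¹ := congrArg Subtype.val hab
    exact Subtype.ext (mul_left_cancel (mul_right_cancel this))
  obtain ⟨y, hy⟩ := Finite.surjective_of_injective hinj ⟨x, hx⟩
  have hy' : g * (y : G) * g⁻¹ = x := congrArg Subtype.val hy
  rw [← hy', show g⁻¹ * (g * (y : G) * g⁻¹) * g = y by group]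
  exact y.2

namespace Env

variable {K R X P Q T0 : Subgroup G} (E : Env K R X P Q T0)

include E

theorem RX {r x : G} (hr : r ∈ R) (hx : x ∈ X) : r * x = x * r := E.RK r hr x (E.PK (E.XP hx))

theorem XX {x y : G} (hx : x ∈ X) (hy : y ∈ X) : x * y = y * x := E.XPc x hx y (E.XP hy)

theorem RR {r s : G} (hr : r ∈ R) (hs : s ∈ R) : r * s = s * r := by
  have h1 := E.Rsq (r * s) (mul_mem hr hs)
  have h2 := E.Rsq r hr
  have h3 := E.Rsq s hs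
  calc r * s = (s * s) * (r * s) * (r * r) := by rw [h2, h3, one_mul, mul_one]
    _ = s * (s * r * (s * r)) * r := by group
    _ = s * 1 * r := by rw [show s * r * (s * r) = 1 from E.Rsq _ (mul_mem hs hr)]
    _ = s * r := by rw [mul_one]

theorem TR {h r : G} (hh : h ∈ T0) (hr : r ∈ R) : r * h = h * r := E.RK r hr h (E.TK hh)

theorem TP {h p : G} (hh : h ∈ T0) (hp : p ∈ P) : h * p * h⁻¹ ∈ P := by
  have h1 := P.mul_mem (E.QP (E.TPQ h hh p hp)) hp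
  rwa [inv_mul_cancel_right] at h1

theorem TQ {h q : G} (hh : h ∈ T0) (hq : q ∈ Q) : h * q * h⁻¹ ∈ Q := by
  have h1 := Q.mul_mem (E.TPQ h hh q (E.QP hq)) hq
  rwa [inv_mul_cancel_right] at h1

/-- elements of `T0` acting nontrivially on `X` have no fixed points -/
theorem fpf {h : G} (hh : h ∈ T0) {x : G} (hx : x ∈ X) (hne : h * x * h⁻¹ ≠ x) {y : G} (hy : y ∈ X) (hy1 : y ≠ 1) :
    h * y * h⁻¹ ≠ y := by
  intro he
  have hx1 : x ≠ 1 := by rintro rfl; apply hne; group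
  obtain ⟨k, hk, rfl⟩ := E.Ttr y hy hy1 x hx hx1
  apply hne
  have hc := E.Tc h hh k hk
  calc h * (k * y * k⁻¹) * h⁻¹ = (h * k) * y * (h * k)⁻¹ := by group
    _ = k * (h * y * h⁻¹) * k⁻¹ := by rw [hc]; group
    _ = k * y * k⁻¹ := by rw [he]

omit E in
/-- the commutator with `t` -/
def δ (t y : G) : G := y * t * y⁻¹ * t⁻¹

omit E in
theorem δ_mul {t y y' : G} (h : y * δ t y' = δ t y' * y) : δ t (y * y') = δ t y' * δ t y := by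
  have h1 : y * y' * t * (y * y')⁻¹ * t⁻¹ = (y * δ t y') * (t * y⁻¹ * t⁻¹) := by unfold δ; group
  show y * y' * t * (y * y')⁻¹ * t⁻¹ = _
  rw [h1, h]
  unfold δ; group

omit E in
theorem δ_one (t : G) : δ t (1 : G) = 1 := by unfold δ; group

omit E in
theorem δ_eq_one_iff {t y : G} : δ t y = 1 ↔ y * t = t * y := by
  unfold δ
  rw [mul_inv_eq_one, mul_inv_eq_iff_eq_mul]

theorem xx_inv {x : G} (hx : x ∈ X) : x⁻¹ = x := inv_eq_of_mul_eq_one_left (E.Xsq x hx)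

theorem rr_inv {r : G} (hr : r ∈ R) : r⁻¹ = r := inv_eq_of_mul_eq_one_left (E.Rsq r hr)

omit E in
/-- `δ` is a homomorphism on elements centralising `X` -/
theorem δ_inv {t y : G} (h : y * δ t y = δ t y * y) : δ t y⁻¹ = (δ t y)⁻¹ := by
  have h1 : y⁻¹ * δ t y = δ t y * y⁻¹ := by
    calc y⁻¹ * δ t y = y⁻¹ * (δ t y * y) * y⁻¹ := by group
      _ = y⁻¹ * (y * δ t y) * y⁻¹ := by rw [h]
      _ = δ t y * y⁻¹ := by group
  have h2 := δ_mul (t := t) (y := y⁻¹) (y' := y) h1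
  rw [inv_mul_cancel, δ_one] at h2
  exact (inv_eq_of_mul_eq_one_right h2.symm).symm

omit E in
theorem δ_pow {t y : G} (h : y * δ t y = δ t y * y) (m : ℕ) : δ t (y ^ m) = δ t y ^ m := by
  induction m with
  | zero => rw [pow_zero, pow_zero, δ_one]
  | succ m ih =>
    rw [pow_succ', δ_mul, ih, pow_succ]
    rw [ih]
    exact (Commute.pow_right (show Commute y (δ t y) from h) m)

omit E in
theorem δ_conj {t y k : G} (h : k * t = t * k) : δ t (k * y * k⁻¹) = k * δ t y * k⁻¹ := by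
  have h1 : k * t * k⁻¹ = t := by rw [h, mul_inv_cancel_right]
  have h2 : k * t⁻¹ * k⁻¹ = t⁻¹ := by
    rw [show k * t⁻¹ * k⁻¹ = (k * t * k⁻¹)⁻¹ by group, h1]
  unfold δ
  calc k * y * k⁻¹ * t * (k * y * k⁻¹)⁻¹ * t⁻¹
      = k * y * k⁻¹ * (k * t * k⁻¹) * (k * y * k⁻¹)⁻¹ * (k * t⁻¹ * k⁻¹) := by rw [h1, h2]
    _ = k * (y * t * y⁻¹ * t⁻¹) * k⁻¹ := by group

omit E in
/-- The group `V`: elements of `C(P)` with `[v, R] ≤ X`. -/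
def V (E : Env K R X P Q T0) : Subgroup G where
  carrier := {v | (∀ p ∈ P, v * p = p * v) ∧ ∀ r ∈ R, δ r v ∈ X}
  one_mem' := ⟨fun p _ => by rw [one_mul, mul_one], fun r _ => by rw [δ_one]; exact one_mem _⟩
  mul_mem' := by
    rintro a b ⟨ha, ha'⟩ ⟨hb, hb'⟩
    refine ⟨fun p hp => ?_, fun r hr => ?_⟩
    · rw [mul_assoc, hb p hp, ← mul_assoc, ha p hp, mul_assoc]
    · rw [δ_mul (ha _ (E.XP (hb' r hr)))]
      exact mul_mem (hb' r hr) (ha' r hr)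
  inv_mem' := by
    rintro a ⟨ha, ha'⟩
    refine ⟨fun p hp => ?_, fun r hr => ?_⟩
    · have := ha p hp
      calc a⁻¹ * p = a⁻¹ * (p * a) * a⁻¹ := by group
        _ = a⁻¹ * (a * p) * a⁻¹ := by rw [this]
        _ = p * a⁻¹ := by group
    · rw [δ_inv (ha _ (E.XP (ha' r hr)))]
      exact inv_mem (ha' r hr)

theorem V_P {v p : G} (hv : v ∈ E.V) (hp : p ∈ P) : v * p = p * v := hv.1 p hp

theorem V_X {v x : G} (hv : v ∈ E.V) (hx : x ∈ X) : v * x = x * v := hv.1 x (E.XP hx)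

theorem V_δ {v r : G} (hv : v ∈ E.V) (hr : r ∈ R) : δ r v ∈ X := hv.2 r hr

theorem V_comm {v t : G} (hv : v ∈ E.V) (ht : t ∈ R) (ht1 : t ≠ 1) (h : v * t = t * v) : ∀ r ∈ R, v * r = r * v :=
  E.tight v t ht ht1 h hv.2

/-- elements of `V` commuting with some `t ∈ R#` are in `X C1` -/
theorem V_fix {v t : G} (hv : v ∈ E.V) (ht : t ∈ R) (ht1 : t ≠ 1) (h : v * t = t * v) :
    ∃ x ∈ X, ∀ k ∈ K, x⁻¹ * v * k = k * (x⁻¹ * v) := E.k3 v hv.1 (E.V_comm hv ht ht1 h)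

theorem X_le_V : X ≤ E.V := by
  intro x hx
  refine ⟨fun p hp => E.XPc x hx p hp, fun r hr => ?_⟩
  have : δ r x = 1 := δ_eq_one_iff.2 (E.RX hr hx).symm
  rw [this]; exact one_mem _

theorem δ_mul' {t a b : G} (ht : t ∈ R) (ha : a ∈ E.V) (hb : b ∈ E.V) : δ t (a * b) = δ t a * δ t b := by
  rw [δ_mul (E.V_X ha (E.V_δ hb ht)), E.XX (E.V_δ hb ht) (E.V_δ ha ht)]

theorem δ_inv' {t a : G} (ht : t ∈ R) (ha : a ∈ E.V) : δ t a⁻¹ = (δ t a)⁻¹ := δ_inv (E.V_X ha (E.V_δ ha ht))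

theorem δ_pow' {t a : G} (ht : t ∈ R) (ha : a ∈ E.V) (m : ℕ) : δ t (a ^ m) = δ t a ^ m := δ_pow (E.V_X ha (E.V_δ ha ht)) m

/-- `T0` normalises `V` -/
theorem T_V {h v : G} (hh : h ∈ T0) (hv : v ∈ E.V) : h * v * h⁻¹ ∈ E.V := by
  refine ⟨fun p hp => ?_, fun r hr => ?_⟩
  · have hp' : h⁻¹ * p * h ∈ P := by
      have := E.TP (inv_mem hh) hp
      rwa [inv_inv] at this
    calc h * v * h⁻¹ * p = h * (v * (h⁻¹ * p * h)) * h⁻¹ := by group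
      _ = h * ((h⁻¹ * p * h) * v) * h⁻¹ := by rw [E.V_P hv hp']
      _ = p * (h * v * h⁻¹) := by group
  · rw [δ_conj (E.TR hh hr).symm]
    exact E.TX h hh _ (E.V_δ hv hr)

omit E in
/-- The predicate `c ∈ C1 = C(K) ∩ C(R)`. -/
def C1 (K R : Subgroup G) (c : G) : Prop := (∀ k ∈ K, c * k = k * c) ∧ ∀ r ∈ R, c * r = r * c

theorem C1_X {c x : G} (hc : C1 K R c) (hx : x ∈ X) : c * x = x * c := hc.1 x (E.PK (E.XP hx))

/-- `[V, C1] ≤ X C1` -/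
theorem V_C1 {v c : G} (hv : v ∈ E.V) (hc : C1 K R c) : ∃ x ∈ X, ∃ c', C1 K R c' ∧ v * c * v⁻¹ = x * c' := by
  have h1 : ∀ p ∈ P, v * c * v⁻¹ * p = p * (v * c * v⁻¹) := by
    intro p hp
    have e1 := (E.V).inv_mem hv
    calc v * c * v⁻¹ * p = v * c * (v⁻¹ * p) := by group
      _ = v * (c * p) * v⁻¹ := by rw [E.V_P e1 hp]; group
      _ = (v * p) * c * v⁻¹ := by rw [hc.1 p (E.PK hp)]; group
      _ = p * (v * c * v⁻¹) := by rw [E.V_P hv hp]; group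
  have h2 : ∀ r ∈ R, v * c * v⁻¹ * r = r * (v * c * v⁻¹) := by
    intro r hr
    -- `v⁻¹ r v = x r`
    have e1 := (E.V).inv_mem hv
    have e2 := E.V_δ e1 hr
    set x := δ r v⁻¹ with hx
    have e3 : v⁻¹ * r * v = x * r := by rw [hx]; unfold δ; group
    calc v * c * v⁻¹ * r = v * c * (v⁻¹ * r * v) * v⁻¹ := by group
      _ = v * (c * (x * r)) * v⁻¹ := by rw [e3]; group
      _ = v * ((x * r) * c) * v⁻¹ := by
          rw [← mul_assoc c x r, E.C1_X hc e2, mul_assoc x c r, hc.2 r hr, mul_assoc x r c]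
      _ = v * (v⁻¹ * r * v) * c * v⁻¹ := by rw [e3]; group
      _ = r * (v * c * v⁻¹) := by group
  obtain ⟨x, hx, hx'⟩ := E.k3 _ h1 h2
  refine ⟨x, hx, x⁻¹ * (v * c * v⁻¹), ⟨hx', fun r hr => ?_⟩, by group⟩
  have e1 := E.RX hr (inv_mem hx)
  rw [mul_assoc, h2 r hr, ← mul_assoc, ← e1, mul_assoc]

/-- The group `V1`: elements of `V` centralising `C1` modulo `X`. -/
def V1 (E : Env K R X P Q T0) : Subgroup G where
  carrier := {v | v ∈ E.V ∧ ∀ c, C1 K R c → δ c v ∈ X}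
  one_mem' := ⟨one_mem _, fun c _ => by rw [δ_one]; exact one_mem _⟩
  mul_mem' := by
    rintro a b ⟨ha, ha'⟩ ⟨hb, hb'⟩
    refine ⟨mul_mem ha hb, fun c hc => ?_⟩
    rw [δ_mul (E.V_X ha (hb' c hc))]
    exact mul_mem (hb' c hc) (ha' c hc)
  inv_mem' := by
    rintro a ⟨ha, ha'⟩
    refine ⟨inv_mem ha, fun c hc => ?_⟩
    rw [δ_inv (E.V_X ha (ha' c hc))]
    exact inv_mem (ha' c hc)

theorem V1_le : E.V1 ≤ E.V := fun _ h => h.1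

/-- `[V, h] ≤ V1` -/
theorem comm_mem_V1 {v h : G} (hv : v ∈ E.V) (hh : h ∈ T0) : v⁻¹ * (h * v * h⁻¹) ∈ E.V1 := by
  refine ⟨mul_mem (inv_mem hv) (E.T_V hh hv), fun c hc => ?_⟩
  obtain ⟨x, hx, c', hc', e⟩ := E.V_C1 hv hc
  have hhc : ∀ {d : G}, C1 K R d → h * d * h⁻¹ = d := fun hd => by rw [← hd.1 h (E.TK hh), mul_inv_cancel_right]
  have e1 : (h * v * h⁻¹) * c * (h * v * h⁻¹)⁻¹ = h * x * h⁻¹ * c' := by
    calc (h * v * h⁻¹) * c * (h * v * h⁻¹)⁻¹ = h * (v * (h⁻¹ * c * h) * v⁻¹) * h⁻¹ := by group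
      _ = h * (v * c * v⁻¹) * h⁻¹ := by
          rw [show h⁻¹ * c * h = c by rw [mul_assoc, hc.1 h (E.TK hh), inv_mul_cancel_left]]
      _ = (h * x * h⁻¹) * (h * c' * h⁻¹) := by rw [e]; group
      _ = h * x * h⁻¹ * c' := by rw [hhc hc']
  have hx' := E.TX h hh x hx
  have e2 : δ c (v⁻¹ * (h * v * h⁻¹)) = (h * x * h⁻¹) * x⁻¹ := by
    have e3 : v⁻¹ * (h * x * h⁻¹) = (h * x * h⁻¹) * v⁻¹ := E.V_X (inv_mem hv) hx'
    have e4 : c' = x⁻¹ * (v * c * v⁻¹) := by rw [e]; group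
    calc δ c (v⁻¹ * (h * v * h⁻¹)) = v⁻¹ * ((h * v * h⁻¹) * c * (h * v * h⁻¹)⁻¹) * v * c⁻¹ := by unfold δ; group
      _ = (v⁻¹ * (h * x * h⁻¹)) * c' * v * c⁻¹ := by rw [e1]; group
      _ = (h * x * h⁻¹) * (v⁻¹ * x⁻¹) * v * (c * c⁻¹) := by rw [e3, e4]; group
      _ = (h * x * h⁻¹) * x⁻¹ := by rw [E.V_X (inv_mem hv) (inv_mem hx)]; group
  rw [e2]
  exact mul_mem hx' (inv_mem hx)

theorem V1_c {v c : G} (hv : v ∈ E.V1) (hc : C1 K R c) : δ c v ∈ X := hv.2 c hc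

/-- odd powers: a 2-element with the same commutator -/
theorem exists_two [Finite G] {H : Subgroup G} {v t : G} (hv : v ∈ H) (hx : δ t v ∈ X)
    (hc : ∀ x ∈ X, v * x = x * v) : ∃ m j : ℕ, (v ^ m) ^ 2 ^ j = 1 ∧ v ^ m ∈ H ∧ δ t (v ^ m) = δ t v := by
  have hpos : 0 < orderOf v := orderOf_pos v
  obtain ⟨j, m, hm, hjm⟩ := Nat.exists_eq_two_pow_mul_odd hpos.ne'
  refine ⟨m, j, ?_, pow_mem hv m, ?_⟩
  · rw [← pow_mul, mul_comm, ← hjm, pow_orderOf_eq_one]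
  · rw [δ_pow (hc _ hx)]
    obtain ⟨l, rfl⟩ := hm
    rw [pow_succ, pow_mul, pow_two, E.Xsq _ hx, one_pow, one_mul]

/-- the key element: squares -/
theorem sq_mem {v t : G} (hv : v ∈ E.V) (ht : t ∈ R) (ht1 : t ≠ 1) {j : ℕ} (hj : v ^ 2 ^ j = 1) (h1 : δ t v ≠ 1) :
    v * v ∈ X := by
  have hvv : v * v ∈ E.V := mul_mem hv hv
  have h2 : (v * v) * t = t * (v * v) := by
    rw [← δ_eq_one_iff, E.δ_mul' ht hv hv, E.Xsq _ (E.V_δ hv ht)]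
  obtain ⟨x, hx, hxc⟩ := E.V_fix hvv ht ht1 h2
  have h3 := E.V_comm hvv ht ht1 h2
  set c := x⁻¹ * (v * v) with hc
  have hvx : v * x⁻¹ = x⁻¹ * v := E.V_X hv (inv_mem hx)
  have hcR : ∀ r ∈ R, c * r = r * c := by
    intro r hr
    have e1 := E.RX hr (inv_mem hx)
    rw [hc, mul_assoc, h3 r hr, ← mul_assoc, ← e1, mul_assoc]
  have hcj : c ^ 2 ^ (j + 1) = 1 := by
    have e1 : Commute x⁻¹ (v * v) := by
      show x⁻¹ * (v * v) = v * v * x⁻¹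
      rw [← mul_assoc, ← hvx, mul_assoc, ← hvx, ← mul_assoc]
    have e2 : x⁻¹ ^ 2 ^ (j + 1) = 1 := by
      rw [pow_succ', pow_mul, pow_two, E.Xsq _ (inv_mem hx), one_pow]
    have e3 : (v * v) ^ 2 ^ (j + 1) = 1 := by
      rw [← pow_two, ← pow_mul, pow_succ, show 2 * (2 ^ j * 2) = 2 ^ j * 4 by ring, pow_mul, hj, one_pow]
    rw [hc, e1.mul_pow, e2, e3, one_mul]
  have hcmem : c ∈ R := E.C1R c hxc hcR (j + 1) hcj
  by_cases hc1 : c = 1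
  · have : v * v = x := by rw [hc, inv_mul_eq_one] at hc1; exact hc1.symm
    rw [this]; exact hx
  · exfalso
    have hvc : v * c = c * v := by
      rw [hc, ← mul_assoc, hvx]; group
    exact h1 (δ_eq_one_iff.2 (E.V_comm hv hcmem hc1 hvc t ht))

/-- The group `V2`: elements of `V1` with square in `X`. -/
theorem mul_sq_mem {v w : G} (hv : v ∈ E.V1) (hw : w ∈ E.V1) (hv2 : v * v ∈ X) (hw2 : w * w ∈ X) {t : G} (ht : t ∈ R)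
    (ht1 : t ≠ 1) : v * w * (v * w) ∈ X := by
  have ha : v * w ∈ E.V1 := mul_mem hv hw
  set a := v * w with hadef
  have haV := E.V1_le ha
  have haa : a * a ∈ E.V := mul_mem haV haV
  have h2 : (a * a) * t = t * (a * a) := by
    rw [← δ_eq_one_iff, E.δ_mul' ht haV haV, E.Xsq _ (E.V_δ haV ht)]
  obtain ⟨x, hx, hxc⟩ := E.V_fix haa ht ht1 h2
  have h3 := E.V_comm haa ht ht1 h2
  set c := x⁻¹ * (a * a) with hc
  have hcR : ∀ r ∈ R, c * r = r * c := by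
    intro r hr
    have e1 := E.RX hr (inv_mem hx)
    rw [hc, mul_assoc, h3 r hr, ← mul_assoc, ← e1, mul_assoc]
  have hC : C1 K R c := ⟨hxc, hcR⟩
  have haac : a * a = x * c := by rw [hc]; group
  -- `v a v⁻¹ = a⁻¹ y` with `y ∈ X`
  have hvX : ∀ y ∈ X, v * y = y * v := fun y hy => E.V_X (E.V1_le hv) hy
  have hwX : ∀ y ∈ X, w * y = y * w := fun y hy => E.V_X (E.V1_le hw) hy
  have haX : ∀ y ∈ X, a * y = y * a := fun y hy => E.V_X haV hy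
  have e1 : v * a * v⁻¹ = a⁻¹ * ((v * v) * (w * w)) := by
    have f1 : w⁻¹ * (w * w) = w := by group
    have f2 : (v * v) * (w * w) = (w * w) * (v * v) := E.XX hv2 hw2
    have f3 : v⁻¹ * (v * v) = v := by group
    calc v * a * v⁻¹ = (v * v) * w * v⁻¹ := by rw [hadef]; group
      _ = w * (v * v) * v⁻¹ := by rw [hwX _ hv2]
      _ = w * v := by group
      _ = w⁻¹ * ((w * w) * v) := by group
      _ = w⁻¹ * (v * (w * w)) := by rw [hvX _ hw2]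
      _ = w⁻¹ * v⁻¹ * ((v * v) * (w * w)) := by group
      _ = a⁻¹ * ((v * v) * (w * w)) := by rw [hadef]; group
  have hy : (v * v) * (w * w) ∈ X := mul_mem hv2 hw2
  set y := (v * v) * (w * w) with hydef
  have e2 : v * (a * a) * v⁻¹ = (a * a)⁻¹ := by
    have g1 : a⁻¹ * y = y * a⁻¹ := E.V_X (inv_mem haV) hy
    calc v * (a * a) * v⁻¹ = (v * a * v⁻¹) * (v * a * v⁻¹) := by group
      _ = a⁻¹ * y * (a⁻¹ * y) := by rw [e1]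
      _ = a⁻¹ * (y * a⁻¹) * y := by group
      _ = a⁻¹ * (a⁻¹ * y) * y := by rw [g1]
      _ = a⁻¹ * a⁻¹ * (y * y) := by group
      _ = (a * a)⁻¹ := by rw [E.Xsq y hy]; group
  -- `v (a a) v⁻¹ = x' (a a)`
  have e3 : ∃ x' ∈ X, v * (a * a) * v⁻¹ = x' * (a * a) := by
    refine ⟨δ c v, E.V1_c hv hC, ?_⟩
    have g1 : δ c v * x = x * δ c v := E.XX (E.V1_c hv hC) hx
    rw [haac]
    calc v * (x * c) * v⁻¹ = (v * x) * c * v⁻¹ := by group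
      _ = x * (v * c * v⁻¹ * c⁻¹) * c := by rw [hvX x hx]; group
      _ = (x * δ c v) * c := rfl
      _ = δ c v * (x * c) := by rw [← g1, mul_assoc]
  obtain ⟨x', hx', e3⟩ := e3
  have e4 : (a * a) * (a * a) = x'⁻¹ := by
    have : (a * a)⁻¹ = x' * (a * a) := by rw [← e2, e3]
    calc (a * a) * (a * a) = x'⁻¹ * (x' * (a * a)) * (a * a) := by group
      _ = x'⁻¹ := by rw [← this]; group
  have hax : (a * a) * x = x * (a * a) := by rw [mul_assoc, haX x hx, ← mul_assoc, haX x hx, mul_assoc]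
  have hcc : c * c = 1 := by
    have g1 : c * c = x⁻¹ * x⁻¹ * ((a * a) * (a * a)) := by
      have g2 : (a * a) * x⁻¹ = x⁻¹ * (a * a) := by
        have := haX x⁻¹ (inv_mem hx)
        rw [mul_assoc, this, ← mul_assoc, this, mul_assoc]
      rw [hc]
      calc x⁻¹ * (a * a) * (x⁻¹ * (a * a)) = x⁻¹ * ((a * a) * x⁻¹) * (a * a) := by group
        _ = x⁻¹ * x⁻¹ * ((a * a) * (a * a)) := by rw [g2]; group
    have g2 : c * c ∈ X := by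
      rw [g1, e4]; exact mul_mem (mul_mem (inv_mem hx) (inv_mem hx)) (inv_mem hx')
    refine E.Xc _ g2 fun k hk => ?_
    rw [mul_assoc, hxc k hk, ← mul_assoc, hxc k hk, mul_assoc]
  have hcmem : c ∈ R := E.C1R c hxc hcR 1 (by rw [pow_one, pow_two]; exact hcc)
  by_cases hc1 : c = 1
  · rw [haac, hc1, mul_one]; exact hx
  · exfalso
    have hac : a * c = c * a := by
      have g1 : a * x⁻¹ = x⁻¹ * a := haX x⁻¹ (inv_mem hx)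
      rw [hc, ← mul_assoc, g1]; group
    obtain ⟨x2, hx2, hxc2⟩ := E.V_fix haV hcmem hc1 hac
    have h5 := E.V_comm haV hcmem hc1 hac
    set c2 := x2⁻¹ * a with hc2
    have hc2R : ∀ r ∈ R, c2 * r = r * c2 := by
      intro r hr
      have e1 := E.RX hr (inv_mem hx2)
      rw [hc2, mul_assoc, h5 r hr, ← mul_assoc, ← e1, mul_assoc]
    have g1 : c2 * c2 = x * c := by
      have g2 : a * x2⁻¹ = x2⁻¹ * a := haX _ (inv_mem hx2)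
      rw [hc2]
      calc x2⁻¹ * a * (x2⁻¹ * a) = x2⁻¹ * (a * x2⁻¹) * a := by group
        _ = (x2⁻¹ * x2⁻¹) * (a * a) := by rw [g2]; group
        _ = x * c := by rw [E.Xsq _ (inv_mem hx2), one_mul, haac]
    have g2 : x = 1 := by
      refine E.Xc x hx fun k hk => ?_
      have g3 : x = c2 * c2 * c⁻¹ := by rw [g1]; group
      have g4 : c⁻¹ * k = k * c⁻¹ := by
        have := hxc k hk
        calc c⁻¹ * k = c⁻¹ * (k * c) * c⁻¹ := by group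
          _ = c⁻¹ * (c * k) * c⁻¹ := by rw [this]
          _ = k * c⁻¹ := by group
      rw [g3, mul_assoc, g4, ← mul_assoc, mul_assoc c2 c2 k, hxc2 k hk, ← mul_assoc c2 k c2, hxc2 k hk]
      group
    rw [g2, one_mul] at g1
    have g3 : c2 ∈ R := E.C1R c2 hxc2 hc2R 2 (by
      rw [show (2 : ℕ) ^ 2 = 2 * 2 by norm_num, pow_mul, pow_two, pow_two c2, g1, hcc])
    have g4 := E.Rsq c2 g3
    rw [g1] at g4
    exact hc1 g4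

omit E in
/-- The group `V2`: elements of `V1` with square in `X`. -/
def V2 (E : Env K R X P Q T0) (hR : ∃ t ∈ R, t ≠ 1) : Subgroup G where
  carrier := {v | v ∈ E.V1 ∧ v * v ∈ X}
  one_mem' := ⟨one_mem _, by rw [one_mul]; exact one_mem _⟩
  mul_mem' := by
    rintro a b ⟨ha, ha'⟩ ⟨hb, hb'⟩
    obtain ⟨t, ht, ht1⟩ := hR
    exact ⟨mul_mem ha hb, E.mul_sq_mem ha hb ha' hb' ht ht1⟩
  inv_mem' := by
    rintro a ⟨ha, ha'⟩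
    refine ⟨inv_mem ha, ?_⟩
    rw [show a⁻¹ * a⁻¹ = (a * a)⁻¹ by group]
    exact inv_mem ha'

variable (hR : ∃ t ∈ R, t ≠ 1)

theorem V2_le : E.V2 hR ≤ E.V := fun _ h => h.1.1

/-- `V2 / X` is abelian -/
theorem V2_comm {a b : G} (ha : a ∈ E.V2 hR) (hb : b ∈ E.V2 hR) : ∃ x ∈ X, a * b = x * (b * a) := by
  have h1 := (mul_mem ha hb : a * b ∈ E.V2 hR).2
  have hX : ∀ y ∈ X, a * y = y * a := fun y hy => E.V_X (E.V2_le hR ha) hy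
  have hX' : ∀ y ∈ X, b * y = y * b := fun y hy => E.V_X (E.V2_le hR hb) hy
  refine ⟨(a * b) * (a * b) * ((a * a)⁻¹ * (b * b)⁻¹), mul_mem h1 (mul_mem (inv_mem ha.2) (inv_mem hb.2)), ?_⟩
  have e2 : b⁻¹ * (a * a)⁻¹ = (a * a)⁻¹ * b⁻¹ := by
    rw [← mul_inv_rev, ← mul_inv_rev, hX' _ ha.2]
  symm
  calc (a * b) * (a * b) * ((a * a)⁻¹ * (b * b)⁻¹) * (b * a) = (a * b) * (a * b) * ((a * a)⁻¹ * b⁻¹) * a := by group
    _ = a * b := by rw [← e2]; group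

/-- `T0` normalises `V1` -/
theorem conj_V1 {k v : G} (hk : k ∈ K) (hP : ∀ p ∈ P, k⁻¹ * p * k ∈ P) (hX : ∀ x ∈ X, k * x * k⁻¹ ∈ X)
    (hv : v ∈ E.V1) : k * v * k⁻¹ ∈ E.V1 := by
  refine ⟨⟨fun p hp => ?_, fun r hr => ?_⟩, fun c hc => ?_⟩
  · calc k * v * k⁻¹ * p = k * (v * (k⁻¹ * p * k)) * k⁻¹ := by group
      _ = k * ((k⁻¹ * p * k) * v) * k⁻¹ := by rw [E.V_P hv.1 (hP p hp)]
      _ = p * (k * v * k⁻¹) := by group
  · rw [δ_conj (E.RK r hr k hk).symm]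
    exact hX _ (E.V_δ hv.1 hr)
  · rw [δ_conj (hc.1 k hk).symm]
    exact hX _ (hv.2 c hc)

theorem conj_V2 {k v : G} (hk : k ∈ K) (hP : ∀ p ∈ P, k⁻¹ * p * k ∈ P) (hX : ∀ x ∈ X, k * x * k⁻¹ ∈ X)
    (hv : v ∈ E.V2 hR) : k * v * k⁻¹ ∈ E.V2 hR := by
  refine ⟨E.conj_V1 hk hP hX hv.1, ?_⟩
  rw [show k * v * k⁻¹ * (k * v * k⁻¹) = k * (v * v) * k⁻¹ by group]
  exact hX _ hv.2

theorem T_V2 {h v : G} (hh : h ∈ T0) (hv : v ∈ E.V2 hR) : h * v * h⁻¹ ∈ E.V2 hR :=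
  E.conj_V2 hR (E.TK hh) (fun p hp => by have := E.TP (inv_mem hh) hp; rwa [inv_inv] at this) (E.TX h hh) hv

omit E in
/-- The doubled root group `W`. -/
def W (E : Env K R X P Q T0) (hR : ∃ t ∈ R, t ≠ 1) {h : G} (hh : h ∈ T0) : Subgroup G where
  carrier := {w | ∃ v ∈ E.V2 hR, ∃ x ∈ X, w = v⁻¹ * (h * v * h⁻¹) * x}
  one_mem' := ⟨1, one_mem _, 1, one_mem _, by group⟩
  mul_mem' := by
    rintro _ _ ⟨a, ha, x, hx, rfl⟩ ⟨b, hb, y, hy, rfl⟩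
    -- modulo `X` everything commutes
    have ha' := E.T_V2 hR hh ha
    have hb' := E.T_V2 hR hh hb
    obtain ⟨u, hu, e1⟩ := E.V2_comm hR (inv_mem hb) (mul_mem (inv_mem ha) ha')
    have e2 := E.V_X (E.V2_le hR hb') (inv_mem hu)
    refine ⟨a * b, mul_mem ha hb, u⁻¹ * x * y, mul_mem (mul_mem (inv_mem hu) hx) hy, ?_⟩
    have f1 : x * b⁻¹ = b⁻¹ * x := (E.V_X (inv_mem (E.V2_le hR hb)) hx).symm
    have f2 : x * (h * b * h⁻¹) = h * b * h⁻¹ * x := (E.V_X (E.V2_le hR hb') hx).symm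
    have e3 : a⁻¹ * (h * a * h⁻¹) * b⁻¹ = u⁻¹ * (b⁻¹ * (a⁻¹ * (h * a * h⁻¹))) := by rw [e1]; group
    have e4 : u⁻¹ * (b⁻¹ * a⁻¹ * (h * a * h⁻¹) * (h * b * h⁻¹)) = (b⁻¹ * a⁻¹ * (h * a * h⁻¹) * (h * b * h⁻¹)) * u⁻¹ :=
      (E.V_X (E.V2_le hR (mul_mem (mul_mem (mul_mem (inv_mem hb) (inv_mem ha)) ha') hb')) (inv_mem hu)).symm
    calc a⁻¹ * (h * a * h⁻¹) * x * (b⁻¹ * (h * b * h⁻¹) * y)
        = a⁻¹ * (h * a * h⁻¹) * (x * b⁻¹) * (h * b * h⁻¹) * y := by group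
      _ = (a⁻¹ * (h * a * h⁻¹) * b⁻¹) * (x * (h * b * h⁻¹)) * y := by rw [f1]; group
      _ = u⁻¹ * (b⁻¹ * a⁻¹ * (h * a * h⁻¹) * (h * b * h⁻¹)) * x * y := by rw [e3, f2]; group
      _ = (a * b)⁻¹ * (h * (a * b) * h⁻¹) * (u⁻¹ * x * y) := by rw [e4]; group
  inv_mem' := by
    rintro _ ⟨a, ha, x, hx, rfl⟩
    have ha' := E.T_V2 hR hh ha
    obtain ⟨u, hu, e1⟩ := E.V2_comm hR (inv_mem ha') ha
    refine ⟨a⁻¹, inv_mem ha, u * x⁻¹, mul_mem hu (inv_mem hx), ?_⟩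
    have f1 : x⁻¹ * ((h * a * h⁻¹)⁻¹ * a) = ((h * a * h⁻¹)⁻¹ * a) * x⁻¹ :=
      (E.V_X (E.V2_le hR (mul_mem (inv_mem ha') ha)) (inv_mem hx)).symm
    have f2 : u * (a * (h * a * h⁻¹)⁻¹) = (a * (h * a * h⁻¹)⁻¹) * u :=
      (E.V_X (E.V2_le hR (mul_mem ha (inv_mem ha'))) hu).symm
    calc (a⁻¹ * (h * a * h⁻¹) * x)⁻¹ = x⁻¹ * ((h * a * h⁻¹)⁻¹ * a) := by group
      _ = ((h * a * h⁻¹)⁻¹ * a) * x⁻¹ := f1
      _ = (u * (a * (h * a * h⁻¹)⁻¹)) * x⁻¹ := by rw [e1]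
      _ = (a * (h * a * h⁻¹)⁻¹) * u * x⁻¹ := by rw [f2]
      _ = a⁻¹⁻¹ * (h * a⁻¹ * h⁻¹) * (u * x⁻¹) := by group

section W

variable {h : G} (hh : h ∈ T0)

theorem W_le : E.W hR hh ≤ E.V2 hR := by
  rintro _ ⟨a, ha, x, hx, rfl⟩
  refine mul_mem (mul_mem (inv_mem ha) (E.T_V2 hR hh ha)) ?_
  refine ⟨⟨E.X_le_V hx, fun c hc => ?_⟩, by rw [E.Xsq x hx]; exact one_mem _⟩
  rw [δ_eq_one_iff.2 (E.C1_X hc hx).symm]
  exact one_mem _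

theorem X_le_W : X ≤ E.W hR hh := fun x hx => ⟨1, one_mem _, x, hx, by group⟩

/-- the fixed points of `t` in `W` -/
theorem W_fix (hfp : ∀ y ∈ X, y ≠ 1 → h * y * h⁻¹ ≠ y) {w t : G} (hw : w ∈ E.W hR hh) (ht : t ∈ R) (ht1 : t ≠ 1)
    (hwt : w * t = t * w) : w ∈ X := by
  obtain ⟨v, hv, x, hx, rfl⟩ := hw
  have hvV := E.V2_le hR hv
  have hvV' := E.V2_le hR (E.T_V2 hR hh hv)
  have h1 : δ t (v⁻¹ * (h * v * h⁻¹) * x) = 1 := δ_eq_one_iff.2 hwt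
  rw [E.δ_mul' ht (mul_mem (inv_mem hvV) hvV') (E.X_le_V hx), E.δ_mul' ht (inv_mem hvV) hvV', E.δ_inv' ht hvV,
    δ_conj (E.TR hh ht).symm, δ_eq_one_iff.2 (E.RX ht hx).symm, mul_one, inv_mul_eq_one] at h1
  have h2 : δ t v = 1 := by
    by_contra hne
    exact hfp _ (E.V_δ hvV ht) hne h1.symm
  have h3 := E.V_comm hvV ht ht1 (δ_eq_one_iff.1 h2)
  obtain ⟨y, hy, hyc⟩ := E.V_fix hvV ht ht1 (δ_eq_one_iff.1 h2)
  set c := y⁻¹ * v with hc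
  have hvc : v = y * c := by rw [hc]; group
  have e1 : h * c * h⁻¹ = c := by rw [← hyc h (E.TK hh), mul_inv_cancel_right]
  have e2 : v⁻¹ * (h * v * h⁻¹) = y⁻¹ * (h * y * h⁻¹) := by
    have e3 : h * y * h⁻¹ * c = c * (h * y * h⁻¹) := (hyc _ (E.PK (E.XP (E.TX h hh y hy)))).symm
    have e4 : c * y⁻¹ = y⁻¹ * c := hyc _ (E.PK (E.XP (inv_mem hy)))
    have e5 : c⁻¹ * y⁻¹ = y⁻¹ * c⁻¹ := by
      calc c⁻¹ * y⁻¹ = c⁻¹ * (y⁻¹ * c) * c⁻¹ := by group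
        _ = c⁻¹ * (c * y⁻¹) * c⁻¹ := by rw [e4]
        _ = y⁻¹ * c⁻¹ := by group
    calc v⁻¹ * (h * v * h⁻¹) = (c⁻¹ * y⁻¹) * (h * y * h⁻¹) * (h * c * h⁻¹) := by rw [hvc]; group
      _ = y⁻¹ * c⁻¹ * ((h * y * h⁻¹) * c) := by rw [e5, e1]; group
      _ = y⁻¹ * (h * y * h⁻¹) := by rw [e3]; group
  rw [e2]
  exact mul_mem (mul_mem (inv_mem hy) (E.TX h hh y hy)) hx

/-- elements of `K` acting on `W` -/
theorem W_conj {k w : G} (hk : k ∈ K) (hP : ∀ p ∈ P, k⁻¹ * p * k ∈ P) (hX : ∀ x ∈ X, k * x * k⁻¹ ∈ X)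
    {p : G} (hp : p ∈ P) (hkh : k * h * k⁻¹ = h * p) (hw : w ∈ E.W hR hh) : k * w * k⁻¹ ∈ E.W hR hh := by
  obtain ⟨v, hv, x, hx, rfl⟩ := hw
  have hv' := E.conj_V2 hR hk hP hX hv
  refine ⟨k * v * k⁻¹, hv', k * x * k⁻¹, hX x hx, ?_⟩
  have e1 : p * (k * v * k⁻¹) * p⁻¹ = k * v * k⁻¹ := by
    rw [← E.V_P (E.V2_le hR hv') hp, mul_inv_cancel_right]
  calc k * (v⁻¹ * (h * v * h⁻¹) * x) * k⁻¹
      = (k * v * k⁻¹)⁻¹ * ((k * h * k⁻¹) * (k * v * k⁻¹) * (k * h * k⁻¹)⁻¹) * (k * x * k⁻¹) := by group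
    _ = (k * v * k⁻¹)⁻¹ * (h * (p * (k * v * k⁻¹) * p⁻¹) * h⁻¹) * (k * x * k⁻¹) := by rw [hkh]; group
    _ = (k * v * k⁻¹)⁻¹ * (h * (k * v * k⁻¹) * h⁻¹) * (k * x * k⁻¹) := by rw [e1]

theorem W_T {k w : G} (hk : k ∈ T0) (hw : w ∈ E.W hR hh) : k * w * k⁻¹ ∈ E.W hR hh :=
  E.W_conj hR hh (E.TK hk) (fun p hp => by have := E.TP (inv_mem hk) hp; rwa [inv_inv] at this) (E.TX k hk)
    (one_mem P) (by rw [E.Tc k hk h hh]; group) hw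

/-- surjectivity, given one element of `V` with nontrivial commutator -/
theorem W_surj [Finite G] (hfp : ∀ y ∈ X, y ≠ 1 → h * y * h⁻¹ ≠ y) {v0 t : G} (hv0 : v0 ∈ E.V) (ht : t ∈ R)
    (ht1 : t ≠ 1) (h0 : δ t v0 ≠ 1) : ∀ x ∈ X, ∃ w ∈ E.W hR hh, δ t w = x := by
  -- an element of `V1`
  have h1 : δ t (v0⁻¹ * (h * v0 * h⁻¹)) ≠ 1 := by
    rw [E.δ_mul' ht (inv_mem hv0) (E.T_V hh hv0), E.δ_inv' ht hv0, δ_conj (E.TR hh ht).symm, Ne, inv_mul_eq_one]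
    exact fun he => hfp _ (E.V_δ hv0 ht) h0 he.symm
  have hv1 := E.comm_mem_V1 hv0 hh
  set v1 := v0⁻¹ * (h * v0 * h⁻¹) with hv1def
  obtain ⟨m, j, hj, hm1, hm2⟩ := E.exists_two hv1 (E.V_δ hv1.1 ht) (fun x hx => E.V_X hv1.1 hx)
  set v2 := v1 ^ m with hv2def
  have hne : δ t v2 ≠ 1 := by rw [hm2]; exact h1
  have hv2 : v2 ∈ E.V2 hR := ⟨hm1, E.sq_mem hm1.1 ht ht1 hj hne⟩
  -- an element of `W`
  have hw : v2⁻¹ * (h * v2 * h⁻¹) ∈ E.W hR hh := ⟨v2, hv2, 1, one_mem _, by rw [mul_one]⟩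
  have hw1 : δ t (v2⁻¹ * (h * v2 * h⁻¹)) ≠ 1 := by
    rw [E.δ_mul' ht (inv_mem hm1.1) (E.T_V hh hm1.1), E.δ_inv' ht hm1.1, δ_conj (E.TR hh ht).symm, Ne, inv_mul_eq_one]
    exact fun he => hfp _ (E.V_δ hm1.1 ht) hne he.symm
  set w := v2⁻¹ * (h * v2 * h⁻¹) with hwdef
  intro x hx
  by_cases hx1 : x = 1
  · exact ⟨1, one_mem _, by rw [δ_one, hx1]⟩
  · obtain ⟨k, hk, hkx⟩ := E.Ttr _ (E.V_δ (E.V2_le hR (E.W_le hR hh hw)) ht) hw1 x hx hx1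
    exact ⟨k * w * k⁻¹, E.W_T hR hh hk hw, by rw [δ_conj (E.TR hk ht).symm, hkx]⟩

end W

omit E in
/-- The group `Y`. -/
def Y [Finite G] (E : Env K R X P Q T0) : Subgroup G where
  carrier := {y | (∀ x ∈ X, y * x = x * y) ∧ (∀ p ∈ P, y * p * y⁻¹ * p⁻¹ ∈ Q) ∧ ∀ r ∈ R, δ r y ∈ X}
  one_mem' := ⟨fun x _ => by group, fun p _ => by
    rw [show (1 : G) * p * 1⁻¹ * p⁻¹ = 1 by group]; exact one_mem _, fun r _ => by rw [δ_one]; exact one_mem _⟩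
  mul_mem' := by
    rintro a b ⟨ha, ha', ha''⟩ ⟨hb, hb', hb''⟩
    refine ⟨fun x hx => ?_, fun p hp => ?_, fun r hr => ?_⟩
    · rw [mul_assoc, hb x hx, ← mul_assoc, ha x hx, mul_assoc]
    · have h1 := hb' p hp
      have h2 := Q.mul_mem (ha' _ (E.QP h1)) h1
      rw [inv_mul_cancel_right] at h2
      have h3 := Q.mul_mem h2 (ha' p hp)
      rwa [show a * (b * p * b⁻¹ * p⁻¹) * a⁻¹ * (a * p * a⁻¹ * p⁻¹) = a * b * p * (a * b)⁻¹ * p⁻¹ by group] at h3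
    · rw [δ_mul (ha _ (hb'' r hr))]
      exact mul_mem (hb'' r hr) (ha'' r hr)
  inv_mem' := by
    rintro a ⟨ha, ha', ha''⟩
    refine ⟨fun x hx => ?_, fun p hp => ?_, fun r hr => ?_⟩
    · have := ha x hx
      calc a⁻¹ * x = a⁻¹ * (x * a) * a⁻¹ := by group
        _ = a⁻¹ * (a * x) * a⁻¹ := by rw [this]
        _ = x * a⁻¹ := by group
    · have h1 : ∀ p ∈ P, a * p * a⁻¹ ∈ P := fun p hp => by
        have := P.mul_mem (E.QP (ha' p hp)) hp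
        rwa [inv_mul_cancel_right] at this
      have h2 := conj_inv_mem h1 p hp
      have h3 := Q.inv_mem (ha' _ h2)
      rwa [show (a * (a⁻¹ * p * a) * a⁻¹ * (a⁻¹ * p * a)⁻¹)⁻¹ = a⁻¹ * p * a⁻¹⁻¹ * p⁻¹ by group] at h3
    · rw [δ_inv (ha _ (ha'' r hr))]
      exact inv_mem (ha'' r hr)

omit E in
theorem isPGroup_zpowers {y : G} {j : ℕ} (h : y ^ 2 ^ j = 1) : IsPGroup 2 (Subgroup.zpowers y) := by
  rintro ⟨z, hz⟩
  obtain ⟨i, rfl⟩ := Subgroup.mem_zpowers_iff.1 hz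
  refine ⟨j, Subtype.ext ?_⟩
  show (y ^ i) ^ 2 ^ j = 1
  rw [← zpow_natCast, ← zpow_mul, mul_comm, zpow_mul, zpow_natCast, h, one_zpow]

/-- an element of `V` which does not centralise `R` -/
theorem exists_v0 [Finite G] (QN : ∀ p ∈ P, ∀ q ∈ Q, p * q * p⁻¹ ∈ Q)
    (hk4 : ∀ e : G, (∀ p ∈ P, e * p * e⁻¹ ∈ P) → (∀ p ∈ Q, e * p * e⁻¹ ∈ Q) → (∀ x ∈ X, e * x * e⁻¹ ∈ X) →
      (∀ p ∈ P, e * p * e⁻¹ * p⁻¹ ∈ Q) → ∃ h ∈ T0, ∀ x ∈ X, e * x * e⁻¹ = h * x * h⁻¹)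
    (hB : ∀ y : G, IsPGroup 2 (Subgroup.zpowers y) → (∀ p ∈ P, y * p * y⁻¹ * p⁻¹ ∈ Q) → (∀ x ∈ X, y * x = x * y) →
      ∃ q ∈ Q, ∀ p ∈ P, y * p * y⁻¹ = q * p * q⁻¹)
    {g : G} (gP : ∀ p ∈ P, g * p * g⁻¹ ∈ P) (gQ : ∀ p ∈ Q, g * p * g⁻¹ ∈ Q) (gX : ∀ x ∈ X, g * x * g⁻¹ ∈ X)
    (gR : ∀ a ∈ R, ∃ b ∈ R, ∃ x ∈ X, g * a * g⁻¹ = b * x) (hg : ∃ a ∈ R, g * a * g⁻¹ ∉ R) :
    ∃ v0 ∈ E.V, ∃ r ∈ R, δ r v0 ≠ 1 := by
  obtain ⟨h1, hh1, x1, hx1, hne1⟩ := E.Tne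
  have hfp : ∀ y ∈ X, y ≠ 1 → h1 * y * h1⁻¹ ≠ y := fun y hy hy1 => E.fpf hh1 hx1 hne1 hy hy1
  have gX' := conj_inv_mem gX
  have gP' := conj_inv_mem gP
  set e := g * h1 * g⁻¹ with he
  obtain ⟨a, ha, haR⟩ := hg
  obtain ⟨b, hb, x, hx, hab⟩ := gR a ha
  have hxne : x ≠ 1 := by
    rintro rfl
    rw [mul_one] at hab
    exact haR (by rw [hab]; exact hb)
  -- `e` commutes with the conjugates of elements of `R`
  have hea : ∀ a ∈ R, e * (g * a * g⁻¹) = (g * a * g⁻¹) * e := by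
    intro a ha
    have := E.TR hh1 ha
    calc e * (g * a * g⁻¹) = g * (h1 * a) * g⁻¹ := by rw [he]; group
      _ = g * (a * h1) * g⁻¹ := by rw [this]
      _ = (g * a * g⁻¹) * e := by rw [he]; group
  -- action of `e` on `X`
  have heX : ∀ x ∈ X, e * x * e⁻¹ ∈ X := by
    intro x hx
    have := gX _ (E.TX h1 hh1 _ (gX' x hx))
    rwa [show g * (h1 * (g⁻¹ * x * g) * h1⁻¹) * g⁻¹ = e * x * e⁻¹ by rw [he]; group] at this
  have hefp : ∀ x ∈ X, x ≠ 1 → e * x * e⁻¹ ≠ x := by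
    intro x hx hx1 hex
    refine hfp (g⁻¹ * x * g) (gX' x hx) ?_ ?_
    · intro h
      apply hx1
      rw [show x = g * (g⁻¹ * x * g) * g⁻¹ by group, h]; group
    · calc h1 * (g⁻¹ * x * g) * h1⁻¹ = g⁻¹ * (e * x * e⁻¹) * g := by rw [he]; group
        _ = g⁻¹ * x * g := by rw [hex]
  -- action of `e` on `P`
  have hePQ : ∀ p ∈ P, e * p * e⁻¹ * p⁻¹ ∈ Q := by
    intro p hp
    have := gQ _ (E.TPQ h1 hh1 _ (gP' p hp))
    rwa [show g * (h1 * (g⁻¹ * p * g) * h1⁻¹ * (g⁻¹ * p * g)⁻¹) * g⁻¹ = e * p * e⁻¹ * p⁻¹ by rw [he]; group] at this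
  have heP : ∀ p ∈ P, e * p * e⁻¹ ∈ P := fun p hp => by
    have := P.mul_mem (E.QP (hePQ p hp)) hp
    rwa [inv_mul_cancel_right] at this
  have heQ : ∀ p ∈ Q, e * p * e⁻¹ ∈ Q := fun p hp => by
    have := Q.mul_mem (hePQ p (E.QP hp)) hp
    rwa [inv_mul_cancel_right] at this
  -- `e` does not commute with `b`
  have heb : e * b ≠ b * e := by
    intro h
    refine hefp x hx hxne ?_
    have h1 := hea a ha
    rw [hab] at h1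
    have h2 : e * x = x * e := by
      calc e * x = e * (b⁻¹ * (b * x)) := by group
        _ = (e * b⁻¹) * (b * x) := by group
        _ = (b⁻¹ * (b * e) * b⁻¹) * (b * x) := by group
        _ = (b⁻¹ * (e * b) * b⁻¹) * (b * x) := by rw [h]
        _ = b⁻¹ * (e * (b * x)) := by group
        _ = b⁻¹ * ((b * x) * e) := by rw [h1]
        _ = x * e := by group
    rw [h2, mul_inv_cancel_right]
  -- `[e, R] ≤ X`
  have heR : ∀ r ∈ R, e * r * e⁻¹ * r⁻¹ ∈ X := by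
    intro r hr
    -- `r = (g s g⁻¹) y`
    obtain ⟨s, hs, y, hy, hrs⟩ : ∃ s ∈ R, ∃ y ∈ X, r = (g * s * g⁻¹) * y := by
      let RX : Subgroup G :=
        { carrier := {z | ∃ s ∈ R, ∃ y ∈ X, z = s * y}
          one_mem' := ⟨1, one_mem _, 1, one_mem _, by group⟩
          mul_mem' := by
            rintro _ _ ⟨s, hs, y, hy, rfl⟩ ⟨s', hs', y', hy', rfl⟩
            refine ⟨s * s', mul_mem hs hs', y * y', mul_mem hy hy', ?_⟩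
            have := E.RX hs' hy
            calc s * y * (s' * y') = s * (y * s') * y' := by group
              _ = s * (s' * y) * y' := by rw [this]
              _ = _ := by group
          inv_mem' := by
            rintro _ ⟨s, hs, y, hy, rfl⟩
            refine ⟨s⁻¹, inv_mem hs, y⁻¹, inv_mem hy, ?_⟩
            rw [mul_inv_rev, E.RX (inv_mem hs) (inv_mem hy)] }
      have hRX : ∀ z ∈ RX, g * z * g⁻¹ ∈ RX := by
        rintro _ ⟨s, hs, y, hy, rfl⟩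
        obtain ⟨b, hb, x, hx, h⟩ := gR s hs
        refine ⟨b, hb, x * (g * y * g⁻¹), mul_mem hx (gX y hy), ?_⟩
        calc g * (s * y) * g⁻¹ = (g * s * g⁻¹) * (g * y * g⁻¹) := by group
          _ = b * (x * (g * y * g⁻¹)) := by rw [h]; group
      obtain ⟨s, hs, y, hy, h⟩ := conj_inv_mem hRX r ⟨r, hr, 1, one_mem _, by group⟩
      refine ⟨s, hs, g * y * g⁻¹, gX y hy, ?_⟩
      calc r = g * (g⁻¹ * r * g) * g⁻¹ := by group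
        _ = (g * s * g⁻¹) * (g * y * g⁻¹) := by rw [h]; group
    have e1 : r = y * (g * s * g⁻¹) := by
      have : g * s * g⁻¹ = r * y⁻¹ := by rw [hrs]; group
      rw [this, ← mul_assoc, ← E.RX hr hy]; group
    have e2 := hea s hs
    have e3 : e * r * e⁻¹ * r⁻¹ = (e * y * e⁻¹) * y⁻¹ := by
      nth_rewrite 1 [e1]
      calc e * (y * (g * s * g⁻¹)) * e⁻¹ * r⁻¹ = e * y * ((g * s * g⁻¹) * e⁻¹) * r⁻¹ := by group
        _ = e * y * (e⁻¹ * (e * (g * s * g⁻¹)) * e⁻¹) * r⁻¹ := by group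
        _ = e * y * e⁻¹ * (g * s * g⁻¹) * r⁻¹ := by rw [e2]; group
        _ = (e * y * e⁻¹) * y⁻¹ := by rw [e1]; group
    rw [e3]
    exact mul_mem (heX y hy) (inv_mem hy)
  obtain ⟨h, hh, hhe⟩ := hk4 e heP heQ heX hePQ
  have hh' := inv_mem hh
  -- `n0 = h⁻¹ e`
  have hn0X : ∀ x ∈ X, h⁻¹ * e * x = x * (h⁻¹ * e) := by
    intro x hx
    have := hhe x hx
    calc h⁻¹ * e * x = h⁻¹ * (e * x * e⁻¹) * e := by group
      _ = x * (h⁻¹ * e) := by rw [this]; group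
  have hn0 : h⁻¹ * e ∈ E.Y := by
    refine ⟨hn0X, fun p hp => ?_, fun r hr => ?_⟩
    · have h2 := hePQ p hp
      have h3 := E.TQ hh' h2
      have h4 := E.TPQ _ hh' p hp
      have := Q.mul_mem h3 h4
      rwa [show h⁻¹ * (e * p * e⁻¹ * p⁻¹) * h⁻¹⁻¹ * (h⁻¹ * p * h⁻¹⁻¹ * p⁻¹) = h⁻¹ * e * p * (h⁻¹ * e)⁻¹ * p⁻¹ by group]
        at this
    · have h2 := E.TX _ hh' _ (heR r hr)
      have h3 : h⁻¹ * r * h = r := by rw [mul_assoc, E.TR hh hr, inv_mul_cancel_left]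
      have h4 : δ r (h⁻¹ * e) = h⁻¹ * (e * r * e⁻¹ * r⁻¹) * h⁻¹⁻¹ := by
        unfold δ
        calc h⁻¹ * e * r * (h⁻¹ * e)⁻¹ * r⁻¹ = h⁻¹ * (e * r * e⁻¹) * h * r⁻¹ := by group
          _ = h⁻¹ * (e * r * e⁻¹) * h * (h⁻¹ * r * h)⁻¹ := by rw [h3]
          _ = _ := by group
      rw [h4]; exact h2
  have hn0b : δ b (h⁻¹ * e) ≠ 1 := by
    rw [Ne, δ_eq_one_iff]
    intro h2
    apply heb
    calc e * b = h * (h⁻¹ * e * b) := by group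
      _ = (h * b) * (h⁻¹ * e) := by rw [h2]; group
      _ = b * e := by rw [← E.TR hh hb]; group
  obtain ⟨m, j, hj, hm1, hm2⟩ := E.exists_two hn0 (hn0.2.2 b hb) hn0X
  set y := (h⁻¹ * e) ^ m with hy
  obtain ⟨q, hq, hqy⟩ := hB y (isPGroup_zpowers hj) hm1.2.1 hm1.1
  have hqR : ∀ r ∈ R, q⁻¹ * r = r * q⁻¹ := fun r hr => (E.RK r hr _ (E.PK (E.QP (inv_mem hq)))).symm
  have hqδ : ∀ r ∈ R, δ r (q⁻¹ * y) = δ r y := by
    intro r hr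
    have h2 : q⁻¹ * δ r y = δ r y * q⁻¹ := (E.XPc _ (hm1.2.2 r hr) _ (E.QP (inv_mem hq))).symm
    rw [δ_mul h2, δ_eq_one_iff.2 (hqR r hr), mul_one]
  refine ⟨q⁻¹ * y, ⟨fun p hp => ?_, fun r hr => ?_⟩, b, hb, ?_⟩
  · have := hqy p hp
    calc q⁻¹ * y * p = q⁻¹ * (y * p * y⁻¹) * y := by group
      _ = p * (q⁻¹ * y) := by rw [this]; group
  · rw [hqδ r hr]; exact hm1.2.2 r hr
  · rw [hqδ b hb, hm2]; exact hn0b

end Env

end Cfsg.Agent.OddHalf.DblR.Exist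

namespace Cfsg.Agent.OddHalf.DblR

variable {G : Type*} [Group G]

/-- The local situation at a long root group `X` of `K`. -/
structure Loc (K R P Q X T0 : Subgroup G) : Prop where
  amb : Amb K R
  PK : P ≤ K
  QP : Q ≤ P
  XQ : X ≤ Q
  XX : ∀ x ∈ X, x * x = 1
  XZ : ∀ x ∈ X, ∀ p ∈ P, x * p = p * x
  QN : ∀ p ∈ P, ∀ q ∈ Q, p * q * p⁻¹ ∈ Q
  TK : T0 ≤ K
  TX : ∀ h ∈ T0, ∀ x ∈ X, h * x * h⁻¹ ∈ X
  TQ : ∀ h ∈ T0, ∀ p ∈ P, h * p * h⁻¹ * p⁻¹ ∈ Q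
  Tab : ∀ h ∈ T0, ∀ k ∈ T0, h * k = k * h
  Ttr : ∀ x ∈ X, x ≠ 1 → ∀ y ∈ X, y ≠ 1 → ∃ h ∈ T0, h * x * h⁻¹ = y
  big : ∃ x ∈ X, ∃ y ∈ X, x ≠ 1 ∧ y ≠ 1 ∧ x ≠ y
  two : ∀ c ∈ C1 K R, IsPGroup 2 (Subgroup.zpowers c) → c ∈ R
  k3 : ∀ c : G, (∀ a ∈ R, c * a = a * c) → (∀ p ∈ P, c * p = p * c) → ∃ x ∈ X, x⁻¹ * c ∈ C1 K R
  k4 : ∀ e : G, (∀ p ∈ P, e * p * e⁻¹ ∈ P) → (∀ p ∈ Q, e * p * e⁻¹ ∈ Q) → (∀ x ∈ X, e * x * e⁻¹ ∈ X) →
    (∀ p ∈ P, e * p * e⁻¹ * p⁻¹ ∈ Q) → ∃ h ∈ T0, ∀ x ∈ X, e * x * e⁻¹ = h * x * h⁻¹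
  B : ∀ y : G, IsPGroup 2 (Subgroup.zpowers y) → (∀ p ∈ P, y * p * y⁻¹ * p⁻¹ ∈ Q) → (∀ x ∈ X, y * x = x * y) →
    ∃ q ∈ Q, ∀ p ∈ P, y * p * y⁻¹ = q * p * q⁻¹

namespace Loc

variable {K R P Q X T0 : Subgroup G}

open Exist Exist.Env

theorem env (L : Loc K R P Q X T0) : Env K R X P Q T0 where
  RK := L.amb.comm
  Rsq := L.amb.tt
  C1R := fun c h1 h2 _ hj => L.two c (mem_C1.2 ⟨h1, h2⟩) (isPGroup_zpowers hj)
  PK := L.PK
  QP := L.QP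
  TK := L.TK
  XP := L.XQ.trans L.QP
  Xsq := L.XX
  XPc := L.XZ
  Xc := fun x hx h => L.amb.ctr x (L.PK (L.QP (L.XQ hx))) h
  TX := L.TX
  TPQ := L.TQ
  Tc := L.Tab
  Ttr := L.Ttr
  Tne := by
    obtain ⟨x, hx, y, hy, hx1, hy1, hxy⟩ := L.big
    obtain ⟨h, hh, e⟩ := L.Ttr x hx hx1 y hy hy1
    exact ⟨h, hh, x, hx, by rw [e]; exact hxy.symm⟩
  tight := by
    intro g t ht ht1 hg h
    refine L.amb.tight ht ht1 hg fun a ha => ?_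
    have hg' : g⁻¹ * t = t * g⁻¹ := by
      calc g⁻¹ * t = g⁻¹ * (t * g) * g⁻¹ := by group
        _ = g⁻¹ * (g * t) * g⁻¹ := by rw [hg]
        _ = t * g⁻¹ := by group
    have h1 := L.amb.nor t ht ht1 g⁻¹ hg' _ (L.PK (L.QP (L.XQ (h a ha))))
    have h2 : br a g = (g⁻¹ * (g * a * g⁻¹ * a⁻¹) * g⁻¹⁻¹)⁻¹ := by unfold br; group
    rw [h2]
    exact inv_mem h1
  k3 := by
    intro c h1 h2
    obtain ⟨x, hx, hc⟩ := L.k3 c h2 h1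
    exact ⟨x, hx, (mem_C1.1 hc).1⟩

/-- **(EX)**: existence of the doubled root group. -/
theorem exists_dw [Finite G] (L : Loc K R P Q X T0) {g : G} (gP : ∀ p ∈ P, g * p * g⁻¹ ∈ P)
    (gQ : ∀ p ∈ Q, g * p * g⁻¹ ∈ Q) (gX : ∀ x ∈ X, g * x * g⁻¹ ∈ X)
    (gR : ∀ a ∈ R, ∃ b ∈ R, ∃ x ∈ X, g * a * g⁻¹ = b * x) (hg : ∃ a ∈ R, g * a * g⁻¹ ∉ R) :
    ∃ h0 ∈ T0, (∀ x ∈ X, x ≠ 1 → h0 * x * h0⁻¹ ≠ x) ∧ ∃ W : Subgroup G, DW K R P X W ∧ (∀ w ∈ W, w * w ∈ X) ∧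
      (∀ c ∈ C1 K R, ∀ w ∈ W, w * c * w⁻¹ * c⁻¹ ∈ X) ∧ (∀ h ∈ T0, ∀ w ∈ W, h * w * h⁻¹ ∈ W) ∧
      ∀ k ∈ K, (∃ p ∈ P, k * h0 * k⁻¹ = h0 * p) → (∀ p ∈ P, k * p * k⁻¹ ∈ P) → (∀ x ∈ X, k * x * k⁻¹ ∈ X) →
        ∀ w ∈ W, k * w * k⁻¹ ∈ W := by
  have E := L.env
  obtain ⟨v0, hv0, r, hr, h0⟩ := E.exists_v0 L.QN L.k4 L.B gP gQ gX gR hg
  obtain ⟨h, hh, x1, hx1, hne1⟩ := E.Tne
  have hfp : ∀ y ∈ X, y ≠ 1 → h * y * h⁻¹ ≠ y := fun y hy hy1 => E.fpf hh hx1 hne1 hy hy1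
  have hR : ∃ t ∈ R, t ≠ 1 := ⟨r, hr, by
    rintro rfl
    exact h0 (δ_eq_one_iff.2 (by rw [mul_one, one_mul]))⟩
  have hall : ∀ t ∈ R, t ≠ 1 → δ t v0 ≠ 1 := fun t ht ht1 he =>
    h0 (δ_eq_one_iff.2 (E.V_comm hv0 ht ht1 (δ_eq_one_iff.1 he) r hr))
  have hbr : ∀ {t w : G}, br t w = δ t w⁻¹ := by
    intro t w; unfold br δ; group
  have hWV : ∀ w ∈ E.W hR hh, w ∈ E.V := fun w hw => E.V2_le hR (E.W_le hR hh hw)
  refine ⟨h, hh, hfp, E.W hR hh, ?_, fun w hw => (E.W_le hR hh hw).2,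
    fun c hc w hw => (E.W_le hR hh hw).1.2 c (mem_C1.1 hc), fun k hk w hw => E.W_T hR hh hk hw, ?_⟩
  · refine ⟨E.XP, E.PK, E.X_le_W hR hh, E.Xsq, fun w hw p hp => E.V_P (hWV w hw) hp, ?_, ?_, ?_, ?_⟩
    · intro t ht w hw
      rw [hbr]
      exact E.V_δ (inv_mem (hWV w hw)) ht
    · intro t ht ht1 w hw h1
      exact E.W_fix hR hh hfp hw ht ht1 h1.symm
    · intro t ht ht1 x hx
      obtain ⟨w, hw, hwx⟩ := E.W_surj hR hh hfp hv0 ht ht1 (hall t ht ht1) x hx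
      refine ⟨w, hw, ?_⟩
      rw [hbr, E.δ_inv' ht (hWV w hw), hwx, E.xx_inv hx]
    · intro c hc w hw
      have h1 : c * w * c⁻¹ = w * δ c w⁻¹ := by unfold δ; group
      rw [h1]
      exact mul_mem hw (E.X_le_W hR hh ((inv_mem (E.W_le hR hh hw) : w⁻¹ ∈ E.V2 hR).1.2 c (mem_C1.1 hc)))
  · rintro k hk ⟨p, hp, hkh⟩ hkP hkX w hw
    exact E.W_conj hR hh hk (conj_inv_mem hkP) hkX hp hkh hw

end Loc

end Cfsg.Agent.OddHalf.DblR
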