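import Mathlib

/-!
# ODD, D4: isometries of odd order of an anisotropic plane in characteristic two commute

helper328. `comm_of_odd` : a reflection inverts every isometry of odd order.
-/

set_option autoImplicit false

namespace Cfsg.Agent.OddHalf.DblR.OddIsom

variable {F E : Type*} [Field F] [AddCommGroup E] [Module F E]

/-- an anisotropic plane in characteristic two -/
structure Plane (q : E → F) (B : E → E → F) (v0 w0 : E) : Prop where
  two : (2 : F) = 0
  polar : ∀ v w, q (v + w) = q v + q w + B v w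
  add : ∀ v v' w, B (v + v') w = B v w + B v' w
  smul : ∀ (c : F) v w, B (c • v) w = c * B v w
  symm : ∀ v w, B v w = B w v
  qsmul : ∀ (c : F) v, q (c • v) = c * c * q v
  aniso : ∀ v, q v = 0 → v = 0
  pair : B v0 w0 = 1
  span : ∀ x, ∃ α β : F, x = α • v0 + β • w0

namespace Plane

variable {q : E → F} {B : E → E → F} {v0 w0 : E} (P : Plane q B v0 w0)

include P

theorem addF (c : F) : c + c = 0 := by rw [← two_mul, P.two, zero_mul]

theorem addE (v : E) : v + v = 0 := by rw [← two_smul F v, P.two, zero_smul]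

theorem q0 : q 0 = 0 := by
  have := P.qsmul 0 0
  rwa [zero_smul, mul_zero, zero_mul] at this

theorem B_self (v : E) : B v v = 0 := by
  have h := P.polar v v
  rw [P.addE, P.q0, P.addF, zero_add] at h
  exact h.symm

/-- the reflection -/
def refl (a : E) : Module.End F E where
  toFun v := v + (B v a / q a) • a
  map_add' v w := by
    rw [P.add, add_div, add_smul]; abel
  map_smul' c v := by
    rw [P.smul, RingHom.id_apply, smul_add, smul_smul, mul_div_assoc]

theorem refl_apply (a v : E) : P.refl a v = v + (B v a / q a) • a := rfl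

theorem refl_sq (a : E) : P.refl a * P.refl a = 1 := by
  ext v
  show P.refl a (P.refl a v) = v
  rw [refl_apply, refl_apply, P.add, P.smul, P.B_self, mul_zero, add_zero, add_assoc, P.addE, add_zero]

theorem q_refl {a : E} (ha : q a ≠ 0) (v : E) : q (P.refl a v) = q v := by
  have h1 : B v ((B v a / q a) • a) = (B v a / q a) * B v a := by
    rw [P.symm, P.smul, P.symm a v]
  rw [refl_apply, P.polar, P.qsmul, h1]
  have h2 : B v a / q a * (B v a / q a) * q a = B v a / q a * B v a := by
    field_simp
  rw [h2, add_assoc, P.addF, add_zero]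

theorem refl_swap {u v : E} (h : q u = q v) (hq : q (u + v) ≠ 0) : P.refl (u + v) u = v := by
  have h1 : B u (u + v) = q (u + v) := by
    rw [P.symm, P.add, P.B_self, zero_add, P.symm v u]
    have := P.polar u v
    rw [h, P.addF, zero_add] at this
    exact this.symm
  rw [refl_apply, h1, div_self hq, one_smul, ← add_assoc, P.addE, zero_add]

/-- isometries fixing `v0` -/
theorem eq_one_or {t : Module.End F E} (ht : ∀ v, q (t v) = q v) (h0 : t v0 = v0) : t = 1 ∨ t = P.refl v0 := by
  have hv0 : v0 ≠ 0 := by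
    rintro rfl
    have h1 := P.pair
    have h2 := P.smul 0 0 w0
    rw [zero_smul, zero_mul] at h2
    rw [h2] at h1
    exact zero_ne_one h1
  have hq0 : q v0 ≠ 0 := fun h => hv0 (P.aniso _ h)
  have hB : ∀ v w, B (t v) (t w) = B v w := by
    intro v w
    have h1 := P.polar (t v) (t w)
    rw [← map_add, ht, ht, ht] at h1
    have h2 := P.polar v w
    exact (add_left_cancel (h2.symm.trans h1)).symm
  obtain ⟨α, β, e⟩ := P.span (t w0)
  have h1 : B v0 (t w0) = 1 := by
    conv_lhs => rw [← h0]
    rw [hB, P.pair]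
  have hβ : β = 1 := by
    rw [e, P.symm, P.add, P.smul, P.smul, P.B_self, mul_zero, zero_add, P.symm w0 v0, P.pair, mul_one] at h1
    exact h1
  have h2 := ht w0
  rw [e, hβ, one_smul, P.polar, P.qsmul, P.smul, P.pair, mul_one] at h2
  have h3 : α * (α * q v0 + 1) = 0 := by
    have h4 : α * α * q v0 + q w0 + α - q w0 = 0 := by rw [h2, sub_self]
    linear_combination h4
  have hext : ∀ s : Module.End F E, s v0 = v0 → s w0 = t w0 → t = s := by
    intro s hs hs'
    ext x
    obtain ⟨γ, δ, rfl⟩ := P.span x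
    rw [map_add, map_add, map_smul, map_smul, map_smul, map_smul, h0, hs, hs']
  rcases mul_eq_zero.1 h3 with h4 | h4
  · left
    apply hext
    · rfl
    · rw [e, hβ, h4, zero_smul, zero_add, one_smul]; rfl
  · right
    apply hext
    · rw [refl_apply, P.B_self, zero_div, zero_smul, add_zero]
    · rw [refl_apply, P.symm, P.pair, e, hβ, one_smul, add_comm]
      congr 1
      have h5 : α * q v0 = 1 := by
        have h6 := P.addF (1 : F)
        have h7 : α * q v0 + 1 = 1 + 1 := by rw [h4, h6]
        exact add_right_cancel h7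
      rw [← h5, mul_div_assoc, div_self hq0, mul_one]

variable {Γ : Type*} [Group Γ] (ρ : Γ →* Module.End F E) (hρ : ∀ g v, q (ρ g v) = q v)
  (hodd : ∀ g : Γ, ∃ l : ℕ, Odd l ∧ g ^ l = 1)

include hρ hodd

/-- the reflection `r` in `v0` inverts `ρ g` -/
theorem inverts (g : Γ) : P.refl v0 * ρ g * P.refl v0 * ρ g = 1 := by
  have hr := P.refl_sq v0
  by_cases hu : ρ g v0 = v0
  · rcases P.eq_one_or (hρ g) hu with h | h
    · rw [h, mul_one, mul_one, hr]
    · rw [h, hr, one_mul, hr]
  · have ha : q (ρ g v0 + v0) ≠ 0 := by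
      intro h
      apply hu
      have h1 := P.aniso _ h
      have h2 := P.addE v0
      have h3 : ρ g v0 + v0 = v0 + v0 := by rw [h1, h2]
      exact add_right_cancel h3
    have hs := P.refl_sq (ρ g v0 + v0)
    have hsw : P.refl (ρ g v0 + v0) (ρ g v0) = v0 := P.refl_swap (hρ g v0) ha
    have ht : ∀ v, q ((P.refl (ρ g v0 + v0) * ρ g) v) = q v := fun v => by
      show q (P.refl (ρ g v0 + v0) (ρ g v)) = q v
      rw [P.q_refl ha, hρ]
    have e : ρ g = P.refl (ρ g v0 + v0) * (P.refl (ρ g v0 + v0) * ρ g) := by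
      rw [← mul_assoc, hs, one_mul]
    rcases P.eq_one_or ht hsw with h | h
    · exfalso
      rw [h, mul_one] at e
      have h1 : ρ g * ρ g = 1 := by
        conv_lhs => rw [e]
        exact hs
      obtain ⟨l, ⟨m, rfl⟩, hl⟩ := hodd g
      have h2 : ρ g = 1 := by
        have h3 := congrArg ρ hl
        rw [map_pow, map_one, pow_add, pow_mul, pow_two, h1, one_pow, one_mul, pow_one] at h3
        exact h3
      apply hu
      rw [h2]; rfl
    · rw [h] at e
      set s := P.refl (ρ g v0 + v0)
      set r := P.refl v0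
      calc r * ρ g * r * ρ g = r * (s * r) * r * (s * r) := by rw [← e]
        _ = r * s * (r * r) * s * r := by simp only [mul_assoc]
        _ = r * (s * s) * r := by rw [hr, mul_one]; simp only [mul_assoc]
        _ = 1 := by rw [hs, mul_one, hr]

/-- **Isometries of odd order of an anisotropic plane in characteristic two commute.** -/
theorem comm_of_odd (g h : Γ) : ρ g * ρ h = ρ h * ρ g := by
  have hr := P.refl_sq v0
  set r := P.refl v0 with hrdef
  have key : ∀ x : Γ, r * ρ x * r = ρ x⁻¹ := by
    intro x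
    have h1 := P.inverts ρ hρ hodd x
    calc r * ρ x * r = r * ρ x * r * (ρ x * ρ x⁻¹) := by rw [← map_mul, mul_inv_cancel, map_one, mul_one]
      _ = (r * ρ x * r * ρ x) * ρ x⁻¹ := by simp only [mul_assoc]
      _ = ρ x⁻¹ := by rw [h1, one_mul]
  have h1 : ρ (g * h)⁻¹ = ρ (h * g)⁻¹ := by
    calc ρ (g * h)⁻¹ = r * ρ (g * h) * r := (key _).symm
      _ = r * (ρ g * (r * r) * ρ h) * r := by rw [hr, mul_one, map_mul]
      _ = (r * ρ g * r) * (r * ρ h * r) := by simp only [mul_assoc]
      _ = ρ g⁻¹ * ρ h⁻¹ := by rw [key, key]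
      _ = ρ (h * g)⁻¹ := by rw [← map_mul, mul_inv_rev]
  calc ρ g * ρ h = ρ (g * h) * (ρ (h * g)⁻¹ * ρ (h * g)) := by
        rw [← map_mul, ← map_mul, inv_mul_cancel, map_one, mul_one]
    _ = ρ (g * h) * ρ (g * h)⁻¹ * ρ (h * g) := by rw [h1, mul_assoc]
    _ = ρ h * ρ g := by rw [← map_mul, mul_inv_cancel, map_one, one_mul, map_mul]

end Plane

end Cfsg.Agent.OddHalf.DblR.OddIsom
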