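import Cfsg.Agent.KFacts.SpecMinus
import Cfsg.Agent.OddHalf.DblR.OddIsom

/-!
# ODD, D4: the torus of `PΩ⁻_{2m+2}(q)`, `q` even, is abelian

helper328.
-/

set_option autoImplicit false
set_option linter.unusedSectionVars false

namespace Cfsg.Agent.OddHalf.DblR.MinusTor

open CoxeterSystem Cfsg.Agent.ChevalleyStructure.CoxeterGeom Cfsg.Agent.Tits.Roots Cfsg.Agent.Nodes.TypeC
open Cfsg.Agent.Nodes.Comb Cfsg.Agent.Nodes.Reps Cfsg.Agent.Nodes.WittRoot Cfsg.Agent.Nodes.BNOf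
  Cfsg.Agent.Nodes.StabComb Cfsg.Agent.Nodes.Coroot Cfsg.Agent.Nodes.KindBC Cfsg.Agent.Nodes.TypeCForm
open Cfsg.Agent Cfsg.Agent.TitsThree Cfsg.Agent.TitsThree.Siegel Cfsg.Agent.TitsThree.WittFrame
  Cfsg.Agent.TitsThree.WittWeyl Cfsg.Agent.TitsThree.FrameCN Cfsg.Agent.TitsThree.LineBorel
open Cfsg.Agent.KFacts.WittOrth Cfsg.Agent.KFacts.SpecKfour Cfsg.Agent.KFacts.SpecLoc Cfsg.Agent.KFacts.RgdTI
  Cfsg.Agent.KFacts.RgdOdd Cfsg.Agent.KFacts.SpecWitt Cfsg.Agent.KFacts.SpecMinus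
open QuadraticMap
open Cfsg.Agent.LieClassical Cfsg.Agent.LieClassical.OrthCore Cfsg.Agent.LieClassical.OrthTrans
open Cfsg.Agent.LieClassical.OrthSimple Cfsg.Agent.LieClassical.OrthFinite
open Cfsg.Agent.LieClassical.OrthForms
open Cfsg.Agent.TitsThree.KSideO Cfsg.Agent.TitsThree.StdData Cfsg.Agent.TitsThree.WBridge
open OddIsom

/-! ### frames -/

section Frame

variable {F : Type*} [Field F] {V : Type*} [AddCommGroup V] [Module F V] {H : HForm F V} {n : ℕ}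
  {Fr : Frame H (Fin n)} (O : Orth Fr)

/-- the anisotropic part is a plane -/
def IsPlane (Fr : Frame H (Fin n)) : Prop :=
  ∃ (q : ↥Fr.V0 → F) (v0 w0 : ↥Fr.V0), Plane q (fun v w => H.h v.1 w.1) v0 w0 ∧
    ∀ w : ↥Fr.V0, ∀ c : F, Fr.ok w.1 c → q w = -c

include O

/-- the torus is abelian if the anisotropic part is a plane -/
theorem tor_comm [Finite V] (hP : IsPlane Fr) {G0 : Subgroup (V ≃ₗ[F] V)} (hA : Nodes.WittAll.AmbT Fr 2 G0)
    {s t : V ≃ₗ[F] V} (hs : s ∈ Nodes.WittRGD.Tor Fr G0) (ht : t ∈ Nodes.WittRGD.Tor Fr G0) : s * t = t * s := by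
  have : CharP F 2 := CharTwo.of_one_ne_zero_of_two_eq_zero one_ne_zero O.two
  have : Fact (Nat.Prime 2) := ⟨Nat.prime_two⟩
  have hV0 : ∀ g ∈ Nodes.WittRGD.Tor Fr G0, ∀ w ∈ Fr.V0, g w ∈ Fr.V0 := fun g hg w hw =>
    hA.map_V0 hg.1 hg.2 (ρ := id) (fun _ => rfl) hw
  -- the representation on `V0`
  let ρ : ↥(Nodes.WittRGD.Tor Fr G0) →* Module.End F ↥Fr.V0 :=
    { toFun g := (g.1 : V →ₗ[F] V).restrict (p := Fr.V0) (q := Fr.V0) fun w hw => hV0 g.1 g.2 w hw
      map_one' := by ext w; rfl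
      map_mul' g k := by ext w; rfl }
  have hρ : ∀ (g : ↥(Nodes.WittRGD.Tor Fr G0)) (w : ↥Fr.V0), ((ρ g w : ↥Fr.V0) : V) = g.1 w.1 := fun g w => rfl
  obtain ⟨q, v0, w0, P, hq⟩ := hP
  have hodd : ∀ g : ↥(Nodes.WittRGD.Tor Fr G0), ∃ l : ℕ, Odd l ∧ g ^ l = 1 := by
    intro g
    refine ⟨Nat.card ↥(Nodes.WittRGD.Tor Fr G0), ?_, pow_card_eq_one'⟩
    have h1 := hA.tcop
    rwa [Nat.coprime_two_right] at h1
  have hqρ : ∀ (g : ↥(Nodes.WittRGD.Tor Fr G0)) (w : ↥Fr.V0), q (ρ g w) = q w := by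
    intro g w
    obtain ⟨c, hc⟩ := O.full w.1 w.2
    rw [hq w c hc, hq (ρ g w) c (hA.ok g.1 g.2.1 w.1 c hc (hV0 g.1 g.2 w.1 w.2))]
  have hcomm := P.comm_of_odd ρ hqρ hodd ⟨s, hs⟩ ⟨t, ht⟩
  have h0 : ∀ w ∈ Fr.V0, s (t w) = t (s w) := by
    intro w hw
    have h1 := congrArg (fun f : Module.End F ↥Fr.V0 => ((f ⟨w, hw⟩ : ↥Fr.V0) : V)) hcomm
    exact h1
  have h1 : (t * s)⁻¹ * (s * t) = 1 := by
    apply O.eq_one
    · intro x
      rw [mul_apply']
      apply inv_apply_of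
      obtain ⟨l, -, hl⟩ := hs.2 x
      obtain ⟨m, -, hm⟩ := ht.2 x
      have hl' : s (Fr.b x) = l • Fr.b x := hl
      have hm' : t (Fr.b x) = m • Fr.b x := hm
      rw [mul_apply', mul_apply', hm', hl', map_smul, map_smul, hm', hl', smul_smul, smul_smul, mul_comm]
    · intro w hw
      rw [mul_apply']
      apply inv_apply_of
      rw [mul_apply', mul_apply', h0 w hw]
  exact (inv_mul_eq_one.1 h1).symm

/-- the torus of a model is abelian if the anisotropic part is a plane -/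
theorem tab_model [Finite V] (hP : IsPlane Fr) {K : Type*} [Group K] (M : Model Fr K)
    (hA : Nodes.WittAll.AmbT Fr 2 M.I) :
    ∀ s ∈ Nodes.WittModel.T M, ∀ t ∈ Nodes.WittModel.T M, s * t = t * s := by
  rintro _ ⟨s, hs, rfl⟩ _ ⟨t, ht, rfl⟩
  rw [← map_mul, ← map_mul]
  congr 1
  apply Subtype.ext
  exact tor_comm O hP hA (Subgroup.mem_subgroupOf.1 hs) (Subgroup.mem_subgroupOf.1 ht)

end Frame

/-! ### the minus form -/

section Minus

variable {F : Type*} [Field F] [Finite F]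

theorem a_ne_zero (h2 : (2 : F) = 0) {a b : F}
    (hab : ∀ z₁ z₂ : F, z₁ ^ 2 + a * z₁ * z₂ + b * z₂ ^ 2 = 0 → z₁ = 0 ∧ z₂ = 0) : a ≠ 0 := by
  rintro rfl
  have hchar : ringChar F = 2 := by
    have : CharP F 2 := CharTwo.of_one_ne_zero_of_two_eq_zero one_ne_zero h2
    exact ringChar.eq F 2
  have := Fintype.ofFinite F
  obtain ⟨s, hs⟩ := FiniteField.isSquare_of_char_two hchar b
  have h3 := hab s 1 (by
    rw [hs]
    have : s ^ 2 + 0 * s * 1 + s * s * 1 ^ 2 = 2 * (s * s) := by ring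
    rw [this, h2, zero_mul])
  exact one_ne_zero h3.2

theorem isPlane_minus (h2 : (2 : F) = 0) (m : ℕ) (a b : F)
    (hab : ∀ z₁ z₂ : F, z₁ ^ 2 + a * z₁ * z₂ + b * z₂ ^ 2 = 0 → z₁ = 0 ∧ z₂ = 0) :
    IsPlane (toFrame (wminus m F a b hab)) := by
  have ha := a_ne_zero h2 hab
  let v0 : (Fin m ⊕ Fin m) ⊕ Fin 2 → F := Sum.elim (fun _ => 0) ![1, 0]
  let w0 : (Fin m ⊕ Fin m) ⊕ Fin 2 → F := Sum.elim (fun _ => 0) ![0, a⁻¹]
  refine ⟨fun w => minusForm m F a b w.1, ⟨v0, fun j => rfl⟩, ⟨w0, fun j => rfl⟩, ?_, ?_⟩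
  · refine
      { two := h2
        polar := fun v w => ?_
        add := fun v v' w => ?_
        smul := fun c v w => ?_
        symm := fun v w => ?_
        qsmul := fun c v => ?_
        aniso := fun v hv => ?_
        pair := ?_
        span := fun x => ?_ }
    · show minusForm m F a b (v.1 + w.1) = minusForm m F a b v.1 + minusForm m F a b w.1 +
        QuadraticMap.polar (minusForm m F a b) v.1 w.1
      unfold QuadraticMap.polar
      ring
    · exact QuadraticMap.polar_add_left _ _ _ _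
    · exact QuadraticMap.polar_smul_left _ _ _ _
    · exact QuadraticMap.polar_comm _ _ _
    · exact QuadraticMap.map_smul _ _ _
    · exact Subtype.ext ((wminus m F a b hab).aniso v.1 v.2 ((sing_iff _).2 hv))
    · show QuadraticMap.polar (minusForm m F a b) v0 w0 = 1
      rw [polar_minusForm]
      simp [v0, w0, ha]
    · refine ⟨x.1 (Sum.inr 0), a * x.1 (Sum.inr 1), ?_⟩
      apply Subtype.ext
      funext j
      show x.1 j = x.1 (Sum.inr 0) * v0 j + a * x.1 (Sum.inr 1) * w0 j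
      rcases j with j | j
      · have h1 : x.1 (Sum.inl j) = 0 := x.2 j
        rw [h1]
        simp [v0, w0]
      · fin_cases j
        · simp [v0, w0]
        · simp only [v0, w0, Sum.elim_inr, Fin.mk_one, Matrix.cons_val_one, Matrix.cons_val_fin_one, mul_zero,
            zero_add]
          field_simp
  · intro w c hc
    have h1 : c = -(minusForm m F a b) w.1 := hc.2
    subst h1
    exact (_root_.neg_neg _).symm

end Minus

end Cfsg.Agent.OddHalf.DblR.MinusTor
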