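import Mathlib

/-!
# ODD, D4: doubling of the root groups with an elementary abelian group `R` of order at least 4

`K` a subgroup of `G`, `R` an elementary abelian 2-group with `[K, R] = 1`, such that `C_G(t) ≤ N_G(K)` for all
`1 ≠ t ∈ R`.  For a root group `X` of `K` with the group `P ≤ K` centralising it, a *doubled root group* is a group
`W ≥ X` centralising `P` with `[W, R] ≤ X`, `C_W(t) = X` and `w ↦ w⁻¹ wᵗ` onto `X` for all `1 ≠ t ∈ R`.

* `Amb` : the ambient data, `Amb.tight`;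
* `C1 K R = C_G(K) ∩ C_G(R)`;
* `DW K R P X W` : `W` is a doubled root group;
* `DW.cen`, `DW.onto` : elements of `K` acting on `W`;
* `kappa` : the identity behind the torus trick.
-/

set_option autoImplicit false

namespace Cfsg.Agent.OddHalf.DblR

variable {G : Type*} [Group G]

/-- The ambient data. -/
structure Amb (K R : Subgroup G) : Prop where
  tt : ∀ t ∈ R, t * t = 1
  comm : ∀ t ∈ R, ∀ k ∈ K, t * k = k * t
  nor : ∀ t ∈ R, t ≠ 1 → ∀ g : G, g * t = t * g → ∀ k ∈ K, g * k * g⁻¹ ∈ K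
  ctr : ∀ k ∈ K, (∀ x ∈ K, k * x = x * k) → k = 1

/-- `C_G(K) ∩ C_G(R)` -/
def C1 (K R : Subgroup G) : Subgroup G :=
  Subgroup.centralizer (K : Set G) ⊓ Subgroup.centralizer (R : Set G)

theorem mem_C1 {K R : Subgroup G} {c : G} :
    c ∈ C1 K R ↔ (∀ k ∈ K, c * k = k * c) ∧ (∀ t ∈ R, c * t = t * c) := by
  unfold C1
  rw [Subgroup.mem_inf, Subgroup.mem_centralizer_iff, Subgroup.mem_centralizer_iff]
  constructor
  · rintro ⟨h1, h2⟩
    exact ⟨fun k hk => (h1 k hk).symm, fun t ht => (h2 t ht).symm⟩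
  · rintro ⟨h1, h2⟩
    exact ⟨fun k hk => (h1 k hk).symm, fun t ht => (h2 t ht).symm⟩

/-- `w⁻¹ wᵗ` -/
def br (t w : G) : G := w⁻¹ * (t * w * t⁻¹)

theorem br_def (t w : G) : br t w = w⁻¹ * (t * w * t⁻¹) := rfl

theorem conj_eq (t w : G) : t * w * t⁻¹ = w * br t w := by
  unfold br; group

theorem br_eq_one {t w : G} : br t w = 1 ↔ t * w = w * t := by
  unfold br
  rw [inv_mul_eq_one]
  constructor
  · intro h
    calc t * w = (t * w * t⁻¹) * t := by group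
      _ = w * t := by rw [← h]
  · intro h
    rw [h]; group

theorem br_mul {t v w : G} (h : w⁻¹ * br t v * w = br t v) : br t (v * w) = br t v * br t w := by
  calc br t (v * w) = (w⁻¹ * br t v * w) * br t w := by unfold br; group
    _ = _ := by rw [h]

/-- `br t (k w k⁻¹) = k (br t w) k⁻¹` for `k` commuting with `t` -/
theorem br_conj {t k w : G} (h : t * k = k * t) : br t (k * w * k⁻¹) = k * br t w * k⁻¹ := by
  have h1 : t * k * t⁻¹ = k := by rw [h]; group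
  calc br t (k * w * k⁻¹) = k * w⁻¹ * k⁻¹ * ((t * k * t⁻¹) * (t * w * t⁻¹) * (t * k * t⁻¹)⁻¹) := by
        unfold br; group
    _ = k * br t w * k⁻¹ := by rw [h1]; unfold br; group

/-- If `br t v = br t w` then `t` commutes with `v w⁻¹`. -/
theorem comm_of_br_eq {t v w : G} (h : br t v = br t w) : t * (v * w⁻¹) = (v * w⁻¹) * t := by
  have h1 := conj_eq t v
  have h2 := conj_eq t w
  rw [h] at h1
  have h3 : v⁻¹ * (t * v * t⁻¹) = w⁻¹ * (t * w * t⁻¹) := by rw [h1, h2]; group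
  calc t * (v * w⁻¹) = v * (v⁻¹ * (t * v * t⁻¹)) * (t * w * t⁻¹)⁻¹ * t := by group
    _ = v * (w⁻¹ * (t * w * t⁻¹)) * (t * w * t⁻¹)⁻¹ * t := by rw [h3]
    _ = _ := by group

namespace Amb

variable {K R : Subgroup G}

theorem inv_eq (A : Amb K R) {t : G} (ht : t ∈ R) : t⁻¹ = t := inv_eq_of_mul_eq_one_left (A.tt t ht)

theorem comm_R (A : Amb K R) {s t : G} (hs : s ∈ R) (ht : t ∈ R) : s * t = t * s := by
  have h := A.tt _ (mul_mem hs ht)
  calc s * t = (s * t)⁻¹ := (A.inv_eq (mul_mem hs ht)).symm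
    _ = t⁻¹ * s⁻¹ := by group
    _ = t * s := by rw [A.inv_eq hs, A.inv_eq ht]

/-- **TIGHT.** An element commuting with one `1 ≠ t ∈ R` and with `[g, R] ≤ K` centralises `R`. -/
theorem tight (A : Amb K R) {t g : G} (ht : t ∈ R) (ht1 : t ≠ 1) (hg : g * t = t * g)
    (h : ∀ a ∈ R, br a g ∈ K) : ∀ a ∈ R, g * a = a * g := by
  intro a ha
  have hn := A.nor t ht ht1 g hg
  have hn' : ∀ k ∈ K, g⁻¹ * k * g ∈ K := by
    intro k hk
    have hg' : g⁻¹ * t = t * g⁻¹ := by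
      calc g⁻¹ * t = g⁻¹ * (t * g) * g⁻¹ := by group
        _ = g⁻¹ * (g * t) * g⁻¹ := by rw [hg]
        _ = t * g⁻¹ := by group
    have := A.nor t ht ht1 g⁻¹ hg' k hk
    rwa [inv_inv] at this
  have h1 : br a g = 1 := by
    apply A.ctr _ (h a ha)
    intro x hx
    -- `br a g = (g⁻¹ a g) a⁻¹`
    have e1 : br a g = (g⁻¹ * a * g) * a⁻¹ := by unfold br; group
    have h2 := A.comm a ha _ (hn x hx)
    have h3 : (g⁻¹ * a * g) * x = x * (g⁻¹ * a * g) := by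
      calc (g⁻¹ * a * g) * x = g⁻¹ * (a * (g * x * g⁻¹)) * g := by group
        _ = g⁻¹ * ((g * x * g⁻¹) * a) * g := by rw [h2]
        _ = _ := by group
    have h4 : a⁻¹ * x = x * a⁻¹ := by
      rw [A.inv_eq ha]; exact A.comm a ha x hx
    calc br a g * x = (g⁻¹ * a * g) * (a⁻¹ * x) := by rw [e1]; group
      _ = ((g⁻¹ * a * g) * x) * a⁻¹ := by rw [h4]; group
      _ = x * br a g := by rw [h3, e1]; group
  exact (br_eq_one.mp h1).symm

theorem K_inf_C1 (A : Amb K R) {k : G} (hk : k ∈ K) (hc : k ∈ C1 K R) : k = 1 :=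
  A.ctr k hk (mem_C1.mp hc).1

end Amb

/-- **`W` is a doubled root group** for the root group `X` of `K`, `P ≤ K` the group centralising `X`. -/
structure DW (K R P X W : Subgroup G) : Prop where
  XP : X ≤ P
  PK : P ≤ K
  XW : X ≤ W
  XX : ∀ x ∈ X, x * x = 1
  WP : ∀ w ∈ W, ∀ p ∈ P, w * p = p * w
  brk : ∀ t ∈ R, ∀ w ∈ W, br t w ∈ X
  fix : ∀ t ∈ R, t ≠ 1 → ∀ w ∈ W, t * w = w * t → w ∈ X
  surj : ∀ t ∈ R, t ≠ 1 → ∀ x ∈ X, ∃ w ∈ W, br t w = x
  C1W : ∀ c ∈ C1 K R, ∀ w ∈ W, c * w * c⁻¹ ∈ W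

namespace DW

variable {K R P X W : Subgroup G}

theorem XK (D : DW K R P X W) : X ≤ K := D.XP.trans D.PK

theorem wx (D : DW K R P X W) {w x : G} (hw : w ∈ W) (hx : x ∈ X) : w * x = x * w :=
  D.WP w hw x (D.XP hx)

theorem conj_x (D : DW K R P X W) {w x : G} (hw : w ∈ W) (hx : x ∈ X) : w * x * w⁻¹ = x := by
  rw [D.wx hw hx]; group

theorem conj_x' (D : DW K R P X W) {w x : G} (hw : w ∈ W) (hx : x ∈ X) : w⁻¹ * x * w = x := by
  have := D.conj_x (inv_mem hw) hx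
  rwa [inv_inv] at this

theorem inv_x (D : DW K R P X W) {x : G} (hx : x ∈ X) : x⁻¹ = x := inv_eq_of_mul_eq_one_left (D.XX x hx)

theorem br_mul (D : DW K R P X W) {t v w : G} (ht : t ∈ R) (hv : v ∈ W) (hw : w ∈ W) :
    br t (v * w) = br t v * br t w :=
  DblR.br_mul (D.conj_x' hw (D.brk t ht v hv))

theorem br_x (A : Amb K R) (D : DW K R P X W) {t x : G} (ht : t ∈ R) (hx : x ∈ X) : br t x = 1 :=
  br_eq_one.mpr (A.comm t ht x (D.XK hx))

theorem br_inv (D : DW K R P X W) {t w : G} (ht : t ∈ R) (hw : w ∈ W) : br t w⁻¹ = (br t w)⁻¹ := by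
  have h := D.br_mul ht hw (inv_mem hw)
  rw [mul_inv_cancel] at h
  have h1 : br t (1 : G) = 1 := by unfold br; group
  rw [h1] at h
  exact eq_inv_of_mul_eq_one_right h.symm

/-- `v w⁻¹ ∈ X` if `br t v = br t w` for one `t` -/
theorem eq_of_br (D : DW K R P X W) {t v w : G} (ht : t ∈ R) (ht1 : t ≠ 1) (hv : v ∈ W) (hw : w ∈ W)
    (h : br t v = br t w) : v * w⁻¹ ∈ X :=
  D.fix t ht ht1 _ (mul_mem hv (inv_mem hw)) (comm_of_br_eq h)

/-- elements of `K` of odd order normalising `W` and centralising `X` centralise `W` -/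
theorem cen (A : Amb K R) (D : DW K R P X W) {t κ : G} (ht : t ∈ R) (ht1 : t ≠ 1) (hκ : κ ∈ K)
    (hW : ∀ w ∈ W, κ * w * κ⁻¹ ∈ W) (hX : ∀ x ∈ X, κ * x = x * κ) {m : ℕ} (hm : Odd m) (hκm : κ ^ m = 1) :
    ∀ w ∈ W, κ * w = w * κ := by
  intro w hw
  have h1 : br t (κ * w * κ⁻¹) = br t w := by
    rw [br_conj (A.comm t ht κ hκ), hX _ (D.brk t ht w hw)]; group
  have h2 := D.eq_of_br ht ht1 (hW w hw) hw h1
  obtain ⟨e, he, hew⟩ : ∃ e ∈ X, κ * w * κ⁻¹ = e * w := ⟨_, h2, by group⟩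
  have h3 : ∀ n : ℕ, κ ^ n * w * (κ ^ n)⁻¹ = e ^ n * w := by
    intro n
    induction n with
    | zero => simp
    | succ n ih =>
      have e1 : κ ^ (n + 1) * w * (κ ^ (n + 1))⁻¹ = κ * (κ ^ n * w * (κ ^ n)⁻¹) * κ⁻¹ := by
        rw [pow_succ']; group
      have e2 : κ * e ^ n = e ^ n * κ := hX _ (pow_mem he n)
      rw [e1, ih]
      calc κ * (e ^ n * w) * κ⁻¹ = (κ * e ^ n) * w * κ⁻¹ := by group
        _ = e ^ n * (κ * w * κ⁻¹) := by rw [e2]; group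
        _ = e ^ n * (e * w) := by rw [hew]
        _ = e ^ (n + 1) * w := by rw [pow_succ]; group
  have h4 := h3 m
  rw [hκm] at h4
  have h5 : e ^ m = 1 := by
    have : w = e ^ m * w := by simpa using h4
    exact mul_eq_right.mp this.symm
  have h6 : e = 1 := by
    obtain ⟨k, rfl⟩ := hm
    rw [pow_succ, pow_mul, pow_two, D.XX e he, one_pow, one_mul] at h5
    exact h5
  rw [h6, one_mul] at hew
  calc κ * w = (κ * w * κ⁻¹) * κ := by group
    _ = w * κ := by rw [hew]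

/-- elements of `K` normalising `W` and without fixed points on `X` have no fixed point on `W` -/
theorem no_fix (A : Amb K R) (D : DW K R P X W) {t κ : G} (ht : t ∈ R) (ht1 : t ≠ 1) (hκ : κ ∈ K)
    (hX : ∀ x ∈ X, κ * x = x * κ → x = 1) : ∀ w ∈ W, κ * w = w * κ → w = 1 := by
  intro w hw h
  have h1 : κ * w * κ⁻¹ = w := by rw [h]; group
  have h2 : br t w = 1 := by
    apply hX _ (D.brk t ht w hw)
    have h3 := br_conj (w := w) (A.comm t ht κ hκ)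
    rw [h1] at h3
    calc κ * br t w = (κ * br t w * κ⁻¹) * κ := by group
      _ = br t w * κ := by rw [← h3]
  exact hX w (D.fix t ht ht1 w hw (br_eq_one.mp h2)) h

/-- every element of `W` is of the form `v⁻¹ κ v κ⁻¹` -/
theorem onto [Finite G] (A : Amb K R) (D : DW K R P X W) {t κ : G} (ht : t ∈ R) (ht1 : t ≠ 1) (hκ : κ ∈ K)
    (hW : ∀ w ∈ W, κ * w * κ⁻¹ ∈ W) (hX : ∀ x ∈ X, κ * x = x * κ → x = 1) :
    ∀ w ∈ W, ∃ v ∈ W, w = v⁻¹ * (κ * v * κ⁻¹) := by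
  let f : W → W := fun v => ⟨(v : G)⁻¹ * (κ * v * κ⁻¹), mul_mem (inv_mem v.2) (hW v v.2)⟩
  have hf : Function.Injective f := by
    intro v w h
    have h1 : (v : G)⁻¹ * (κ * v * κ⁻¹) = (w : G)⁻¹ * (κ * w * κ⁻¹) := congrArg Subtype.val h
    have h2 := D.no_fix A ht ht1 hκ hX (v * (w : G)⁻¹) (mul_mem v.2 (inv_mem w.2)) (comm_of_br_eq h1)
    exact Subtype.ext (mul_inv_eq_one.mp h2)
  have hs := Finite.surjective_of_injective hf
  intro w hw
  obtain ⟨v, hv⟩ := hs ⟨w, hw⟩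
  exact ⟨v, v.2, (congrArg Subtype.val hv).symm⟩

end DW

/-- the identity behind the torus trick -/
theorem kappa {κ v y : G} (h : κ * y = y * κ) :
    (v⁻¹ * (κ * v * κ⁻¹)) * y * (v⁻¹ * (κ * v * κ⁻¹))⁻¹ * y⁻¹ =
      v⁻¹ * (κ * (v * y * v⁻¹ * y⁻¹) * κ⁻¹ * (v * y * v⁻¹ * y⁻¹)⁻¹) * v := by
  have h1 : κ⁻¹ * y = y * κ⁻¹ := by
    calc κ⁻¹ * y = κ⁻¹ * (y * κ) * κ⁻¹ := by group
      _ = κ⁻¹ * (κ * y) * κ⁻¹ := by rw [h]
      _ = y * κ⁻¹ := by group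
  have h2 : κ * y⁻¹ * κ⁻¹ = y⁻¹ := by
    calc κ * y⁻¹ * κ⁻¹ = ((κ * y) * κ⁻¹)⁻¹ := by group
      _ = y⁻¹ := by rw [h]; group
  calc (v⁻¹ * (κ * v * κ⁻¹)) * y * (v⁻¹ * (κ * v * κ⁻¹))⁻¹ * y⁻¹
      = v⁻¹ * κ * v * (κ⁻¹ * y) * κ * v⁻¹ * κ⁻¹ * v * y⁻¹ := by group
    _ = v⁻¹ * (κ * (v * y * v⁻¹)) * κ⁻¹ * v * y⁻¹ := by rw [h1]; group
    _ = v⁻¹ * (κ * (v * y * v⁻¹ * y⁻¹) * κ⁻¹ * (κ * y * κ⁻¹)) * v * y⁻¹ := by group
    _ = v⁻¹ * (κ * (v * y * v⁻¹ * y⁻¹) * κ⁻¹ * y) * v * y⁻¹ := by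
        rw [h]; group
    _ = _ := by group

end Cfsg.Agent.OddHalf.DblR
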