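import Cfsg.Agent.Nodes.Reps
import Cfsg.Agent.OddHalf.DblR.Basic

/-!
# ODD, D4: the perfect residual of `C_G(S)`, `R < S ≤ R X`

`res S` is the largest perfect subgroup of `C_G(S)`.  `res_eq` : it is `P` for `R < S ≤ R X`, if `K C_G(K)` contains all
perfect subgroups of `N_G(K)` (the outer automorphism group of `K` is solvable), `C1` has no perfect subgroups and
`P` contains the perfect subgroups of `C_K(x)` for `1 ≠ x ∈ X`.
-/

set_option autoImplicit false

namespace Cfsg.Agent.OddHalf.DblR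

open Cfsg.Agent.Nodes.Reps
open scoped commutatorElement

variable {G : Type*} [Group G]

/-- the largest perfect subgroup of `C_G(S)` -/
def res (S : Subgroup G) : Subgroup G :=
  sSup {H : Subgroup G | H ≤ Subgroup.centralizer (S : Set G) ∧ H ≤ ⁅H, H⁆}

theorem cj_centralizer (g : G) (S : Subgroup G) :
    cj g (Subgroup.centralizer (S : Set G)) = Subgroup.centralizer (cj g S : Set G) := by
  ext x
  rw [mem_cj, Subgroup.mem_centralizer_iff, Subgroup.mem_centralizer_iff]
  constructor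
  · intro h y hy
    have hy' : g⁻¹ * y * g ∈ S := mem_cj.1 hy
    have h1 := h _ hy'
    calc y * x = g * ((g⁻¹ * y * g) * (g⁻¹ * x * g)) * g⁻¹ := by group
      _ = g * ((g⁻¹ * x * g) * (g⁻¹ * y * g)) * g⁻¹ := by rw [h1]
      _ = x * y := by group
  · intro h y hy
    have h1 := h (g * y * g⁻¹) (conj_mem_cj.2 hy)
    calc y * (g⁻¹ * x * g) = g⁻¹ * ((g * y * g⁻¹) * x) * g := by group
      _ = g⁻¹ * (x * (g * y * g⁻¹)) * g := by rw [h1]
      _ = g⁻¹ * x * g * y := by group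

theorem cj_commutator (g : G) (H H' : Subgroup G) : cj g ⁅H, H'⁆ = ⁅cj g H, cj g H'⁆ :=
  Subgroup.map_commutator _ _ _

theorem res_cj_le (g : G) (S : Subgroup G) : cj g (res S) ≤ res (cj g S) := by
  unfold res
  rw [sSup_eq_iSup', cj_iSup]
  refine iSup_le ?_
  rintro ⟨H, hH1, hH2⟩
  refine le_sSup ⟨?_, ?_⟩
  · rw [← cj_centralizer]
    exact cj_mono g hH1
  · rw [← cj_commutator]
    exact cj_mono g hH2

theorem res_cj (g : G) (S : Subgroup G) : res (cj g S) = cj g (res S) := by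
  apply le_antisymm _ (res_cj_le g S)
  have h := res_cj_le g⁻¹ (cj g S)
  rw [cj_inv_cj] at h
  have h2 := cj_mono g h
  rwa [cj_cj_inv] at h2

/-- the image of a perfect group in a quotient-like situation: if `H ≤ A B`, `[A, B] = 1`, `A ∩ B = 1`, the
projection to `B` is perfect -/
theorem le_of_mul {A B H : Subgroup G} (hAB : ∀ a ∈ A, ∀ b ∈ B, a * b = b * a)
    (hH : ∀ x ∈ H, ∃ a ∈ A, ∃ b ∈ B, x = a * b) (hHp : H ≤ ⁅H, H⁆)
    (hB : ∀ L : Subgroup G, L ≤ B → L ≤ ⁅L, L⁆ → L = ⊥) (hdis : ∀ x ∈ A, x ∈ B → x = 1) : H ≤ A := by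
  -- the projection
  let L : Subgroup G :=
    { carrier := {b | b ∈ B ∧ ∃ a ∈ A, a * b ∈ H}
      one_mem' := ⟨one_mem _, 1, one_mem _, by rw [one_mul]; exact one_mem _⟩
      mul_mem' := by
        rintro b b' ⟨hb, a, ha, h⟩ ⟨hb', a', ha', h'⟩
        refine ⟨mul_mem hb hb', a * a', mul_mem ha ha', ?_⟩
        have e : a * a' * (b * b') = (a * b) * (a' * b') := by
          calc a * a' * (b * b') = a * (a' * b) * b' := by group
            _ = a * (b * a') * b' := by rw [hAB a' ha' b hb]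
            _ = _ := by group
        rw [e]
        exact mul_mem h h'
      inv_mem' := by
        rintro b ⟨hb, a, ha, h⟩
        refine ⟨inv_mem hb, a⁻¹, inv_mem ha, ?_⟩
        have e : a⁻¹ * b⁻¹ = (a * b)⁻¹ := by rw [hAB a ha b hb]; group
        rw [e]
        exact inv_mem h }
  have hL : ∀ {b}, b ∈ L ↔ b ∈ B ∧ ∃ a ∈ A, a * b ∈ H := Iff.rfl
  -- `H ≤ A [L, L]`
  have key : ∀ x ∈ ⁅H, H⁆, ∃ a ∈ A, ∃ b ∈ ⁅L, L⁆, x = a * b := by
    have hLB : ⁅L, L⁆ ≤ B := by
      rw [Subgroup.commutator_le]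
      intro x hx y hy
      rw [commutatorElement_def]
      exact mul_mem (mul_mem (mul_mem (hL.1 hx).1 (hL.1 hy).1) (inv_mem (hL.1 hx).1)) (inv_mem (hL.1 hy).1)
    let M : Subgroup G :=
      { carrier := {x | ∃ a ∈ A, ∃ b ∈ ⁅L, L⁆, x = a * b}
        one_mem' := ⟨1, one_mem _, 1, one_mem _, by group⟩
        mul_mem' := by
          rintro _ _ ⟨a, ha, b, hb, rfl⟩ ⟨a', ha', b', hb', rfl⟩
          refine ⟨a * a', mul_mem ha ha', b * b', mul_mem hb hb', ?_⟩
          have := hAB a' ha' b (hLB hb)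
          calc a * b * (a' * b') = a * (b * a') * b' := by group
            _ = a * (a' * b) * b' := by rw [this]
            _ = _ := by group
        inv_mem' := by
          rintro _ ⟨a, ha, b, hb, rfl⟩
          refine ⟨a⁻¹, inv_mem ha, b⁻¹, inv_mem hb, ?_⟩
          have := hAB a ha b (hLB hb)
          rw [this]; group }
    have : ⁅H, H⁆ ≤ M := by
      rw [Subgroup.commutator_le]
      intro x hx y hy
      obtain ⟨a, ha, b, hb, rfl⟩ := hH x hx
      obtain ⟨a', ha', b', hb', rfl⟩ := hH y hy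
      refine ⟨⁅a, a'⁆, ?_, ⁅b, b'⁆, Subgroup.commutator_mem_commutator (hL.2 ⟨hb, a, ha, hx⟩)
        (hL.2 ⟨hb', a', ha', hy⟩), ?_⟩
      · rw [commutatorElement_def]
        exact mul_mem (mul_mem (mul_mem ha ha') (inv_mem ha)) (inv_mem ha')
      · have c1 : Commute a b := hAB a ha b hb
        have c2 : Commute a b' := hAB a ha b' hb'
        have c3 : Commute a' b := hAB a' ha' b hb
        have c4 : Commute a' b' := hAB a' ha' b' hb'
        rw [commutatorElement_def, commutatorElement_def, commutatorElement_def]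
        have e1 : (a * b)⁻¹ = a⁻¹ * b⁻¹ := by rw [c1.eq]; group
        have e2 : (a' * b')⁻¹ = a'⁻¹ * b'⁻¹ := by rw [c4.eq]; group
        rw [e1, e2]
        have d1 := (c3.eq : a' * b = b * a')
        have d2 : a⁻¹ * (b * b') = (b * b') * a⁻¹ := (c1.inv_left.mul_right c2.inv_left).eq
        have d3 : a'⁻¹ * (b * b' * b⁻¹) = (b * b' * b⁻¹) * a'⁻¹ :=
          ((c3.inv_left.mul_right c4.inv_left).mul_right c3.inv_left.inv_right).eq
        calc a * b * (a' * b') * (a⁻¹ * b⁻¹) * (a'⁻¹ * b'⁻¹)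
            = a * (b * a') * b' * a⁻¹ * b⁻¹ * a'⁻¹ * b'⁻¹ := by group
          _ = a * a' * ((b * b') * a⁻¹) * b⁻¹ * a'⁻¹ * b'⁻¹ := by rw [← d1]; group
          _ = a * a' * a⁻¹ * ((b * b' * b⁻¹) * a'⁻¹) * b'⁻¹ := by rw [← d2]; group
          _ = a * a' * a⁻¹ * a'⁻¹ * (b * b' * b⁻¹ * b'⁻¹) := by rw [← d3]; group
    exact fun x hx => this hx
  have hLp : L = ⊥ := by
    apply hB L (fun b hb => (hL.1 hb).1)
    intro b hb
    obtain ⟨hbB, a, ha, h⟩ := hL.1 hb
    obtain ⟨a', ha', b', hb', e⟩ := key _ (hHp h)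
    have hbB' : b' ∈ B := by
      have : ⁅L, L⁆ ≤ L := Subgroup.commutator_le_self L
      exact (hL.1 (this hb')).1
    have e2 : a'⁻¹ * a = b' * b⁻¹ := by
      calc a'⁻¹ * a = a'⁻¹ * (a * b) * b⁻¹ := by group
        _ = b' * b⁻¹ := by rw [e]; group
    have e3 : b' * b⁻¹ = 1 := by
      apply hdis
      · rw [← e2]; exact mul_mem (inv_mem ha') ha
      · exact mul_mem hbB' (inv_mem hbB)
    rw [← mul_inv_eq_one.1 e3]
    exact hb'
  intro x hx
  obtain ⟨a, ha, b, hb, rfl⟩ := hH x hx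
  have : b ∈ L := hL.2 ⟨hb, a, ha, hx⟩
  rw [hLp, Subgroup.mem_bot] at this
  rw [this, mul_one]
  exact ha

theorem res_eq {K R X P : Subgroup G} (A : Amb K R) (hPX : ∀ p ∈ P, ∀ x ∈ X, p * x = x * p) (hPK : P ≤ K)
    (hXK : X ≤ K) (hR : ∃ t ∈ R, t ≠ 1) (hPp : P ≤ ⁅P, P⁆)
    (hout : ∀ H : Subgroup G, H ≤ Subgroup.normalizer (K : Set G) → H ≤ ⁅H, H⁆ →
      ∀ x ∈ H, ∃ k ∈ K, ∃ c : G, (∀ y ∈ K, c * y = y * c) ∧ x = k * c)
    (hC1 : ∀ H : Subgroup G, H ≤ C1 K R → H ≤ ⁅H, H⁆ → H = ⊥)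
    (hcent : ∀ x ∈ X, x ≠ 1 → ∀ H : Subgroup G, H ≤ K → (∀ y ∈ H, y * x = x * y) → H ≤ ⁅H, H⁆ → H ≤ P)
    (S : Subgroup G) (h1 : R ≤ S) (h2 : S ≤ R ⊔ X) (h3 : ¬ S ≤ R) : res S = P := by
  have hRX : ∀ s ∈ R ⊔ X, ∃ r ∈ R, ∃ x ∈ X, s = r * x := by
    intro s hs
    have hn : X ≤ Subgroup.normalizer (R : Set G) := by
      intro x hx
      rw [Subgroup.mem_normalizer_iff]
      intro r
      constructor
      · intro hr
        have := A.comm r hr x (hXK hx)
        have e : x * r * x⁻¹ = r := by rw [← this]; group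
        rwa [e]
      · intro hr
        have := A.comm _ hr x (hXK hx)
        have e : r = x * r * x⁻¹ := by
          calc r = x⁻¹ * ((x * r * x⁻¹) * x) := by group
            _ = x⁻¹ * (x * (x * r * x⁻¹)) := by rw [this]
            _ = _ := by group
        rw [e]; exact hr
    have h8 : s ∈ ((R ⊔ X : Subgroup G) : Set G) := hs
    rw [Subgroup.coe_mul_of_right_le_normalizer_left R X hn] at h8
    obtain ⟨r, hr, x, hx, e⟩ := h8
    exact ⟨r, hr, x, hx, e.symm⟩
  apply le_antisymm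
  · unfold res
    refine sSup_le ?_
    rintro H ⟨hH1, hH2⟩
    -- an element of `X`
    obtain ⟨s, hs, hsR⟩ := Set.not_subset.1 h3
    obtain ⟨r, hr, x, hx, rfl⟩ := hRX s (h2 hs)
    have hx1 : x ≠ 1 := by
      rintro rfl
      apply hsR
      rw [mul_one]; exact hr
    have hxS : x ∈ S := by
      have : x = r⁻¹ * (r * x) := by group
      rw [this]
      exact mul_mem (inv_mem (h1 hr)) hs
    have hHx : ∀ y ∈ H, y * x = x * y := fun y hy => ((Subgroup.mem_centralizer_iff.1 (hH1 hy)) x hxS).symm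
    have hHR : ∀ y ∈ H, ∀ a ∈ R, y * a = a * y := fun y hy a ha =>
      ((Subgroup.mem_centralizer_iff.1 (hH1 hy)) a (h1 ha)).symm
    -- `H` normalises `K`
    have hHK : H ≤ Subgroup.normalizer (K : Set G) := by
      obtain ⟨t, ht, ht1⟩ := hR
      intro y hy
      rw [mem_normalizer_iff_cj]
      have key : ∀ y ∈ H, cj y K ≤ K := by
        intro y hy k hk
        rw [mem_cj] at hk
        have := A.nor t ht ht1 y (hHR y hy t ht) _ hk
        have e : y * (y⁻¹ * k * y) * y⁻¹ = k := by group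
        rwa [e] at this
      apply le_antisymm (key y hy)
      have := cj_mono y (key y⁻¹ (inv_mem hy))
      rwa [cj_cj_inv] at this
    have hH3 : H ≤ K := by
      refine le_of_mul (A := K) (B := C1 K R) ?_ ?_ hH2 hC1 ?_
      · intro a ha b hb
        exact ((mem_C1.1 hb).1 a ha).symm
      · intro y hy
        obtain ⟨k, hk, c, hc, e⟩ := hout H hHK hH2 y hy
        refine ⟨k, hk, c, mem_C1.2 ⟨hc, ?_⟩, e⟩
        intro a ha
        have e1 := hHR y hy a ha
        have e2 := A.comm a ha k hk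
        have e3 : c = k⁻¹ * y := by rw [e]; group
        have e4 : a * k⁻¹ = k⁻¹ * a := by
          calc a * k⁻¹ = k⁻¹ * (k * a) * k⁻¹ := by group
            _ = k⁻¹ * (a * k) * k⁻¹ := by rw [e2]
            _ = _ := by group
        rw [e3]
        calc k⁻¹ * y * a = k⁻¹ * (y * a) := by group
          _ = (k⁻¹ * a) * y := by rw [e1]; group
          _ = a * (k⁻¹ * y) := by rw [← e4]; group
      · intro y hy hyc
        exact A.K_inf_C1 hy hyc
    exact hcent x hx hx1 H hH3 hHx hH2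
  · refine le_sSup ⟨?_, hPp⟩
    intro p hp
    rw [Subgroup.mem_centralizer_iff]
    intro s hs
    obtain ⟨r, hr, x, hx, rfl⟩ := hRX s (h2 hs)
    have e1 := A.comm r hr p (hPK hp)
    have e2 := hPX p hp x hx
    calc r * x * p = r * (x * p) := by group
      _ = (r * p) * x := by rw [← e2]; group
      _ = p * (r * x) := by rw [e1]; group

end Cfsg.Agent.OddHalf.DblR
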