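import Cfsg.Agent.OddHalf.DblR.RgdTri
import Cfsg.Agent.OddHalf.DblR.Res

/-!
# ODD, D4: no commuting pair of root type for a simply laced `K`

`no_pair_rgd` : `KTri.no_pair` for a simply laced root group datum.
-/

set_option autoImplicit false
set_option linter.unusedSectionVars false

namespace Cfsg.Agent.OddHalf.DblR

open CoxeterSystem Cfsg.Agent.ChevalleyStructure.CoxeterGeom Cfsg.Agent.Tits.Roots Cfsg.Agent.Tits.Core
  Cfsg.Agent.Tits.RootComb Cfsg.Agent.Tits.Exchange Cfsg.Agent.Nodes.Reps Cfsg.Agent.Nodes.BNOf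
  Cfsg.Agent.Nodes.StabComb Cfsg.Agent.Nodes.Bruhat Cfsg.Agent.Nodes.OppDec Cfsg.Agent.Nodes.LeviDec
  Cfsg.Agent.Nodes.NormX Cfsg.Agent.Nodes.Coroot Cfsg.Agent.Nodes.PosPair Cfsg.Agent.KFacts.RgdPar
  Cfsg.Agent.KFacts.RgdSL Cfsg.Agent.KFacts.RgdTI Cfsg.Agent.KFacts.RgdCent Cfsg.Agent.KFacts.RgdOdd
  Cfsg.Agent.KFacts.RgdEx
open scoped commutatorElement

variable {I W Y : Type*} [Fintype I] [DecidableEq I] [Group W] [Group Y] {M : CoxeterMatrix I}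
  {cs : CoxeterSystem M W} {A : I → I → ℤ} {h : IsCartan M A} {T : Subgroup Y} {n : I → Y}
  {X : (I → ℤ) → Subgroup Y}

theorem cj_eq_of_le {g : Y} {S : Subgroup Y} (h1 : cj g S ≤ S) (h2 : cj g⁻¹ S ≤ S) : cj g S = S := by
  apply le_antisymm h1
  have := cj_mono g h2
  rwa [cj_cj_inv] at this

theorem cj_inv_eq {g : Y} {S : Subgroup Y} (h1 : cj g S = S) : cj g⁻¹ S = S := by
  conv_lhs => rw [← h1]
  exact cj_inv_cj g S

section

variable [Finite W] (Rd : RGD cs h 2 T n X)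

include Rd

/-- `T P` -/
theorem mem_PS {r : I → ℤ} {k : Y} (hk : k ∈ PS T X (Ge cs h r)) :
    ∃ t ∈ T, ∃ p ∈ RGD.Sup X (Ge cs h r), k = t * p := by
  have hT : T ≤ Subgroup.normalizer (RGD.Sup X (Ge cs h r) : Set Y) := Rd.T_le_normalizer fun x hx => hx.1
  have h1 : k ∈ ((T ⊔ RGD.Sup X (Ge cs h r) : Subgroup Y) : Set Y) := hk
  rw [Subgroup.coe_mul_of_left_le_normalizer_right _ _ hT, Set.mem_mul] at h1
  obtain ⟨t, ht, u, hu, e⟩ := h1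
  exact ⟨t, ht, u, hu, e.symm⟩

theorem conj_T_P {r : I → ℤ} {t p : Y} (ht : t ∈ T) (hp : p ∈ RGD.Sup X (Ge cs h r)) :
    t * p * t⁻¹ ∈ RGD.Sup X (Ge cs h r) := by
  have hT : T ≤ Subgroup.normalizer (RGD.Sup X (Ge cs h r) : Set Y) := Rd.T_le_normalizer fun x hx => hx.1
  exact (Subgroup.mem_normalizer_iff.1 (hT ht) p).1 hp

theorem conj_T_P' {r : I → ℤ} {t p : Y} (ht : t ∈ T) (hp : p ∈ RGD.Sup X (Ge cs h r)) :
    t⁻¹ * p * t ∈ RGD.Sup X (Ge cs h r) := by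
  have := conj_T_P Rd (inv_mem ht) hp
  rwa [inv_inv] at this

theorem norX {r : I → ℤ} (L : LR Rd r) (Tab : ∀ t ∈ T, ∀ t' ∈ T, t * t' = t' * t) {T0 : Subgroup Y} (hT0 : T0 ≤ T) :
    NorX (GG cs h T X) (RGD.Sup X (Ge cs h r)) (X r) T0 := by
  have key : ∀ k ∈ GG cs h T X, cj k (X r) = X r → ∃ t ∈ T, ∃ p ∈ RGD.Sup X (Ge cs h r), k = t * p := by
    intro k hk hkX
    apply mem_PS Rd
    rw [← L.normalizer]
    exact ⟨mem_normalizer_iff_cj.2 hkX, hk⟩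
  refine ⟨?_, ?_⟩
  · intro k hk hkX
    obtain ⟨t, ht, p, hp, rfl⟩ := key k hk hkX
    have hT : T ≤ Subgroup.normalizer (RGD.Sup X (Ge cs h r) : Set Y) := Rd.T_le_normalizer fun x hx => hx.1
    rw [cj_mul, cj_eq_of_mem hp, mem_normalizer_iff_cj.1 (hT ht)]
  · intro k hk hkX a ha
    obtain ⟨t, ht, p, hp, rfl⟩ := key k hk hkX
    have haT := hT0 ha
    have hta := Tab t ht a haT
    refine ⟨t * (a⁻¹ * p * a * p⁻¹) * t⁻¹, conj_T_P Rd ht (mul_mem (conj_T_P' Rd haT hp) (inv_mem hp)), ?_⟩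
    calc t * p * a * (t * p)⁻¹ = (t * a) * (a⁻¹ * p * a * p⁻¹) * t⁻¹ := by group
      _ = a * (t * (a⁻¹ * p * a * p⁻¹) * t⁻¹) := by rw [hta]; group

/-- perfect subgroups of `C(x)` -/
theorem le_P_of_perfect {r : I → ℤ} (L : LR Rd r) (Tab : ∀ t ∈ T, ∀ t' ∈ T, t * t' = t' * t) {x : Y}
    (hx : x ∈ X r) (hx1 : x ≠ 1) {H : Subgroup Y} (hH : H ≤ GG cs h T X) (hHx : ∀ y ∈ H, y * x = x * y)
    (hp : H ≤ ⁅H, H⁆) : H ≤ RGD.Sup X (Ge cs h r) := by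
  refine hp.trans ?_
  rw [Subgroup.commutator_le]
  intro y hy y' hy'
  obtain ⟨t, ht, -, q, hq, rfl⟩ := (L.mem_centralizer (hH hy) hx hx1).1 (hHx y hy)
  obtain ⟨t', ht', -, q', hq', rfl⟩ := (L.mem_centralizer (hH hy') hx hx1).1 (hHx y' hy')
  have e := Tab t ht t' ht'
  have h1 : t'⁻¹ * q * t' * q' ∈ RGD.Sup X (Ge cs h r) := mul_mem (conj_T_P' Rd ht' hq) hq'
  have h2 : t⁻¹ * q' * t * q ∈ RGD.Sup X (Ge cs h r) := mul_mem (conj_T_P' Rd ht hq') hq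
  have h3 := conj_T_P Rd (mul_mem ht ht') (mul_mem h1 (inv_mem h2))
  have e2 : ⁅t * q, t' * q'⁆ = t * t' * (t'⁻¹ * q * t' * q' * (t⁻¹ * q' * t * q)⁻¹) * (t * t')⁻¹ := by
    rw [commutatorElement_def]
    calc t * q * (t' * q') * (t * q)⁻¹ * (t' * q')⁻¹
        = t * t' * (t'⁻¹ * q * t' * q') * (t' * q' * t * q)⁻¹ := by group
      _ = t * t' * (t'⁻¹ * q * t' * q') * ((t' * t) * (t⁻¹ * q' * t * q))⁻¹ := by group
      _ = t * t' * (t'⁻¹ * q * t' * q') * ((t * t') * (t⁻¹ * q' * t * q))⁻¹ := by rw [e]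
      _ = _ := by group
  rw [e2]
  exact h3

theorem isPGroup_rad {r : I → ℤ} (hr : IsRoot cs h r) : IsPGroup 2 ↥(RGD.Sup X (Rad cs h r)) := by
  obtain ⟨w, hw⟩ := exists_dom (cs := cs) (h := h) (ell cs h hr)
  obtain ⟨k, hk⟩ := exists_rp cs Rd.nsys w⁻¹
  have h1 := cj_Sup_Rad Rd hr hk
  have h2 : RGD.Sup X (Rad cs h (rep cs h w⁻¹ r)) ≤ RGD.Sup X (RGD.Pos cs h) := by
    apply RGD.Sup_mono
    intro x hx
    refine ⟨hx.1, ?_⟩
    rcases hx.1.pos_or_neg with h3 | h3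
    · exact h3
    · exfalso
      have h4 : 0 ≤ (pull cs h (ell cs h hr) w) (-x) := dom_nonneg hw (by
        intro k
        have := h3 k
        simp only [Pi.zero_apply, Pi.neg_apply] at this ⊢
        omega)
      have h5 : (pull cs h (ell cs h hr) w) (-x) = -cpr cs h x (rep cs h w⁻¹ r) := by
        rw [map_neg, pull_apply]
        congr 1
        exact cpr_rep_left w x hr
      rw [h5] at h4
      have := hx.2
      omega
  have h3 : IsPGroup 2 ↥(cj k (RGD.Sup X (Rad cs h r))) := by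
    rw [h1]
    exact Rd.isPGroup_Upos.to_le h2
  have h4 : RGD.Sup X (Rad cs h r) = cj k⁻¹ (cj k (RGD.Sup X (Rad cs h r))) := (cj_inv_cj _ _).symm
  rw [h4]
  exact h3.map _

/-- `P_r` determines `Q_r` and `X_r` -/
theorem cj_of_cj_P [Finite Y] (hs : SL cs h) (hL : ∀ a, IsRoot cs h a → LR Rd a) (hN : NoCent cs h T X)
    {r : I → ℤ} (hr : IsRoot cs h r)
    (QN : ∀ p ∈ RGD.Sup X (Ge cs h r), ∀ q ∈ RGD.Sup X (Rad cs h r), p * q * p⁻¹ ∈ RGD.Sup X (Rad cs h r))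
    {g : Y} (hg : cj g (RGD.Sup X (Ge cs h r)) = RGD.Sup X (Ge cs h r)) :
    cj g (RGD.Sup X (Rad cs h r)) = RGD.Sup X (Rad cs h r) ∧ cj g (X r) = X r := by
  have L := hL r hr
  have hXP : X r ≤ RGD.Sup X (Ge cs h r) := RGD.le_Sup ⟨hr, by rw [cpr_self cs h hr]; norm_num⟩
  have hPG : RGD.Sup X (Ge cs h r) ≤ GG cs h T X := le_trans (RGD.Sup_mono fun x hx => hx.1) le_sup_right
  have hQP : RGD.Sup X (Rad cs h r) ≤ RGD.Sup X (Ge cs h r) := RGD.Sup_mono fun x hx => ⟨hx.1, by have := hx.2; omega⟩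
  have key1 : ∀ g : Y, cj g (RGD.Sup X (Ge cs h r)) = RGD.Sup X (Ge cs h r) → cj g (X r) ≤ X r := by
    intro g hg x hx
    rw [mem_cj] at hx
    have hxP : x ∈ RGD.Sup X (Ge cs h r) := by
      rw [← hg, mem_cj]
      exact hXP hx
    refine f3_self Rd hs hL hN hr (hPG hxP) ?_
    intro a ha v hv
    have hvP : v ∈ RGD.Sup X (Ge cs h r) := RGD.le_Sup (S := Ge cs h r) ⟨ha.1, ha.2.1⟩ hv
    have h1 : g⁻¹ * v * g ∈ RGD.Sup X (Ge cs h r) := by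
      rw [← mem_cj, hg]; exact hvP
    have h2 := L.comm' h1 hx
    calc x * v = g * ((g⁻¹ * x * g) * (g⁻¹ * v * g)) * g⁻¹ := by group
      _ = g * ((g⁻¹ * v * g) * (g⁻¹ * x * g)) * g⁻¹ := by rw [h2]
      _ = v * x := by group
  have key2 : ∀ g : Y, cj g (RGD.Sup X (Ge cs h r)) = RGD.Sup X (Ge cs h r) →
      cj g (RGD.Sup X (Rad cs h r)) ≤ RGD.Sup X (Rad cs h r) := by
    intro g hg
    have : Fact (Nat.Prime 2) := ⟨Nat.prime_two⟩
    refine core_le Rd hr ?_ ((isPGroup_rad Rd hr).map _) ?_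
    · refine le_trans (cj_mono g hQP) ?_
      rw [hg]; exact hPG
    · intro u hu
      have hQn : ∀ p ∈ RGD.Sup X (Ge cs h r), cj p (RGD.Sup X (Rad cs h r)) = RGD.Sup X (Rad cs h r) := by
        intro p hp
        have key : ∀ p ∈ RGD.Sup X (Ge cs h r), cj p (RGD.Sup X (Rad cs h r)) ≤ RGD.Sup X (Rad cs h r) := by
          intro p hp x hx
          rw [mem_cj] at hx
          have := QN p hp _ hx
          have e : p * (p⁻¹ * x * p) * p⁻¹ = x := by group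
          rwa [e] at this
        exact cj_eq_of_le (key p hp) (key p⁻¹ (inv_mem hp))
      have h1 : g⁻¹ * u * g ∈ RGD.Sup X (Ge cs h r) := by
        rw [← mem_cj, hg]; exact hu
      have h2 : u * g = g * (g⁻¹ * u * g) := by group
      rw [← cj_mul, h2, cj_mul, hQn _ h1]
  have hgi := cj_inv_eq hg
  exact ⟨cj_eq_of_le (key2 g hg) (key2 g⁻¹ hgi), cj_eq_of_le (key1 g hg) (key1 g⁻¹ hgi)⟩

/-- **No commuting pair of root type**, simply laced root group datum. -/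
theorem no_pair_rgd [Finite Y] (hs : SL cs h) (hL : ∀ a, IsRoot cs h a → LR Rd a) (hN : NoCent cs h T X)
    (Tab : ∀ t ∈ T, ∀ t' ∈ T, t * t' = t' * t) {E T0 : Subgroup Y}
    (F1 : FactOne cs h T X E) (F2 : FactTwo cs h T X E)
    {r s g g' : I → ℤ} (hA : A2 cs h r s) (hgs : cpr cs h s g = 0) (hgr : A2 cs h g r)
    (hgs' : cpr cs h r g' = 0) (hgr' : A2 cs h g' s)
    (hT0 : T0 ≤ T) (L : Loc (GG cs h T X) E (RGD.Sup X (Ge cs h r)) (RGD.Sup X (Rad cs h r)) (X r) T0)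
    (hPp : RGD.Sup X (Ge cs h r) ≤ ⁅RGD.Sup X (Ge cs h r), RGD.Sup X (Ge cs h r)⁆)
    (hout : ∀ H : Subgroup Y, H ≤ Subgroup.normalizer (GG cs h T X : Set Y) → H ≤ ⁅H, H⁆ →
      ∀ x ∈ H, ∃ k ∈ GG cs h T X, ∃ c : Y, (∀ y ∈ GG cs h T X, c * y = y * c) ∧ x = k * c)
    (hC1 : ∀ H : Subgroup Y, H ≤ C1 (GG cs h T X) E → H ≤ ⁅H, H⁆ → H = ⊥)
    {t t' : Y} (ht : t ∈ E) (ht1 : t ≠ 1) (ht' : t' ∈ E) (ht1' : t' ≠ 1) (hne : t' ≠ t)
    {γ k : Y} (hk : k ∈ GG cs h T X) (hg1 : cj γ E ≤ E ⊔ X r) (hg2 : E ≤ cj γ (E ⊔ cj k (X r)))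
    (hg3 : ¬ cj γ E ≤ E) : False := by
  obtain ⟨k1, m1, H, ek, em⟩ := ktri Rd hs hL Tab F1 F2 hA hgs hgr hgs' hgr' L.big
  have hL' := hL r hA.rx
  have hkm : m1⁻¹ * k1 ∈ GG cs h T X := mul_mem (inv_mem H.mK) H.nK
  refine H.no_pair L (norX Rd hL' Tab hT0) (a := 1) (b := m1⁻¹ * k1) (c := k1) (one_mem _) hkm H.nK (cj_one _) ?_ H.nX
    (cj_one _) ?_ ek ht ht1 ht' ht1' hne res res_cj ?_ (fun g hg => cj_of_cj_P Rd hs hL hN hA.rx L.QN hg)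
    hk hg1 hg2 hg3
  · rw [cj_mul, H.nX, ← H.mX, cj_inv_cj]
  · rw [cj_mul, ek, ← em, cj_inv_cj]
  · refine res_eq L.amb (fun p hp x hx => (L.XZ x hx p hp).symm) L.PK (le_trans L.XQ (le_trans L.QP L.PK))
      ⟨t, ht, ht1⟩ hPp hout hC1 ?_
    intro x hx hx1 H hH hHx hHp
    exact le_P_of_perfect Rd hL' Tab hx hx1 hH hHx hHp

end

end Cfsg.Agent.OddHalf.DblR
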