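import Cfsg.Agent.KFacts.RgdKfour
import Cfsg.Agent.OddHalf.DblR.Tri

/-!
# ODD, D4: `P_r = ⟨X a : (a, r) ≥ 0⟩` is perfect, `q > 2`
-/

set_option autoImplicit false
set_option linter.unusedSectionVars false

namespace Cfsg.Agent.OddHalf.DblR

open CoxeterSystem Cfsg.Agent.ChevalleyStructure.CoxeterGeom Cfsg.Agent.Tits.Roots Cfsg.Agent.Tits.Core
  Cfsg.Agent.Tits.Exchange Cfsg.Agent.Nodes.Reps Cfsg.Agent.Nodes.BNOf Cfsg.Agent.Nodes.StabComb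
  Cfsg.Agent.Nodes.Bruhat Cfsg.Agent.Nodes.OppDec Cfsg.Agent.Nodes.PosPair Cfsg.Agent.Nodes.Coroot
  Cfsg.Agent.KFacts.RgdPar Cfsg.Agent.KFacts.RgdSL Cfsg.Agent.KFacts.RgdTI Cfsg.Agent.KFacts.RgdCent
  Cfsg.Agent.KFacts.RgdOdd Cfsg.Agent.KFacts.RgdEx Cfsg.Agent.KFacts.RgdTor Cfsg.Agent.KFacts.RgdKfour
open scoped commutatorElement

variable {I W Y : Type*} [Fintype I] [DecidableEq I] [Group W] [Group Y] {M : CoxeterMatrix I}
  {cs : CoxeterSystem M W} {A : I → I → ℤ} {h : IsCartan M A} {T : Subgroup Y} {n : I → Y}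
  {X : (I → ℤ) → Subgroup Y}

/-- every element of `X x` is a commutator of an element of `X x` with an element of `T ∩ ⟨X x, X (-x)⟩` -/
theorem exists_tor_comm [Finite W] [Finite Y] (R : RGD cs h 2 T n X) (tab : ∀ s ∈ T, ∀ t ∈ T, s * t = t * s)
    {x y : I → ℤ} (hA : A2 cs h x y) (big : ∃ u ∈ X x, ∃ u' ∈ X x, u ≠ 1 ∧ u' ≠ 1 ∧ u ≠ u') :
    ∃ t ∈ T ⊓ (X x ⊔ X (-x)), ∀ u ∈ X x, ∃ v ∈ X x, u = ⁅v, t⁆ := by
  obtain ⟨u0, hu0, u1, hu1, h0, h1, hne⟩ := big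
  obtain ⟨t, ht, e⟩ := tor_self hA R tab hu0 h0 hu1 h1
  have hfr : ∀ u ∈ X x, t * u = u * t → u = 1 := by
    intro u hu hc
    by_contra hu1'
    apply hne
    have h2 : t * u0 * t⁻¹ = 1 * u0 * 1⁻¹ :=
      eq_of_trans (T := T) (S := {v | v ∈ X x ∧ v ≠ 1}) tab (by
        rintro v ⟨hv, hv1⟩ v' ⟨hv', hv1'⟩
        obtain ⟨s, hs, es⟩ := tor_self hA R tab hv hv1 hv' hv1'
        exact ⟨s, hs.1, es⟩) ht.1 (one_mem _) ⟨hu, hu1'⟩ ⟨hu0, h0⟩ (by rw [hc]; group)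
    rw [← e, h2]; group
  refine ⟨t, ht, fun u hu => ?_⟩
  obtain ⟨v, hv, ev⟩ := onto' (X := X x) (κ := t) (fun v hv => tor_mem R hA.rx ht.1 hv) hfr u hu
  refine ⟨v⁻¹, inv_mem hv, ?_⟩
  rw [ev, commutatorElement_def]; group

theorem perfect [Finite W] [Finite Y] {R : RGD cs h 2 T n X} {r : I → ℤ} (H : Hyp R r)
    (big : ∀ b, IsRoot cs h b → ∃ u ∈ X b, ∃ u' ∈ X b, u ≠ 1 ∧ u' ≠ 1 ∧ u ≠ u') :
    RGD.Sup X (Ge cs h r) ≤ ⁅RGD.Sup X (Ge cs h r), RGD.Sup X (Ge cs h r)⁆ := by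
  -- a root that is the sum of two roots of `Ge`
  have key : ∀ {a b : I → ℤ}, A2 cs h a b → a ∈ Ge cs h r → b ∈ Ge cs h r →
      X (a + b) ≤ ⁅RGD.Sup X (Ge cs h r), RGD.Sup X (Ge cs h r)⁆ := by
    intro a b hA ha hb w hw
    obtain ⟨u, hu, hu1⟩ := exists_ne R hA.rx
    obtain ⟨v, hv, rfl⟩ := hA.comm_surj R hu hu1 hw
    exact Subgroup.commutator_mem_commutator (RGD.le_Sup ha hu) (RGD.le_Sup hb hv)
  refine RGD.Sup_le fun a ha => ?_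
  rcases lt_or_ge 0 (cpr cs h a r) with h0 | h0
  · rcases H.rad_cases (b := a) ⟨ha.1, by omega⟩ with rfl | h1
    · -- `a = r`
      obtain ⟨b, hb⟩ := H.ex
      have h2 := key (H.a2 hb) (H.phi1_ge hb) (H.phi1_ge (H.sub_mem hb))
      rwa [add_sub_cancel] at h2
    · obtain ⟨d, hd, hdr, had, -⟩ := H.sep a (r - a) h1 (H.sub_mem h1) (H.sub_ne h1).symm
      have hda : cpr cs h d a = 1 := by rw [H.sl d a hd h1.1, had]
      have hA : A2 cs h (a - d) d := by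
        refine H.sl.a2 (isRoot_sub h1.1 hd had) hd ?_
        rw [cpr_sub_left H.sl hd hd hd, had, cpr_self cs h hd]; norm_num
      have h2 := key hA ⟨hA.rx, by
        rw [cpr_sub_left H.sl hd hd H.root, h1.2, hdr]; norm_num⟩ ⟨hd, by rw [hdr]⟩
      rwa [sub_add_cancel] at h2
  · -- `a` orthogonal to `r`
    have h1 : cpr cs h a r = 0 := le_antisymm h0 ha.2
    obtain ⟨b, hb, hab⟩ := H.nb a ha.1
    have hA : A2 cs h a (-b) := by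
      refine H.sl.a2 ha.1 hb.neg ?_
      rw [cpr_neg_right cs h _ hb, hab]
    obtain ⟨t, ht, hall⟩ := exists_tor_comm R H.tab hA (big a ha.1)
    intro u hu
    obtain ⟨v, hv, rfl⟩ := hall u hu
    refine Subgroup.commutator_mem_commutator (RGD.le_Sup ha hv) ?_
    have h3 : X a ⊔ X (-a) ≤ RGD.Sup X (Ge cs h r) := by
      refine sup_le (RGD.le_Sup ha) (RGD.le_Sup ⟨ha.1.neg, ?_⟩)
      rw [cpr_neg_left _ H.root, h1, neg_zero]
    exact h3 ht.2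

end Cfsg.Agent.OddHalf.DblR
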