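import Cfsg.Agent.OddHalf.D4.Input
import Cfsg.Agent.OddHalf.DblR.Row

/-!
# ODD, D4: `Inp` and the end (no pair of root type) exclude full pairs with a Sylow 2-subgroup of `K` in `N(L)`
(helper350, type-free)

* `Inp.std1`, `Inp.hC1`;
* `EndHyp K X` : the literal form of `Sheet.row` (`DblR/Row.lean`) and `Un.row` (`DblR/UnEnd.lean`);
* **`Inp.no_full`**.
-/

set_option autoImplicit false

namespace Cfsg.Agent.OddHalf.D4.Input

open Cfsg Subgroup Cfsg.Agent.OddHalf.D4 Cfsg.Agent.OddHalf.D4.Basic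
open scoped commutatorElement

variable {G : Type*} [Group G]

/-- There is no pair of root type. -/
def EndHyp (K X : Subgroup G) : Prop :=
  ∀ E : Subgroup G, E ≤ centralizer (K : Set G) → IsPGroup 2 ↥E →
    (∀ D : Subgroup G, E ≤ D → D ≤ centralizer (K : Set G) → IsPGroup 2 ↥D → D ≤ E) →
    (∀ P : Subgroup G, P ≤ DblR.C1 K E → P ≤ ⁅P, P⁆ → P = ⊥) →
    ∀ t t' : G, t ∈ E → t ≠ 1 → t' ∈ E → t' ≠ 1 → t' ≠ t →
    ∀ γ k : G, k ∈ K → Nodes.Reps.cj γ E ≤ E ⊔ X → E ≤ Nodes.Reps.cj γ (E ⊔ Nodes.Reps.cj k X) →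
      ¬ Nodes.Reps.cj γ E ≤ E → False

theorem orderOf_eq_two' {t : G} (h : t * t = 1) (h1 : t ≠ 1) : orderOf t = 2 :=
  orderOf_eq_prime (by rw [pow_two]; exact h) h1

variable {K S X H : Subgroup G}

theorem Inp.std1 [Finite G] (h : Inp K S X H) : DblR.Std1 K := by
  refine ⟨?_, ?_, ?_⟩
  · intro t ht htt ht1 g hg k hk
    have h1 := h.tight.mem ht (orderOf_eq_two' htt ht1) hg
    exact (mem_normalizer_iff.mp h1 k).mp hk
  · intro t ht htt ht1 g hg
    exact CommConj.cj_eq_of_mem_normalizer (h.tight.tight g t ht (orderOf_eq_two' htt ht1) hg)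
  · intro k hk hx
    exact h.ctr k hk (mem_centralizer_iff.2 fun x hx' => (hx x hx').symm)

theorem Inp.hC1 (h : Inp K S X H) {E : Subgroup G} (hE : IsSyl E (centralizer (K : Set G))) :
    ∀ P : Subgroup G, P ≤ DblR.C1 K E → P ≤ ⁅P, P⁆ → P = ⊥ := by
  intro P hP hPP
  refine h.core E hE P ?_ ?_ hPP
  · intro x hx
    exact mem_centralizer_iff.2 fun k hk => ((DblR.mem_C1.1 (hP hx)).1 k hk).symm
  · intro x hx q hq
    exact (DblR.mem_C1.1 (hP hx)).2 q hq

/-- a Sylow 2-subgroup of a group of 2-rank at least 2 has three elements -/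
theorem exists_two_elts [Finite G] {C E : Subgroup G} (hr : ¬ PRankLE 2 1 ↥C) (hE : IsSyl E C) :
    ∃ t t' : G, t ∈ E ∧ t ≠ 1 ∧ t' ∈ E ∧ t' ≠ 1 ∧ t' ≠ t := by
  unfold PRankLE at hr
  push Not at hr
  obtain ⟨A, hA, hA2, hc⟩ := hr
  rw [pow_one] at hc
  obtain ⟨a, ha⟩ : ∃ a : A, a ≠ 1 := by
    by_contra hcon
    push Not at hcon
    have : Subsingleton A := ⟨fun x y => by rw [hcon x, hcon y]⟩
    have h2 : Nat.card A ≤ 1 := Finite.card_le_one_iff_subsingleton.mpr this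
    omega
  obtain ⟨b, hb, hba⟩ : ∃ b : A, b ≠ 1 ∧ b ≠ a := by
    by_contra hcon
    push Not at hcon
    have h3 : (Set.univ : Set A) ⊆ {1, a} := by
      intro x _
      by_cases hx : x = 1
      · left; exact hx
      · right; exact hcon x hx
    have h4 : Nat.card A ≤ 2 := by
      rw [← Set.ncard_univ]
      exact (Set.ncard_le_ncard h3).trans ((Set.ncard_insert_le _ _).trans (by rw [Set.ncard_singleton]))
    omega
  have hQ : IsPGroup 2 ↥(A.map C.subtype) := by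
    rintro ⟨x, y, hy, rfl⟩
    exact ⟨1, Subtype.ext (by
      have := congrArg Subtype.val (hA2 y hy)
      simpa using this)⟩
  obtain ⟨m, -, hm⟩ := hE.conj_into hQ (map_subtype_le _)
  have key : ∀ x : A, x ≠ 1 → m * ((x : C) : G) * m⁻¹ ≠ 1 := by
    intro x hx h0
    apply hx
    have h1 : ((x : C) : G) = 1 := by
      calc ((x : C) : G) = m⁻¹ * (m * ((x : C) : G) * m⁻¹) * m := by group
        _ = 1 := by rw [h0]; group
    exact Subtype.ext (Subtype.ext h1)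
  refine ⟨m * ((a : C) : G) * m⁻¹, m * ((b : C) : G) * m⁻¹, hm _ ⟨a, a.2, rfl⟩, key a ha, hm _ ⟨b, b.2, rfl⟩, key b hb,
    ?_⟩
  intro h0
  apply hba
  have h1 : ((b : C) : G) = ((a : C) : G) := by
    calc ((b : C) : G) = m⁻¹ * (m * ((b : C) : G) * m⁻¹) * m := by group
      _ = m⁻¹ * (m * ((a : C) : G) * m⁻¹) * m := by rw [h0]
      _ = _ := by group
  exact Subtype.ext (Subtype.ext h1)

/-- **No full pair `K`, `L` such that `N(L)` contains a Sylow 2-subgroup of `K`.** -/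
theorem Inp.no_full [Finite G] (h : Inp K S X H) (hend : EndHyp K X)
    (hr : ¬ PRankLE 2 1 ↥(centralizer (K : Set G))) {L Q U : Subgroup G} (hp : FullPair K L Q U) {S' : Subgroup G}
    (hS' : IsSyl S' K) (hS'L : S' ≤ normalizer (L : Set G)) : False := by
  obtain ⟨k, hk, γ, -, -, -, hX, h1, h2, h3, -⟩ := h.root_pair hp hS' hS'L
  obtain ⟨t, t', ht, ht1, ht', ht1', hne⟩ := exists_two_elts hr hp.sylQ
  refine hend Q hp.sylQ.le hp.sylQ.two (fun D h1 h2 h3 => hp.sylQ.max D h3 h1 h2) (h.hC1 hp.sylQ) t t' ht ht1 ht' ht1'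
    hne γ 1 (one_mem _) h1 ?_ h3
  rw [Nodes.Reps.cj_one]
  exact h2

end Cfsg.Agent.OddHalf.D4.Input
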