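import Cfsg.Agent.OddHalf.DblR.MinusComb

/-!
# ODD, D4: `B_n` with the labels `C_n`: the configurations for the centralisers (K1), (K2), combinatorics

helper328.
-/

set_option autoImplicit false
set_option linter.unusedSectionVars false

namespace Cfsg.Agent.OddHalf.DblR.MinusComb

open CoxeterSystem Cfsg.Agent.ChevalleyStructure.CoxeterGeom Cfsg.Agent.Tits.Roots Cfsg.Agent.Tits.Core
  Cfsg.Agent.Tits.RootComb Cfsg.Agent.Nodes.TypeC
  Cfsg.Agent.Nodes.Comb Cfsg.Agent.Nodes.Reps Cfsg.Agent.Nodes.BNOf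
  Cfsg.Agent.Nodes.StabComb Cfsg.Agent.Nodes.Coroot Cfsg.Agent.Nodes.KindBC Cfsg.Agent.Nodes.TypeCForm
  Cfsg.Agent.Nodes.PosPair Cfsg.Agent.KFacts.RgdSL Cfsg.Agent.KFacts.RgdTI Cfsg.Agent.KFacts.RgdPar

variable {n : ℕ}

theorem exists_out (hn : 3 ≤ n) (x y : Fin n × Bool) : ∃ z : Fin n × Bool, z.1 ≠ x.1 ∧ z.1 ≠ y.1 := by
  have h1 : ({x.1, y.1} : Finset (Fin n)).card < Fintype.card (Fin n) := by
    rw [Fintype.card_fin]
    exact lt_of_le_of_lt Finset.card_le_two hn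
  obtain ⟨k, hk⟩ : ∃ k, k ∉ ({x.1, y.1} : Finset (Fin n)) := by
    by_contra hcon
    push Not at hcon
    rw [← Finset.eq_univ_iff_forall] at hcon
    rw [hcon, Finset.card_univ] at h1
    exact lt_irrefl _ h1
  rw [Finset.mem_insert, Finset.mem_singleton, not_or] at hk
  exact ⟨(k, true), hk.1, hk.2⟩

/-- the coordinate of `rt c d` at `c` -/
theorem pos_self {c d : Fin n × Bool} (hcd : Ok c d) : 1 ≤ dl c c + dl d c := by
  have h1 := ok_iff.1 hcd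
  rw [dl_self]
  rcases dl_cases d c with ⟨h, h2⟩ | ⟨h, h2⟩ | ⟨h, h2⟩
  · omega
  · exact absurd h h1
  · omega

theorem pos_self' {c d : Fin n × Bool} (hcd : Ok c d) : 1 ≤ dl c d + dl d d := by
  have := pos_self hcd.symm
  omega

section

variable {W : Type*} [Group W] (cs : CoxeterSystem (CoxeterMatrix.B n) W) [Finite W]

theorem star_one (hn : 3 ≤ n) {x y : Fin n × Bool} (hxy : x.1 ≠ y.1) {b : Fin n → ℤ} (hb : IsRoot cs (isCartan n) b)
    (h : ∀ a ∈ RB n, 0 < cpr cs (isCartan n) a (rt x y) → 0 ≤ cpr cs (isCartan n) b a) :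
    b = rt x y ∨ b = rt x x ∨ b = rt y y := by
  obtain ⟨c, d, hcd, rfl⟩ := exists_rt hb
  have hok := ok_iff.1 hcd
  have hok' := ok_iff.1 hcd.symm
  -- `D_x ± D_z ≥ 0`
  have key : ∀ z : Fin n × Bool, z.1 ≠ x.1 → z.1 ≠ y.1 → 0 ≤ dl c x + dl d x + (dl c z + dl d z) ∧
      0 ≤ dl c y + dl d y + (dl c z + dl d z) := by
    intro z hzx hzy
    have h1 := h (rt x z) (rt_mem_RB (Ne.symm hzx)) (by
      rw [cpr_ne cs _ hxy, ev_rt, ev_rt, dl_self, dl_of_ne hzx, dl_of_ne hxy, dl_of_ne hzy]; norm_num)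
    have h2 := h (rt y z) (rt_mem_RB (Ne.symm hzy)) (by
      rw [cpr_ne cs _ hxy, ev_rt, ev_rt, dl_self, dl_of_ne hzx, dl_of_ne hxy.symm, dl_of_ne hzy]; norm_num)
    rw [cpr_ne cs _ (Ne.symm hzx), ev_rt, ev_rt] at h1
    rw [cpr_ne cs _ (Ne.symm hzy), ev_rt, ev_rt] at h2
    exact ⟨h1, h2⟩
  have key2 : ∀ z : Fin n × Bool, z.1 ≠ x.1 → z.1 ≠ y.1 → 0 ≤ dl c x + dl d x - (dl c z + dl d z) ∧
      0 ≤ dl c y + dl d y - (dl c z + dl d z) := by
    intro z hzx hzy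
    have h1 := key (ng z) hzx hzy
    rw [dl_ng_right, dl_ng_right] at h1
    omega
  obtain ⟨z0, hz1, hz2⟩ := exists_out hn x y
  have k1 := key z0 hz1 hz2
  have k2 := key2 z0 hz1 hz2
  rcases cases2 hxy c with ⟨hc, h3, h4⟩ | ⟨hc, h3, h4⟩ | ⟨hc, h3, h4⟩ | ⟨hc, h3, h4⟩ | ⟨hc, h3, h4⟩
  on_goal 5 =>
    exfalso
    have h5 := key2 c hc.1 hc.2
    have h6 := pos_self hcd
    rcases cases2 hxy d with ⟨hd, h7, h8⟩ | ⟨hd, h7, h8⟩ | ⟨hd, h7, h8⟩ | ⟨hd, h7, h8⟩ | ⟨hd, h7, h8⟩ <;> omega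
  all_goals
    rcases cases2 hxy d with ⟨hd, h5, h6⟩ | ⟨hd, h5, h6⟩ | ⟨hd, h5, h6⟩ | ⟨hd, h5, h6⟩ | ⟨hd, h5, h6⟩
  on_goal 20 =>
    exfalso
    have h7 := key2 d hd.1 hd.2
    have h8 := pos_self' hcd
    omega
  on_goal 15 =>
    exfalso
    have h7 := key2 d hd.1 hd.2
    have h8 := pos_self' hcd
    omega
  on_goal 10 =>
    exfalso
    have h7 := key2 d hd.1 hd.2
    have h8 := pos_self' hcd
    omega
  on_goal 5 =>
    exfalso
    have h7 := key2 d hd.1 hd.2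
    have h8 := pos_self' hcd
    omega
  all_goals
    first
    | (exfalso; omega)
    | (exfalso; apply hok; rw [hc, hd]; done)
    | (exfalso; apply hok'; rw [hc, hd]; done)
    | (left; rw [hc, hd]; done)
    | (left; rw [hc, hd, rt_comm]; done)
    | (right; left; rw [hc, hd]; done)
    | (right; right; rw [hc, hd]; done)

theorem star_two {x y z : Fin n × Bool} (hxy : x.1 ≠ y.1) (hxz : x.1 ≠ z.1) (hyz : y.1 ≠ z.1) {b : Fin n → ℤ}
    (hb : IsRoot cs (isCartan n) b)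
    (h : ∀ a ∈ RB n, 0 < cpr cs (isCartan n) a (rt x y) + cpr cs (isCartan n) a (rt x z) →
      0 ≤ cpr cs (isCartan n) b a) :
    b = rt x y ∨ b = rt x z ∨ b = rt x x := by
  obtain ⟨c, d, hcd, rfl⟩ := exists_rt hb
  have hok := ok_iff.1 hcd
  have hok' := ok_iff.1 hcd.symm
  have gen : ∀ {u v : Fin n × Bool}, u.1 ≠ v.1 → 0 < 2 * (dl u x + dl v x) + (dl u y + dl v y) + (dl u z + dl v z) →
      0 ≤ dl c u + dl d u + (dl c v + dl d v) := by
    intro u v huv h0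
    have h1 := h (rt u v) (rt_mem_RB huv) (by
      rw [cpr_ne cs _ hxy, cpr_ne cs _ hxz, ev_rt, ev_rt, ev_rt]; omega)
    rwa [cpr_ne cs _ huv, ev_rt, ev_rt] at h1
  have sxx := dl_self x
  have sxy := dl_of_ne hxy
  have sxz := dl_of_ne hxz
  have syx := dl_of_ne hxy.symm
  have syy := dl_self y
  have syz := dl_of_ne hyz
  have szx := dl_of_ne hxz.symm
  have szy := dl_of_ne hyz.symm
  have szz := dl_self z
  have a1 := gen hxy (by omega)
  have a2 := gen (u := x) (v := ng y) hxy (by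
    have e1 : dl (ng y) x = 0 := dl_of_ne (c := ng y) hxy.symm
    have e2 : dl (ng y) y = -1 := dl_ng y
    have e3 : dl (ng y) z = 0 := dl_of_ne (c := ng y) hyz
    omega)
  have a3 := gen hxz (by omega)
  have a4 := gen (u := x) (v := ng z) hxz (by
    have e1 : dl (ng z) x = 0 := dl_of_ne (c := ng z) hxz.symm
    have e2 : dl (ng z) y = 0 := dl_of_ne (c := ng z) hyz.symm
    have e3 : dl (ng z) z = -1 := dl_ng z
    omega)
  have a5 := gen hyz (by omega)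
  rw [dl_ng_right, dl_ng_right] at a2 a4
  -- `w` outside
  have out : ∀ w : Fin n × Bool, w.1 ≠ x.1 → w.1 ≠ y.1 → w.1 ≠ z.1 →
      0 ≤ dl c x + dl d x - (dl c w + dl d w) ∧ 0 ≤ dl c y + dl d y - (dl c w + dl d w) := by
    intro w h1 h2 h3
    have e1 : dl (ng w) x = 0 := dl_of_ne (c := ng w) h1
    have e2 : dl (ng w) y = 0 := dl_of_ne (c := ng w) h2
    have e3 : dl (ng w) z = 0 := dl_of_ne (c := ng w) h3
    have b1 := gen (u := x) (v := ng w) (Ne.symm h1) (by omega)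
    have b2 := gen (u := y) (v := ng w) (Ne.symm h2) (by omega)
    rw [dl_ng_right, dl_ng_right] at b1 b2
    omega
  rcases cases3 hxy hxz hyz c with ⟨hc, h3, h4, h7⟩ | ⟨hc, h3, h4, h7⟩ | ⟨hc, h3, h4, h7⟩ | ⟨hc, h3, h4, h7⟩ |
    ⟨hc, h3, h4, h7⟩ | ⟨hc, h3, h4, h7⟩ | ⟨hc, h3, h4, h7⟩
  on_goal 7 =>
    exfalso
    have b1 := out c hc.1 hc.2.1 hc.2.2
    have b2 := pos_self hcd
    rcases cases2 hxy d with ⟨hd, h7, h8⟩ | ⟨hd, h7, h8⟩ | ⟨hd, h7, h8⟩ | ⟨hd, h7, h8⟩ | ⟨hd, h7, h8⟩ <;> omega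
  all_goals
    rcases cases3 hxy hxz hyz d with ⟨hd, h5, h6, h8⟩ | ⟨hd, h5, h6, h8⟩ | ⟨hd, h5, h6, h8⟩ | ⟨hd, h5, h6, h8⟩ |
      ⟨hd, h5, h6, h8⟩ | ⟨hd, h5, h6, h8⟩ | ⟨hd, h5, h6, h8⟩
  all_goals
    first
    | (exfalso; omega)
    | (exfalso; apply hok; rw [hc, hd]; done)
    | (exfalso; apply hok'; rw [hc, hd]; done)
    | (left; rw [hc, hd]; done)
    | (left; rw [hc, hd, rt_comm]; done)
    | (right; left; rw [hc, hd]; done)
    | (right; left; rw [hc, hd, rt_comm]; done)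
    | (right; right; rw [hc, hd]; done)
    | (exfalso
       have b1 := out d hd.1 hd.2.1 hd.2.2
       have b2 := pos_self' hcd
       omega)

theorem not_btwn_xx {x y : Fin n × Bool} (hxy : x.1 ≠ y.1) {v : Fin n → ℤ} :
    ¬ Btwn cs (isCartan n) (rt x x) (rt x y) v := by
  rintro ⟨hvr, m, a, b, hm, ha, hb, he⟩
  obtain ⟨c, d, -, rfl⟩ := exists_rt hvr
  have key : ∀ w, m * (dl c w + dl d w) = a * (dl x w + dl x w) + b * (dl x w + dl y w) := by
    intro w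
    have := congrArg (fun v => ev v w) he
    simp only [ev_add, ev_smul, ev_rt] at this
    exact this
  have k1 := key x
  have k2 := key y
  rw [dl_self, dl_of_ne hxy.symm] at k1
  rw [dl_self, dl_of_ne hxy] at k2
  have h1 : 0 < dl c x + dl d x := by
    have : 0 < m * (dl c x + dl d x) := by rw [k1]; omega
    exact (mul_pos_iff_of_pos_left hm).1 this
  have h2 : 0 < dl c y + dl d y := by
    have : 0 < m * (dl c y + dl d y) := by rw [k2]; omega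
    exact (mul_pos_iff_of_pos_left hm).1 this
  rcases pos_two hxy h1 h2 with ⟨rfl, rfl⟩ | ⟨rfl, rfl⟩
  · rw [dl_self, dl_of_ne hxy.symm] at k1
    rw [dl_self, dl_of_ne hxy] at k2
    omega
  · rw [dl_self, dl_of_ne hxy.symm] at k1
    rw [dl_self, dl_of_ne hxy] at k2
    omega

theorem btwn_xx_yy {x y : Fin n × Bool} (hxy : x.1 ≠ y.1) {v : Fin n → ℤ}
    (hv : Btwn cs (isCartan n) (rt x x) (rt y y) v) : v = rt x y := by
  obtain ⟨hvr, m, a, b, hm, ha, hb, he⟩ := hv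
  obtain ⟨c, d, -, rfl⟩ := exists_rt hvr
  have key : ∀ w, m * (dl c w + dl d w) = a * (dl x w + dl x w) + b * (dl y w + dl y w) := by
    intro w
    have := congrArg (fun v => ev v w) he
    simp only [ev_add, ev_smul, ev_rt] at this
    exact this
  have k1 := key x
  have k2 := key y
  rw [dl_self, dl_of_ne hxy.symm] at k1
  rw [dl_self, dl_of_ne hxy] at k2
  have h1 : 0 < dl c x + dl d x := by
    have : 0 < m * (dl c x + dl d x) := by rw [k1]; omega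
    exact (mul_pos_iff_of_pos_left hm).1 this
  have h2 : 0 < dl c y + dl d y := by
    have : 0 < m * (dl c y + dl d y) := by rw [k2]; omega
    exact (mul_pos_iff_of_pos_left hm).1 this
  rcases pos_two hxy h1 h2 with ⟨rfl, rfl⟩ | ⟨rfl, rfl⟩
  · rfl
  · exact rt_comm _ _

theorem rt_ne_neg {x y c d : Fin n × Bool} {w : Fin n × Bool} (h : dl x w + dl y w ≠ -(dl c w + dl d w)) :
    rt x y ≠ -rt c d := by
  intro h0
  apply h
  have := congrArg (fun v => ev v w) h0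
  simp only [ev_neg, ev_rt] at this
  exact this

/-- roots orthogonal to `{f > 0}` -/
theorem zero_of {b : Fin n → ℤ} (hb : IsRoot cs (isCartan n) b) (h : ∀ w : Fin n × Bool, ev b w = 0) : False := by
  obtain ⟨c, d, hcd, rfl⟩ := exists_rt hb
  have h1 := h c
  rw [ev_rt] at h1
  have := pos_self hcd
  omega

theorem nonneg_of {x y z : Fin n × Bool} (hxy : x.1 ≠ y.1) (hxz : x.1 ≠ z.1) (hyz : y.1 ≠ z.1) {a : Fin n → ℤ}
    (ha : IsRoot cs (isCartan n) a) (h : 0 < cpr cs (isCartan n) a (rt x y) + cpr cs (isCartan n) a (rt x z)) :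
    0 ≤ cpr cs (isCartan n) a (rt x y) ∧ 0 ≤ cpr cs (isCartan n) a (rt x z) := by
  obtain ⟨c, d, hcd, rfl⟩ := exists_rt ha
  have hok := ok_iff.1 hcd
  have hok' := ok_iff.1 hcd.symm
  rw [cpr_ne cs _ hxy, cpr_ne cs _ hxz, ev_rt, ev_rt, ev_rt] at *
  rcases cases3 hxy hxz hyz c with ⟨hc, h3, h4, h7⟩ | ⟨hc, h3, h4, h7⟩ | ⟨hc, h3, h4, h7⟩ | ⟨hc, h3, h4, h7⟩ |
    ⟨hc, h3, h4, h7⟩ | ⟨hc, h3, h4, h7⟩ | ⟨hc, h3, h4, h7⟩ <;>
  rcases cases3 hxy hxz hyz d with ⟨hd, h5, h6, h8⟩ | ⟨hd, h5, h6, h8⟩ | ⟨hd, h5, h6, h8⟩ | ⟨hd, h5, h6, h8⟩ |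
      ⟨hd, h5, h6, h8⟩ | ⟨hd, h5, h6, h8⟩ | ⟨hd, h5, h6, h8⟩ <;> omega

end

end Cfsg.Agent.OddHalf.DblR.MinusComb
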