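import Cfsg.Agent.OddHalf.DblR.OneLong
import Cfsg.Agent.OddHalf.DblR.SheetMinus

/-!
# ODD, D4, row `two.ome` (`Ω⁻_{2m}(2^a)`, `m ≥ 4`, `a ≥ 2`): LEMMA INPUT and the end of case (a) (helper552)

* `dl_symm`, `orth_comb`, `two_comb` : combinatorics of the roots `± ε_i ± ε_j`;
* **`hasOneL_minus`**;
* **`false_of_pair`** : no full pair `(K, L)`, `K ≅ Ω⁻_{2m}(2^a)`, with a Sylow 2-subgroup of `K` contained in `N(L)`.
-/

set_option autoImplicit false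
set_option linter.unusedSectionVars false

namespace Cfsg.Agent.OddHalf.DblR.OneMinus

open CoxeterSystem Cfsg.Agent.ChevalleyStructure.CoxeterGeom Cfsg.Agent.Tits.Roots Cfsg.Agent.Nodes.TypeC
  Cfsg.Agent.Tits.RootComb
open Cfsg.Agent.Nodes.Comb Cfsg.Agent.Nodes.Reps Cfsg.Agent.Nodes.WittRoot Cfsg.Agent.Nodes.BNOf
  Cfsg.Agent.Nodes.StabComb Cfsg.Agent.Nodes.Coroot Cfsg.Agent.Nodes.KindBC Cfsg.Agent.Nodes.TypeCForm
  Cfsg.Agent.Nodes.Bruhat Cfsg.Agent.Nodes.PosPair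
open Cfsg.Agent Cfsg.Agent.TitsThree Cfsg.Agent.TitsThree.Siegel Cfsg.Agent.TitsThree.WittFrame
  Cfsg.Agent.TitsThree.WittWeyl Cfsg.Agent.TitsThree.FrameCN Cfsg.Agent.TitsThree.LineBorel
open Cfsg.Agent.KFacts.WittOrth Cfsg.Agent.KFacts.RgdTI Cfsg.Agent.KFacts.RgdPar
  Cfsg.Agent.KFacts.RgdOdd Cfsg.Agent.KFacts.RgdSL Cfsg.Agent.KFacts.RgdCent Cfsg.Agent.KFacts.RgdCentW
  Cfsg.Agent.OddHalf.DblR.MinusComb Cfsg.Agent.OddHalf.DblR.OneLong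
open scoped commutatorElement

section Comb

variable {n : ℕ}

theorem dl_symm (c x : Fin n × Bool) : dl c x = dl x c := by
  rcases dl_cases c x with ⟨rfl, h⟩ | ⟨h1, h⟩ | ⟨h1, h⟩
  · rfl
  · subst h1
    have h2 := dl_ng_right x x
    rw [dl_self] at h2
    rw [h, h2]
  · rw [h, dl_of_ne (Ne.symm h1)]

variable {W : Type*} [Group W] (cs : CoxeterSystem (CoxeterMatrix.B n) W) [Finite W]

theorem orth_comb (hn : 3 ≤ n) {r : Fin n → ℤ} (hr : r ∈ RB n) :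
    ∃ g, IsRoot cs (isCartan n) g ∧ cpr cs (isCartan n) g r = 0 := by
  obtain ⟨x, y, hxy, rfl⟩ := mem_RB.1 hr
  obtain ⟨z, hz⟩ := Cfsg.Agent.KFacts.SpecMinus.exists_out hn x y
  refine ⟨rt z z, isRoot_rt cs (Or.inr rfl : Ok z z), ?_⟩
  have hzx : z.1 ≠ x.1 := hz.1
  have hzy : z.1 ≠ y.1 := hz.2
  rw [cpr_ne cs _ hxy, ev_rt, ev_rt, dl_of_ne hzx, dl_of_ne hzy]
  norm_num

theorem two_comb {r : Fin n → ℤ} (hr : r ∈ RB n) {c : Fin n → ℤ} (hc : IsRoot cs (isCartan n) c)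
    (hne : c ≠ -r) (h0 : cpr cs (isCartan n) c r < 0) : cpr cs (isCartan n) c r * cpr cs (isCartan n) r c ≤ 2 := by
  obtain ⟨x, y, hxy, rfl⟩ := mem_RB.1 hr
  obtain ⟨u, v, huv, rfl⟩ := exists_rt hc
  rw [cpr_ne cs _ hxy, ev_rt, ev_rt] at h0 ⊢
  rcases huv with huv | rfl
  · rw [cpr_ne cs _ huv, ev_rt, ev_rt, dl_symm x u, dl_symm y u, dl_symm x v, dl_symm y v]
    rcases cases2 hxy u with ⟨h1, h2, h3⟩ | ⟨h1, h2, h3⟩ | ⟨h1, h2, h3⟩ | ⟨h1, h2, h3⟩ | ⟨h1, h2, h3⟩ <;>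
    rcases cases2 hxy v with ⟨h4, h5, h6⟩ | ⟨h4, h5, h6⟩ | ⟨h4, h5, h6⟩ | ⟨h4, h5, h6⟩ | ⟨h4, h5, h6⟩ <;>
    rw [h2, h3, h5, h6] at h0 ⊢ <;>
    first
    | (exfalso; omega)
    | (norm_num; done)
    | (exfalso; apply huv; rw [h1, h4]; done)
    | (exfalso; apply hne; rw [h1, h4, rt_ng]; done)
    | (exfalso; apply hne; rw [h1, h4, rt_comm, rt_ng]; done)
  · rw [cpr_same cs, ev_rt, dl_symm x u, dl_symm y u]
    rcases cases2 hxy u with ⟨h1, h2, h3⟩ | ⟨h1, h2, h3⟩ | ⟨h1, h2, h3⟩ | ⟨h1, h2, h3⟩ | ⟨h1, h2, h3⟩ <;>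
    rw [h2, h3] <;> norm_num

end Comb

/-! ### the minus form -/

section Minus

open QuadraticMap
open Cfsg.Agent.LieClassical Cfsg.Agent.LieClassical.OrthCore Cfsg.Agent.LieClassical.OrthTrans
open Cfsg.Agent.LieClassical.OrthSimple Cfsg.Agent.LieClassical.OrthFinite
open Cfsg.Agent.LieClassical.OrthForms
open Cfsg.Agent.TitsThree.KSideO Cfsg.Agent.TitsThree.StdData Cfsg.Agent.TitsThree.WBridge

variable {F : Type*} [Field F] [Finite F]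

/-- **`Ω⁻_{2m+2}(q)`, `m ≥ 3`, `q ≥ 4` even.** -/
theorem hasOneL_minus (h2 : (2 : F) = 0) (hs : ∃ s : F, s ≠ 0 ∧ s ≠ 1) {m : ℕ} (hm : 3 ≤ m) (a b : F)
    (hab : ∀ z₁ z₂ : F, z₁ ^ 2 + a * z₁ * z₂ + b * z₂ ^ 2 = 0 → z₁ = 0 ∧ z₂ = 0) :
    HasOneL (Cfsg.POmega F ⇑(minusForm m F a b)) := by
  have : CharP F 2 := CharTwo.of_one_ne_zero_of_two_eq_zero one_ne_zero h2
  have : Fact (Nat.Prime 2) := ⟨Nat.prime_two⟩
  have hm2 : 2 ≤ m := by omega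
  have O := KFacts.SpecMinus.orth_minus h2 m a b hab
  have hA := KFacts.SpecMinus.ambT_minus h2 hm2 a b hab
  obtain ⟨p0, hp0⟩ := O.p0
  let cs := (CoxeterMatrix.B m).toCoxeterSystem
  have R := Nodes.WittAll.rgdC_model (KFacts.SpecMinus.modelMinus hm2 a b hab) hA hp0 cs
  have hW : Finite (CoxeterMatrix.B m).Group := Nodes.TypeC.finite_W cs
  -- the dominant long root
  let x : Fin m × Bool := (⟨0, by omega⟩, true)
  let y : Fin m × Bool := (⟨1, by omega⟩, true)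
  have hxy : x.1 ≠ y.1 := by
    intro h
    have := congrArg Fin.val h
    simp [x, y] at this
  have hr0 : rt x y ∈ RB m := rt_mem_RB hxy
  obtain ⟨w, hw⟩ := (SheetMinus.lr_of_RB _ O R hr0).exists_dominant
  have hr : rep cs (isCartan m) w (rt x y) ∈ RB m := act_RB cs hr0 w
  refine ⟨m, CoxeterMatrix.B m, _, isCartan m, _, _, _, hW, R, rep cs (isCartan m) w (rt x y),
    { sheet := SheetMinus.sheetL_minus h2 hs hm a b hab cs R hr
      full := KFacts.SpecMinus.hasFull_model _ O hs hA cs hm hr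
      dom := hw
      orth := orth_comb cs hm hr
      two := fun c hc h0 hne => two_comb cs hr hc hne h0 }⟩

variable {G : Type*} [Group G] [Finite G]

/-- **Case (a) for `Ω⁻_{2m}(2^a)`, `m ≥ 4`, `a ≥ 2`.** -/
theorem false_of_pair {K : Subgroup G} (hK : ∃ (F : Type) (_ : Field F) (_ : Fintype F) (a m : ℕ) (b c : F), 2 ≤ a ∧
      Fintype.card F = 2 ^ a ∧ 4 ≤ m ∧ (∀ z₁ z₂ : F, z₁ ^ 2 + b * z₁ * z₂ + c * z₂ ^ 2 = 0 → z₁ = 0 ∧ z₂ = 0) ∧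
      Nonempty (↥K ≃* Cfsg.POmega F (Cfsg.quadFormMinus (m - 1) F b c)))
    (tight : Cfsg.Agent.OddHalf.D4.TightAt K) (rk : Cfsg.Agent.OddHalf.D4.Rk2 K)
    (std : ∀ g : G, ¬ ∀ k ∈ K, ∀ l ∈ Cfsg.Agent.OddHalf.D4.CommConj.cj g K, k * l = l * k)
    (core : ∀ Q : Subgroup G, Cfsg.Agent.OddHalf.D4.Basic.IsSyl Q (Subgroup.centralizer (K : Set G)) →
      ∀ P : Subgroup G, P ≤ Subgroup.centralizer (K : Set G) → (∀ x ∈ P, ∀ q ∈ Q, x * q = q * x) →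
        P ≤ ⁅P, P⁆ → P = ⊥) {L Q U S' : Subgroup G} (hp : Cfsg.Agent.OddHalf.D4.FullPair K L Q U)
    (hS' : Cfsg.Agent.OddHalf.D4.Basic.IsSyl S' K) (hS'L : S' ≤ Subgroup.normalizer (L : Set G)) : False := by
  obtain ⟨F, _, _, a, m, b, c, ha, hF, hm, hbc, ⟨e⟩⟩ := hK
  have h2 : (2 : F) = 0 := by
    have h1 : ((Fintype.card F : ℕ) : F) = 0 := FiniteField.cast_card_eq_zero F
    rw [hF] at h1
    push_cast at h1
    exact eq_zero_of_pow_eq_zero h1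
  have hs : ∃ s : F, s ≠ 0 ∧ s ≠ 1 := by
    classical
    have h1 : 2 < Fintype.card F := by
      rw [hF]
      calc 2 < 2 ^ 2 := by norm_num
        _ ≤ 2 ^ a := Nat.pow_le_pow_right (by norm_num) ha
    obtain ⟨s, hs⟩ := Finset.exists_mem_notMem_of_card_lt_card (s := ({0, 1} : Finset F)) (t := Finset.univ)
      (lt_of_le_of_lt Finset.card_le_two (by rw [Finset.card_univ]; exact h1))
    refine ⟨s, fun h0 => hs.2 (by rw [h0]; simp), fun h0 => hs.2 (by rw [h0]; simp)⟩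
  have hm1 : 3 ≤ m - 1 := by omega
  have hsimp := SheetMinus.simple_minus hm1 b c hbc
  have hY := hasOneL_minus h2 hs hm1 b c hbc
  rw [coe_minusForm] at hsimp hY
  have : Finite (Cfsg.POmega F (Cfsg.quadFormMinus (m - 1) F b c)) := Finite.of_equiv _ e.toEquiv
  exact hY.false_of_pair e.symm tight rk std core hp hS' hS'L

end Minus

end Cfsg.Agent.OddHalf.DblR.OneMinus
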