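import Cfsg.Agent.OddHalf.DblR.OneTwE6
import Cfsg.Agent.OddHalf.DblR.OneMinus
import Cfsg.Agent.OddHalf.D4.StartFree

/-!
# ODD, D4, rows `two.e6te`, `two.ome`: the glue (helper552)

* `HasOneL.innSyl` : (F1) for a group with `OneL`;
* **`row_of_one`** : a row from `HasOneL` and `Free.BFacts`;
* **`row_e6te`**, **`row_ome`** : the rows of `²E₆(2^a)`, `Ω⁻_{2m}(2^a)`, `a ≥ 2`, from `Free.BFacts`.
-/

set_option autoImplicit false
set_option linter.unusedSectionVars false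

namespace Cfsg.Agent.OddHalf.DblR.OneRow

open CoxeterSystem Cfsg.Agent.ChevalleyStructure.CoxeterGeom Cfsg.Agent.Nodes.BNOf
open Cfsg.Agent.OddHalf.DblR.OneLong
open Cfsg.Agent.OddHalf.D4 (Rk2 FullPair Cut.Row1)
open scoped commutatorElement

universe u

/-- (F1) is invariant under isomorphism. -/
theorem innSyl_congr {X Y : Type*} [Group X] [Group Y] (e : X ≃* Y) (h : D4.KPairG.InnSyl X) :
    D4.KPairG.InnSyl Y := by
  rintro S φ ⟨k, hk⟩ hφ
  let S' : Sylow 2 X := S.comapOfInjective e.toMonoidHom e.injective (by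
    rintro y -
    exact ⟨e.symm y, by simp⟩)
  have hS' : ∀ x : X, x ∈ S' ↔ e x ∈ S := fun x => Iff.rfl
  let ψ : MulAut X := (e.trans φ).trans e.symm
  have hψ : ∀ x, ψ x = e.symm (φ (e x)) := fun x => rfl
  have hpow : ∀ (j : ℕ) (x : X), (ψ ^ j) x = e.symm ((φ ^ j) (e x)) := by
    intro j
    induction j with
    | zero => intro x; simp
    | succ j ih => intro x; rw [pow_succ, MulAut.mul_apply, ih, hψ, MulEquiv.apply_symm_apply, pow_succ,
        MulAut.mul_apply]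
  obtain ⟨s, hs, e1⟩ := h S' ψ ⟨k, by
    ext x
    rw [hpow, hk]
    simp⟩ (by
    intro s hs
    rw [hψ, hφ _ ((hS' s).1 hs), MulEquiv.symm_apply_apply])
  refine ⟨e s, (hS' s).1 hs, ?_⟩
  ext y
  have h1 := congrArg (fun α : MulAut X => e (α (e.symm y))) e1
  simpa [hψ, MulAut.conj_apply] using h1

section

variable {I W Y : Type*} [Fintype I] [DecidableEq I] [Group W] [Group Y] {M : CoxeterMatrix I}
  {cs : CoxeterSystem M W} {A : I → I → ℤ} {h : IsCartan M A} {T : Subgroup Y} {n : I → Y}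
  {X : (I → ℤ) → Subgroup Y}

/-- (F1), no condition on the order of the automorphism -/
theorem oneL_inner [Finite W] [Finite Y] {R : RGD cs h 2 T n X} {r : I → ℤ} (O : OneL R r) (S : Sylow 2 Y)
    (φ : MulAut Y) (hφ : ∀ s ∈ S, φ s = s) : ∃ s ∈ S, φ = MulAut.conj s := by
  obtain ⟨S₀, hS₀⟩ := Cfsg.Agent.KFacts.RgdAutFacts.exists_sylow R O.GG_top
  obtain ⟨g, hg⟩ := MulAction.exists_smul_eq Y S₀ S
  have hmem : ∀ u, u ∈ RGD.Sup X (RGD.Pos cs h) → g * u * g⁻¹ ∈ S := by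
    intro u hu
    rw [← hg]
    show g * u * g⁻¹ ∈ ((g • S₀ : Sylow 2 Y) : Subgroup Y)
    rw [Sylow.coe_subgroup_smul, Subgroup.mem_pointwise_smul_iff_inv_smul_mem]
    have h1 : (MulAut.conj g)⁻¹ • (g * u * g⁻¹) = u := by
      show (MulAut.conj g)⁻¹ (g * u * g⁻¹) = u
      rw [MulAut.conj_inv_apply]; group
    rw [h1, hS₀]
    exact hu
  obtain ⟨x, hx, e⟩ := O.cen (MulAut.conj g⁻¹ * φ * MulAut.conj g) (by
    intro u hu
    show g⁻¹ * φ (g * u * g⁻¹) * g⁻¹⁻¹ = u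
    rw [hφ _ (hmem u hu)]; group)
  have hx' : x ∈ RGD.Sup X (RGD.Pos cs h) := RGD.le_Sup (X := X) (S := RGD.Pos cs h) ⟨O.root, O.r_pos⟩ hx
  refine ⟨g * x * g⁻¹, hmem x hx', ?_⟩
  have h2 : φ = MulAut.conj g * (MulAut.conj g⁻¹ * φ * MulAut.conj g) * MulAut.conj g⁻¹ := by
    rw [map_inv]; group
  rw [h2, e, ← map_mul, ← map_mul]

end

/-- **(F1)** -/
theorem hasOneL_innSyl {Y : Type*} [Group Y] [Finite Y] (hY : HasOneL Y) : D4.KPairG.InnSyl Y := by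
  obtain ⟨l, M, A, h, T, n, X, hM, R, r, O⟩ := hY
  exact fun S φ _ hφ => oneL_inner O S φ hφ

/-- **A row from `HasOneL` and `Free.BFacts`.** -/
theorem row_of_one (h1173 : D4.Start.P1173.{u}) (hFT : D4.StartQ.FTT.{u}) {P : (K : Type u) → [Group K] → Prop}
    (hP : ∀ (X : Type u) [Group X], P X → ∃ (Y : Type) (_ : Group Y), IsSimpleGroup Y ∧ HasOneL Y ∧ Nonempty (X ≃* Y) ∧
      ∀ (G : Type u) [Group G] [Finite G] (K : Subgroup G), Nonempty (Y ≃* ↥K) → D4.Free.BFacts K) :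
    D4.Cut.Row1.{u} P := by
  refine D4.StartQ.row_of_free' h1173 hFT ?_ ?_ ?_
  · intro X _ _ _ hX
    obtain ⟨Y, _, -, hY, ⟨e⟩, -⟩ := hP X hX
    have : Finite Y := Finite.of_equiv _ e.toEquiv
    exact innSyl_congr e.symm (hasOneL_innSyl hY)
  · intro G _ hG K hK hD hPK L Q U hp S hS hSL
    have := hG.fin
    obtain ⟨Y, _, _, hY, ⟨e⟩, -⟩ := hP ↥K hPK
    have : Finite Y := Finite.of_equiv _ e.toEquiv
    exact hY.false_of_pair e.symm hD.tight hD.rk hD.std hD.core hp hS hSL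
  · intro G _ hG K hK hD hPK g
    have := hG.fin
    obtain ⟨Y, _, -, -, ⟨e⟩, hB⟩ := hP ↥K hPK
    exact hB G _ ⟨e.symm.trans (K.equivMapOfInjective (MulAut.conj g).toMonoidHom (MulAut.conj g).injective)⟩

/-- **D4, the row of `²E₆(2^a)`, `a ≥ 2`, from `Free.BFacts`.** -/
theorem row_e6te (h1173 : D4.Start.P1173.{u}) (hFT : D4.StartQ.FTT.{u})
    (hB : ∀ (F : Type) [Field F] [Fintype F] (a : ℕ), 2 ≤ a → Fintype.card F = 4 ^ a →
      ∀ (G : Type u) [Group G] [Finite G] (K : Subgroup G), Nonempty (↥(Lie.twistedE6 F (2 ^ a)) ≃* ↥K) →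
        D4.Free.BFacts K) : D4.Cut.Row1.{u} (fun K _ => D4.Cut.E6te K) := by
  refine row_of_one h1173 hFT ?_
  rintro X _ ⟨F, _, _, a, ha, hF, ⟨e⟩⟩
  exact ⟨_, _, OneTwE6.isSimple ha hF, OneTwE6.hasOneL_twE6 ha hF, ⟨e⟩, fun G _ _ K he => hB F a ha hF G K he⟩

/-- **D4, the row of `Ω⁻_{2m}(2^a)`, `a ≥ 2`, `m ≥ 4`, from `Free.BFacts`.** -/
theorem row_ome (h1173 : D4.Start.P1173.{u}) (hFT : D4.StartQ.FTT.{u})
    (hB : ∀ (F : Type) [Field F] [Fintype F] (a m : ℕ) (b c : F), 2 ≤ a → Fintype.card F = 2 ^ a → 3 ≤ m →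
      (∀ z₁ z₂ : F, z₁ ^ 2 + b * z₁ * z₂ + c * z₂ ^ 2 = 0 → z₁ = 0 ∧ z₂ = 0) →
      ∀ (G : Type u) [Group G] [Finite G] (K : Subgroup G),
        Nonempty (Cfsg.POmega F (Cfsg.quadFormMinus m F b c) ≃* ↥K) → D4.Free.BFacts K) :
    D4.Cut.Row1.{u} (fun K _ => D4.Cut.Ome K) := by
  refine row_of_one h1173 hFT ?_
  rintro X _ ⟨F, _, _, a, m, b, c, ha, hF, hm, hbc, ⟨e⟩⟩
  have h2 : (2 : F) = 0 := by
    have h1 : ((Fintype.card F : ℕ) : F) = 0 := FiniteField.cast_card_eq_zero F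
    rw [hF] at h1
    push_cast at h1
    exact eq_zero_of_pow_eq_zero h1
  have hs : ∃ s : F, s ≠ 0 ∧ s ≠ 1 := by
    classical
    have h1 : 2 < Fintype.card F := by
      rw [hF]
      calc 2 < 2 ^ 2 := by norm_num
        _ ≤ 2 ^ a := Nat.pow_le_pow_right (by norm_num) ha
    obtain ⟨s, hs⟩ := Finset.exists_mem_notMem_of_card_lt_card (s := ({0, 1} : Finset F)) (t := Finset.univ)
      (lt_of_le_of_lt Finset.card_le_two (by rw [Finset.card_univ]; exact h1))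
    refine ⟨s, fun h0 => hs.2 (by rw [h0]; simp), fun h0 => hs.2 (by rw [h0]; simp)⟩
  have hm1 : 3 ≤ m - 1 := by omega
  have hsimp := SheetMinus.simple_minus hm1 b c hbc
  have hY := OneMinus.hasOneL_minus h2 hs hm1 b c hbc
  rw [Cfsg.Agent.LieClassical.OrthForms.coe_minusForm] at hsimp hY
  exact ⟨_, _, hsimp, hY, ⟨e⟩, fun G _ _ K he => hB F a (m - 1) b c ha hF hm1 hbc G K he⟩

end Cfsg.Agent.OddHalf.DblR.OneRow
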