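import Cfsg.Agent.OddHalf.DblR.Fam
import Cfsg.Agent.OddHalf.DblR.TriP

/-!
# ODD, D4: transport of the doubled root group, product version

`KTriP` : as `KTri`, with `lact` (products of conjugates under elements of the torus centralising `X_s`) in place of
transitivity: needed for `L_3(q)`, `G_2(q)`, `q ≡ 1 (mod 3)`.
* **`KTriP.false`**, **`KTriP.no_pair`** : as for `KTri`.
-/

set_option autoImplicit false

namespace Cfsg.Agent.OddHalf.DblR

open Cfsg.Agent.Nodes.Reps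

variable {G : Type*} [Group G]

/-- **The hypotheses on `K` for three roots `r`, `s`, `d = r + s`.** -/
structure KTriP (K R T Xr Xs Xd Pr Ps Pd Yr Ys Y : Subgroup G) (n m : G) : Prop where
  XrPd : Xr ≤ Pd
  XsPd : Xs ≤ Pd
  XdPr : Xd ≤ Pr
  XdPs : Xd ≤ Ps
  TK : T ≤ K
  Tab : ∀ h ∈ T, ∀ k ∈ T, h * k = k * h
  Todd : ∀ h ∈ T, ∃ l : ℕ, Odd l ∧ h ^ l = 1
  TXr : ∀ h ∈ T, cj h Xr = Xr
  TXs : ∀ h ∈ T, cj h Xs = Xs
  TXd : ∀ h ∈ T, cj h Xd = Xd
  nK : n ∈ K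
  nX : cj n Xr = Xd
  mK : m ∈ K
  mX : cj m Xs = Xd
  Ttr : ∀ x ∈ Xr, x ≠ 1 → ∀ x' ∈ Xr, x' ≠ 1 → ∃ h ∈ T, h * x * h⁻¹ = x'
  Tts : ∀ x ∈ Xs, x ≠ 1 → ∀ x' ∈ Xs, x' ≠ 1 → ∃ h ∈ T, h * x * h⁻¹ = x'
  trr : ∀ x ∈ Xr, x ≠ 1 → ∀ x' ∈ Xr, ∃ l : List G,
    (∀ h ∈ l, h ∈ T ∧ (∀ y ∈ Xs, h * y = y * h) ∧ h * n = n * h) ∧ lact l x = x'
  trs : ∀ x ∈ Xs, x ≠ 1 → ∀ x' ∈ Xs, ∃ l : List G,
    (∀ h ∈ l, h ∈ T ∧ (∀ y ∈ Xr, h * y = y * h) ∧ h * m = m * h) ∧ lact l x = x'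
  k1r : ∃ κ ∈ T, (∀ y ∈ Xs, κ * y = y * κ) ∧ (∀ x ∈ Xr, κ * x = x * κ → x = 1) ∧ (∀ x ∈ Xd, κ * x = x * κ → x = 1)
  k1s : ∃ κ ∈ T, (∀ y ∈ Xr, κ * y = y * κ) ∧ (∀ x ∈ Xs, κ * x = x * κ → x = 1) ∧ (∀ x ∈ Xd, κ * x = x * κ → x = 1)
  k3r : ∃ κ ∈ T, (∀ y ∈ Xd, κ * y = y * κ) ∧ (∀ x ∈ Xr, κ * x = x * κ → x = 1)
  k3s : ∃ κ ∈ T, (∀ y ∈ Xd, κ * y = y * κ) ∧ (∀ x ∈ Xs, κ * x = x * κ → x = 1)
  cmX : ∀ x ∈ Xr, ∀ y ∈ Xs, x * y * x⁻¹ * y⁻¹ ∈ Xd
  nd : ∀ x ∈ Xr, ∀ y ∈ Xs, x * y = y * x → x = 1 ∨ y = 1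
  big : ∃ x ∈ Xr, ∃ x' ∈ Xr, x ≠ 1 ∧ x' ≠ 1 ∧ x ≠ x'
  disr : ∀ x ∈ Xr, x ∈ Xd → x = 1
  diss : ∀ x ∈ Xs, x ∈ Xd → x = 1
  YrPr : Yr ≤ Pr
  YrPd : Yr ≤ Pd
  YrN : ∀ x ∈ Xs, ∀ y ∈ Yr, x * y * x⁻¹ ∈ Yr
  K2r : ∀ c : G, (∀ a ∈ R, c * a = a * c) → (∀ y ∈ Yr, c * y = y * c) →
    ∃ x ∈ Xr, ∃ z ∈ Xd, (x * z)⁻¹ * c ∈ C1 K R
  YsPs : Ys ≤ Ps
  YsPd : Ys ≤ Pd
  YsN : ∀ x ∈ Xr, ∀ y ∈ Ys, x * y * x⁻¹ ∈ Ys
  K2s : ∀ c : G, (∀ a ∈ R, c * a = a * c) → (∀ y ∈ Ys, c * y = y * c) →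
    ∃ x ∈ Xs, ∃ z ∈ Xd, (x * z)⁻¹ * c ∈ C1 K R
  YPr : Y ≤ Pr
  YPs : Y ≤ Ps
  YPd : Y ≤ Pd
  K1 : ∀ c : G, (∀ a ∈ R, c * a = a * c) → (∀ x ∈ Xr, c * x = x * c) → (∀ x ∈ Xs, c * x = x * c) →
    (∀ y ∈ Y, c * y = y * c) → ∃ z ∈ Xd, z⁻¹ * c ∈ C1 K R

theorem KTriP.triP {K R T Xr Xs Xd Pr Ps Pd Yr Ys Y : Subgroup G} {n m : G}
    (H : KTriP K R T Xr Xs Xd Pr Ps Pd Yr Ys Y n m) (A : Amb K R) {P X W : Subgroup G} (B : Base K R P X W)
    {a b c : G} (ha : a ∈ K) (hb : b ∈ K) (hc : c ∈ K) (eXa : cj a X = Xr) (eXb : cj b X = Xs) (eXc : cj c X = Xd)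
    (ePa : cj a P = Pr) (ePb : cj b P = Ps) (ePc : cj c P = Pd) :
    TriP K R T Xr Xs Xd (cj a W) (cj b W) (cj c W) Pr Ps Pd Yr Ys Y n m := by
  subst eXa eXb eXc ePa ePb ePc
  -- invariance
  have inv : ∀ {a b k : G}, a ∈ K → b ∈ K → k ∈ K → cj k (cj a X) = cj b X → cj k (cj a W) = cj b W := by
    intro a b k ha hb hk h
    rw [← cj_mul] at h ⊢
    exact B.cj_eq (mul_mem hk ha) hb h
  have inv1 : ∀ {a k w : G}, a ∈ K → k ∈ K → cj k (cj a X) = cj a X → w ∈ cj a W → k * w * k⁻¹ ∈ cj a W := by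
    intro a k w ha hk h hw
    rw [← inv ha ha hk h]
    exact conj_mem_cj.2 hw
  have invX : ∀ {k x : G} {A B : Subgroup G}, cj k A = B → x ∈ A → k * x * k⁻¹ ∈ B := by
    intro k x A B h hx
    rw [← h]
    exact conj_mem_cj.2 hx
  have invX' : ∀ {k x : G} {A B : Subgroup G}, cj k A = B → x ∈ B → k⁻¹ * x * k ∈ A := by
    intro k x A B h hx
    rw [← h] at hx
    exact mem_cj.1 hx
  exact
    { A := A
      Dr := B.dw.conj A ha
      Ds := B.dw.conj A hb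
      Dd := B.dw.conj A hc
      XrPd := H.XrPd
      XsPd := H.XsPd
      XdPr := H.XdPr
      XdPs := H.XdPs
      TK := H.TK
      Tab := H.Tab
      Todd := H.Todd
      TXr := fun h hh x hx => invX (H.TXr h hh) hx
      TXs := fun h hh x hx => invX (H.TXs h hh) hx
      TXd := fun h hh x hx => invX (H.TXd h hh) hx
      TWr := fun h hh x hx => inv1 ha (H.TK hh) (H.TXr h hh) hx
      TWs := fun h hh x hx => inv1 hb (H.TK hh) (H.TXs h hh) hx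
      TWd := fun h hh x hx => inv1 hc (H.TK hh) (H.TXd h hh) hx
      nK := H.nK
      nX := fun x hx => invX H.nX hx
      nX' := fun x hx => invX' H.nX hx
      nW' := fun x hx => invX' (inv ha hc H.nK H.nX) hx
      mK := H.mK
      mX := fun x hx => invX H.mX hx
      mX' := fun x hx => invX' H.mX hx
      mW' := fun x hx => invX' (inv hb hc H.mK H.mX) hx
      Ttr := H.Ttr
      Tts := H.Tts
      trr := H.trr
      trs := H.trs
      k1r := H.k1r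
      k1s := H.k1s
      k3r := H.k3r
      k3s := H.k3s
      cmX := H.cmX
      nd := H.nd
      bigr := H.big
      bigs := by
        obtain ⟨x, hx, x', hx', h1, h1', hne⟩ := H.big
        have key : ∀ y : G, y ≠ 1 → m⁻¹ * (n * y * n⁻¹) * m ≠ 1 := by
          intro y hy h0
          apply hy
          calc y = n⁻¹ * (m * (m⁻¹ * (n * y * n⁻¹) * m) * m⁻¹) * n := by group
            _ = 1 := by rw [h0]; group
        refine ⟨_, invX' H.mX (invX H.nX hx), _, invX' H.mX (invX H.nX hx'), key x h1, key x' h1', ?_⟩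
        intro h0
        apply hne
        calc x = n⁻¹ * (m * (m⁻¹ * (n * x * n⁻¹) * m) * m⁻¹) * n := by group
          _ = n⁻¹ * (m * (m⁻¹ * (n * x' * n⁻¹) * m) * m⁻¹) * n := by rw [h0]
          _ = x' := by group
      disr := H.disr
      diss := H.diss
      YrPr := H.YrPr
      YrPd := H.YrPd
      YrN := H.YrN
      K2r := H.K2r
      YsPs := H.YsPs
      YsPd := H.YsPd
      YsN := H.YsN
      K2s := H.K2s
      YPr := H.YPr
      YPs := H.YPs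
      YPd := H.YPd
      K1 := H.K1 }

/-- **No `g` normalising `P`, `Q`, `X`, `R X` moves `R`.** -/
theorem KTriP.false [Finite G] {K R T Xr Xs Xd Pr Ps Pd Yr Ys Y P Q X T0 : Subgroup G} {n m : G}
    (H : KTriP K R T Xr Xs Xd Pr Ps Pd Yr Ys Y n m) (L : Loc K R P Q X T0) (N : NorX K P X T0)
    {a b c : G} (ha : a ∈ K) (hb : b ∈ K) (hc : c ∈ K) (eXa : cj a X = Xr) (eXb : cj b X = Xs) (eXc : cj c X = Xd)
    (ePa : cj a P = Pr) (ePb : cj b P = Ps) (ePc : cj c P = Pd)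
    {t t' : G} (ht : t ∈ R) (ht1 : t ≠ 1) (ht' : t' ∈ R) (ht1' : t' ≠ 1) (hne : t' ≠ t)
    {g : G} (gP : cj g P = P) (gQ : cj g Q = Q) (gX : cj g X = X)
    (gR : ∀ a ∈ R, ∃ b ∈ R, ∃ x ∈ X, g * a * g⁻¹ = b * x) (hg : ∃ a ∈ R, g * a * g⁻¹ ∉ R) : False := by
  have invX : ∀ {k x : G} {A : Subgroup G}, cj k A = A → x ∈ A → k * x * k⁻¹ ∈ A := by
    intro k x A h hx
    have := conj_mem_cj (g := k).2 hx
    rwa [h] at this
  obtain ⟨h0, hh0, -, W, D, -, -, -, hW⟩ := L.exists_dw (fun p hp => invX gP hp) (fun p hp => invX gQ hp)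
    (fun p hp => invX gX hp) gR hg
  have B : Base K R P X W := by
    refine ⟨D, ?_⟩
    have key : ∀ k ∈ K, cj k X = X → cj k W ≤ W := by
      intro k hk hX
      rintro w hw
      rw [mem_cj] at hw
      obtain ⟨p, hp, e⟩ := N.nh k hk hX h0 hh0
      have := hW k hk ⟨p, hp, e⟩ (fun p hp => invX (N.nP k hk hX) hp) (fun x hx => invX hX hx) _ hw
      have e2 : k * (k⁻¹ * w * k) * k⁻¹ = w := by group
      rwa [e2] at this
    intro k hk hX
    apply le_antisymm (key k hk hX)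
    have hX' : cj k⁻¹ X = X := by
      conv_lhs => rw [← hX]
      exact cj_inv_cj k X
    have := cj_mono k (key k⁻¹ (inv_mem hk) hX')
    rwa [cj_cj_inv] at this
  exact hne ((H.triP L.amb B ha hb hc eXa eXb eXc ePa ePb ePc).eq_of_ne_one ht ht1 ht' ht1')

/-- **No commuting pair of root type.** `res S` is a subgroup attached to `S`, compatible with conjugation (e.g. the
last term of the derived series of the centraliser), which is `P` for `R < S ≤ R X`. -/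
theorem KTriP.no_pair [Finite G] {K R T Xr Xs Xd Pr Ps Pd Yr Ys Y P Q X T0 : Subgroup G} {n m : G}
    (H : KTriP K R T Xr Xs Xd Pr Ps Pd Yr Ys Y n m) (L : Loc K R P Q X T0) (N : NorX K P X T0)
    {a b c : G} (ha : a ∈ K) (hb : b ∈ K) (hc : c ∈ K) (eXa : cj a X = Xr) (eXb : cj b X = Xs) (eXc : cj c X = Xd)
    (ePa : cj a P = Pr) (ePb : cj b P = Ps) (ePc : cj c P = Pd)
    {t t' : G} (ht : t ∈ R) (ht1 : t ≠ 1) (ht' : t' ∈ R) (ht1' : t' ≠ 1) (hne : t' ≠ t)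
    (res : Subgroup G → Subgroup G) (hres : ∀ (g : G) (S : Subgroup G), res (cj g S) = cj g (res S))
    (hresP : ∀ S : Subgroup G, R ≤ S → S ≤ R ⊔ X → ¬ S ≤ R → res S = P)
    (hPQ : ∀ g : G, cj g P = P → cj g Q = Q ∧ cj g X = X)
    {g k : G} (hk : k ∈ K) (hg1 : cj g R ≤ R ⊔ X) (hg2 : R ≤ cj g (R ⊔ cj k X)) (hg3 : ¬ cj g R ≤ R) : False := by
  have hkR : cj k R = R := by
    apply le_antisymm
    · intro x hx
      rw [mem_cj] at hx
      have h1 := L.amb.comm _ hx k hk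
      have : x = k⁻¹ * x * k := by
        calc x = k * (k⁻¹ * x * k) * k⁻¹ := by group
          _ = (k⁻¹ * x * k) * k * k⁻¹ := by rw [← h1]
          _ = _ := by group
      rw [this]; exact hx
    · intro x hx
      rw [mem_cj]
      have h1 := L.amb.comm x hx k hk
      have : k⁻¹ * x * k = x := by rw [mul_assoc, h1]; group
      rwa [this]
  set S := R ⊔ cj g R with hS
  have h1 : res S = P := hresP S le_sup_left (sup_le le_sup_left hg1) fun h => hg3 (le_sup_right.trans h)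
  -- conjugate back
  have hgk : cj (g * k) R = cj g R := by rw [cj_mul, hkR]
  have h2 : res (cj (g * k)⁻¹ S) = P := by
    apply hresP
    · rw [← cj_le_cj_iff (g * k), cj_cj_inv, hgk]; exact le_sup_right
    · rw [← cj_le_cj_iff (g * k), cj_cj_inv, cj_sup, hgk]
      refine sup_le ?_ le_sup_left
      refine hg2.trans ?_
      rw [cj_sup, cj_mul]
    · intro h0
      have h3 := cj_mono (g * k) h0
      rw [cj_cj_inv, hgk] at h3
      apply hg3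
      -- `R ≤ cj g R`, equality by cardinality
      have h4 : R ≤ cj g R := le_sup_left.trans h3
      have h5 : Nat.card ↥(cj g R) = Nat.card ↥R :=
        (Nat.card_congr (R.equivMapOfInjective _ (MulAut.conj g).injective).toEquiv).symm
      exact (Subgroup.eq_of_le_of_card_ge h4 h5.le).ge
  have h3 : cj (g * k) P = P := by
    rw [hres, h1] at h2
    conv_lhs => rw [← h2]
    exact cj_cj_inv _ _
  obtain ⟨h4, h5⟩ := hPQ _ h3
  refine H.false L N ha hb hc eXa eXb eXc ePa ePb ePc ht ht1 ht' ht1' hne (g := g * k) h3 h4 h5 ?_ ?_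
  · intro a ha
    have h6 : g * k * a * (g * k)⁻¹ ∈ R ⊔ X := by
      apply hg1
      rw [← hgk]
      exact conj_mem_cj.2 ha
    have h7 : R ≤ Subgroup.normalizer (X : Set G) := by
      intro r hr
      rw [mem_normalizer_iff_cj]
      have key : ∀ r ∈ R, cj r X ≤ X := by
        intro r hr x hx
        rw [mem_cj] at hx
        have h8 := L.amb.comm r hr _ (L.PK (L.QP (L.XQ hx)))
        have : x = r⁻¹ * x * r := by
          calc x = r * (r⁻¹ * x * r) * r⁻¹ := by group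
            _ = (r⁻¹ * x * r) * r * r⁻¹ := by rw [h8]
            _ = _ := by group
        rw [this]; exact hx
      apply le_antisymm (key r hr)
      have := cj_mono r (key r⁻¹ (inv_mem hr))
      rwa [cj_cj_inv] at this
    have h8 : g * k * a * (g * k)⁻¹ ∈ ((R ⊔ X : Subgroup G) : Set G) := h6
    rw [Subgroup.coe_mul_of_left_le_normalizer_right R X h7] at h8
    obtain ⟨b, hb, x, hx, e⟩ := h8
    exact ⟨b, hb, x, hx, e.symm⟩
  · by_contra hcon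
    push Not at hcon
    apply hg3
    intro x hx
    rw [← hgk, mem_cj] at hx
    have := hcon _ hx
    have e : g * k * ((g * k)⁻¹ * x * (g * k)) * (g * k)⁻¹ = x := by group
    rwa [e] at this

end Cfsg.Agent.OddHalf.DblR
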