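import Cfsg.Agent.OddHalf.DblR.RowL
import Cfsg.Agent.KFacts.TwESix.Cent
import Cfsg.Agent.KFacts.TwESix.Tor
import Cfsg.Agent.Schreier.TwESix
import Cfsg.Agent.S1070

/-!
# ODD, D4: `SheetL` for `²E₆(q)`, `q` even

helper328. `sheetL` : the facts for a root group datum of type `F₄` with `Facts.Dat`; `sheetL_twE6` : `²E₆(q)`.
-/

set_option autoImplicit false
set_option linter.unusedSectionVars false

namespace Cfsg.Agent.OddHalf.DblR.SheetTwESix

open CoxeterSystem Cfsg.Agent.ChevalleyStructure.CoxeterGeom Cfsg.Agent.Tits.Roots Cfsg.Agent.Tits.Core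
  Cfsg.Agent.Tits.RootComb Cfsg.Agent.Tits.Exchange Cfsg.Agent.Nodes.Reps Cfsg.Agent.Nodes.BNOf
  Cfsg.Agent.Nodes.StabComb Cfsg.Agent.Nodes.Bruhat Cfsg.Agent.Nodes.OppDec Cfsg.Agent.Nodes.LeviDec
  Cfsg.Agent.Nodes.Coroot Cfsg.Agent.Nodes.PosPair Cfsg.Agent.KFacts.RgdPar Cfsg.Agent.KFacts.RgdSL
  Cfsg.Agent.KFacts.RgdTI Cfsg.Agent.KFacts.RgdCent Cfsg.Agent.KFacts.RgdEx
  Cfsg.Agent.KFacts.RgdCentW Cfsg.Agent.Nodes.RGDTwE6 Cfsg.Agent.KFacts.TwESix.Comb
  Cfsg.Agent.KFacts.TwESix.CombRho Cfsg.Agent.KFacts.TwESix.Facts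
open scoped commutatorElement

variable {W Y : Type*} [Group W] [Group Y] {cs : CoxeterSystem CoxeterMatrix.F₄ W} {T : Subgroup Y} {n : Fin 4 → Y}
  {X : (Fin 4 → ℤ) → Subgroup Y} {R : RGD cs isCartan 2 T n X}

/-! ### combinatorics -/

theorem short_orth : ∀ a ∈ rts, bf a a = 2 → ∃ y ∈ rts, bf y y = 2 ∧ bf a y = 0 := by decide +kernel

theorem long_le : ∀ a ∈ rts, bf a a = 4 → ∀ y ∈ rts, y = a ∨ bf y a ≤ 2 := by decide +kernel

theorem tri_comb : ∀ r ∈ rts, bf r r = 4 → ∃ s ∈ rts, (bf s s = 4 ∧ bf r s = -2) ∧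
    (∃ g ∈ rts, (bf g g = 4 ∧ bf g s = 0) ∧ bf g r = -2) ∧
    ∃ g' ∈ rts, (bf g' g' = 4 ∧ bf g' r = 0) ∧ bf g' s = -2 := by decide +kernel

/-- `LG` = long -/
theorem long_of_LG (D : Dat R) {a : Fin 4 → ℤ} (L : LG R a) : bf a a = 4 := by
  have : Finite W := finiteW cs
  rcases norm cs L.lr.root with h1 | h1
  · exact h1
  · exfalso
    obtain ⟨y, hy, h2, h3⟩ := short_orth a ((mem_rts cs).1 L.lr.root) h1
    have hyr := (mem_rts cs).2 hy
    obtain ⟨u, hu, hu1⟩ := exists_ne_one R L.lr.root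
    obtain ⟨v, hv, h4⟩ := orth_nd D L.lr.root hyr h1 h2 h3 hu hu1
    have h5 := cpr_short cs y L.lr.root h1
    rw [bf_comm, h3] at h5
    exact h4 (L.lr.comm y hyr h5.ge v hv u hu).symm

theorem LG_of_long (D : Dat R) {a : Fin 4 → ℤ} (ha : IsRoot cs isCartan a) (hl : bf a a = 4) : LG R a := by
  have : Finite W := finiteW cs
  refine LG.of_le (D.lr a ha hl) fun y hy hne => ?_
  have h1 := cpr_long cs y ha hl
  rcases long_le a ((mem_rts cs).1 ha) hl y ((mem_rts cs).1 hy) with h2 | h2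
  · exact absurd h2 hne
  · omega

/-- **`SheetL`** for a root group datum of type `F₄` with `Facts.Dat`. -/
theorem sheetL [Finite W] (D : Dat R) (top : RGD.Sup X {x | IsRoot cs isCartan x} = ⊤)
    (tab : ∀ s ∈ T, ∀ t ∈ T, s * t = t * s) (hN : NoCent cs isCartan T X)
    (out : ∀ H : Subgroup (MulAut Y), H ≤ ⁅H, H⁆ → ∀ α ∈ H, ∃ y, α = MulAut.conj y)
    {r : Fin 4 → ℤ} (hr : IsRoot cs isCartan r) (hl : bf r r = 4) : SheetL R r where
  top := top
  tab := tab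
  long := LG_of_long D hr hl
  tri := by
    obtain ⟨s, hs, ⟨h1, h2⟩, ⟨g, hg, ⟨h3, h4⟩, h5⟩, g', hg', ⟨h6, h7⟩, h8⟩ := tri_comb r ((mem_rts cs).1 hr) hl
    have hs' := (mem_rts cs).2 hs
    have hgr := (mem_rts cs).2 hg
    have hgr' := (mem_rts cs).2 hg'
    refine ⟨s, g, g', a2 cs hr hs' (by rw [hl, h1]) (by rw [h2, hl]; norm_num),
      torTr_of_A2 R ?_ (a2 cs hgr hr (by rw [h3, hl]) (by rw [h5, h3]; norm_num)),
      torTr_of_A2 R ?_ (a2 cs hgr' hs' (by rw [h6, h1]) (by rw [h8, h6]; norm_num))⟩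
    · have := cpr_long cs g hs' h1
      omega
    · have := cpr_long cs g' hr hl
      omega
  k1 := by
    intro a La α hα
    exact Cfsg.Agent.KFacts.TwESix.Cent.aut_k1 D La.lr.root (long_of_LG D La) hN top
      fun b hb hba v hv => hα b ⟨hb, hba⟩ v hv
  k2 := by
    intro a b La Lb hab α hα
    have ha := La.lr.root
    have hb := Lb.lr.root
    have hal := long_of_LG D La
    have hbl := long_of_LG D Lb
    have h1 := cpr_long cs a hb hbl
    have hab2 : bf a b = 2 := by omega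
    obtain ⟨x, hx, y, hy, e⟩ := Cfsg.Agent.KFacts.TwESix.Cent.aut_k2 D ha hal hb hbl hab2 hN top
      (fun c hc hcab v hv => by
        have h2 := cpr_long cs c ha hal
        have h3 := cpr_long cs c hb hbl
        obtain ⟨h4, h5⟩ := Cfsg.Agent.KFacts.TwESix.CentComb.g2 a ((mem_rts cs).1 ha) hal b ((mem_rts cs).1 hb) hbl hab2
          c ((mem_rts cs).1 hc) (by omega)
        exact hα c ⟨hc, by omega, by omega⟩ v hv)
    exact ⟨x * y, mul_mem (Subgroup.mem_sup_left hx) (Subgroup.mem_sup_right hy), e⟩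
  perf := by
    obtain ⟨w, hw⟩ := exists_rep_long cs hr hl
    obtain ⟨w', hw'⟩ := exists_rep_long cs (rho_root cs) rho_long
    have h1 : rep cs isCartan (w * w'⁻¹) rho = r := by
      rw [rep_mul_apply]
      conv_lhs => rw [← hw']
      rw [rep_inv_apply, hw]
    obtain ⟨k, hk⟩ := exists_rp cs R.nsys (w * w'⁻¹)
    have h2 : cj k (RGD.Sup X (Ge cs isCartan rho)) = RGD.Sup X (Ge cs isCartan r) := by
      rw [cj_Sup_Ge R (rho_root cs) hk, h1]
    have h3 := (Cfsg.Agent.KFacts.TwESix.QRho.perfect D).ge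
    rw [← h2, ← cj_commutator]
    exact cj_mono k h3
  out := out

section Model

open Cfsg.Lie Cfsg.Agent.Nodes.RGDTwGen Cfsg.Agent.Nodes.RGDFold Cfsg.Agent.Nodes.RGDFoldSL

universe u

variable {K : Type u} [Field K] [Fintype K] {q : ℕ} {φ : K →+* K}

theorem isPrimePow_q (hK : Fintype.card K = q ^ 2) : IsPrimePow q := by
  have h1 : IsPrimePow (Fintype.card K) := FiniteField.isPrimePow_card K
  rw [hK] at h1
  exact (isPrimePow_pow_iff (by norm_num)).1 h1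

theorem center_eq_bot (hK : Fintype.card K = q ^ 2) : Subgroup.center ↥(twistedE6 K q) = ⊥ := by
  obtain ⟨h1, h2⟩ := Cfsg.Agent.S1070.result (isPrimePow_q hK) hK
  rcases h1.eq_bot_or_eq_top_of_normal (Subgroup.center ↥(twistedE6 K q)) inferInstance with h3 | h3
  · exact h3
  · exfalso
    apply h2
    refine ⟨⟨fun a b => ?_⟩⟩
    have : a ∈ Subgroup.center ↥(twistedE6 K q) := by rw [h3]; trivial
    exact (Subgroup.mem_center_iff.1 this b).symm

/-- **`SheetL` for `²E₆(q)`, `q` even.** -/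
theorem sheetL_twE6 [CharP K 2] (cs : CoxeterSystem CoxeterMatrix.F₄ W) [Finite W] (hφ : ∀ x, φ x = x ^ q)
    (hqq : ∀ t : K, (t ^ q) ^ q = t) (hK : Fintype.card K = q ^ 2) (hq1 : 1 < q) {r : Fin 4 → ℤ}
    (hr : IsRoot cs isCartan r) (hl : bf r r = 4) : SheetL (rgd cs hφ hqq 2) r := by
  have top := Cfsg.Agent.KFacts.TwESix.OutTwo.G1_top cs hφ hqq
  refine sheetL (Cfsg.Agent.KFacts.TwESix.Dat.dat cs hφ hqq hK hq1) top
    (Cfsg.Agent.KFacts.TwESix.Tor.T_comm (K := K) (q := q)) ?_ ?_ hr hl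
  · refine noCent_of_center (rgd cs hφ hqq 2) ?_ (center_eq_bot hK)
    exact top
  · intro H hH α hα
    have h1 := Cfsg.Agent.Schreier.TwESix.sch (isPrimePow_q hK) hK H (le_antisymm (Subgroup.commutator_le_self _) hH) hα
    obtain ⟨y, hy⟩ := h1
    exact ⟨y, hy.symm⟩

end Model

end Cfsg.Agent.OddHalf.DblR.SheetTwESix
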