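import Cfsg.Agent.Nodes.KindBC
import Cfsg.Agent.KFacts.RgdSL
import Cfsg.Agent.KFacts.RgdTI
import Cfsg.Agent.KFacts.RgdPar

/-!
# ODD, D4: the root system `B_n` with the labels `C_n`, combinatorics of the roots `± ε_i ± ε_j`

helper328.

* `ev v x` : the coordinate of `v` at the signed index `x`; `dl c x` : its value for `wt c`;
* `a2_rt` : `rt x y`, `rt (ng y) z` form an `A2`-pair;
* `two_rt` : the only root at acute angles with both is the sum.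
-/

set_option autoImplicit false
set_option linter.unusedSectionVars false

namespace Cfsg.Agent.OddHalf.DblR.MinusComb

open CoxeterSystem Cfsg.Agent.ChevalleyStructure.CoxeterGeom Cfsg.Agent.Tits.Roots Cfsg.Agent.Tits.Core
  Cfsg.Agent.Tits.RootComb Cfsg.Agent.Nodes.TypeC
  Cfsg.Agent.Nodes.Comb Cfsg.Agent.Nodes.Reps Cfsg.Agent.Nodes.BNOf
  Cfsg.Agent.Nodes.StabComb Cfsg.Agent.Nodes.Coroot Cfsg.Agent.Nodes.KindBC Cfsg.Agent.Nodes.TypeCForm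
  Cfsg.Agent.Nodes.PosPair Cfsg.Agent.KFacts.RgdSL Cfsg.Agent.KFacts.RgdTI Cfsg.Agent.KFacts.RgdPar

variable {n : ℕ}

/-- the coordinate of `v` at the signed index `x` -/
def ev (v : Fin n → ℤ) (x : Fin n × Bool) : ℤ := ee v x.1 * sn x

/-- the coordinate of `wt c` at the signed index `x` -/
def dl (c x : Fin n × Bool) : ℤ := if c = x then 1 else if c = ng x then -1 else 0

theorem sn_ng (x : Fin n × Bool) : sn (ng x) = -sn x := by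
  unfold sn
  rcases x with ⟨i, b⟩
  cases b <;> rfl

theorem sn_sq (x : Fin n × Bool) : sn x * sn x = 1 := by
  rcases sn_eq_one_or x with h | h <;> rw [h] <;> norm_num

theorem dl_self (x : Fin n × Bool) : dl x x = 1 := if_pos rfl

theorem ng_ne (x : Fin n × Bool) : ng x ≠ x := by
  intro h
  have := congrArg Prod.snd h
  rcases x with ⟨i, b⟩
  cases b <;> simp [ng] at this

theorem dl_ng (x : Fin n × Bool) : dl (ng x) x = -1 := by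
  unfold dl
  rw [if_neg (ng_ne x), if_pos rfl]

theorem dl_of_ne {c x : Fin n × Bool} (h : c.1 ≠ x.1) : dl c x = 0 := by
  unfold dl
  rw [if_neg (by rintro rfl; exact h rfl), if_neg (by rintro rfl; exact h rfl)]

theorem cases_eq {c x : Fin n × Bool} (h : c.1 = x.1) : c = x ∨ c = ng x := by
  rcases c with ⟨i, b⟩
  rcases x with ⟨j, b'⟩
  simp only at h
  subst h
  cases b <;> cases b' <;> simp [ng]

theorem dl_cases (c x : Fin n × Bool) : (c = x ∧ dl c x = 1) ∨ (c = ng x ∧ dl c x = -1) ∨ (c.1 ≠ x.1 ∧ dl c x = 0) := by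
  by_cases h : c.1 = x.1
  · rcases cases_eq h with rfl | rfl
    · exact Or.inl ⟨rfl, dl_self _⟩
    · exact Or.inr (Or.inl ⟨rfl, dl_ng _⟩)
  · exact Or.inr (Or.inr ⟨h, dl_of_ne h⟩)

theorem dl_ng_right (c x : Fin n × Bool) : dl c (ng x) = -dl c x := by
  rcases dl_cases c x with ⟨rfl, h⟩ | ⟨rfl, h⟩ | ⟨h1, h⟩
  · rw [h]
    have := dl_ng (ng c)
    rwa [ng_ng] at this
  · rw [h, dl_self]; norm_num
  · rw [h, dl_of_ne (x := ng x) h1]; norm_num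

theorem wt_ev (c x : Fin n × Bool) : wt c x.1 * sn x = dl c x := by
  rcases dl_cases c x with ⟨rfl, h⟩ | ⟨rfl, h⟩ | ⟨h1, h⟩
  · rw [h, wt_apply_self, sn_sq]
  · rw [h, wt_ng, Pi.neg_apply, wt_apply_self, neg_mul, sn_sq]
  · rw [h, wt_apply_ne (Ne.symm h1), zero_mul]

theorem ev_rt (c d x : Fin n × Bool) : ev (rt c d) x = dl c x + dl d x := by
  unfold ev
  rw [ee_rt, Pi.add_apply, add_mul, wt_ev, wt_ev]

theorem ev_add (v w : Fin n → ℤ) (x : Fin n × Bool) : ev (v + w) x = ev v x + ev w x := by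
  unfold ev
  rw [ee_add, Pi.add_apply, add_mul]

theorem ev_smul (m : ℤ) (v : Fin n → ℤ) (x : Fin n × Bool) : ev (m • v) x = m * ev v x := by
  unfold ev
  rw [ee_smul, Pi.smul_apply, smul_eq_mul, mul_assoc]

theorem ev_neg (v : Fin n → ℤ) (x : Fin n × Bool) : ev (-v) x = -ev v x := by
  unfold ev
  rw [ee_neg, Pi.neg_apply, neg_mul]

theorem ok_iff {c d : Fin n × Bool} : Ok c d ↔ d ≠ ng c := by
  constructor
  · rintro (h | rfl) h'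
    · rw [h'] at h; exact h rfl
    · exact ng_ne c h'.symm
  · intro h
    by_cases h1 : d.1 = c.1
    · rcases cases_eq h1 with rfl | rfl
      · exact Or.inr rfl
      · exact absurd rfl h
    · exact Or.inl (Ne.symm h1)

theorem rt_add {x y z : Fin n × Bool} : rt x y + rt (ng y) z = rt x z := by
  apply ee_injective
  rw [ee_add, ee_rt, ee_rt, ee_rt, wt_ng]
  abel

theorem neg_rt (x y : Fin n × Bool) : -rt x y = rt (ng x) (ng y) := (rt_ng x y).symm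

/-- position of a signed index with respect to two others -/
theorem cases2 {x y : Fin n × Bool} (hxy : x.1 ≠ y.1) (c : Fin n × Bool) :
    (c = x ∧ dl c x = 1 ∧ dl c y = 0) ∨ (c = ng x ∧ dl c x = -1 ∧ dl c y = 0) ∨
    (c = y ∧ dl c x = 0 ∧ dl c y = 1) ∨ (c = ng y ∧ dl c x = 0 ∧ dl c y = -1) ∨
    ((c.1 ≠ x.1 ∧ c.1 ≠ y.1) ∧ dl c x = 0 ∧ dl c y = 0) := by
  rcases dl_cases c x with ⟨h, h1⟩ | ⟨h, h1⟩ | ⟨h, h1⟩
  · exact Or.inl ⟨h, h1, dl_of_ne (by rw [h]; exact hxy)⟩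
  · exact Or.inr (Or.inl ⟨h, h1, dl_of_ne (by rw [h]; exact hxy)⟩)
  · rcases dl_cases c y with ⟨h2, h3⟩ | ⟨h2, h3⟩ | ⟨h2, h3⟩
    · exact Or.inr (Or.inr (Or.inl ⟨h2, h1, h3⟩))
    · exact Or.inr (Or.inr (Or.inr (Or.inl ⟨h2, h1, h3⟩)))
    · exact Or.inr (Or.inr (Or.inr (Or.inr ⟨⟨h, h2⟩, h1, h3⟩)))

/-- position of a signed index with respect to three others -/
theorem cases3 {x y z : Fin n × Bool} (hxy : x.1 ≠ y.1) (hxz : x.1 ≠ z.1) (hyz : y.1 ≠ z.1) (c : Fin n × Bool) :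
    (c = x ∧ dl c x = 1 ∧ dl c y = 0 ∧ dl c z = 0) ∨ (c = ng x ∧ dl c x = -1 ∧ dl c y = 0 ∧ dl c z = 0) ∨
    (c = y ∧ dl c x = 0 ∧ dl c y = 1 ∧ dl c z = 0) ∨ (c = ng y ∧ dl c x = 0 ∧ dl c y = -1 ∧ dl c z = 0) ∨
    (c = z ∧ dl c x = 0 ∧ dl c y = 0 ∧ dl c z = 1) ∨ (c = ng z ∧ dl c x = 0 ∧ dl c y = 0 ∧ dl c z = -1) ∨
    ((c.1 ≠ x.1 ∧ c.1 ≠ y.1 ∧ c.1 ≠ z.1) ∧ dl c x = 0 ∧ dl c y = 0 ∧ dl c z = 0) := by
  rcases dl_cases c z with ⟨h, h1⟩ | ⟨h, h1⟩ | ⟨h, h1⟩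
  · exact Or.inr (Or.inr (Or.inr (Or.inr (Or.inl ⟨h, dl_of_ne (by rw [h]; exact hxz.symm),
      dl_of_ne (by rw [h]; exact hyz.symm), h1⟩))))
  · exact Or.inr (Or.inr (Or.inr (Or.inr (Or.inr (Or.inl ⟨h, dl_of_ne (by rw [h]; exact hxz.symm),
      dl_of_ne (by rw [h]; exact hyz.symm), h1⟩)))))
  · rcases cases2 hxy c with ⟨h2, h3, h4⟩ | ⟨h2, h3, h4⟩ | ⟨h2, h3, h4⟩ | ⟨h2, h3, h4⟩ | ⟨⟨h2, h2'⟩, h3, h4⟩
    · exact Or.inl ⟨h2, h3, h4, h1⟩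
    · exact Or.inr (Or.inl ⟨h2, h3, h4, h1⟩)
    · exact Or.inr (Or.inr (Or.inl ⟨h2, h3, h4, h1⟩))
    · exact Or.inr (Or.inr (Or.inr (Or.inl ⟨h2, h3, h4, h1⟩)))
    · exact Or.inr (Or.inr (Or.inr (Or.inr (Or.inr (Or.inr ⟨⟨h2, h2', h⟩, h3, h4, h1⟩)))))

/-- two signed indices with positive coordinates at `x` and `z` -/
theorem pos_two {x z : Fin n × Bool} (hxz : x.1 ≠ z.1) {c d : Fin n × Bool} (h1 : 0 < dl c x + dl d x)
    (h2 : 0 < dl c z + dl d z) : (c = x ∧ d = z) ∨ (c = z ∧ d = x) := by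
  rcases cases2 hxz c with ⟨hc, h3, h4⟩ | ⟨hc, h3, h4⟩ | ⟨hc, h3, h4⟩ | ⟨hc, h3, h4⟩ | ⟨hc, h3, h4⟩ <;>
  rcases cases2 hxz d with ⟨hd, h5, h6⟩ | ⟨hd, h5, h6⟩ | ⟨hd, h5, h6⟩ | ⟨hd, h5, h6⟩ | ⟨hd, h5, h6⟩ <;>
  first
  | exact Or.inl ⟨hc, hd⟩
  | exact Or.inr ⟨hc, hd⟩
  | (exfalso; omega)

section

variable {W : Type*} [Group W] (cs : CoxeterSystem (CoxeterMatrix.B n) W)

theorem cpr_ne [Finite W] (v : Fin n → ℤ) {x y : Fin n × Bool} (h : x.1 ≠ y.1) :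
    cpr cs (isCartan n) v (rt x y) = ev v x + ev v y := cpr_rt cs v h

theorem cpr_same [Finite W] (v : Fin n → ℤ) (x : Fin n × Bool) :
    cpr cs (isCartan n) v (rt x x) = ev v x := cpr_rt_self cs v x

theorem btwn_one {x y z : Fin n × Bool} (hxy : x.1 ≠ y.1) (hxz : x.1 ≠ z.1) (hyz : y.1 ≠ z.1) {v : Fin n → ℤ}
    (hv : Btwn cs (isCartan n) (rt x y) (rt (ng y) z) v) : v = rt x z := by
  obtain ⟨hvr, m, a, b, hm, ha, hb, he⟩ := hv
  obtain ⟨c, d, -, rfl⟩ := exists_rt hvr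
  have key : ∀ w, m * (dl c w + dl d w) = a * (dl x w + dl y w) + b * (dl (ng y) w + dl z w) := by
    intro w
    have := congrArg (fun v => ev v w) he
    simp only [ev_add, ev_smul, ev_rt] at this
    exact this
  have k1 := key x
  have k2 := key z
  rw [dl_self, dl_of_ne hxy.symm, dl_of_ne (c := ng y) hxy.symm, dl_of_ne hxz.symm] at k1
  rw [dl_self, dl_of_ne hxz, dl_of_ne hyz, dl_of_ne (c := ng y) hyz] at k2
  have h1 : 0 < dl c x + dl d x := by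
    have : 0 < m * (dl c x + dl d x) := by rw [k1]; omega
    exact (mul_pos_iff_of_pos_left hm).1 this
  have h2 : 0 < dl c z + dl d z := by
    have : 0 < m * (dl c z + dl d z) := by rw [k2]; omega
    exact (mul_pos_iff_of_pos_left hm).1 this
  rcases pos_two hxz h1 h2 with ⟨rfl, rfl⟩ | ⟨rfl, rfl⟩
  · rfl
  · exact rt_comm _ _

theorem btwn_two {x y z : Fin n × Bool} (hxy : x.1 ≠ y.1) (hxz : x.1 ≠ z.1) (hyz : y.1 ≠ z.1) {v : Fin n → ℤ} :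
    ¬ Btwn cs (isCartan n) (-rt x y) (rt (ng y) z) v := by
  rintro ⟨hvr, m, a, b, hm, ha, hb, he⟩
  obtain ⟨c, d, -, rfl⟩ := exists_rt hvr
  have key : ∀ w, m * (dl c w + dl d w) = -a * (dl x w + dl y w) + b * (dl (ng y) w + dl z w) := by
    intro w
    have := congrArg (fun v => ev v w) he
    simp only [ev_add, ev_smul, ev_rt, ev_neg] at this
    linarith
  have k1 := key (ng x)
  have k2 := key z
  have k3 := key (ng y)
  have n1 : dl (ng y) (ng x) = 0 := dl_of_ne (c := ng y) (x := ng x) hxy.symm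
  have n2 : dl z (ng x) = 0 := dl_of_ne (c := z) (x := ng x) hxz.symm
  have n3 : dl z (ng y) = 0 := dl_of_ne (c := z) (x := ng y) hyz.symm
  rw [n1, n2, dl_ng_right x x, dl_self, dl_ng_right y x, dl_of_ne hxy.symm] at k1
  rw [dl_self, dl_of_ne hxz, dl_of_ne hyz, dl_of_ne (c := ng y) hyz] at k2
  rw [n3, dl_self, dl_ng_right x y, dl_of_ne hxy, dl_ng_right y y, dl_self] at k3
  have h1 : 0 < dl c (ng x) + dl d (ng x) := by
    have : 0 < m * (dl c (ng x) + dl d (ng x)) := by rw [k1]; omega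
    exact (mul_pos_iff_of_pos_left hm).1 this
  have h2 : 0 < dl c z + dl d z := by
    have : 0 < m * (dl c z + dl d z) := by rw [k2]; omega
    exact (mul_pos_iff_of_pos_left hm).1 this
  have h3 : 0 < dl c (ng y) + dl d (ng y) := by
    have : 0 < m * (dl c (ng y) + dl d (ng y)) := by rw [k3]; omega
    exact (mul_pos_iff_of_pos_left hm).1 this
  rcases pos_two (x := ng x) (z := z) hxz h1 h2 with ⟨rfl, rfl⟩ | ⟨rfl, rfl⟩
  · rw [dl_of_ne (c := ng x) (x := ng y) hxy, n3] at h3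
    omega
  · rw [dl_of_ne (c := ng x) (x := ng y) hxy, n3] at h3
    omega

/-- **`A2`-pairs.** -/
theorem a2_rt [Finite W] {x y z : Fin n × Bool} (hxy : x.1 ≠ y.1) (hxz : x.1 ≠ z.1) (hyz : y.1 ≠ z.1) :
    A2 cs (isCartan n) (rt x y) (rt (ng y) z) where
  rx := isRoot_rt cs (Or.inl hxy)
  ry := isRoot_rt cs (Or.inl hyz)
  cxy := by
    rw [cpr_ne cs _ (x := ng y) (y := z) hyz, ev_rt, ev_rt, dl_ng_right, dl_ng_right, dl_of_ne hxy, dl_self,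
      dl_of_ne hxz, dl_of_ne hyz]; norm_num
  cyx := by
    rw [cpr_ne cs _ hxy, ev_rt, ev_rt, dl_of_ne (c := ng y) hxy.symm, dl_of_ne hxz.symm, dl_ng,
      dl_of_ne hyz.symm]; norm_num
  b1 v hv := by rw [rt_add]; exact btwn_one cs hxy hxz hyz hv
  b2 v := btwn_two cs hxy hxz hyz
  b3 v hv := by
    rw [rt_add, neg_rt, rt_comm (ng x) (ng y)] at hv
    have h1 : Btwn cs (isCartan n) (rt (ng y) (ng x)) (rt (ng (ng x)) z) v := by rwa [ng_ng]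
    exact btwn_one cs (x := ng y) (y := ng x) (z := z) hxy.symm hyz hxz h1
  b4 v hv := by
    rw [rt_add, neg_rt, ng_ng, rt_comm x z] at hv
    have h1 : Btwn cs (isCartan n) (rt y (ng z)) (rt (ng (ng z)) x) v := by rwa [ng_ng]
    rw [btwn_one cs (x := y) (y := ng z) (z := x) hyz hxy.symm hxz.symm h1, rt_comm]
  b5 v hv := by
    rw [rt_add] at hv
    have h1 : Btwn cs (isCartan n) (-rt (ng x) (ng z)) (rt (ng (ng z)) (ng y)) v := by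
      rw [neg_rt, ng_ng, ng_ng, rt_comm z (ng y)]
      exact hv
    exact btwn_two cs (x := ng x) (y := ng z) (z := ng y) hxz hxy hyz.symm h1
  b6 v hv := by
    rw [rt_add] at hv
    have h1 : Btwn cs (isCartan n) (-rt (ng z) (ng x)) (rt (ng (ng x)) y) v := by
      rw [neg_rt, ng_ng, ng_ng, rt_comm z x]
      exact hv
    exact btwn_two cs (x := ng z) (y := ng x) (z := y) hxz.symm hyz.symm hxy h1

/-- two roots `± ε_i ± ε_j` at 120 degrees -/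
theorem exists_z [Finite W] {x y : Fin n × Bool} (hxy : x.1 ≠ y.1) {b : Fin n → ℤ} (hb : IsRoot cs (isCartan n) b)
    (h : cpr cs (isCartan n) b (rt x y) = -1) : ∃ z : Fin n × Bool, (z.1 ≠ x.1 ∧ z.1 ≠ y.1) ∧
      (b = rt (ng y) z ∨ b = rt (ng x) z) := by
  obtain ⟨c, d, hcd, rfl⟩ := exists_rt hb
  rw [cpr_ne cs _ hxy, ev_rt, ev_rt] at h
  rcases cases2 hxy c with ⟨hc, h3, h4⟩ | ⟨hc, h3, h4⟩ | ⟨hc, h3, h4⟩ | ⟨hc, h3, h4⟩ | ⟨hc, h3, h4⟩ <;>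
  rcases cases2 hxy d with ⟨hd, h5, h6⟩ | ⟨hd, h5, h6⟩ | ⟨hd, h5, h6⟩ | ⟨hd, h5, h6⟩ | ⟨hd, h5, h6⟩ <;>
  first
  | (exfalso; omega)
  | (refine ⟨d, hd, Or.inr ?_⟩; rw [hc]; done)
  | (refine ⟨d, hd, Or.inl ?_⟩; rw [hc]; done)
  | (refine ⟨c, hc, Or.inr ?_⟩; rw [hd, rt_comm]; done)
  | (refine ⟨c, hc, Or.inl ?_⟩; rw [hd, rt_comm]; done)

/-- two roots `± ε_i ± ε_j` at 60 degrees -/
theorem exists_z_pos [Finite W] {r s : Fin n → ℤ} (hr : r ∈ RB n) (hs : IsRoot cs (isCartan n) s)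
    (h : cpr cs (isCartan n) s r = 1) : ∃ x y z : Fin n × Bool, (x.1 ≠ y.1 ∧ x.1 ≠ z.1 ∧ y.1 ≠ z.1) ∧
      r = rt x y ∧ s = rt x z := by
  obtain ⟨x, y, hxy, rfl⟩ := mem_RB.1 hr
  obtain ⟨c, d, hcd, rfl⟩ := exists_rt hs
  rw [cpr_ne cs _ hxy, ev_rt, ev_rt] at h
  rcases cases2 hxy c with ⟨hc, h3, h4⟩ | ⟨hc, h3, h4⟩ | ⟨hc, h3, h4⟩ | ⟨hc, h3, h4⟩ | ⟨hc, h3, h4⟩ <;>
  rcases cases2 hxy d with ⟨hd, h5, h6⟩ | ⟨hd, h5, h6⟩ | ⟨hd, h5, h6⟩ | ⟨hd, h5, h6⟩ | ⟨hd, h5, h6⟩ <;>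
  first
  | (exfalso; omega)
  | (refine ⟨x, y, d, ⟨hxy, hd.1.symm, hd.2.symm⟩, rfl, ?_⟩; rw [hc]; done)
  | (refine ⟨y, x, d, ⟨hxy.symm, hd.2.symm, hd.1.symm⟩, rt_comm _ _, ?_⟩; rw [hc]; done)
  | (refine ⟨x, y, c, ⟨hxy, hc.1.symm, hc.2.symm⟩, rfl, ?_⟩; rw [hd, rt_comm]; done)
  | (refine ⟨y, x, c, ⟨hxy.symm, hc.2.symm, hc.1.symm⟩, rt_comm _ _, ?_⟩; rw [hd, rt_comm]; done)

theorem two_aux [Finite W] {x y z : Fin n × Bool} (hxy : x.1 ≠ y.1) (hxz : x.1 ≠ z.1) (hyz : y.1 ≠ z.1)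
    {v : Fin n → ℤ} (hv : IsRoot cs (isCartan n) v) (h1 : 0 < cpr cs (isCartan n) v (rt x y))
    (h2 : 0 < cpr cs (isCartan n) v (rt (ng y) z)) : v = rt x z := by
  obtain ⟨c, d, hcd, rfl⟩ := exists_rt hv
  rw [cpr_ne cs _ hxy, ev_rt, ev_rt] at h1
  rw [cpr_ne cs _ (x := ng y) (y := z) hyz, ev_rt, ev_rt, dl_ng_right, dl_ng_right] at h2
  rcases cases3 hxy hxz hyz c with ⟨hc, h3, h4, h7⟩ | ⟨hc, h3, h4, h7⟩ | ⟨hc, h3, h4, h7⟩ | ⟨hc, h3, h4, h7⟩ |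
    ⟨hc, h3, h4, h7⟩ | ⟨hc, h3, h4, h7⟩ | ⟨hc, h3, h4, h7⟩ <;>
  rcases cases3 hxy hxz hyz d with ⟨hd, h5, h6, h8⟩ | ⟨hd, h5, h6, h8⟩ | ⟨hd, h5, h6, h8⟩ | ⟨hd, h5, h6, h8⟩ |
    ⟨hd, h5, h6, h8⟩ | ⟨hd, h5, h6, h8⟩ | ⟨hd, h5, h6, h8⟩ <;>
  first
  | (exfalso; omega)
  | (rw [hc, hd]; done)
  | (rw [hc, hd, rt_comm]; done)

/-- **The only root at acute angles with two roots at 120 degrees is the sum.** -/
theorem two_rt [Finite W] {a : Fin n → ℤ} (ha : a ∈ RB n) {b : Fin n → ℤ} (hb : IsRoot cs (isCartan n) b)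
    (hba : cpr cs (isCartan n) b a = -1) {v : Fin n → ℤ} (hv : IsRoot cs (isCartan n) v)
    (h1 : 0 < cpr cs (isCartan n) v a) (h2 : 0 < cpr cs (isCartan n) v b) : v = a + b := by
  obtain ⟨x, y, hxy, rfl⟩ := mem_RB.1 ha
  obtain ⟨z, ⟨hzx, hzy⟩, rfl | rfl⟩ := exists_z cs hxy hb hba
  · rw [rt_add]
    exact two_aux cs hxy hzx.symm hzy.symm hv h1 h2
  · rw [rt_comm x y, rt_add]
    rw [rt_comm] at h1
    exact two_aux cs hxy.symm hzy.symm hzx.symm hv h1 h2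

end

end Cfsg.Agent.OddHalf.DblR.MinusComb
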