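import Mathlib
import Cfsg.Agent.OddHalf.D4.Input

/-!
# ODD, D4: direct indecomposability of `P = C_K(X)^∞`

`ind_of` : `P` perfect, `Q` a normal 2-subgroup with `C_P(Q) ≤ X ≤ Q`, `[Q, Q] ≤ X ≤ Z(P)`, a group `T0` with `[T0, P] ≤ Q`
transitive on `X#`: then `P` is not a nontrivial direct product.
-/

set_option autoImplicit false

namespace Cfsg.Agent.OddHalf.DblR

open Cfsg.Agent.OddHalf.D4.Input
open scoped commutatorElement

variable {Y : Type*} [Group Y]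

theorem eq_bot_of_perfect_two [Finite Y] {P : Subgroup Y} (hP : P ≤ ⁅P, P⁆) (h2 : ∀ x ∈ P, ∃ n : ℕ, x ^ 2 ^ n = 1) :
    P = ⊥ := by
  by_contra hne
  have h3 : IsPGroup 2 ↥P := by
    rintro ⟨x, hx⟩
    obtain ⟨n, hn⟩ := h2 x hx
    exact ⟨n, Subtype.ext (by simpa using hn)⟩
  have : Fact (Nat.Prime 2) := ⟨Nat.prime_two⟩
  have h4 : Group.IsNilpotent ↥P := h3.isNilpotent
  have h5 : Nontrivial ↥P := (Subgroup.nontrivial_iff_ne_bot P).2 hne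
  have h6 : Group.IsSolvable ↥P := inferInstance
  have h7 := Group.IsSolvable.commutator_lt_top_of_nontrivial ↥P
  apply h7.ne
  rw [eq_top_iff, _root_.commutator_def]
  intro p _
  have h8 : (⁅(⊤ : Subgroup ↥P), (⊤ : Subgroup ↥P)⁆ : Subgroup ↥P).map P.subtype = ⁅P, P⁆ := by
    rw [Subgroup.map_commutator, ← MonoidHom.range_eq_map, Subgroup.range_subtype]
  have h9 : (p : Y) ∈ (⁅(⊤ : Subgroup ↥P), (⊤ : Subgroup ↥P)⁆ : Subgroup ↥P).map P.subtype := by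
    rw [h8]; exact hP p.2
  obtain ⟨q, hq, hqp⟩ := h9
  have h10 : q = p := Subtype.ext hqp
  rw [← h10]; exact hq

theorem comm_pow {a b : Y} (h : a * b = b * a) (n : ℕ) : (a * b) ^ n = a ^ n * b ^ n := (show Commute a b from h).mul_pow n

/-- the projection of a subgroup with trivial commutator modulo `Q` -/
theorem cj_le_of_trivial [Finite Y] {P Q A B : Subgroup Y} (QP : Q ≤ P) (Q2 : IsPGroup 2 ↥Q) (hA : A ≤ P)
    (hAB : ∀ a ∈ A, ∀ b ∈ B, a * b = b * a) (hdis : ∀ x ∈ A, x ∈ B → x = 1)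
    (hdec : ∀ y ∈ P, ∃ a ∈ A, ∃ b ∈ B, y = a * b) (hAp : A ≤ ⁅A, A⁆) {t : Y}
    (ht : ∀ p ∈ P, t * p * t⁻¹ * p⁻¹ ∈ Q) : ∀ a ∈ A, t * a * t⁻¹ ∈ A := by
  have htP : ∀ a ∈ A, t * a * t⁻¹ ∈ P := by
    intro a ha
    have e : t * a * t⁻¹ = (t * a * t⁻¹ * a⁻¹) * a := by group
    rw [e]
    exact mul_mem (QP (ht a (hA ha))) (hA ha)
  have h1 : proj hAB (D4.CommConj.cj t A) = ⊥ := by
    apply eq_bot_of_perfect_two
    · apply proj_perf hAB _ (cj_perf hAp) hdis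
      intro x hx
      rw [D4.CommConj.mem_cj] at hx
      obtain ⟨a, ha, b, hb, e⟩ := hdec _ (htP _ hx)
      exact ⟨a, ha, b, hb, by rw [← e]; group⟩
    · rintro b ⟨hb, a, ha, hab⟩
      rw [D4.CommConj.mem_cj] at hab
      set a' := t⁻¹ * (a * b) * t with ha'
      have e1 : a * b = t * a' * t⁻¹ := by rw [ha']; group
      have hq := ht a' (hA hab)
      obtain ⟨n, hn⟩ := D4.Input.pow_eq_one_of_isPGroup Q2 hq
      obtain ⟨α, hα, β, hβ, e2⟩ := hdec _ (QP hq)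
      -- `a b = α β a'`
      have e3 : a * b = (α * a') * β := by
        have e4 : a * b = (t * a' * t⁻¹ * a'⁻¹) * a' := by rw [e1]; group
        rw [e4, e2]
        calc α * β * a' = α * (β * a') := by group
          _ = α * (a' * β) := by rw [← hAB a' hab β hβ]
          _ = α * a' * β := by group
      have e5 : (α * a')⁻¹ * a = β * b⁻¹ := by
        calc (α * a')⁻¹ * a = (α * a')⁻¹ * (a * b) * b⁻¹ := by group
          _ = (α * a')⁻¹ * ((α * a') * β) * b⁻¹ := by rw [e3]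
          _ = _ := by group
      have e6 := hdis _ (mul_mem (inv_mem (mul_mem hα hab)) ha) (by rw [e5]; exact mul_mem hβ (inv_mem hb))
      rw [e5] at e6
      have e7 : b = β := by
        calc b = (β * b⁻¹)⁻¹ * β := by group
          _ = β := by rw [e6]; group
      refine ⟨n, ?_⟩
      have e8 : α ^ 2 ^ n * β ^ 2 ^ n = 1 := by
        rw [← comm_pow (hAB α hα β hβ), ← e2]; exact hn
      have e9 : β ^ 2 ^ n = (α ^ 2 ^ n)⁻¹ := eq_inv_of_mul_eq_one_right e8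
      have e10 := hdis (β ^ 2 ^ n) (by rw [e9]; exact inv_mem (pow_mem hα _)) (pow_mem hβ _)
      rw [e7]; exact e10
  intro a ha
  obtain ⟨a', ha', b, hb, e⟩ := hdec _ (htP a ha)
  have h2 : b ∈ proj hAB (D4.CommConj.cj t A) := ⟨hb, a', ha', by rw [← e]; exact D4.CommConj.mem_cj_mul ha⟩
  rw [h1, Subgroup.mem_bot] at h2
  rw [e, h2, mul_one]; exact ha'

/-- a nontrivial direct factor contains `X` -/
theorem le_factor [Finite Y] {P Q X T0 A B : Subgroup Y} (QP : Q ≤ P) (XZ : ∀ x ∈ X, ∀ p ∈ P, x * p = p * x)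
    (QN : ∀ p ∈ P, ∀ q ∈ Q, p * q * p⁻¹ ∈ Q) (TQ : ∀ t ∈ T0, ∀ p ∈ P, t * p * t⁻¹ * p⁻¹ ∈ Q)
    (Ttr : ∀ x ∈ X, x ≠ 1 → ∀ y ∈ X, y ≠ 1 → ∃ t ∈ T0, t * x * t⁻¹ = y) (perf : P ≤ ⁅P, P⁆) (Q2 : IsPGroup 2 ↥Q)
    (cQ : ∀ g ∈ P, (∀ q ∈ Q, g * q = q * g) → g ∈ X) (QQ : ∀ q ∈ Q, ∀ q' ∈ Q, q * q' * q⁻¹ * q'⁻¹ ∈ X)
    (hA : A ≤ P) (hAB : ∀ a ∈ A, ∀ b ∈ B, a * b = b * a) (hdis : ∀ x ∈ A, x ∈ B → x = 1)
    (hdec : ∀ y ∈ P, ∃ a ∈ A, ∃ b ∈ B, y = a * b) (hne : A ≠ ⊥) : X ≤ A := by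
  have hBA : ∀ b ∈ B, ∀ a ∈ A, b * a = a * b := fun b hb a ha => (hAB a ha b hb).symm
  have hAn : ∀ p ∈ P, ∀ x ∈ A, p * x * p⁻¹ ∈ A := by
    intro p hp x hx
    obtain ⟨a, ha, b, hb, rfl⟩ := hdec p hp
    have e : a * b * x * (a * b)⁻¹ = a * x * a⁻¹ := by
      calc a * b * x * (a * b)⁻¹ = a * (b * x) * b⁻¹ * a⁻¹ := by group
        _ = a * (x * b) * b⁻¹ * a⁻¹ := by rw [hBA b hb x hx]
        _ = _ := by group
    rw [e]
    exact mul_mem (mul_mem ha hx) (inv_mem ha)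
  -- `A` is perfect
  have hpr : proj hBA P = A := by
    apply le_antisymm (fun x hx => hx.1)
    intro x hx
    exact ⟨hx, 1, one_mem _, by rw [one_mul]; exact hA hx⟩
  have hAp : A ≤ ⁅A, A⁆ := by
    have h1 := proj_perf hBA (H := P) (fun x hx => by
      obtain ⟨a, ha, b, hb, e⟩ := hdec x hx
      exact ⟨b, hb, a, ha, by rw [e, hAB a ha b hb]⟩) perf (fun x hx hx' => hdis x hx' hx)
    rwa [hpr] at h1
  have hAT : ∀ t ∈ T0, ∀ a ∈ A, t * a * t⁻¹ ∈ A := fun t ht =>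
    cj_le_of_trivial QP Q2 hA hAB hdis hdec hAp (TQ t ht)
  -- an element of `A ∩ X`
  obtain ⟨x, hxA, hxX, hx1⟩ : ∃ x ∈ A, x ∈ X ∧ x ≠ 1 := by
    by_cases h1 : ∀ a ∈ A, ∀ q ∈ Q, a * q = q * a
    · exfalso
      apply hne
      apply eq_bot_of_comm hAp
      intro a ha b hb
      exact XZ a (cQ a (hA ha) (h1 a ha)) b (hA hb)
    · push Not at h1
      obtain ⟨a, ha, q, hq, haq⟩ := h1
      have hv1 : a * q * a⁻¹ * q⁻¹ ≠ 1 := by
        intro h2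
        apply haq
        calc a * q = (a * q * a⁻¹ * q⁻¹) * (q * a) := by group
          _ = q * a := by rw [h2, one_mul]
      have hvQ : a * q * a⁻¹ * q⁻¹ ∈ Q := mul_mem (QN a (hA ha) q hq) (inv_mem hq)
      have hvA : a * q * a⁻¹ * q⁻¹ ∈ A := by
        have e : a * q * a⁻¹ * q⁻¹ = a * (q * a⁻¹ * q⁻¹) := by group
        rw [e]
        exact mul_mem ha (hAn q (QP hq) _ (inv_mem ha))
      by_cases hvX : a * q * a⁻¹ * q⁻¹ ∈ X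
      · exact ⟨_, hvA, hvX, hv1⟩
      · set v := a * q * a⁻¹ * q⁻¹ with hv
        obtain ⟨q', hq', hvq⟩ : ∃ q' ∈ Q, v * q' ≠ q' * v := by
          by_contra hcon
          push Not at hcon
          exact hvX (cQ v (QP hvQ) hcon)
        refine ⟨v * q' * v⁻¹ * q'⁻¹, ?_, QQ v hvQ q' hq', ?_⟩
        · have e : v * q' * v⁻¹ * q'⁻¹ = v * (q' * v⁻¹ * q'⁻¹) := by group
          rw [e]
          exact mul_mem hvA (hAn q' (QP hq') _ (inv_mem hvA))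
        · intro h2
          apply hvq
          calc v * q' = (v * q' * v⁻¹ * q'⁻¹) * (q' * v) := by group
            _ = q' * v := by rw [h2, one_mul]
  intro y hy
  by_cases hy1 : y = 1
  · rw [hy1]; exact one_mem _
  · obtain ⟨t, ht, rfl⟩ := Ttr x hxX hx1 y hy hy1
    exact hAT t ht x hxA

/-- **direct indecomposability** -/
theorem ind_of [Finite Y] {P Q X T0 : Subgroup Y} (QP : Q ≤ P) (XZ : ∀ x ∈ X, ∀ p ∈ P, x * p = p * x)
    (QN : ∀ p ∈ P, ∀ q ∈ Q, p * q * p⁻¹ ∈ Q) (TQ : ∀ t ∈ T0, ∀ p ∈ P, t * p * t⁻¹ * p⁻¹ ∈ Q)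
    (Ttr : ∀ x ∈ X, x ≠ 1 → ∀ y ∈ X, y ≠ 1 → ∃ t ∈ T0, t * x * t⁻¹ = y) (perf : P ≤ ⁅P, P⁆) (Q2 : IsPGroup 2 ↥Q)
    (cQ : ∀ g ∈ P, (∀ q ∈ Q, g * q = q * g) → g ∈ X) (QQ : ∀ q ∈ Q, ∀ q' ∈ Q, q * q' * q⁻¹ * q'⁻¹ ∈ X)
    (hX : X ≠ ⊥) (A B : Subgroup Y) (hA : A ≤ P) (hB : B ≤ P) (hAB : ∀ a ∈ A, ∀ b ∈ B, a * b = b * a)
    (hdis : A ⊓ B = ⊥) (hdec : ∀ y ∈ P, ∃ a ∈ A, ∃ b ∈ B, y = a * b) : A = ⊥ ∨ B = ⊥ := by
  by_contra hcon
  push Not at hcon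
  obtain ⟨hA1, hB1⟩ := hcon
  have hd : ∀ x ∈ A, x ∈ B → x = 1 := by
    intro x hx hx'
    rw [← Subgroup.mem_bot, ← hdis]
    exact ⟨hx, hx'⟩
  have h1 := le_factor QP XZ QN TQ Ttr perf Q2 cQ QQ hA hAB hd hdec hA1
  have h2 := le_factor QP XZ QN TQ Ttr perf Q2 cQ QQ hB (fun b hb a ha => (hAB a ha b hb).symm)
    (fun x hx hx' => hd x hx' hx) (fun y hy => by
      obtain ⟨a, ha, b, hb, e⟩ := hdec y hy
      exact ⟨b, hb, a, ha, by rw [e, hAB a ha b hb]⟩) hB1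
  apply hX
  rw [eq_bot_iff, ← hdis]
  exact le_inf h1 h2

end Cfsg.Agent.OddHalf.DblR
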