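import Cfsg.Agent.OddHalf.DblR.RgdPairL
import Cfsg.Agent.OddHalf.DblR.Row
import Cfsg.Agent.KFacts.SpecLoc

/-!
# ODD, D4: rows, long roots of a root group datum with two root lengths

helper328.

* `SheetL R r` : the facts on the group `Y = ⟨X x⟩` and the long root `r`;
* **`SheetL.row`** : the analogue of `Sheet.row`; `Loc` is a hypothesis;
* **`SheetL.row_full`** : with `Loc` from `KFacts.SpecLoc.Full`.
-/

set_option autoImplicit false
set_option linter.unusedSectionVars false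

namespace Cfsg.Agent.OddHalf.DblR

open CoxeterSystem Cfsg.Agent.ChevalleyStructure.CoxeterGeom Cfsg.Agent.Tits.Roots Cfsg.Agent.Tits.Core
  Cfsg.Agent.Tits.RootComb Cfsg.Agent.Tits.Exchange Cfsg.Agent.Nodes.Reps Cfsg.Agent.Nodes.BNOf
  Cfsg.Agent.Nodes.StabComb Cfsg.Agent.Nodes.Bruhat Cfsg.Agent.Nodes.OppDec Cfsg.Agent.Nodes.LeviDec
  Cfsg.Agent.Nodes.NormX Cfsg.Agent.Nodes.Coroot Cfsg.Agent.Nodes.PosPair Cfsg.Agent.KFacts.RgdPar
  Cfsg.Agent.KFacts.RgdSL Cfsg.Agent.KFacts.RgdTI Cfsg.Agent.KFacts.RgdCent Cfsg.Agent.KFacts.RgdOdd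
  Cfsg.Agent.KFacts.RgdEx Cfsg.Agent.KFacts.RgdTor Cfsg.Agent.KFacts.RgdKfour
open scoped commutatorElement

variable {I W Y : Type*} [Fintype I] [DecidableEq I] [Group W] [Group Y] {M : CoxeterMatrix I}
  {cs : CoxeterSystem M W} {A : I → I → ℤ} {h : IsCartan M A} {T : Subgroup Y} {n : I → Y}
  {X : (I → ℤ) → Subgroup Y}

theorem LG.right [Finite W] {R : RGD cs h 2 T n X} {r s : I → ℤ} (hA : A2 cs h r s) (L : LG R r) : LG R s := by
  have L1 := L.add R hA
  obtain ⟨⟨u, hu⟩, hu1⟩ := (Subgroup.ne_bot_iff_exists_ne_one).1 (X_ne_bot R hA.rx)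
  obtain ⟨w, hw, -⟩ := hA.exists_mu' R hu (fun h0 => hu1 (Subtype.ext h0))
  have h1 : rep cs h w s = r + s := by rw [hw, hA.cyx, neg_one_smul, sub_neg_eq_add, add_comm]
  have h2 : rep cs h w⁻¹ (r + s) = s := by rw [← h1, rep_inv_apply]
  rw [← h2]
  exact L1.act _

/-- The facts on `Y`, `r` a long root. -/
structure SheetL [Finite W] (R : RGD cs h 2 T n X) (r : I → ℤ) : Prop where
  top : RGD.Sup X {x | IsRoot cs h x} = ⊤
  tab : ∀ s ∈ T, ∀ t ∈ T, s * t = t * s
  long : LG R r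
  tri : ∃ s g g', A2 cs h r s ∧ TorTr cs h T X g r s ∧ TorTr cs h T X g' s r
  k1 : ∀ r, LG R r → ∀ α : MulAut Y, (∀ a ∈ Rad cs h r, ∀ x ∈ X a, α x = x) → ∃ z ∈ X r, α = MulAut.conj z
  k2 : ∀ r s, LG R r → LG R s → cpr cs h r s = 1 → ∀ α : MulAut Y,
    (∀ a ∈ Psi cs h r s, ∀ x ∈ X a, α x = x) → ∃ z ∈ X r ⊔ X s, α = MulAut.conj z
  perf : RGD.Sup X (Ge cs h r) ≤ ⁅RGD.Sup X (Ge cs h r), RGD.Sup X (Ge cs h r)⁆
  /-- perfect groups of automorphisms are inner -/
  out : ∀ H : Subgroup (MulAut Y), H ≤ ⁅H, H⁆ → ∀ α ∈ H, ∃ y, α = MulAut.conj y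

section

variable [Finite W] {R : RGD cs h 2 T n X} {G : Type*} [Group G] (f : Y →* G)

theorem lg_of_map (hf : Function.Injective f)
    {R' : RGD cs h 2 (T.map f) (fun i => f (n i)) (fun x => (X x).map f)} {a : I → ℤ} (L : LG R' a) : LG R a := by
  refine ⟨⟨L.root, fun x hx hc u hu v hv => ?_⟩, L.two⟩
  apply hf
  rw [map_mul, map_mul]
  exact L.lr.comm x hx hc (f u) ⟨u, hu, rfl⟩ (f v) ⟨v, hv, rfl⟩

theorem lg_map {R' : RGD cs h 2 (T.map f) (fun i => f (n i)) (fun x => (X x).map f)} {a : I → ℤ} (L : LG R a) :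
    LG R' a := by
  refine ⟨⟨L.root, ?_⟩, L.two⟩
  rintro x hx hc _ ⟨u, hu, rfl⟩ _ ⟨v, hv, rfl⟩
  rw [← map_mul, L.lr.comm x hx hc u hu v hv, map_mul]

theorem torTr_map {g r s : I → ℤ} (H : TorTr cs h T X g r s) : TorTr cs h (T.map f) (fun x => (X x).map f) g r s := by
  refine ⟨H.root, H.orth, ?_⟩
  rintro _ ⟨x, hx, rfl⟩ hx1 _ ⟨x', hx', rfl⟩ hx1'
  obtain ⟨t, ht, e⟩ := H.tr x hx (by rintro rfl; exact hx1 (map_one f)) x' hx' (by rintro rfl; exact hx1' (map_one f))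
  refine ⟨f t, ?_, by rw [← e, map_mul, map_mul, map_inv]⟩
  refine Subgroup.mem_inf.2 ⟨⟨t, ht.1, rfl⟩, ?_⟩
  rw [← Subgroup.map_sup]
  exact ⟨t, ht.2, rfl⟩

/-- **Row.** No commuting pair of long root type. -/
theorem SheetL.row [Finite Y] [Finite G] {r : I → ℤ} (S : SheetL R r) (hf : Function.Injective f) {K : Subgroup G}
    (hK : f.range = K) (St : Std1 K) {E : Subgroup G} (hE : E ≤ Subgroup.centralizer (K : Set G)) (hE2 : IsPGroup 2 ↥E)
    (hEmax : ∀ D : Subgroup G, E ≤ D → D ≤ Subgroup.centralizer (K : Set G) → IsPGroup 2 ↥D → D ≤ E)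
    (hC1 : ∀ H : Subgroup G, H ≤ C1 K E → H ≤ ⁅H, H⁆ → H = ⊥)
    {t t' : G} (ht : t ∈ E) (ht1 : t ≠ 1) (ht' : t' ∈ E) (ht1' : t' ≠ 1) (hne : t' ≠ t)
    {T0 : Subgroup Y} (hT0 : T0 ≤ T)
    (hloc : Amb K E → (∀ c ∈ C1 K E, IsPGroup 2 (Subgroup.zpowers c) → c ∈ E) →
      (∀ c : G, (∀ a ∈ E, c * a = a * c) → (∀ p ∈ (RGD.Sup X (Ge cs h r)).map f, c * p = p * c) →
        ∃ x ∈ (X r).map f, x⁻¹ * c ∈ C1 K E) →
      Loc K E ((RGD.Sup X (Ge cs h r)).map f) ((RGD.Sup X (Rad cs h r)).map f) ((X r).map f) (T0.map f))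
    {γ k : G} (hk : k ∈ K) (hg1 : cj γ E ≤ E ⊔ (X r).map f)
    (hg2 : E ≤ cj γ (E ⊔ cj k ((X r).map f))) (hg3 : ¬ cj γ E ≤ E) : False := by
  subst hK
  set R' := Cfsg.Agent.Nodes.RGDLib.rgd_map_of_injective R f hf with hR'
  have Lr' : LG R' r := lg_map f S.long
  obtain ⟨s, g, g', hA, hg, hg'⟩ := S.tri
  have hGG : GG cs h (T.map f) (fun x => (X x).map f) = f.range := by
    rw [← map_GG, Cfsg.Agent.KFacts.RgdRigid.GG_eq_top S.top, ← MonoidHom.range_eq_map]
  have hXK : ∀ x, (X x).map f ≤ f.range := by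
    rintro x _ ⟨y, -, rfl⟩
    exact ⟨y, rfl⟩
  have hKc : ∀ e ∈ E, ∀ y ∈ f.range, e * y = y * e := fun e he y hy =>
    ((Subgroup.mem_centralizer_iff.1 (hE he)) y hy).symm
  -- `E` and `cj γ E` have trivial intersection
  have hEγ : ∀ y ∈ cj γ E, y ∈ E → y = 1 := by
    intro y hy hyE
    by_contra hy1
    -- an involution in the intersection
    obtain ⟨m, hm⟩ := hE2 ⟨y, hyE⟩
    have hm' : y ^ 2 ^ m = 1 := congrArg Subtype.val hm
    obtain ⟨j, hj1, hj2⟩ : ∃ j : ℕ, y ^ 2 ^ j ≠ 1 ∧ y ^ 2 ^ (j + 1) = 1 := by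
      by_contra hcon
      push Not at hcon
      have key : ∀ j : ℕ, y ^ 2 ^ j ≠ 1 := by
        intro j
        induction j with
        | zero => simpa using hy1
        | succ j ih => exact hcon j ih
      exact key m hm'
    set z := y ^ 2 ^ j with hz
    have hzz : z * z = 1 := by
      rw [hz, ← pow_two, ← pow_mul, ← pow_succ]; exact hj2
    have hzE : z ∈ E := pow_mem hyE _
    have hzγ : z ∈ cj γ E := pow_mem hy _
    rw [mem_cj] at hzγ
    have h1 : (γ⁻¹ * z * γ) * (γ⁻¹ * z * γ) = 1 := by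
      calc (γ⁻¹ * z * γ) * (γ⁻¹ * z * γ) = γ⁻¹ * (z * z) * γ := by group
        _ = 1 := by rw [hzz]; group
    have h2 : γ⁻¹ * z * γ ≠ 1 := by
      intro h0
      apply hj1
      calc z = γ * (γ⁻¹ * z * γ) * γ⁻¹ := by group
        _ = 1 := by rw [h0]; group
    have h3 : cj γ f.range = f.range := by
      apply St.te _ (hE hzγ) h1 h2 γ
      have : γ * (γ⁻¹ * z * γ) * γ⁻¹ = z := by group
      rw [this]
      exact hE hzE
    apply hg3
    -- `cj γ E ≤ C(K)`, so `cj γ E ≤ E`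
    intro x hx
    obtain ⟨e, he, u, hu, rfl⟩ : ∃ e ∈ E, ∃ u ∈ (X r).map f, x = e * u := by
      have h4 := hg1 hx
      have h8 : x ∈ ((E ⊔ (X r).map f : Subgroup G) : Set G) := h4
      have h7 : (X r).map f ≤ Subgroup.normalizer (E : Set G) := by
        intro u hu
        rw [Subgroup.mem_normalizer_iff]
        intro e
        constructor
        · intro he
          have := hKc e he u (hXK r hu)
          have e2 : u * e * u⁻¹ = e := by rw [← this]; group
          rwa [e2]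
        · intro he
          have := hKc _ he u (hXK r hu)
          have e2 : e = u * e * u⁻¹ := by
            calc e = u⁻¹ * ((u * e * u⁻¹) * u) := by group
              _ = u⁻¹ * (u * (u * e * u⁻¹)) := by rw [this]
              _ = _ := by group
          rw [e2]; exact he
      rw [Subgroup.coe_mul_of_right_le_normalizer_left _ _ h7] at h8
      obtain ⟨e, he, u, hu, e3⟩ := h8
      exact ⟨e, he, u, hu, e3.symm⟩
    have h5 : e * u ∈ Subgroup.centralizer (f.range : Set G) := by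
      rw [← h3, ← cj_centralizer]
      exact cj_mono γ hE hx
    have h6 : u ∈ Subgroup.centralizer (f.range : Set G) := by
      have : u = e⁻¹ * (e * u) := by group
      rw [this]
      exact mul_mem (inv_mem (hE he)) h5
    have h7 : u = 1 := St.ctr u (hXK r hu) fun x hx => ((Subgroup.mem_centralizer_iff.1 h6) x hx).symm
    rw [h7, mul_one]; exact he
  -- `E` is elementary abelian
  have hsplit : ∀ x ∈ E ⊔ (X r).map f, ∃ e ∈ E, ∃ u ∈ (X r).map f, x = e * u := by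
    intro x h4
    have h8 : x ∈ ((E ⊔ (X r).map f : Subgroup G) : Set G) := h4
    have h7 : (X r).map f ≤ Subgroup.normalizer (E : Set G) := by
      intro u hu
      rw [Subgroup.mem_normalizer_iff]
      intro e
      constructor
      · intro he
        have := hKc e he u (hXK r hu)
        have e2 : u * e * u⁻¹ = e := by rw [← this]; group
        rwa [e2]
      · intro he
        have := hKc _ he u (hXK r hu)
        have e2 : e = u * e * u⁻¹ := by
          calc e = u⁻¹ * ((u * e * u⁻¹) * u) := by group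
            _ = u⁻¹ * (u * (u * e * u⁻¹)) := by rw [this]
            _ = _ := by group
        rw [e2]; exact he
    rw [Subgroup.coe_mul_of_right_le_normalizer_left _ _ h7] at h8
    obtain ⟨e, he, u, hu, e3⟩ := h8
    exact ⟨e, he, u, hu, e3.symm⟩
  have hEE : ∀ x ∈ E, x * x = 1 := by
    intro x hx
    have h1 : γ * x * γ⁻¹ ∈ cj γ E := conj_mem_cj.2 hx
    obtain ⟨e, he, u, hu, e1⟩ := hsplit _ (hg1 h1)
    have h2 := hKc e he u (hXK r hu)
    have h3 : u * u = 1 := sq_x hA R' hu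
    have h4 : (γ * x * γ⁻¹) * (γ * x * γ⁻¹) = e * e := by
      rw [e1]
      calc e * u * (e * u) = e * (u * e) * u := by group
        _ = e * e * (u * u) := by rw [← h2]; group
        _ = e * e := by rw [h3, mul_one]
    have h5 := hEγ _ (mul_mem h1 h1) (by rw [h4]; exact mul_mem he he)
    calc x * x = γ⁻¹ * ((γ * x * γ⁻¹) * (γ * x * γ⁻¹)) * γ := by group
      _ = 1 := by rw [h5]; group
  have amb : Amb f.range E := ⟨hEE, hKc, fun t ht ht1 g hg k hk => St.nor t (hE ht) (hEE t ht) ht1 g hg k hk, St.ctr⟩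
  have two : ∀ c ∈ C1 f.range E, IsPGroup 2 (Subgroup.zpowers c) → c ∈ E := by
    intro c hc hc2
    have h1 := mem_C1.1 hc
    have h2 : Subgroup.zpowers c ≤ Subgroup.normalizer (E : Set G) := by
      rw [Subgroup.zpowers_le, mem_normalizer_iff_cj]
      have key : ∀ c : G, (∀ t ∈ E, c * t = t * c) → cj c E ≤ E := by
        intro c hc x hx
        rw [mem_cj] at hx
        have h3 := hc _ hx
        have : x = c⁻¹ * x * c := by
          calc x = (c * (c⁻¹ * x * c)) * c⁻¹ := by group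
            _ = ((c⁻¹ * x * c) * c) * c⁻¹ := by rw [h3]
            _ = _ := by group
        rw [this]; exact hx
      exact cj_eq_of_le (key c h1.2) (key c⁻¹ fun t ht => comm_inv (h1.2 t ht))
    have h3 : IsPGroup 2 ↥(E ⊔ Subgroup.zpowers c) := hE2.to_sup_of_normal_left' hc2 h2
    refine hEmax _ le_sup_left ?_ h3 (Subgroup.mem_sup_right (Subgroup.mem_zpowers c))
    refine sup_le hE ?_
    rw [Subgroup.zpowers_le, Subgroup.mem_centralizer_iff]
    exact fun y hy => (h1.1 y hy).symm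
  -- elements of `C_G(E)` normalise `K`
  have hnorm : ∀ c : G, (∀ a ∈ E, c * a = a * c) → c ∈ Subgroup.normalizer (f.range : Set G) := by
    intro c hc
    rw [mem_normalizer_iff_cj]
    have key : ∀ c : G, (∀ a ∈ E, c * a = a * c) → cj c f.range ≤ f.range := by
      intro c hc x hx
      rw [mem_cj] at hx
      have := amb.nor t ht ht1 c (hc t ht) _ hx
      have e2 : c * (c⁻¹ * x * c) * c⁻¹ = x := by group
      rwa [e2] at this
    exact cj_eq_of_le (key c hc) (key c⁻¹ fun t ht => comm_inv (hc t ht))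
  have inC1 : ∀ (c : G) (z : Y), (∀ a ∈ E, c * a = a * c) → (∀ y, (f z)⁻¹ * c * f y = f y * ((f z)⁻¹ * c)) →
      (f z)⁻¹ * c ∈ C1 f.range E := by
    intro c z hc hz
    rw [mem_C1]
    refine ⟨?_, ?_⟩
    · rintro _ ⟨y, rfl⟩
      exact hz y
    · intro a ha
      have h1 := comm_inv' (hKc a ha (f z) ⟨z, rfl⟩)
      calc (f z)⁻¹ * c * a = (f z)⁻¹ * (c * a) := by group
        _ = ((f z)⁻¹ * a) * c := by rw [hc a ha]; group
        _ = a * ((f z)⁻¹ * c) := by rw [← h1]; group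
  have F1 : FactOneL R' E := by
    intro a ha' c hc hcP
    have ha : LG R a := lg_of_map f hf ha'
    rw [hGG]
    obtain ⟨z, hz, hzc⟩ := Cfsg.Agent.KFacts.RgdAutChev.exists_of_aut f hf (S := {y | ∃ b ∈ Rad cs h a, y ∈ X b}) (Z := X a)
      (fun α hα => S.k1 a ha α fun b hb x hx => hα x ⟨b, hb, hx⟩) (hnorm c hc)
      (by rintro x ⟨b, hb, hx⟩; exact hcP b hb _ ⟨x, hx, rfl⟩)
    exact ⟨f z, ⟨z, hz, rfl⟩, inC1 c z hc hzc⟩
  have F2 : FactTwoL R' E := by
    intro a b ha' hb' hab c hc hcP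
    have ha : LG R a := lg_of_map f hf ha'
    have hb : LG R b := lg_of_map f hf hb'
    rw [hGG]
    obtain ⟨z, hz, hzc⟩ := Cfsg.Agent.KFacts.RgdAutChev.exists_of_aut f hf (S := {y | ∃ d ∈ Psi cs h a b, y ∈ X d}) (Z := X a ⊔ X b)
      (fun α hα => S.k2 a b ha hb hab α fun b hb x hx => hα x ⟨b, hb, hx⟩) (hnorm c hc)
      (by rintro x ⟨b, hb, hx⟩; exact hcP b hb _ ⟨x, hx, rfl⟩)
    have hcomm : ∀ x ∈ X a, ∀ y ∈ X b, x * y = y * x := fun x hx y hy =>
      hb.lr.comm a ha.root (by rw [hab]; norm_num) x hx y hy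
    have h8 : z ∈ ((X a ⊔ X b : Subgroup Y) : Set Y) := hz
    have h7 : X a ≤ Subgroup.normalizer (X b : Set Y) := by
      intro u hu
      rw [mem_normalizer_iff_cj]
      have key : ∀ u ∈ X a, cj u (X b) ≤ X b := by
        intro u hu x hx
        rw [mem_cj] at hx
        have h3 := hcomm u hu _ hx
        have : x = u⁻¹ * x * u := by
          calc x = (u * (u⁻¹ * x * u)) * u⁻¹ := by group
            _ = ((u⁻¹ * x * u) * u) * u⁻¹ := by rw [h3]
            _ = _ := by group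
        rw [this]; exact hx
      exact cj_eq_of_le (key u hu) (key u⁻¹ (inv_mem hu))
    rw [Subgroup.coe_mul_of_left_le_normalizer_right _ _ h7] at h8
    obtain ⟨x, hx, y, hy, rfl⟩ := h8
    refine ⟨f x, ⟨x, hx, rfl⟩, f y, ⟨y, hy, rfl⟩, ?_⟩
    rw [← map_mul]
    exact inC1 c (x * y) hc hzc
  have hr := S.long.root
  have k3 : ∀ c : G, (∀ a ∈ E, c * a = a * c) → (∀ p ∈ (RGD.Sup X (Ge cs h r)).map f, c * p = p * c) →
      ∃ x ∈ (X r).map f, x⁻¹ * c ∈ C1 f.range E := by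
    intro c hc hcP
    rw [← hGG]
    apply F1 r Lr' c hc
    intro b hb v hv
    have hb' : b ∈ Ge cs h r := ⟨hb.1, le_trans zero_le_one hb.2⟩
    apply hcP v
    rw [map_Sup]
    exact RGD.le_Sup (X := fun x => (X x).map f) hb' hv
  have L := hloc amb two k3
  rw [← hGG, map_Sup, map_Sup] at L
  have perf' : RGD.Sup (fun x => (X x).map f) (Ge cs h r) ≤
      ⁅RGD.Sup (fun x => (X x).map f) (Ge cs h r), RGD.Sup (fun x => (X x).map f) (Ge cs h r)⁆ := by
    rw [← map_Sup, ← Subgroup.map_commutator]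
    exact Subgroup.map_mono S.perf
  have tab' : ∀ t ∈ T.map f, ∀ t' ∈ T.map f, t * t' = t' * t := by
    rintro _ ⟨s, hs, rfl⟩ _ ⟨t, ht, rfl⟩
    rw [← map_mul, ← map_mul, S.tab s hs t ht]
  refine no_pair_rgdL R' tab' F1 F2 hA Lr' (lg_map f (S.long.right hA)) (torTr_map f hg) (torTr_map f hg')
    (Subgroup.map_mono hT0) L perf' ?_ ?_ ht ht1 ht' ht1' hne (γ := γ) (k := k) (by rw [hGG]; exact hk) hg1 hg2 hg3
  · -- Schreier
    rw [hGG]
    intro H hHN hHp x hx
    -- the action of the normaliser on `Y`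
    let e : Y ≃* ↥f.range := MonoidHom.ofInjective hf
    let φ : ↥(Subgroup.normalizer (f.range : Set G)) →* MulAut Y :=
      (MulAut.congr e.symm).toMonoidHom.comp (Subgroup.normalizerMonoidHom f.range)
    have hφ : ∀ (c : ↥(Subgroup.normalizer (f.range : Set G))) (y : Y), f (φ c y) = c * f y * (c : G)⁻¹ := by
      intro c y
      have h1 : φ c y = e.symm (Subgroup.normalizerMonoidHom f.range c (e y)) := rfl
      have h2 : ∀ z : ↥f.range, f (e.symm z) = z := by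
        intro z
        have : ((e (e.symm z) : ↥f.range) : G) = z := by rw [MulEquiv.apply_symm_apply]
        exact this
      rw [h1, h2]
      rfl
    have h1 : ((H.subgroupOf (Subgroup.normalizer (f.range : Set G))).map φ) ≤
        ⁅(H.subgroupOf (Subgroup.normalizer (f.range : Set G))).map φ,
          (H.subgroupOf (Subgroup.normalizer (f.range : Set G))).map φ⁆ := by
      rw [← Subgroup.map_commutator]
      apply Subgroup.map_mono
      intro y hy
      have hy' : (y : G) ∈ ⁅H, H⁆ := hHp (Subgroup.mem_subgroupOf.1 hy)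
      have h2 : ⁅H, H⁆ = ⁅H.subgroupOf (Subgroup.normalizer (f.range : Set G)),
          H.subgroupOf (Subgroup.normalizer (f.range : Set G))⁆.map (Subgroup.normalizer (f.range : Set G)).subtype := by
        rw [Subgroup.map_commutator, Subgroup.map_subgroupOf_eq_of_le hHN]
      rw [h2] at hy'
      obtain ⟨y', hy1, hy2⟩ := hy'
      have : y' = y := Subtype.ext hy2
      rwa [← this]
    have h2 : φ ⟨x, hHN hx⟩ ∈ (H.subgroupOf (Subgroup.normalizer (f.range : Set G))).map φ :=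
      ⟨⟨x, hHN hx⟩, hx, rfl⟩
    obtain ⟨y, hy⟩ := S.out _ h1 _ h2
    refine ⟨f y, ⟨y, rfl⟩, (f y)⁻¹ * x, ?_, by group⟩
    rintro _ ⟨z, rfl⟩
    have h3 := hφ ⟨x, hHN hx⟩ z
    rw [hy, MulAut.conj_apply, map_mul, map_mul, map_inv] at h3
    have h4 : f y * f z * (f y)⁻¹ = x * f z * x⁻¹ := h3
    calc (f y)⁻¹ * x * f z = (f y)⁻¹ * (x * f z * x⁻¹) * x := by group
      _ = f z * ((f y)⁻¹ * x) := by rw [← h4]; group
  · rw [hGG]; exact hC1

/-- **Row**, with `Loc` from `KFacts.SpecLoc.Full`. -/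
theorem SheetL.row_full [Finite Y] [Finite G] {r : I → ℤ} (S : SheetL R r) (hf : Function.Injective f)
    {ι : Type*} [Finite ι] {T0 : Subgroup Y} {V : ι → Subgroup Y} {st : ι → ι} {i : ι}
    (Fu : Cfsg.Agent.KFacts.SpecLoc.Full (RGD.Sup X (Ge cs h r)) (RGD.Sup X (Rad cs h r)) (X r) T T0 V st i)
    {K : Subgroup G} (hK : f.range = K)
    (St : Std1 K) {E : Subgroup G} (hE : E ≤ Subgroup.centralizer (K : Set G)) (hE2 : IsPGroup 2 ↥E)
    (hEmax : ∀ D : Subgroup G, E ≤ D → D ≤ Subgroup.centralizer (K : Set G) → IsPGroup 2 ↥D → D ≤ E)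
    (hC1 : ∀ H : Subgroup G, H ≤ C1 K E → H ≤ ⁅H, H⁆ → H = ⊥)
    {t t' : G} (ht : t ∈ E) (ht1 : t ≠ 1) (ht' : t' ∈ E) (ht1' : t' ≠ 1) (hne : t' ≠ t)
    {γ k : G} (hk : k ∈ K) (hg1 : cj γ E ≤ E ⊔ (X r).map f)
    (hg2 : E ≤ cj γ (E ⊔ cj k ((X r).map f))) (hg3 : ¬ cj γ E ≤ E) : False := by
  refine S.row f hf hK St hE hE2 hEmax hC1 ht ht1 ht' ht1' hne Fu.T0T ?_ hk hg1 hg2 hg3
  intro amb two k3
  refine (Fu.map f hf).loc ?_ ?_ amb two k3
  · rw [← hK]
    rintro _ ⟨y, -, rfl⟩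
    exact ⟨y, rfl⟩
  · rw [← hK]
    rintro _ ⟨y, -, rfl⟩
    exact ⟨y, rfl⟩

end

end Cfsg.Agent.OddHalf.DblR
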