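import Mathlib
import Cfsg.Agent.OddHalf.DblR.InputInd
import Cfsg.Agent.OddHalf.DblR.RowL
import Cfsg.Agent.KFacts.RgdAutFacts
import Cfsg.Agent.KFacts.RgdLocL

/-!
# ODD, D4: the facts `Inp` of `D4/Input.lean` over a root group datum

`r` a dominant long root of a root group datum of characteristic 2 with `⟨X x⟩ = Y`, `S = U`, `X = X r`,
`H = ⟨X a : ⟨a, r⟩ ≥ 0⟩`.

* `Pt R r T0` : the facts on `Y`;
* `KD K` : the facts on the standard component `K ≤ G`;
* `Pt.inp` : `Inp K (f U) (f (X r)) (f H)` for `f : Y →* G` injective with image `K`;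
* `Cov` : every root `x ≠ -r` has `⟨x, a⟩ ≥ 0` for some `a` in the orbit of `r` with `⟨a, r⟩ ≥ 0`.
-/

set_option autoImplicit false
set_option linter.unusedSectionVars false

namespace Cfsg.Agent.OddHalf.DblR

open CoxeterSystem Cfsg.Agent.ChevalleyStructure.CoxeterGeom Cfsg.Agent.Tits.Roots Cfsg.Agent.Tits.Core
  Cfsg.Agent.Tits.RootComb Cfsg.Agent.Tits.Exchange Cfsg.Agent.Nodes.Reps Cfsg.Agent.Nodes.BNOf
  Cfsg.Agent.Nodes.StabComb Cfsg.Agent.Nodes.Bruhat Cfsg.Agent.Nodes.OppDec Cfsg.Agent.Nodes.LeviDec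
  Cfsg.Agent.Nodes.NormX Cfsg.Agent.Nodes.Coroot Cfsg.Agent.Nodes.PosPair Cfsg.Agent.KFacts.RgdPar
  Cfsg.Agent.KFacts.RgdSL Cfsg.Agent.KFacts.RgdTI Cfsg.Agent.KFacts.RgdCent Cfsg.Agent.KFacts.RgdOdd
  Cfsg.Agent.KFacts.RgdEx Cfsg.Agent.KFacts.RgdTor Cfsg.Agent.KFacts.RgdKfour Cfsg.Agent.OddHalf.D4.Input
open scoped commutatorElement

variable {I W Y : Type*} [Fintype I] [DecidableEq I] [Group W] [Group Y] {M : CoxeterMatrix I}
  {cs : CoxeterSystem M W} {A : I → I → ℤ} {h : IsCartan M A} {T : Subgroup Y} {n : I → Y}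
  {X : (I → ℤ) → Subgroup Y}

/-- every root `x ≠ -r` has `⟨x, a⟩ ≥ 0` for some `a = w r` with `⟨a, r⟩ ≥ 0` -/
def Cov (cs : CoxeterSystem M W) (h : IsCartan M A) (r : I → ℤ) : Prop :=
  ∀ x, IsRoot cs h x → x ≠ -r → ∃ w : W, 0 ≤ cpr cs h (rep cs h w r) r ∧ 0 ≤ cpr cs h x (rep cs h w r)

/-- the reflection at a root -/
theorem exists_refl_root [Finite W] {x : I → ℤ} (hx : IsRoot cs h x) :
    ∃ w : W, ∀ y, rep cs h w y = y - cpr cs h y x • x := by
  obtain ⟨w, i, rfl⟩ := hx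
  exact ⟨w * cs.simple i * w⁻¹, fun y => rep_rfl'_eq cs h w i y⟩

/-- `Cov` if the multiplicities are at most two -/
theorem cov_of [Finite W] {r : I → ℤ} (hr : IsRoot cs h r) (hge : ∀ x, IsRoot cs h x → x ≠ -r → -1 ≤ cpr cs h x r)
    (h2 : ∀ x, IsRoot cs h x → cpr cs h x r = -1 → -2 ≤ cpr cs h r x) : Cov cs h r := by
  intro x hx hxr
  by_cases h0 : 0 ≤ cpr cs h x r
  · refine ⟨1, ?_, ?_⟩
    · rw [map_one, Module.End.one_apply, cpr_self cs h hr]; norm_num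
    · rw [map_one, Module.End.one_apply]; exact h0
  · have h1 : cpr cs h x r = -1 := by
      have := hge x hx hxr
      omega
    obtain ⟨w, hw⟩ := exists_refl_root hx
    have hwx : rep cs h w⁻¹ x = -x := by
      have h3 : rep cs h w x = -x := by
        rw [hw, cpr_self cs h hx]; module
      have h4 : rep cs h w (-x) = x := by rw [map_neg, h3, neg_neg]
      calc rep cs h w⁻¹ x = rep cs h w⁻¹ (rep cs h w (-x)) := by rw [h4]
        _ = -x := by rw [rep_inv_apply]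
    refine ⟨w, ?_, ?_⟩
    · rw [hw, sub_eq_add_neg, cpr_add cs h _ _ hr, cpr_neg cs h _ hr, cpr_smul cs h _ _ hr, cpr_self cs h hr, h1]
      have := h2 x hx h1
      omega
    · have h5 : cpr cs h x (rep cs h w r) = cpr cs h (rep cs h w⁻¹ x) r := by
        rw [cpr_rep_left _ _ hr, inv_inv]
      rw [h5, hwx, cpr_neg_left _ hr, h1]; norm_num

section

variable [Finite W] {R : RGD cs h 2 T n X} {r : I → ℤ}

/-- `C(x) ≤ J` for the involutions `x` of `⟨X a : ⟨a, r⟩ ≥ 0⟩` implies `J = Y` -/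
theorem gen_rgd (top : RGD.Sup X {x | IsRoot cs h x} = ⊤) (L : LG R r) {s : I → ℤ} (hA : A2 cs h r s)
    (cov : Cov cs h r) (J : Subgroup Y)
    (hJ : ∀ x ∈ RGD.Sup X (Ge cs h r), x * x = 1 → x ≠ 1 → ∀ k, k * x = x * k → k ∈ J) : J = ⊤ := by
  -- root groups
  have key : ∀ x, IsRoot cs h x → x ≠ -r → X x ≤ J := by
    intro x hx hxr
    obtain ⟨w, hw1, hw2⟩ := cov x hx hxr
    have La := L.act w
    obtain ⟨u, hu, hu1⟩ := exists_ne R L.root
    obtain ⟨k, hk⟩ := exists_rp cs R.nsys w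
    have hku := R.conj_mem hk L.root hu
    intro v hv
    have hmem : rep cs h w r ∈ Ge cs h r := ⟨La.root, hw1⟩
    apply hJ (k * u * k⁻¹) (RGD.le_Sup hmem hku)
    · calc k * u * k⁻¹ * (k * u * k⁻¹) = k * (u * u) * k⁻¹ := by group
        _ = 1 := by rw [sq_x hA R hu]; group
    · intro h0
      apply hu1
      calc u = k⁻¹ * (k * u * k⁻¹) * k := by group
        _ = 1 := by rw [h0]; group
    · exact La.lr.comm x hx hw2 v hv _ hku
  rw [eq_top_iff, ← top]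
  refine RGD.Sup_le fun x hx => ?_
  by_cases hxr : x = -r
  · -- `-r = s_s (-(r + s))`
    subst hxr
    have hs := hA.ry
    obtain ⟨u, hu, hu1⟩ := exists_ne R hs
    have hA' : A2 cs h s r := hA.symm
    obtain ⟨w, hw, m, hm, hmr, -⟩ := hA'.exists_mu' R hu hu1
    have h1 : rep cs h w (-(r + s)) = -r := by
      rw [hw, cpr_neg_left _ hs, cpr_add cs h _ _ hs, hA.cxy, cpr_self cs h hs]
      module
    have h2 : s ≠ -r := fun h0 => hA'.ne_neg h0
    have h3 : -s ≠ -r := fun h0 => hA.ne (neg_injective h0).symm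
    have h4 : -(r + s) ≠ -r := by
      intro h0
      have h5 := neg_injective h0
      exact hs.ne_zero (by simpa using h5)
    have hmJ : m ∈ J := (sup_le (key s hs h2) (key (-s) hs.neg h3)) hm
    intro v hv
    have h6 := R.conj_mem' hmr (hA.rxy.neg.act w) (u := v) (by rw [h1]; exact hv)
    rw [rep_inv_apply] at h6
    have h7 := key _ hA.rxy.neg h4 h6
    have e : v = m * (m⁻¹ * v * m) * m⁻¹ := by group
    rw [e]
    exact mul_mem (mul_mem hmJ h7) (inv_mem hmJ)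
  · exact key x hx hxr

end

/-- The facts on `Y`. -/
structure Pt [Finite W] (R : RGD cs h 2 T n X) (r : I → ℤ) (T0 : Subgroup Y) : Prop where
  top : RGD.Sup X {x | IsRoot cs h x} = ⊤
  tab : ∀ s ∈ T, ∀ t ∈ T, s * t = t * s
  long : LG R r
  dom : ∀ i, 0 ≤ cpr cs h (sr i) r
  a2 : ∃ s, A2 cs h r s
  cov : Cov cs h r
  k1 : ∀ α : MulAut Y, (∀ a ∈ Rad cs h r, ∀ x ∈ X a, α x = x) → ∃ z ∈ X r, α = MulAut.conj z
  perf : RGD.Sup X (Ge cs h r) ≤ ⁅RGD.Sup X (Ge cs h r), RGD.Sup X (Ge cs h r)⁆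
  out : ∀ H : Subgroup (MulAut Y), H ≤ ⁅H, H⁆ → ∀ α ∈ H, ∃ y, α = MulAut.conj y
  QN : ∀ p ∈ RGD.Sup X (Ge cs h r), ∀ q ∈ RGD.Sup X (Rad cs h r), p * q * p⁻¹ ∈ RGD.Sup X (Rad cs h r)
  QQ : ∀ q ∈ RGD.Sup X (Rad cs h r), ∀ q' ∈ RGD.Sup X (Rad cs h r), q * q' * q⁻¹ * q'⁻¹ ∈ X r
  TQ : ∀ t ∈ T0, ∀ p ∈ RGD.Sup X (Ge cs h r), t * p * t⁻¹ * p⁻¹ ∈ RGD.Sup X (Rad cs h r)
  Ttr : ∀ x ∈ X r, x ≠ 1 → ∀ y ∈ X r, y ≠ 1 → ∃ t ∈ T0, t * x * t⁻¹ = y

open Cfsg.Agent.OddHalf.D4 Cfsg.Agent.OddHalf.D4.Basic in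
/-- The facts on the standard component `K` which do not depend on its type. -/
structure KD {G : Type*} [Group G] (K : Subgroup G) : Prop where
  tight : TightAt K
  even : Even (Nat.card ↥(Subgroup.centralizer (K : Set G)))
  ctr : ∀ x ∈ K, x ∈ Subgroup.centralizer (K : Set G) → x = 1
  std : ∀ g : G, ¬ ∀ k ∈ K, ∀ l ∈ CommConj.cj g K, k * l = l * k
  simp : ∀ N : Subgroup G, N ≤ K → (∀ k ∈ K, ∀ y ∈ N, k * y * k⁻¹ ∈ N) → N = ⊥ ∨ N = K
  core : ∀ Q : Subgroup G, IsSyl Q (Subgroup.centralizer (K : Set G)) → ∀ P : Subgroup G,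
    P ≤ Subgroup.centralizer (K : Set G) → (∀ x ∈ P, ∀ q ∈ Q, x * q = q * x) → P ≤ ⁅P, P⁆ → P = ⊥

/-- Schreier -/
theorem out_map {G : Type*} [Group G] (f : Y →* G) (hf : Function.Injective f)
    (out : ∀ H : Subgroup (MulAut Y), H ≤ ⁅H, H⁆ → ∀ α ∈ H, ∃ y, α = MulAut.conj y) {H : Subgroup G}
    (hHN : H ≤ Subgroup.normalizer (f.range : Set G)) (hHp : H ≤ ⁅H, H⁆) {x : G} (hx : x ∈ H) :
    ∃ y, ∀ z, (f y)⁻¹ * x * f z = f z * ((f y)⁻¹ * x) := by
  let e : Y ≃* ↥f.range := MonoidHom.ofInjective hf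
  let φ : ↥(Subgroup.normalizer (f.range : Set G)) →* MulAut Y :=
    (MulAut.congr e.symm).toMonoidHom.comp (Subgroup.normalizerMonoidHom f.range)
  have hφ : ∀ (c : ↥(Subgroup.normalizer (f.range : Set G))) (y : Y), f (φ c y) = c * f y * (c : G)⁻¹ := by
    intro c y
    have h1 : φ c y = e.symm (Subgroup.normalizerMonoidHom f.range c (e y)) := rfl
    have h2 : ∀ z : ↥f.range, f (e.symm z) = z := by
      intro z
      have : ((e (e.symm z) : ↥f.range) : G) = z := by rw [MulEquiv.apply_symm_apply]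
      exact this
    rw [h1, h2]
    rfl
  have h1 : ((H.subgroupOf (Subgroup.normalizer (f.range : Set G))).map φ) ≤
      ⁅(H.subgroupOf (Subgroup.normalizer (f.range : Set G))).map φ,
        (H.subgroupOf (Subgroup.normalizer (f.range : Set G))).map φ⁆ := by
    rw [← Subgroup.map_commutator]
    apply Subgroup.map_mono
    intro y hy
    have hy' : (y : G) ∈ ⁅H, H⁆ := hHp (Subgroup.mem_subgroupOf.1 hy)
    have h2 : ⁅H, H⁆ = ⁅H.subgroupOf (Subgroup.normalizer (f.range : Set G)),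
        H.subgroupOf (Subgroup.normalizer (f.range : Set G))⁆.map (Subgroup.normalizer (f.range : Set G)).subtype := by
      rw [Subgroup.map_commutator, Subgroup.map_subgroupOf_eq_of_le hHN]
    rw [h2] at hy'
    obtain ⟨y', hy1, hy2⟩ := hy'
    have : y' = y := Subtype.ext hy2
    rwa [← this]
  have h2 : φ ⟨x, hHN hx⟩ ∈ (H.subgroupOf (Subgroup.normalizer (f.range : Set G))).map φ :=
    ⟨⟨x, hHN hx⟩, hx, rfl⟩
  obtain ⟨y, hy⟩ := out _ h1 _ h2
  refine ⟨y, fun z => ?_⟩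
  have h3 := hφ ⟨x, hHN hx⟩ z
  rw [hy, MulAut.conj_apply, map_mul, map_mul, map_inv] at h3
  have h4 : f y * f z * (f y)⁻¹ = x * f z * x⁻¹ := h3
  calc (f y)⁻¹ * x * f z = (f y)⁻¹ * (x * f z * x⁻¹) * x := by group
    _ = f z * ((f y)⁻¹ * x) := by rw [← h4]; group

theorem comap_perf {G : Type*} [Group G] (f : Y →* G) (hf : Function.Injective f) {P : Subgroup G}
    (hP : P ≤ f.range) (hp : P ≤ ⁅P, P⁆) : P.comap f ≤ ⁅P.comap f, P.comap f⁆ := by
  have h1 : (P.comap f).map f = P := by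
    rw [Subgroup.map_comap_eq, inf_eq_right]
    exact hP
  intro x hx
  have h2 : f x ∈ ⁅P, P⁆ := hp hx
  rw [← h1, ← Subgroup.map_commutator] at h2
  obtain ⟨y, hy, e⟩ := h2
  rwa [← hf e]

variable [Finite W] {R : RGD cs h 2 T n X} {r : I → ℤ} {T0 : Subgroup Y}

theorem Pt.nonneg (P : Pt R r T0) {x : I → ℤ} (hx : 0 ≤ x) : 0 ≤ cpr cs h x r :=
  dom_nonneg (f := ell cs h P.long.root) P.dom hx

theorem Pt.pos (P : Pt R r T0) {x : I → ℤ} (hx : IsRoot cs h x) (h1 : 1 ≤ cpr cs h x r) : x ∈ RGD.Pos cs h := by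
  refine ⟨hx, ?_⟩
  rcases hx.pos_or_neg with h2 | h2
  · exact h2
  · exfalso
    have h3 := P.nonneg (x := -x) (neg_nonneg.2 h2)
    rw [cpr_neg_left _ P.long.root] at h3
    omega

theorem Pt.U_le (P : Pt R r T0) : RGD.Sup X (RGD.Pos cs h) ≤ RGD.Sup X (Ge cs h r) :=
  RGD.Sup_mono fun _ hx => ⟨hx.1, P.nonneg hx.2⟩

theorem Pt.GG (P : Pt R r T0) : GG cs h T X = ⊤ := Cfsg.Agent.KFacts.RgdRigid.GG_eq_top P.top

/-- **the facts `Inp`** -/
theorem Pt.inp [Finite Y] {G : Type*} [Group G] [Finite G] (P : Pt R r T0) (f : Y →* G) (hf : Function.Injective f)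
    {K : Subgroup G} (hK : f.range = K) (D : KD K) :
    Inp K ((RGD.Sup X (RGD.Pos cs h)).map f) ((X r).map f) ((RGD.Sup X (Ge cs h r)).map f) := by
  subst hK
  have : Fact (Nat.Prime 2) := ⟨Nat.prime_two⟩
  have hr := P.long.root
  obtain ⟨s, hA⟩ := P.a2
  have hctr : ∀ y : Y, (∀ z, y * z = z * y) → y = 1 := by
    intro y hy
    apply hf
    rw [map_one]
    apply D.ctr _ ⟨y, rfl⟩
    rw [Subgroup.mem_centralizer_iff]
    rintro _ ⟨z, rfl⟩
    rw [← map_mul, ← map_mul, hy z]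
  have hQP : RGD.Sup X (Rad cs h r) ≤ RGD.Sup X (Ge cs h r) := RGD.Sup_mono fun x hx => ⟨hx.1, by have := hx.2; omega⟩
  have hXP : X r ≤ RGD.Sup X (Ge cs h r) := RGD.le_Sup ⟨hr, by rw [cpr_self cs h hr]; norm_num⟩
  have cQ : ∀ g ∈ RGD.Sup X (Ge cs h r), (∀ q ∈ RGD.Sup X (Rad cs h r), g * q = q * g) → g ∈ X r := by
    intro g _ hg
    obtain ⟨z, hz, e⟩ := P.k1 (MulAut.conj g) (by
      intro a ha x hx
      rw [MulAut.conj_apply, hg x (RGD.le_Sup ha hx)]; group)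
    have h1 : z⁻¹ * g = 1 := by
      apply hctr
      intro y
      have h2 := congrArg (fun φ : MulAut Y => φ y) e
      simp only [MulAut.conj_apply] at h2
      calc z⁻¹ * g * y = z⁻¹ * (g * y * g⁻¹) * g := by group
        _ = z⁻¹ * (z * y * z⁻¹) * g := by rw [h2]
        _ = _ := by group
    have h3 : g = z := by
      calc g = z * (z⁻¹ * g) := by group
        _ = z := by rw [h1, mul_one]
    rw [h3]; exact hz
  have hX1 : X r ≠ ⊥ := X_ne_bot R hr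
  refine ⟨?_, D.tight, D.even, D.ctr, D.std, D.simp, ?_, Subgroup.map_mono P.U_le, ?_, ?_, ?_, ?_, ?_, ?_, ?_, ?_, D.core⟩
  · -- Sylow
    obtain ⟨S, hS⟩ := Cfsg.Agent.KFacts.RgdAutFacts.exists_sylow R P.GG
    refine ⟨?_, ?_, ?_⟩
    · rw [← hS]; exact S.isPGroup'.map f
    · rintro _ ⟨y, -, rfl⟩
      exact ⟨y, rfl⟩
    · intro Q hQ hle hQK
      have h1 : IsPGroup 2 ↥(Q.comap f) := hQ.comap_of_injective f hf
      have h2 : (S : Subgroup Y) ≤ Q.comap f := by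
        rw [hS]
        exact Subgroup.map_le_iff_le_comap.1 hle
      have h3 := S.is_maximal' h1 h2
      intro q hq
      obtain ⟨y, rfl⟩ := hQK hq
      refine ⟨y, ?_, rfl⟩
      rw [← hS, ← h3]
      exact hq
  · -- `X ≤ S`
    apply Subgroup.map_mono
    exact RGD.le_Sup (P.pos hr (by rw [cpr_self cs h hr]; norm_num))
  · rintro _ ⟨y, -, rfl⟩
    exact ⟨y, rfl⟩
  · rintro _ ⟨y, hy, rfl⟩ _ ⟨x, hx, rfl⟩
    rw [← map_mul, ← map_mul, P.long.lr.comm' hy hx]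
  · rw [← Subgroup.map_commutator]
    exact Subgroup.map_mono P.perf
  · -- (F1)
    intro y hy _ hc
    obtain ⟨z, hz, hzc⟩ := Cfsg.Agent.KFacts.RgdAutChev.exists_of_aut f hf (S := {y | ∃ b ∈ Rad cs h r, y ∈ X b})
      (Z := X r) (fun α hα => P.k1 α fun b hb x hx => hα x ⟨b, hb, hx⟩) hy (by
      rintro x ⟨b, hb, hx⟩
      exact (hc (f x) ⟨x, RGD.le_Sup (P.pos hb.1 hb.2) hx, rfl⟩).symm)
    refine ⟨(f z)⁻¹ * y, ?_, f z, ⟨z, hz, rfl⟩, ?_⟩
    · rw [Subgroup.mem_centralizer_iff]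
      rintro _ ⟨x, rfl⟩
      exact (hzc x).symm
    · rw [hzc z]; group
  · -- `res`
    rintro _ ⟨w, hw, rfl⟩ hw1 P' hP' hPp hPw
    have h1 : P'.comap f ≤ RGD.Sup X (Ge cs h r) := by
      refine le_P_of_perfect R P.long.lr P.tab hw (fun h0 => hw1 (by rw [h0, map_one])) ?_ ?_
        (comap_perf f hf hP' hPp)
      · rw [P.GG]; exact le_top
      · intro y hy
        apply hf
        rw [map_mul, map_mul]
        exact hPw _ hy
    intro y hy
    obtain ⟨x, rfl⟩ := hP' hy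
    exact ⟨x, h1 hy, rfl⟩
  · -- Schreier
    intro H hHN hHp x hx
    obtain ⟨y, hy⟩ := out_map f hf P.out hHN hHp hx
    have e : x = f y * ((f y)⁻¹ * x) := by group
    rw [e]
    refine Subgroup.mul_mem_sup ⟨y, rfl⟩ ?_
    rw [Subgroup.mem_centralizer_iff]
    rintro _ ⟨z, rfl⟩
    exact (hy z).symm
  · -- `ind`
    intro A' B' hA' hB' hAB hdis hdec
    have hle : ∀ {C : Subgroup G}, C ≤ (RGD.Sup X (Ge cs h r)).map f → (C.comap f ≤ RGD.Sup X (Ge cs h r)) ∧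
        (C.comap f = ⊥ → C = ⊥) := by
      intro C hC
      refine ⟨?_, ?_⟩
      · intro x hx
        obtain ⟨y, hy, e⟩ := hC hx
        rwa [← hf e]
      · intro h0
        rw [eq_bot_iff]
        intro x hx
        obtain ⟨y, hy, rfl⟩ := hC hx
        have h1 : y ∈ C.comap f := hx
        rw [h0, Subgroup.mem_bot] at h1
        rw [h1, map_one]; exact one_mem _
    rcases ind_of hQP (fun x hx p hp => (P.long.lr.comm' hp hx).symm) P.QN P.TQ P.Ttr P.perf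
      (isPGroup_rad R hr) cQ P.QQ hX1 (A'.comap f) (B'.comap f) (hle hA').1 (hle hB').1 (by
        intro a ha b hb
        apply hf
        rw [map_mul, map_mul]
        exact hAB _ ha _ hb) (by
        rw [eq_bot_iff]
        rintro x ⟨hx1, hx2⟩
        have h1 : f x ∈ A' ⊓ B' := ⟨hx1, hx2⟩
        rw [hdis, Subgroup.mem_bot] at h1
        rw [Subgroup.mem_bot]
        apply hf
        rw [h1, map_one]) (by
        intro y hy
        obtain ⟨a, ha, b, hb, e⟩ := hdec (f y) ⟨y, hy, rfl⟩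
        obtain ⟨a', ha', rfl⟩ := hA' ha
        obtain ⟨b', hb', rfl⟩ := hB' hb
        exact ⟨a', ha, b', hb, hf (by rw [e, map_mul])⟩) with h1 | h1
    · exact Or.inl ((hle hA').2 h1)
    · exact Or.inr ((hle hB').2 h1)
  · -- `gen`
    intro J hJ
    have h1 := gen_rgd P.top P.long hA P.cov (J.comap f) (by
      intro x hx hxx hx1 k hk
      apply hJ (f x) ⟨x, hx, rfl⟩ (by rw [← map_mul, hxx, map_one]) (fun h0 => hx1 (hf (by rw [h0, map_one]))) _ ⟨k, rfl⟩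
      rw [← map_mul, ← map_mul, hk])
    rintro _ ⟨y, rfl⟩
    have h2 : y ∈ J.comap f := by rw [h1]; trivial
    exact h2

end Cfsg.Agent.OddHalf.DblR
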