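import Cfsg.Agent.OddHalf.DblR.Row
import Cfsg.Agent.OddHalf.SL.Two60
import Cfsg.Agent.KFacts.RgdSys
import Cfsg.Agent.KFacts.SLRow.SysA
import Cfsg.Agent.KFacts.SLRow.DSys
import Cfsg.Agent.KFacts.SLRow.OmegaPlus
import Cfsg.Agent.KFacts.SLRow.Chev
import Cfsg.Agent.KFacts.ChevTwoSysInst
import Cfsg.Agent.KFacts.ChevTwoInstE
import Cfsg.Agent.Schreier.ClassAll
import Cfsg.Agent.Schreier.Chev

/-!
# ODD, D4: the sheets of `L_n(q)` (`n ≥ 5`), `PΩ⁺_2m(q)` (`m ≥ 4`), `E_6(q)`, `E_7(q)`, `E_8(q)`, `q = 2^a ≥ 4`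

* `sheet_of_sys` : `Sheet R` from `ChevTwo.Sys`, simply laced, connected, rank at least 4, Schreier property;
* `HasSheet Y` : some root group datum of `Y` has a sheet;
* `hasSheet_psl`, `hasSheet_oplus`, `hasSheet_e6`, `hasSheet_e7`, `hasSheet_e8`.
-/

set_option autoImplicit false
set_option linter.unusedSectionVars false

namespace Cfsg.Agent.OddHalf.DblR.SheetInst

open CoxeterSystem Cfsg.Agent.ChevalleyStructure.CoxeterGeom Cfsg.Agent.Tits.Roots Cfsg.Agent.Tits.Core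
  Cfsg.Agent.Nodes.Reps Cfsg.Agent.Nodes.BNOf Cfsg.Agent.Nodes.Bruhat Cfsg.Agent.Nodes.Coroot
  Cfsg.Agent.KFacts.RgdPar Cfsg.Agent.KFacts.RgdSL Cfsg.Agent.KFacts.RgdTI Cfsg.Agent.KFacts.RgdCent
  Cfsg.Agent.KFacts.RgdOdd Cfsg.Agent.KFacts.RgdEx Cfsg.Agent.KFacts.RgdKfour
  Cfsg.Agent.KFacts.ChevTwo Cfsg.Agent.KFacts.RgdSys Cfsg.Agent.KFacts.SLRow.Def
  Cfsg.Agent.OddHalf.DblR Cfsg.Agent.Schreier.Basic
open scoped commutatorElement

section

variable {I W Y K : Type*} [Fintype I] [DecidableEq I] [Group W] [Group Y] [Field K] {M : CoxeterMatrix I}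
  {cs : CoxeterSystem M W} {A : I → I → ℤ} {h : IsCartan M A} {e : (I → ℤ) → K → Y} {T : Subgroup Y} {n : I → Y}
  {X : (I → ℤ) → Subgroup Y}

/-- `T` is abelian. -/
theorem tab_of_sys {R : RGD cs h 2 T n X} (S : Sys R e) (hN : NoCent cs h T X) :
    ∀ s ∈ T, ∀ t ∈ T, s * t = t * s := by
  intro s hs t ht
  refine ext_T S hN (mul_mem hs ht) (mul_mem ht hs) fun r hr a => ?_
  have e1 := chS_spec S hr hs
  have e2 := chS_spec S hr ht
  calc s * t * e r a * (s * t)⁻¹ = s * (t * e r a * t⁻¹) * s⁻¹ := by group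
    _ = t * (s * e r a * s⁻¹) * t⁻¹ := by rw [e2, e1, e1, e2, mul_left_comm]
    _ = t * s * e r a * (t * s)⁻¹ := by group

/-- A field with more than two elements: three different elements. -/
theorem exists_two [Finite K] (hK : 2 < Nat.card K) : ∃ a : K, a ≠ 0 ∧ a ≠ 1 := by
  classical
  have := Fintype.ofFinite K
  rw [Nat.card_eq_fintype_card] at hK
  by_contra hcon
  push Not at hcon
  have h1 : (Finset.univ : Finset K) ⊆ {0, 1} := by
    intro a _
    rw [Finset.mem_insert, Finset.mem_singleton]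
    by_cases ha : a = 0
    · exact Or.inl ha
    · exact Or.inr (hcon a ha)
  have h2 := Finset.card_le_card h1
  rw [Finset.card_univ] at h2
  have h3 : ({0, 1} : Finset K).card ≤ 2 := Finset.card_le_two
  omega

/-- **Sheets from `ChevTwo.Sys`.** -/
theorem sheet_of_sys [Finite W] [Finite K] [Finite Y] (R : RGD cs h 2 T n X) (S : Sys R e)
    (hG1 : RGD.Sup X {x | IsRoot cs h x} = ⊤) (hN : NoCent cs h T X) (h4 : ∀ i j, M i j ≠ 4)
    (h6 : ∀ i j, M i j ≠ 6) (hirr : Conn M) (hc4 : 4 ≤ Fintype.card I) (hK : 2 < Nat.card K) (hout : Sch Y) :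
    Sheet R := by
  have : Fact (Nat.Prime 2) := ⟨Nat.prime_two⟩
  have hs : SL cs h := Cfsg.Agent.KFacts.RgdKap.sl_of h4 h6
  have h3 : 3 ≤ Fintype.card I := by omega
  obtain ⟨a, ha0, ha1⟩ := exists_two hK
  have htwo : ∀ t : K, t + t = 0 := S.data.two
  have hF : ∃ a : K, a ≠ 0 ∧ a ^ 2 ≠ 1 := by
    refine ⟨a, ha0, fun h1 => ha1 ?_⟩
    have h2 : (a + 1) * (a + 1) = 0 := by
      have e1 : (a + 1) * (a + 1) = a ^ 2 + (a + a) + 1 := by ring
      rw [e1, htwo, h1, add_zero, htwo]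
    have h3 := mul_self_eq_zero.1 h2
    have h4 := htwo 1
    exact add_right_cancel (h3.trans h4.symm)
  refine
    { top := hG1
      sl := hs
      tab := tab_of_sys S hN
      sep := fun r hr => sep_of_two60 hs (Cfsg.Agent.OddHalf.SL.Two60.two60 h4 h6 hirr hc4) hr
      nb := fun a ha => Cfsg.Agent.KFacts.RgdKap.nb_of h4 h6 hirr h3 ha
      three := fun r s hr hs' hrs => Cfsg.Agent.KFacts.RgdKap.three_of h4 h6 hirr h3 hr hs' hrs
      nocent := hN
      big := ?_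
      k1 := fun r hr α hα => Cfsg.Agent.KFacts.RgdKap.k1_aut h4 h6 hirr h3 R hG1 hN (coords S hG1)
        (coroots S hG1 hN) (fullChar S hG1) hF hr hα
      k2 := fun r s hr hs' hrs α hα => Cfsg.Agent.KFacts.RgdKap.k2_aut h4 h6 hirr h3 R hG1 hN (coords S hG1)
        (coroots S hG1 hN) (fullChar S hG1) hF hr hs' hrs hα
      out := ?_ }
  · intro b hb
    refine ⟨e b 1, (S.mem_X b hb _).2 ⟨1, rfl⟩, e b a, (S.mem_X b hb _).2 ⟨a, rfl⟩, S.data.ne_one hb one_ne_zero,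
      S.data.ne_one hb ha0, fun h1 => ha1 (S.data.injective hb h1).symm⟩
  · intro H hH α hα
    have h1 : ⁅H, H⁆ = H := le_antisymm (Subgroup.commutator_le_self H) hH
    obtain ⟨y, hy⟩ := hout H h1 hα
    exact ⟨y, hy.symm⟩

end

universe u

/-- Some root group datum of the finite group `Y` has a sheet. -/
def HasSheet (Y : Type*) [Group Y] : Prop :=
  ∃ (l : ℕ) (M : CoxeterMatrix (Fin l)) (A : Fin l → Fin l → ℤ) (h : IsCartan M A) (T : Subgroup Y) (n : Fin l → Y)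
    (X : (Fin l → ℤ) → Subgroup Y) (_ : Finite M.Group) (R : RGD M.toCoxeterSystem h 2 T n X), Sheet R

/-- **`L_n(q)`, `n ≥ 5`, `q = 2^a ≥ 4`.** -/
theorem hasSheet_psl {n : ℕ} (hn : 5 ≤ n) (F : Type*) [Field F] [Finite F] [CharP F 2] (hF : 2 < Nat.card F) :
    HasSheet (Matrix.ProjectiveSpecialLinearGroup (Fin n) F) := by
  obtain ⟨n, rfl⟩ : ∃ m, n = m + 1 := ⟨n - 1, by omega⟩
  have : Fact (Nat.Prime 2) := ⟨Nat.prime_two⟩
  have hW : Finite (Cfsg.Agent.LieRecognition.BNCox.cA n).Group :=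
    Cfsg.Agent.Nodes.RootsA.finite_W (Cfsg.Agent.LieRecognition.BNCox.cA n).toCoxeterSystem
      (Cfsg.Agent.Nodes.RootsA.isCartan n)
  refine ⟨n, Cfsg.Agent.LieRecognition.BNCox.cA n, _, Cfsg.Agent.Nodes.RootsA.isCartan n, _, _, _, hW, _,
    sheet_of_sys _ (Cfsg.Agent.KFacts.SLRow.SysA.sys_PSL (F := F) _ _)
      (Cfsg.Agent.Nodes.RGDTypeA.G1_psl_eq_top _ _)
      (Cfsg.Agent.KFacts.SLRow.Psl.noCent (CharTwo.add_self_eq_zero) _ _)
      (fun i j => (Cfsg.Agent.KFacts.SLRow.Psl.cA_ne i j).1) (fun i j => (Cfsg.Agent.KFacts.SLRow.Psl.cA_ne i j).2)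
      Cfsg.Agent.KFacts.SLRow.Psl.conn_cA ?_ hF ?_⟩
  · rw [Fintype.card_fin]; omega
  · exact Cfsg.Agent.Schreier.ClassPSL.sch (by omega)

open Cfsg.Agent.LieClassical.OrthForms Cfsg.Agent.TitsThree.KSideO Cfsg.Agent.TitsThree.StdData
  Cfsg.Agent.Nodes.WittInst in
/-- **`PΩ⁺_2m(q)`, `m ≥ 4`, `q = 2^a ≥ 4`.** -/
theorem hasSheet_oplus {m : ℕ} (hm : 4 ≤ m) (F : Type*) [Field F] [Finite F] [CharP F 2] (hF : 2 < Nat.card F) :
    HasSheet (Cfsg.POmega F (Cfsg.quadFormPlus m F)) := by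
  have hsch : Sch (Cfsg.POmega F (Cfsg.quadFormPlus m F)) := Cfsg.Agent.Schreier.ClassPOmega.sch_plus hm
  obtain ⟨n, rfl⟩ : ∃ n, m = n + 2 := ⟨m - 2, by omega⟩
  have : Fact (Nat.Prime 2) := ⟨Nat.prime_two⟩
  rw [← coe_plusForm] at hsch ⊢
  have hG := Cfsg.Agent.KFacts.SLRow.OPlus.good_plus (n := n) (by omega) F
  have hW : Finite (Cfsg.Agent.Nodes.TypeD.M n).Group :=
    Cfsg.Agent.Nodes.TypeD.finite_W (Cfsg.Agent.Nodes.TypeD.M n).toCoxeterSystem
  have hgen := G1D_eq_top (wplus (n + 2) F) (toPOmega hG) (toPOmega_surjective hG) (adm_plus _)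
    (Cfsg.Agent.Nodes.TypeD.M n).toCoxeterSystem
  refine ⟨n + 2, Cfsg.Agent.Nodes.TypeD.M n, _, Cfsg.Agent.Nodes.TypeD.isCartan n, _, _, _, hW, _,
    sheet_of_sys _ (Cfsg.Agent.KFacts.SLRow.DSys.sys_OPlus F (by omega) _) hgen
      (Cfsg.Agent.KFacts.SLRow.OmegaPlus.noCent_of_center hgen
        (Cfsg.Agent.KFacts.SLRow.OmegaPlus.center_eq_bot F (by omega)))
      (fun i j => (Cfsg.Agent.KFacts.SLRow.OmegaPlus.M_ne n i j).1)
      (fun i j => (Cfsg.Agent.KFacts.SLRow.OmegaPlus.M_ne n i j).2)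
      (Cfsg.Agent.KFacts.SLRow.OmegaPlus.conn_M n (by omega)) ?_ hF hsch⟩
  rw [Fintype.card_fin]; omega

open Cfsg.Lie Cfsg.Agent.Nodes.RGDChev Cfsg.Agent.ChevalleyStructure.CoxeterGeomTypes in
/-- The simply laced Chevalley groups of rank at least `4`. -/
theorem hasSheet_group {D : ChevalleyDatum} {l : ℕ} {M : CoxeterMatrix (Fin l)} (hp : IsType D l M)
    (hD : D ∈ [chevD4, chevF4, chevE6, chevE7, chevE8]) (hOK : Cfsg.Agent.KFacts.ChevTwoInst.TwoOK D)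
    (h4 : ∀ i j, M i j ≠ 4) (h6 : ∀ i j, M i j ≠ 6)
    (hc : Conn M) (hl : 4 ≤ l) (K : Type u) [Field K] [Finite K] [CharP K 2] (hK : 2 < Nat.card K)
    (hsch : Sch ↥(D.group K)) : HasSheet ↥(D.group K) := by
  have : Fact (Nat.Prime 2) := ⟨Nat.prime_two⟩
  have hW : Finite M.Group := finite_W hp M.toCoxeterSystem
  refine ⟨l, M, _, hp.isCartan, _, _, _, hW, _,
    sheet_of_sys _ (Cfsg.Agent.KFacts.ChevTwoInst.sys (K := K) hp hOK M.toCoxeterSystem)
      (G1_eq_top hp M.toCoxeterSystem)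
      (Cfsg.Agent.KFacts.SLRow.OmegaPlus.noCent_of_center (G1_eq_top hp M.toCoxeterSystem) ?_)
      h4 h6 hc (by rw [Fintype.card_fin]; exact hl) hK hsch⟩
  obtain ⟨hs, hna⟩ := Cfsg.Agent.S1054.result (F := K) D hD
  rcases (inferInstance : (Subgroup.center ↥(D.group K)).Normal).eq_bot_or_eq_top with h | h
  · exact h
  · exfalso
    apply hna
    refine ⟨⟨fun a b => ?_⟩⟩
    have : b ∈ Subgroup.center ↥(D.group K) := by rw [h]; exact Subgroup.mem_top b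
    rw [Subgroup.mem_center_iff] at this
    exact this a

open Cfsg.Lie Cfsg.Agent.Nodes.RGDChev Cfsg.Agent.ChevalleyStructure.CoxeterGeomTypes in
/-- **`E_6(q)`, `q = 2^a ≥ 4`.** -/
theorem hasSheet_e6 (K : Type u) [Field K] [Finite K] [CharP K 2] (hK : 2 < Nat.card K) :
    HasSheet ↥(chevE6.group K) := by
  have : IsSimpleGroup ↥(chevE6.group K) := (Cfsg.Agent.S1054.result (F := K) chevE6 (by simp)).1
  exact hasSheet_group (M := CoxeterMatrix.E₆) (by simp [IsType, typeList]) (by simp)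
    Cfsg.Agent.KFacts.ChevTwoInst.twoOK_E6 (by intro i; fin_cases i <;> decide)
    (by intro i; fin_cases i <;> decide)
    (conn_of_parent ![0, 3, 1, 2, 3, 4] ![0, 3, 0, 2, 3, 4] (by decide) (by decide) (by decide)) (by norm_num) K hK
    (Cfsg.Agent.Schreier.Chev.sch_e6 K)

open Cfsg.Lie Cfsg.Agent.Nodes.RGDChev Cfsg.Agent.ChevalleyStructure.CoxeterGeomTypes in
/-- **`E_7(q)`, `q = 2^a ≥ 4`.** -/
theorem hasSheet_e7 (K : Type u) [Field K] [Finite K] [CharP K 2] (hK : 2 < Nat.card K) :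
    HasSheet ↥(chevE7.group K) := by
  have : IsSimpleGroup ↥(chevE7.group K) := (Cfsg.Agent.S1054.result (F := K) chevE7 (by simp)).1
  exact hasSheet_group (M := CoxeterMatrix.E₇) (by simp [IsType, typeList]) (by simp)
    Cfsg.Agent.KFacts.ChevTwoInst.twoOK_E7 (by intro i; fin_cases i <;> decide)
    (by intro i; fin_cases i <;> decide)
    (conn_of_parent ![0, 3, 1, 2, 3, 4, 5] ![0, 3, 0, 2, 3, 4, 5] (by decide) (by decide) (by decide)) (by norm_num)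
    K hK (Cfsg.Agent.Schreier.Chev.sch_e7 K)

open Cfsg.Lie Cfsg.Agent.Nodes.RGDChev Cfsg.Agent.ChevalleyStructure.CoxeterGeomTypes in
/-- **`E_8(q)`, `q = 2^a ≥ 4`.** -/
theorem hasSheet_e8 (K : Type u) [Field K] [Finite K] [CharP K 2] (hK : 2 < Nat.card K) :
    HasSheet ↥(chevE8.group K) := by
  have : IsSimpleGroup ↥(chevE8.group K) := (Cfsg.Agent.S1054.result (F := K) chevE8 (by simp)).1
  exact hasSheet_group (M := CoxeterMatrix.E₈) (by simp [IsType, typeList]) (by simp)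
    Cfsg.Agent.KFacts.ChevTwoInst.twoOK_E8 (by intro i; fin_cases i <;> decide)
    (by intro i; fin_cases i <;> decide)
    (conn_of_parent ![0, 3, 1, 2, 3, 4, 5, 6] ![0, 3, 0, 2, 3, 4, 5, 6] (by decide) (by decide) (by decide))
    (by norm_num) K hK (Cfsg.Agent.Schreier.Chev.sch_e8 K)

end Cfsg.Agent.OddHalf.DblR.SheetInst
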