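import Cfsg.Agent.OddHalf.DblR.RowW
import Cfsg.Agent.OddHalf.DblR.InputRgd
import Cfsg.Agent.OddHalf.DblR.InpEnd
import Cfsg.Agent.OddHalf.DblR.SheetInst

/-!
# ODD, D4: no full pair `K`, `L` with a Sylow 2-subgroup of `K` in `N(L)`, `K` simply laced over `𝔽_q`, `q = 2^a ≥ 4`

`L_n(q)` (`n ≥ 4`), `PΩ⁺_2m(q)` (`m ≥ 4`), `E_6(q)`, `E_7(q)`, `E_8(q)`.

* `exists_hel` : `T ∩ ⟨X y, X (-y)⟩` consists of the `h_y(c)`; `agr_of_sys`;
* `sheetW_of_sys` : `SheetW R` from `ChevTwo.Sys`, simply laced, connected, rank at least 3;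
* `SheetW.pt` : the facts `Pt` for a dominant root; **`SheetW.no_full`**;
* `HasSheetW`, `hasSheetW_psl`, `hasSheetW_oplus`, `hasSheetW_e6`, `hasSheetW_e7`, `hasSheetW_e8`;
* **`HasSheetW.no_full`**.
-/

set_option autoImplicit false
set_option linter.unusedSectionVars false

namespace Cfsg.Agent.OddHalf.DblR

open CoxeterSystem Cfsg.Agent.ChevalleyStructure.CoxeterGeom Cfsg.Agent.Tits.Roots Cfsg.Agent.Tits.Core
  Cfsg.Agent.Nodes.Reps Cfsg.Agent.Nodes.BNOf Cfsg.Agent.Nodes.Bruhat Cfsg.Agent.Nodes.Coroot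
  Cfsg.Agent.KFacts.RgdPar Cfsg.Agent.KFacts.RgdSL Cfsg.Agent.KFacts.RgdTI Cfsg.Agent.KFacts.RgdCent
  Cfsg.Agent.KFacts.RgdOdd Cfsg.Agent.KFacts.RgdEx Cfsg.Agent.KFacts.RgdTor Cfsg.Agent.KFacts.RgdKfour
  Cfsg.Agent.KFacts.ChevTwo Cfsg.Agent.KFacts.RgdSys Cfsg.Agent.KFacts.SLRow.Def Cfsg.Agent.Schreier.Basic
open scoped commutatorElement

section

variable {I W Y F : Type*} [Fintype I] [DecidableEq I] [Group W] [Group Y] [Field F] {M : CoxeterMatrix I}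
  {cs : CoxeterSystem M W} {A : I → I → ℤ} {h : IsCartan M A} {e : (I → ℤ) → F → Y} {T : Subgroup Y} {n : I → Y}
  {X : (I → ℤ) → Subgroup Y}

/-- `T ∩ ⟨X y, X (-y)⟩` -/
theorem exists_hel [Finite W] {R : RGD cs h 2 T n X} (S : Sys R e) (hG1 : RGD.Sup X {x | IsRoot cs h x} = ⊤)
    (hN : NoCent cs h T X) {y : I → ℤ} (hy : IsRoot cs h y) {t : Y} (ht : t ∈ T ⊓ (X y ⊔ X (-y))) :
    ∃ c, c ≠ 0 ∧ t = hel e y c := by
  obtain ⟨ht, ht'⟩ := ht
  rcases rank_one S hG1 hN hy ht' with ⟨a, c, hc, he⟩ | ⟨a, c, b, hc, he⟩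
  · refine ⟨c, hc, ?_⟩
    have h1 : e y a ∈ X y ⊓ T := by
      refine ⟨S.mem hy a, ?_⟩
      have h2 : e y a = t * (hel e y c)⁻¹ := by rw [he]; group
      exact h2 ▸ (mul_mem ht (inv_mem (hel_mem S hG1 hy hc)) : t * (hel e y c)⁻¹ ∈ T)
    rw [Cfsg.Agent.Nodes.OppDec.X_inf_T R hy, Subgroup.mem_bot] at h1
    rw [he, h1, one_mul]
  · exfalso
    -- `nel e y` normalises `X y`
    have key : ∀ v ∈ X y, nel e y * v * (nel e y)⁻¹ ∈ X y := by
      intro v hv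
      have e1 : nel e y = (hel e y c)⁻¹ * ((e y a)⁻¹ * t * (e y b)⁻¹) := by rw [he]; group
      have h1 : (e y b)⁻¹ * v * (e y b) ∈ X y := mul_mem (mul_mem (inv_mem (S.mem hy b)) hv) (S.mem hy b)
      have h2 := tor_mem R hy ht h1
      have h3 : (e y a)⁻¹ * (t * ((e y b)⁻¹ * v * e y b) * t⁻¹) * e y a ∈ X y :=
        mul_mem (mul_mem (inv_mem (S.mem hy a)) h2) (S.mem hy a)
      have h4 := tor_mem R hy (inv_mem (hel_mem S hG1 hy hc)) h3
      have e2 : nel e y * v * (nel e y)⁻¹ = (hel e y c)⁻¹ * ((e y a)⁻¹ * (t * ((e y b)⁻¹ * v * e y b) * t⁻¹) * e y a) *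
          (hel e y c)⁻¹⁻¹ := by
        rw [e1]; group
      rw [e2]
      exact h4
    have h1 := key _ (S.mem hy 1)
    have h2 := S.data.nel_conj hy hy 1
    rw [cpr_self cs h hy] at h2
    have h3 : y - (2 : ℤ) • y = -y := by rw [two_smul]; abel
    rw [h3] at h2
    rw [h2] at h1
    have hne : y ≠ -y := by
      intro e
      apply hy.ne_zero
      have : (2 : ℤ) • y = 0 := by
        rw [two_smul]; nth_rewrite 2 [e]; simp
      rcases smul_eq_zero.1 this with h3 | h3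
      · norm_num at h3
      · exact h3
    have h4 : e (-y) 1 ∈ X y ⊓ X (-y) := Subgroup.mem_inf.2 ⟨h1, S.mem hy.neg 1⟩
    rw [Cfsg.Agent.Nodes.OppDec.X_inf_X R hy hy.neg hne, Subgroup.mem_bot] at h4
    exact S.data.ne_one hy.neg one_ne_zero h4

theorem agr_of_sys [Finite W] {R : RGD cs h 2 T n X} (S : Sys R e) (hG1 : RGD.Sup X {x | IsRoot cs h x} = ⊤)
    (hN : NoCent cs h T X) {r : I → ℤ} (hr : IsRoot cs h r) : Agr cs h T X r := by
  intro a ha har b hb c hc hba hca k hk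
  obtain ⟨γ, hγ, rfl⟩ := exists_hel S hG1 hN hr hk
  refine ⟨hel e a γ, ⟨hel_mem S hG1 ha hγ, ?_⟩, ?_, ?_⟩
  · have hx : ∀ u, e a u ∈ X a ⊔ X (-a) := fun u => Subgroup.mem_sup_left (S.mem ha u)
    have hy : ∀ u, e (-a) u ∈ X a ⊔ X (-a) := fun u => Subgroup.mem_sup_right (S.mem ha.neg u)
    rw [hel_def]
    unfold nel
    rw [nc_def, nc_def]
    exact mul_mem (mul_mem (mul_mem (hx _) (hy _)) (hx _)) (mul_mem (mul_mem (hx _) (hy _)) (hx _))
  · intro v hv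
    obtain ⟨z, rfl⟩ := (S.mem_X b hb.1 v).1 hv
    rw [S.data.hel_conj hb.1 ha hγ, S.data.hel_conj hb.1 hr hγ, hba, hb.2]
  · intro v hv
    obtain ⟨z, rfl⟩ := (S.mem_X c hc.1 v).1 hv
    rw [S.data.hel_conj hc.1 ha hγ, S.data.hel_conj hc.1 hr hγ, hca, hc.2]

/-- **`SheetW` from `ChevTwo.Sys`.** -/
theorem sheetW_of_sys [Finite W] [Finite F] [Finite Y] (R : RGD cs h 2 T n X) (S : Sys R e)
    (hG1 : RGD.Sup X {x | IsRoot cs h x} = ⊤) (hN : NoCent cs h T X) (h4 : ∀ i j, M i j ≠ 4)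
    (h6 : ∀ i j, M i j ≠ 6) (hirr : Conn M) (h3 : 3 ≤ Fintype.card I) (hF : 2 < Nat.card F) (hout : Sch Y) :
    SheetW R := by
  have : Fact (Nat.Prime 2) := ⟨Nat.prime_two⟩
  have hs : SL cs h := Cfsg.Agent.KFacts.RgdKap.sl_of h4 h6
  obtain ⟨a, ha0, ha1⟩ := SheetInst.exists_two hF
  have htwo : ∀ t : F, t + t = 0 := S.data.two
  have hF : ∃ a : F, a ≠ 0 ∧ a ^ 2 ≠ 1 := by
    refine ⟨a, ha0, fun h1 => ha1 ?_⟩
    have h2 : (a + 1) * (a + 1) = 0 := by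
      have e1 : (a + 1) * (a + 1) = a ^ 2 + (a + a) + 1 := by ring
      rw [e1, htwo, h1, add_zero, htwo]
    have h3 := mul_self_eq_zero.1 h2
    have h4 := htwo 1
    exact add_right_cancel (h3.trans h4.symm)
  refine
    { top := hG1
      sl := hs
      tab := SheetInst.tab_of_sys S hN
      lev := ?_
      nb := fun a ha => Cfsg.Agent.KFacts.RgdKap.nb_of h4 h6 hirr h3 ha
      three := fun r s hr hs' hrs => Cfsg.Agent.KFacts.RgdKap.three_of h4 h6 hirr h3 hr hs' hrs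
      nocent := hN
      big := ?_
      k1 := fun r hr α hα => Cfsg.Agent.KFacts.RgdKap.k1_aut h4 h6 hirr h3 R hG1 hN (coords S hG1)
        (coroots S hG1 hN) (fullChar S hG1) hF hr hα
      k2 := fun r s hr hs' hrs α hα => Cfsg.Agent.KFacts.RgdKap.k2_aut h4 h6 hirr h3 R hG1 hN (coords S hG1)
        (coroots S hG1 hN) (fullChar S hG1) hF hr hs' hrs hα
      out := ?_
      agr := fun r hr => agr_of_sys S hG1 hN hr }
  · intro r hr b hb
    have hrb : cpr cs h r b = 1 := by rw [hs r b hr hb.1, hb.2]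
    obtain ⟨c, hc, hcr, hcb⟩ := Cfsg.Agent.KFacts.RgdKap.three_of h4 h6 hirr h3 hr hb.1 hrb
    have hbc : cpr cs h b c = 1 := by rw [hs b c hb.1 hc, hcb]
    have hd : IsRoot cs h (b - c) := isRoot_sub hb.1 hc hbc
    refine ⟨b - c, hd, ?_, ?_⟩
    · rw [cpr_sub_left hs hr hr hr, hb.2, hcr]; norm_num
    · rw [hs b _ hb.1 hd, cpr_sub_left hs hb.1 hb.1 hb.1, cpr_self cs h hb.1, hcb]; norm_num
  · intro b hb
    refine ⟨e b 1, (S.mem_X b hb _).2 ⟨1, rfl⟩, e b a, (S.mem_X b hb _).2 ⟨a, rfl⟩, S.data.ne_one hb one_ne_zero,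
      S.data.ne_one hb ha0, fun h1 => ha1 (S.data.injective hb h1).symm⟩
  · intro H hH α hα
    have h1 : ⁅H, H⁆ = H := le_antisymm (Subgroup.commutator_le_self H) hH
    obtain ⟨y, hy⟩ := hout H h1 hα
    exact ⟨y, hy.symm⟩

/-! ### LEMMA INPUT -/

variable [Finite W] {R : RGD cs h 2 T n X}

theorem SheetW.pt [Finite Y] (S : SheetW R) {r : I → ℤ} (hr : IsRoot cs h r) (hdom : ∀ i, 0 ≤ cpr cs h (sr i) r) :
    Pt R r (T ⊓ (X r ⊔ X (-r))) := by
  have H := S.hyp hr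
  obtain ⟨b, hb, hrb⟩ := S.nb r hr
  refine ⟨S.top, S.tab, LG.of_le (H.lr r hr) ?_, hdom, ⟨-b, S.sl.a2 hr hb.neg ?_⟩, ?_, S.k1 r hr, H.perfect S.big, S.out,
    fun p hp q hq => H.QN hp hq, fun q hq q' hq' => ?_, fun t ht p hp => H.tq ht hp, ?_⟩
  · intro y hy hne
    rcases S.sl.cases hy hr with h1 | h1 | h1
    · exact absurd h1.1 hne
    · omega
    · omega
  · rw [cpr_neg_right cs h _ hb, hrb]
  · refine cov_of hr ?_ ?_
    · intro x hx hne
      rcases S.sl.cases hx hr with h1 | h1 | h1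
      · omega
      · exact absurd h1.1 hne
      · omega
    · intro x hx h1
      rw [S.sl r x hr hx, h1]; norm_num
  · have := H.br_Q hq hq'
    rwa [commutatorElement_def] at this
  · intro x hx hx1 y hy hy1
    have hA' : A2 cs h r (-b) := by
      refine S.sl.a2 hr hb.neg ?_
      rw [cpr_neg_right cs h _ hb, hrb]
    exact tor_self hA' R S.tab hx hx1 hy hy1

open Cfsg.Agent.OddHalf.D4 Cfsg.Agent.OddHalf.D4.Basic Cfsg.Agent.OddHalf.D4.Input Subgroup in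
/-- **No full pair `K`, `L` such that `N(L)` contains a Sylow 2-subgroup of `K`.** -/
theorem SheetW.no_full [Finite Y] [Nonempty I] (S : SheetW R) {G : Type*} [Group G] [Finite G] (f : Y →* G)
    (hf : Function.Injective f) {K : Subgroup G} (hK : f.range = K) (D : KD K)
    (hrk : ¬ PRankLE 2 1 ↥(centralizer (K : Set G))) {L Q U : Subgroup G} (hp : FullPair K L Q U) {S' : Subgroup G}
    (hS' : IsSyl S' K) (hS'L : S' ≤ normalizer (L : Set G)) : False := by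
  obtain ⟨i⟩ := (inferInstance : Nonempty I)
  have hi := isRoot_sr cs h i
  obtain ⟨w, hw⟩ := ((S.hyp hi).lr _ hi).exists_dominant
  have hr : IsRoot cs h (rep cs h w (sr i)) := hi.act w
  have P := (S.pt hr hw).inp f hf hK D
  refine P.no_full ?_ hrk hp hS' hS'L
  intro E hE hE2 hEmax hC1 t t' ht ht1 ht' ht1' hne γ k hk h1 h2 h3
  exact S.row f hf hK P.std1 hE hE2 hEmax hC1 ht ht1 ht' ht1' hne hr hk h1 h2 h3

end

/-! ### Instances -/

universe u

/-- Some root group datum of the finite group `Y` has a sheet. -/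
def HasSheetW (Y : Type*) [Group Y] : Prop :=
  ∃ (l : ℕ) (M : CoxeterMatrix (Fin (l + 1))) (A : Fin (l + 1) → Fin (l + 1) → ℤ) (h : IsCartan M A) (T : Subgroup Y)
    (n : Fin (l + 1) → Y) (X : (Fin (l + 1) → ℤ) → Subgroup Y) (_ : Finite M.Group)
    (R : RGD M.toCoxeterSystem h 2 T n X), SheetW R

open Cfsg.Agent.OddHalf.D4 Cfsg.Agent.OddHalf.D4.Basic Cfsg.Agent.OddHalf.D4.Input Subgroup in
/-- **No full pair `K`, `L` such that `N(L)` contains a Sylow 2-subgroup of `K`.** -/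
theorem HasSheetW.no_full {Y : Type*} [Group Y] [Finite Y] (H : HasSheetW Y) {G : Type*} [Group G] [Finite G]
    {K : Subgroup G} (e : Y ≃* ↥K) (D : KD K)
    (hrk : ¬ PRankLE 2 1 ↥(centralizer (K : Set G))) {L Q U : Subgroup G} (hp : FullPair K L Q U) {S' : Subgroup G}
    (hS' : IsSyl S' K) (hS'L : S' ≤ normalizer (L : Set G)) : False := by
  obtain ⟨l, M, A, h, T, n, X, hW, R, S⟩ := H
  refine S.no_full (K.subtype.comp e.toMonoidHom) ?_ ?_ D hrk hp hS' hS'L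
  · exact (K.subtype_injective).comp e.injective
  · ext x
    constructor
    · rintro ⟨y, rfl⟩
      exact (e y).2
    · intro hx
      exact ⟨e.symm ⟨x, hx⟩, by simp⟩

/-- **`L_n(q)`, `n ≥ 4`, `q = 2^a ≥ 4`.** -/
theorem hasSheetW_psl {n : ℕ} (hn : 4 ≤ n) (F : Type*) [Field F] [Finite F] [CharP F 2] (hF : 2 < Nat.card F) :
    HasSheetW (Matrix.ProjectiveSpecialLinearGroup (Fin n) F) := by
  obtain ⟨n, rfl⟩ : ∃ m, n = m + 1 + 1 := ⟨n - 2, by omega⟩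
  have : Fact (Nat.Prime 2) := ⟨Nat.prime_two⟩
  have hW : Finite (Cfsg.Agent.LieRecognition.BNCox.cA (n + 1)).Group :=
    Cfsg.Agent.Nodes.RootsA.finite_W (Cfsg.Agent.LieRecognition.BNCox.cA (n + 1)).toCoxeterSystem
      (Cfsg.Agent.Nodes.RootsA.isCartan (n + 1))
  refine ⟨n, Cfsg.Agent.LieRecognition.BNCox.cA (n + 1), _, Cfsg.Agent.Nodes.RootsA.isCartan (n + 1), _, _, _, hW, _,
    sheetW_of_sys _ (Cfsg.Agent.KFacts.SLRow.SysA.sys_PSL (F := F) _ _)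
      (Cfsg.Agent.Nodes.RGDTypeA.G1_psl_eq_top _ _)
      (Cfsg.Agent.KFacts.SLRow.Psl.noCent (CharTwo.add_self_eq_zero) _ _)
      (fun i j => (Cfsg.Agent.KFacts.SLRow.Psl.cA_ne i j).1) (fun i j => (Cfsg.Agent.KFacts.SLRow.Psl.cA_ne i j).2)
      Cfsg.Agent.KFacts.SLRow.Psl.conn_cA ?_ hF ?_⟩
  · rw [Fintype.card_fin]; omega
  · exact Cfsg.Agent.Schreier.ClassPSL.sch (by omega)

open Cfsg.Agent.LieClassical.OrthForms Cfsg.Agent.TitsThree.KSideO Cfsg.Agent.TitsThree.StdData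
  Cfsg.Agent.Nodes.WittInst in
/-- **`PΩ⁺_2m(q)`, `m ≥ 4`, `q = 2^a ≥ 4`.** -/
theorem hasSheetW_oplus {m : ℕ} (hm : 4 ≤ m) (F : Type*) [Field F] [Finite F] [CharP F 2] (hF : 2 < Nat.card F) :
    HasSheetW (Cfsg.POmega F (Cfsg.quadFormPlus m F)) := by
  have hsch : Sch (Cfsg.POmega F (Cfsg.quadFormPlus m F)) := Cfsg.Agent.Schreier.ClassPOmega.sch_plus hm
  obtain ⟨n, rfl⟩ : ∃ n, m = n + 2 := ⟨m - 2, by omega⟩
  have : Fact (Nat.Prime 2) := ⟨Nat.prime_two⟩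
  rw [← coe_plusForm] at hsch ⊢
  have hG := Cfsg.Agent.KFacts.SLRow.OPlus.good_plus (n := n) (by omega) F
  have hW : Finite (Cfsg.Agent.Nodes.TypeD.M n).Group :=
    Cfsg.Agent.Nodes.TypeD.finite_W (Cfsg.Agent.Nodes.TypeD.M n).toCoxeterSystem
  have hgen := G1D_eq_top (wplus (n + 2) F) (toPOmega hG) (toPOmega_surjective hG) (adm_plus _)
    (Cfsg.Agent.Nodes.TypeD.M n).toCoxeterSystem
  refine ⟨n + 1, Cfsg.Agent.Nodes.TypeD.M n, _, Cfsg.Agent.Nodes.TypeD.isCartan n, _, _, _, hW, _,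
    sheetW_of_sys _ (Cfsg.Agent.KFacts.SLRow.DSys.sys_OPlus F (by omega) _) hgen
      (Cfsg.Agent.KFacts.SLRow.OmegaPlus.noCent_of_center hgen
        (Cfsg.Agent.KFacts.SLRow.OmegaPlus.center_eq_bot F (by omega)))
      (fun i j => (Cfsg.Agent.KFacts.SLRow.OmegaPlus.M_ne n i j).1)
      (fun i j => (Cfsg.Agent.KFacts.SLRow.OmegaPlus.M_ne n i j).2)
      (Cfsg.Agent.KFacts.SLRow.OmegaPlus.conn_M n (by omega)) ?_ hF hsch⟩
  rw [Fintype.card_fin]; omega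

open Cfsg.Lie Cfsg.Agent.Nodes.RGDChev Cfsg.Agent.ChevalleyStructure.CoxeterGeomTypes in
/-- The simply laced Chevalley groups of rank at least `3`. -/
theorem hasSheetW_group {D : ChevalleyDatum} {l : ℕ} {M : CoxeterMatrix (Fin (l + 1))} (hp : IsType D (l + 1) M)
    (hD : D ∈ [chevD4, chevF4, chevE6, chevE7, chevE8]) (hOK : Cfsg.Agent.KFacts.ChevTwoInst.TwoOK D)
    (h4 : ∀ i j, M i j ≠ 4) (h6 : ∀ i j, M i j ≠ 6)
    (hc : Conn M) (hl : 2 ≤ l) (K : Type u) [Field K] [Finite K] [CharP K 2] (hK : 2 < Nat.card K)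
    (hsch : Sch ↥(D.group K)) : HasSheetW ↥(D.group K) := by
  have : Fact (Nat.Prime 2) := ⟨Nat.prime_two⟩
  have hW : Finite M.Group := finite_W hp M.toCoxeterSystem
  refine ⟨l, M, _, hp.isCartan, _, _, _, hW, _,
    sheetW_of_sys _ (Cfsg.Agent.KFacts.ChevTwoInst.sys (K := K) hp hOK M.toCoxeterSystem)
      (G1_eq_top hp M.toCoxeterSystem)
      (Cfsg.Agent.KFacts.SLRow.OmegaPlus.noCent_of_center (G1_eq_top hp M.toCoxeterSystem) ?_)
      h4 h6 hc (by rw [Fintype.card_fin]; omega) hK hsch⟩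
  obtain ⟨hs, hna⟩ := Cfsg.Agent.S1054.result (F := K) D hD
  rcases (inferInstance : (Subgroup.center ↥(D.group K)).Normal).eq_bot_or_eq_top with h | h
  · exact h
  · exfalso
    apply hna
    refine ⟨⟨fun a b => ?_⟩⟩
    have : b ∈ Subgroup.center ↥(D.group K) := by rw [h]; exact Subgroup.mem_top b
    rw [Subgroup.mem_center_iff] at this
    exact this a

open Cfsg.Lie Cfsg.Agent.Nodes.RGDChev Cfsg.Agent.ChevalleyStructure.CoxeterGeomTypes in
/-- **`E_6(q)`, `q = 2^a ≥ 4`.** -/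
theorem hasSheetW_e6 (K : Type u) [Field K] [Finite K] [CharP K 2] (hK : 2 < Nat.card K) :
    HasSheetW ↥(chevE6.group K) := by
  have : IsSimpleGroup ↥(chevE6.group K) := (Cfsg.Agent.S1054.result (F := K) chevE6 (by simp)).1
  exact hasSheetW_group (l := 5) (M := CoxeterMatrix.E₆) (by simp [IsType, typeList]) (by simp)
    Cfsg.Agent.KFacts.ChevTwoInst.twoOK_E6 (by intro i; fin_cases i <;> decide)
    (by intro i; fin_cases i <;> decide)
    (conn_of_parent ![0, 3, 1, 2, 3, 4] ![0, 3, 0, 2, 3, 4] (by decide) (by decide) (by decide)) (by norm_num) K hK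
    (Cfsg.Agent.Schreier.Chev.sch_e6 K)

open Cfsg.Lie Cfsg.Agent.Nodes.RGDChev Cfsg.Agent.ChevalleyStructure.CoxeterGeomTypes in
/-- **`E_7(q)`, `q = 2^a ≥ 4`.** -/
theorem hasSheetW_e7 (K : Type u) [Field K] [Finite K] [CharP K 2] (hK : 2 < Nat.card K) :
    HasSheetW ↥(chevE7.group K) := by
  have : IsSimpleGroup ↥(chevE7.group K) := (Cfsg.Agent.S1054.result (F := K) chevE7 (by simp)).1
  exact hasSheetW_group (l := 6) (M := CoxeterMatrix.E₇) (by simp [IsType, typeList]) (by simp)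
    Cfsg.Agent.KFacts.ChevTwoInst.twoOK_E7 (by intro i; fin_cases i <;> decide)
    (by intro i; fin_cases i <;> decide)
    (conn_of_parent ![0, 3, 1, 2, 3, 4, 5] ![0, 3, 0, 2, 3, 4, 5] (by decide) (by decide) (by decide)) (by norm_num)
    K hK (Cfsg.Agent.Schreier.Chev.sch_e7 K)

open Cfsg.Lie Cfsg.Agent.Nodes.RGDChev Cfsg.Agent.ChevalleyStructure.CoxeterGeomTypes in
/-- **`E_8(q)`, `q = 2^a ≥ 4`.** -/
theorem hasSheetW_e8 (K : Type u) [Field K] [Finite K] [CharP K 2] (hK : 2 < Nat.card K) :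
    HasSheetW ↥(chevE8.group K) := by
  have : IsSimpleGroup ↥(chevE8.group K) := (Cfsg.Agent.S1054.result (F := K) chevE8 (by simp)).1
  exact hasSheetW_group (l := 7) (M := CoxeterMatrix.E₈) (by simp [IsType, typeList]) (by simp)
    Cfsg.Agent.KFacts.ChevTwoInst.twoOK_E8 (by intro i; fin_cases i <;> decide)
    (by intro i; fin_cases i <;> decide)
    (conn_of_parent ![0, 3, 1, 2, 3, 4, 5, 6] ![0, 3, 0, 2, 3, 4, 5, 6] (by decide) (by decide) (by decide))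
    (by norm_num) K hK (Cfsg.Agent.Schreier.Chev.sch_e8 K)

end Cfsg.Agent.OddHalf.DblR
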