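import Cfsg.Agent.OddHalf.DblR.UnRow
import Cfsg.Agent.OddHalf.D4.UnB.Main

/-!
# ODD, D4: the rows `U_4(q)`, `U_5(q)`, `U_n(q)` (`n ≥ 6`), `q = 2^a ≥ 4`, complete (helper350)

`UnBF` holds (helper780, helper642, helper638); **`u4e`**, **`u5e`**, **`une`**.
-/

set_option autoImplicit false

namespace Cfsg.Agent.OddHalf.DblR.UnRowFin

open Cfsg Subgroup Cfsg.Agent.OddHalf.D4

universe u

theorem unBF : UnRow.UnBF.{u} := by
  intro G _ _ K F _ _ a n ha hF hn _ e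
  have : CharP F 2 := UnRow.charTwo hF
  have h4 := UnRow.four_le ha
  exact UnB.bFacts (UnRow.card_sq hF) (by omega) (by omega) e

/-- **D4, `K ≅ U_4(2^a)`, `a ≥ 2`.** -/
theorem u4e (h1173 : Start.P1173.{u}) (hFT : CoreOf.FTu.{u}) : Cut.Row1.{u} (fun K _ => Cut.U4e K) :=
  UnRow.u4e h1173 hFT unBF

/-- **D4, `K ≅ U_5(2^a)`, `a ≥ 2`.** -/
theorem u5e (h1173 : Start.P1173.{u}) (hFT : CoreOf.FTu.{u}) : Cut.Row1.{u} (fun K _ => Cut.U5e K) :=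
  UnRow.u5e h1173 hFT unBF

/-- **D4, `K ≅ U_n(2^a)`, `n ≥ 6`, `a ≥ 2`.** -/
theorem une (h1173 : Start.P1173.{u}) (hFT : CoreOf.FTu.{u}) : Cut.Row1.{u} (fun K _ => Cut.Une K) :=
  UnRow.une h1173 hFT unBF

end Cfsg.Agent.OddHalf.DblR.UnRowFin
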