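import Cfsg.Agent.OddHalf.DblR.ExistS
import Cfsg.Agent.OddHalf.DblR.Fam

/-!
# ODD, D4: from a pair of root type to the doubled root group (helper350)

* `DW.comm` : the doubled root group is abelian if the torus acts transitively on `X`;
* `DW.upgrade` : `W` centralises elements of odd order centralising `X`;
* `LocS.exists_base`, **`LocS.base_of_pair`** : `R^g ≤ R X`, `R ≤ (R X)^(k g)`, `g` moves `R` gives the doubled root
  group, invariant under `N_K(X)`, abelian.
-/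

set_option autoImplicit false

namespace Cfsg.Agent.OddHalf.DblR

open Cfsg.Agent.Nodes.Reps

variable {G : Type*} [Group G]

/-- `W` is abelian -/
theorem DW.comm {K R P X W T0 : Subgroup G} (A : Amb K R) (D : DW K R P X W) (TK : T0 ≤ K)
    (TW : ∀ h ∈ T0, ∀ w ∈ W, h * w * h⁻¹ ∈ W) (Tab : ∀ h ∈ T0, ∀ k ∈ T0, h * k = k * h)
    (Ttr : ∀ x ∈ X, x ≠ 1 → ∀ y ∈ X, y ≠ 1 → ∃ h ∈ T0, h * x * h⁻¹ = y)
    (hsq : ∀ w ∈ W, w * w ∈ X) {t : G} (ht : t ∈ R) (ht1 : t ≠ 1) : ∀ v ∈ W, ∀ w ∈ W, v * w = w * v := by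
  by_cases h0 : ∀ w ∈ W, w * w = 1
  · intro v hv w hw
    have h1 := h0 _ (mul_mem hv hw)
    have h2 : ∀ w ∈ W, w⁻¹ = w := fun w hw => inv_eq_of_mul_eq_one_left (h0 w hw)
    calc v * w = (v * w)⁻¹ := (h2 _ (mul_mem hv hw)).symm
      _ = w⁻¹ * v⁻¹ := by group
      _ = w * v := by rw [h2 w hw, h2 v hv]
  push Not at h0
  obtain ⟨w0, hw0, hne⟩ := h0
  have hx0 := D.brk t ht w0 hw0
  have hx01 : br t w0 ≠ 1 := by
    intro h
    exact hne (D.XX _ (D.fix t ht ht1 w0 hw0 (br_eq_one.mp h)))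
  obtain ⟨k, hk, ek⟩ := Ttr _ hx0 hx01 _ (hsq w0 hw0) hne
  have key : ∀ w ∈ W, w * w = k * br t w * k⁻¹ := by
    intro w hw
    by_cases hb : br t w = 1
    · rw [hb, D.XX _ (D.fix t ht ht1 w hw (br_eq_one.mp hb))]; group
    · obtain ⟨h, hh, eh⟩ := Ttr _ hx0 hx01 _ (D.brk t ht w hw) hb
      have h1 : br t (h * w0 * h⁻¹) = br t w := by rw [br_conj (A.comm t ht h (TK hh)), eh]
      have h2 := D.eq_of_br ht ht1 hw (TW h hh w0 hw0) h1.symm
      obtain ⟨x, hx, ex⟩ : ∃ x ∈ X, w = x * (h * w0 * h⁻¹) := ⟨_, h2, by group⟩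
      have h3 : (h * w0 * h⁻¹) * x = x * (h * w0 * h⁻¹) := D.wx (TW h hh w0 hw0) hx
      have hab := Tab h hh k hk
      calc w * w = x * ((h * w0 * h⁻¹) * x) * (h * w0 * h⁻¹) := by rw [ex]; group
        _ = (x * x) * (h * (w0 * w0) * h⁻¹) := by rw [h3]; group
        _ = h * (k * br t w0 * k⁻¹) * h⁻¹ := by rw [D.XX x hx, ek]; group
        _ = (h * k) * br t w0 * (h * k)⁻¹ := by group
        _ = (k * h) * br t w0 * (k * h)⁻¹ := by rw [hab]
        _ = k * (h * br t w0 * h⁻¹) * k⁻¹ := by group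
        _ = k * br t w * k⁻¹ := by rw [eh]
  intro v hv w hw
  have h1 := key _ (mul_mem hv hw)
  rw [D.br_mul ht hv hw] at h1
  have h2 : k * (br t v * br t w) * k⁻¹ = (k * br t v * k⁻¹) * (k * br t w * k⁻¹) := by group
  rw [h2, ← key v hv, ← key w hw] at h1
  have h3 : v⁻¹ * (v * w * (v * w)) * w⁻¹ = v⁻¹ * (v * v * (w * w)) * w⁻¹ := by rw [h1]
  calc v * w = v⁻¹ * (v * v * (w * w)) * w⁻¹ := by group
    _ = v⁻¹ * (v * w * (v * w)) * w⁻¹ := h3.symm
    _ = w * v := by group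

/-- `W` centralises elements of odd order centralising `X` and normalising `W` -/
theorem DW.upgrade {K R P P' X W : Subgroup G} (A : Amb K R) (D : DW K R P X W) {t : G} (ht : t ∈ R) (ht1 : t ≠ 1)
    (hPP : P ≤ P') (hPK : P' ≤ K)
    (h : ∀ p ∈ P', ∃ a ∈ P, ∃ τ ∈ K, p = a * τ ∧ (∀ x ∈ X, τ * x = x * τ) ∧ (∀ w ∈ W, τ * w * τ⁻¹ ∈ W) ∧
      ∃ m : ℕ, Odd m ∧ τ ^ m = 1) : DW K R P' X W where
  XP := D.XP.trans hPP
  PK := hPK
  XW := D.XW
  XX := D.XX
  WP := by
    intro w hw p hp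
    obtain ⟨a, ha, τ, hτ, rfl, h1, h2, m, hm, hτm⟩ := h p hp
    have h3 := D.WP w hw a ha
    have h4 := D.cen A ht ht1 hτ h2 h1 hm hτm w hw
    calc w * (a * τ) = (w * a) * τ := by group
      _ = a * (w * τ) := by rw [h3]; group
      _ = a * τ * w := by rw [← h4]; group
  brk := D.brk
  fix := D.fix
  surj := D.surj
  C1W := D.C1W

/-- the doubled root group, abelian and invariant under `N_K(X)` -/
theorem LocS.exists_base [Finite G] {K R P Q X T0 : Subgroup G} (L : LocS K R P Q X T0) (N : NorX K P X T0) {g : G}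
    (gP : cj g P = P) (gQ : cj g Q = Q) (gX : cj g X = X)
    (gR : ∀ a ∈ R, ∃ b ∈ R, ∃ x ∈ X, g * a * g⁻¹ = b * x) (hg : ∃ a ∈ R, g * a * g⁻¹ ∉ R) :
    ∃ W, Base K R P X W ∧ ∀ v ∈ W, ∀ w ∈ W, v * w = w * v := by
  have invX : ∀ {k x : G} {A : Subgroup G}, cj k A = A → x ∈ A → k * x * k⁻¹ ∈ A := by
    intro k x A h hx
    have := conj_mem_cj (g := k).2 hx
    rwa [h] at this
  obtain ⟨t, ht, ht1⟩ : ∃ t ∈ R, t ≠ 1 := by
    obtain ⟨a, ha, h⟩ := hg
    refine ⟨a, ha, ?_⟩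
    rintro rfl
    apply h
    have e : g * 1 * g⁻¹ = (1 : G) := by group
    rw [e]; exact one_mem _
  obtain ⟨h0, hh0, -, W, D, hsq, -, hTW, hW⟩ := L.exists_dw (fun p hp => invX gP hp) (fun p hp => invX gQ hp)
    (fun p hp => invX gX hp) gR hg
  have B : Base K R P X W := by
    refine ⟨D, ?_⟩
    have key : ∀ k ∈ K, cj k X = X → cj k W ≤ W := by
      intro k hk hX
      rintro w hw
      rw [mem_cj] at hw
      obtain ⟨p, hp, e⟩ := N.nh k hk hX h0 hh0
      have := hW k hk ⟨p, hp, e⟩ (fun p hp => invX (N.nP k hk hX) hp) (fun x hx => invX hX hx) _ hw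
      have e2 : k * (k⁻¹ * w * k) * k⁻¹ = w := by group
      rwa [e2] at this
    intro k hk hX
    apply le_antisymm (key k hk hX)
    have hX' : cj k⁻¹ X = X := by
      conv_lhs => rw [← hX]
      exact cj_inv_cj k X
    have := cj_mono k (key k⁻¹ (inv_mem hk) hX')
    rwa [cj_cj_inv] at this
  exact ⟨W, B, D.comm L.amb L.TK hTW L.Tab L.Ttr hsq ht ht1⟩

/-- **From a pair of root type to the doubled root group.** -/
theorem LocS.base_of_pair [Finite G] {K R P Q X T0 : Subgroup G} (L : LocS K R P Q X T0) (N : NorX K P X T0)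
    (res : Subgroup G → Subgroup G) (hres : ∀ (g : G) (S : Subgroup G), res (cj g S) = cj g (res S))
    (hresP : ∀ S : Subgroup G, R ≤ S → S ≤ R ⊔ X → ¬ S ≤ R → res S = P)
    (hPQ : ∀ g : G, cj g P = P → cj g Q = Q ∧ cj g X = X)
    {g k : G} (hk : k ∈ K) (hg1 : cj g R ≤ R ⊔ X) (hg2 : R ≤ cj g (R ⊔ cj k X)) (hg3 : ¬ cj g R ≤ R) :
    ∃ W, Base K R P X W ∧ ∀ v ∈ W, ∀ w ∈ W, v * w = w * v := by
  have hkR : cj k R = R := by
    apply le_antisymm
    · intro x hx
      rw [mem_cj] at hx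
      have h1 := L.amb.comm _ hx k hk
      have : x = k⁻¹ * x * k := by
        calc x = k * (k⁻¹ * x * k) * k⁻¹ := by group
          _ = (k⁻¹ * x * k) * k * k⁻¹ := by rw [← h1]
          _ = _ := by group
      rw [this]; exact hx
    · intro x hx
      rw [mem_cj]
      have h1 := L.amb.comm x hx k hk
      have : k⁻¹ * x * k = x := by rw [mul_assoc, h1]; group
      rwa [this]
  set S := R ⊔ cj g R with hS
  have h1 : res S = P := hresP S le_sup_left (sup_le le_sup_left hg1) fun h => hg3 (le_sup_right.trans h)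
  -- conjugate back
  have hgk : cj (g * k) R = cj g R := by rw [cj_mul, hkR]
  have h2 : res (cj (g * k)⁻¹ S) = P := by
    apply hresP
    · rw [← cj_le_cj_iff (g * k), cj_cj_inv, hgk]; exact le_sup_right
    · rw [← cj_le_cj_iff (g * k), cj_cj_inv, cj_sup, hgk]
      refine sup_le ?_ le_sup_left
      refine hg2.trans ?_
      rw [cj_sup, cj_mul]
    · intro h0
      have h3 := cj_mono (g * k) h0
      rw [cj_cj_inv, hgk] at h3
      apply hg3
      -- `R ≤ cj g R`, equality by cardinality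
      have h4 : R ≤ cj g R := le_sup_left.trans h3
      have h5 : Nat.card ↥(cj g R) = Nat.card ↥R :=
        (Nat.card_congr (R.equivMapOfInjective _ (MulAut.conj g).injective).toEquiv).symm
      exact (Subgroup.eq_of_le_of_card_ge h4 h5.le).ge
  have h3 : cj (g * k) P = P := by
    rw [hres, h1] at h2
    conv_lhs => rw [← h2]
    exact cj_cj_inv _ _
  obtain ⟨h4, h5⟩ := hPQ _ h3
  refine L.exists_base N (g := g * k) h3 h4 h5 ?_ ?_
  · intro a ha
    have h6 : g * k * a * (g * k)⁻¹ ∈ R ⊔ X := by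
      apply hg1
      rw [← hgk]
      exact conj_mem_cj.2 ha
    have h7 : R ≤ Subgroup.normalizer (X : Set G) := by
      intro r hr
      rw [mem_normalizer_iff_cj]
      have key : ∀ r ∈ R, cj r X ≤ X := by
        intro r hr x hx
        rw [mem_cj] at hx
        have h8 := L.amb.comm r hr _ (L.PK (L.QP (L.XQ hx)))
        have : x = r⁻¹ * x * r := by
          calc x = r * (r⁻¹ * x * r) * r⁻¹ := by group
            _ = (r⁻¹ * x * r) * r * r⁻¹ := by rw [h8]
            _ = _ := by group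
        rw [this]; exact hx
      apply le_antisymm (key r hr)
      have := cj_mono r (key r⁻¹ (inv_mem hr))
      rwa [cj_cj_inv] at this
    have h8 : g * k * a * (g * k)⁻¹ ∈ ((R ⊔ X : Subgroup G) : Set G) := h6
    rw [Subgroup.coe_mul_of_left_le_normalizer_right R X h7] at h8
    obtain ⟨b, hb, x, hx, e⟩ := h8
    exact ⟨b, hb, x, hx, e.symm⟩
  · by_contra hcon
    push Not at hcon
    apply hg3
    intro x hx
    rw [← hgk, mem_cj] at hx
    have := hcon _ hx
    have e : g * k * ((g * k)⁻¹ * x * (g * k)) * (g * k)⁻¹ = x := by group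
    rwa [e] at this

end Cfsg.Agent.OddHalf.DblR
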