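import Mathlib
import Cfsg.Agent.OddHalf.D4.Basic

/-!
# ODD, D4: perfect subgroups of the centraliser of a Sylow 2-subgroup

`FTu` : the odd order theorem. `core_of` : `Q` a Sylow 2-subgroup of `D`, `P ≤ D` perfect, `[P, Q] = 1` ⇒ `P = 1`
(field `core` of `D4.Input.Inp`).
-/

set_option autoImplicit false

namespace Cfsg.Agent.OddHalf.DblR.CoreOf

open Subgroup Cfsg.Agent.OddHalf.D4.Basic
open scoped commutatorElement

universe u

/-- the odd order theorem -/
def FTu : Prop := ∀ (H : Type u) [Group H] [Finite H], Odd (Nat.card H) → Group.IsSolvable H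

/-- a solvable perfect subgroup is trivial -/
theorem eq_bot_of_solvable {G : Type*} [Group G] {P : Subgroup G} (hs : Group.IsSolvable ↥P) (h : P ≤ ⁅P, P⁆) :
    P = ⊥ := by
  by_contra hne
  have hnt : Nontrivial ↥P := (Subgroup.nontrivial_iff_ne_bot P).2 hne
  have h1 := Group.IsSolvable.commutator_lt_top_of_nontrivial ↥P
  apply h1.ne
  rw [eq_top_iff]
  intro y _
  have h2 := h y.2
  have h3 : (commutator ↥P).map P.subtype = ⁅P, P⁆ := by
    rw [commutator_def, Subgroup.map_commutator, ← MonoidHom.range_eq_map, Subgroup.range_subtype]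
  rw [← h3] at h2
  obtain ⟨z, hz, e⟩ := h2
  have : z = y := Subtype.ext e
  rwa [← this]

/-- a perfect 2-group is trivial -/
theorem eq_bot_of_two {G : Type*} [Group G] [Finite G] {P : Subgroup G} (hP : IsPGroup 2 ↥P) (h : P ≤ ⁅P, P⁆) :
    P = ⊥ := by
  have : Fact (Nat.Prime 2) := ⟨Nat.prime_two⟩
  have h1 : Group.IsNilpotent ↥P := hP.isNilpotent
  exact eq_bot_of_solvable inferInstance h

theorem core_of {G : Type u} [Group G] [Finite G] (hFT : FTu.{u}) {D Q : Subgroup G} (hQ : IsSyl Q D)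
    {P : Subgroup G} (hP : P ≤ D) (hc : ∀ x ∈ P, ∀ q ∈ Q, x * q = q * x) (hp : P ≤ ⁅P, P⁆) : P = ⊥ := by
  have h2 : Fact (Nat.Prime 2) := ⟨Nat.prime_two⟩
  -- `P ∩ Q` is a Sylow 2-subgroup of `P`
  have hT : IsSyl (Q ⊓ P) P := by
    refine ⟨hQ.two.to_le inf_le_left, inf_le_right, ?_⟩
    intro R hR _ hRP
    refine le_inf ?_ hRP
    have h3 : IsPGroup 2 ↥(Q ⊔ R : Subgroup G) := by
      apply IsPGroup.to_sup_of_normal_left' hQ.two hR
      intro r hr
      rw [mem_normalizer_iff]
      intro q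
      have h4 := hc r (hRP hr)
      constructor
      · intro hq
        rw [h4 q hq, mul_inv_cancel_right]
        exact hq
      · intro hq
        have h5 := h4 _ hq
        have e : q = r * q * r⁻¹ := by
          calc q = r⁻¹ * (r * q * r⁻¹) * r := by group
            _ = r⁻¹ * (r * (r * q * r⁻¹)) := by rw [h5]; group
            _ = _ := by group
        rw [e]; exact hq
    exact le_sup_right.trans (hQ.max _ h3 le_sup_left (sup_le hQ.le (hRP.trans hP)))
  obtain ⟨S, hS⟩ := hT.toSylow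
  -- it is central
  have hn : ((Q ⊓ P).subgroupOf P).Normal := by
    refine ⟨fun n hn g => ?_⟩
    rw [mem_subgroupOf] at hn ⊢
    have h4 := hc g g.2 n hn.1
    have e : ((g * n * g⁻¹ : ↥P) : G) = n := by
      change (g : G) * n * (g : G)⁻¹ = n
      rw [h4, mul_inv_cancel_right]
    rw [e]; exact hn
  have hodd : Odd (Nat.card (↥P ⧸ (Q ⊓ P).subgroupOf P)) := by
    rw [← Nat.not_even_iff_odd, even_iff_two_dvd]
    have := S.not_dvd_index
    rw [hS] at this
    exact this
  have s1 : Group.IsSolvable (↥P ⧸ (Q ⊓ P).subgroupOf P) := hFT _ hodd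
  have s2 : Group.IsSolvable ↥((Q ⊓ P).subgroupOf P) := by
    rw [← hS]
    have h1 : Group.IsNilpotent ↥(S : Subgroup ↥P) := S.2.isNilpotent
    infer_instance
  exact eq_bot_of_solvable ((Group.isSolvable_iff_subgroup_quotient _).2 ⟨s2, s1⟩) hp

end Cfsg.Agent.OddHalf.DblR.CoreOf
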