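import Cfsg.Agent.OddHalf.DblR.Tri

/-!
# ODD, D4: commuting families of doubled root groups (helper350)

`Fan` : a family `W i` of pairwise commuting doubled root groups (all long root groups in the elementary abelian
radical `V = ⨆ X i`, a natural module), with scalars `Z` and an element `z ∈ Z` without fixed points on `V`.
* `Fan.comm`, `Fan.brk`, `Fan.brm`, `Fan.fix`, `Fan.surj` : `F = ⨆ W i` is a doubled `V`;
* `Fan.scal` : `br t' = h (br t) h⁻¹` on `F` for one scalar `h ∈ Z`;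
* `tw F τ = [F, τ]`, `Fan.dw` : the doubled `X = [V, τ]`.
-/

set_option autoImplicit false

namespace Cfsg.Agent.OddHalf.DblR

variable {G : Type*} [Group G]

/-- **A commuting family of doubled root groups.** -/
structure Fan {ι : Type*} (K R : Subgroup G) (P X W : ι → Subgroup G) (Y Z : Subgroup G) (i0 : ι) (z : G) : Prop where
  A : Amb K R
  D : ∀ i, DW K R (P i) (X i) (W i)
  XP : ∀ i j, X j ≤ P i
  ww : ∀ i j, ∀ v ∈ W i, ∀ w ∈ W j, v * w = w * v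
  YP : ∀ i, Y ≤ P i
  ZK : Z ≤ K
  zZ : z ∈ Z
  Zab : ∀ h ∈ Z, ∀ k ∈ Z, h * k = k * h
  ZX : ∀ h ∈ Z, ∀ i, ∀ x ∈ X i, h * x * h⁻¹ ∈ X i
  ZW : ∀ h ∈ Z, ∀ i, ∀ w ∈ W i, h * w * h⁻¹ ∈ W i
  Ztr : ∀ x ∈ X i0, x ≠ 1 → ∀ x' ∈ X i0, x' ≠ 1 → ∃ h ∈ Z, h * x * h⁻¹ = x'
  X0 : ∃ x ∈ X i0, x ≠ 1
  tr : ∀ i, ∃ k ∈ K, (∀ h ∈ Z, h * k = k * h) ∧ ∀ w ∈ W i, k⁻¹ * w * k ∈ W i0
  zfix : ∀ x ∈ ⨆ i, X i, z * x = x * z → x = 1
  cen : ∀ c : G, (∀ a ∈ R, c * a = a * c) → (∀ y ∈ Y, c * y = y * c) → ∃ ρ ∈ ⨆ i, X i, ρ⁻¹ * c ∈ C1 K R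

theorem comm_mul_left {a b c : G} (h1 : a * c = c * a) (h2 : b * c = c * b) : (a * b) * c = c * (a * b) := by
  have e1 : Commute a c := h1
  have e2 : Commute b c := h2
  exact e1.mul_left e2

theorem comm_mul_right {a b c : G} (h1 : c * a = a * c) (h2 : c * b = b * c) : c * (a * b) = (a * b) * c :=
  (comm_mul_left h1.symm h2.symm).symm

theorem conj_mul (k a b : G) : k * (a * b) * k⁻¹ = (k * a * k⁻¹) * (k * b * k⁻¹) := by group

theorem br_one (t : G) : br t (1 : G) = 1 := by unfold br; group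

theorem br_eq_of_comm {t f : G} (h : t * f = f * t) : br t f = 1 := br_eq_one.mpr h

/-- `br` is multiplicative on commuting elements -/
theorem br_mul' {t v w : G} (h : br t v * w = w * br t v) : br t (v * w) = br t v * br t w := by
  apply br_mul
  calc w⁻¹ * br t v * w = w⁻¹ * (br t v * w) := by group
    _ = br t v := by rw [h]; group

/-- `br t (br τ f) = br τ (br t f)` -/
theorem br_br {t τ f : G} (h : t * τ = τ * t) (h1 : br τ f * br t f = br t f * br τ f) :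
    br t (br τ f) = br τ (br t f) := by
  have e1 : t * br τ f * t⁻¹ = br τ (t * f * t⁻¹) := by
    have h2 : t * τ * t⁻¹ = τ := by rw [h]; group
    calc t * br τ f * t⁻¹ = (t * f * t⁻¹)⁻¹ * ((t * τ * t⁻¹) * (t * f * t⁻¹) * (t * τ * t⁻¹)⁻¹) := by
          unfold br; group
      _ = _ := by rw [h2]; rfl
  have e2 : br τ (t * f * t⁻¹) = br τ f * br τ (br t f) := by
    rw [conj_eq t f]
    exact br_mul' h1
  have e3 := conj_eq t (br τ f)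
  rw [e1, e2] at e3
  exact (mul_left_cancel e3).symm

namespace Fan

variable {ι : Type*} {K R : Subgroup G} {P X W : ι → Subgroup G} {Y Z : Subgroup G} {i0 : ι} {z : G}

theorem comm (H : Fan K R P X W Y Z i0 z) {f g : G} (hf : f ∈ ⨆ i, W i) (hg : g ∈ ⨆ i, W i) : f * g = g * f := by
  have step : ∀ i, ∀ w ∈ W i, w * g = g * w := by
    intro i w hw
    refine Subgroup.iSup_induction W (C := fun g => w * g = g * w) hg ?_ ?_ ?_
    · intro j v hv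
      exact H.ww i j w hw v hv
    · simp
    · intro a b ha hb
      exact comm_mul_right ha hb
  refine Subgroup.iSup_induction W (C := fun f => f * g = g * f) hf ?_ ?_ ?_
  · intro i w hw
    exact step i w hw
  · simp
  · intro a b ha hb
    exact comm_mul_left ha hb

theorem VF (H : Fan K R P X W Y Z i0 z) : (⨆ i, X i) ≤ ⨆ i, W i := iSup_mono fun i => (H.D i).XW

theorem VK (H : Fan K R P X W Y Z i0 z) : (⨆ i, X i) ≤ K := iSup_le fun i => (H.D i).XK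

theorem VV (H : Fan K R P X W Y Z i0 z) {x : G} (hx : x ∈ ⨆ i, X i) : x * x = 1 := by
  suffices h : x ∈ (⨆ i, X i) ∧ x * x = 1 from h.2
  refine Subgroup.iSup_induction X (C := fun x => x ∈ (⨆ i, X i) ∧ x * x = 1) hx ?_ ?_ ?_
  · intro i x hx
    exact ⟨Subgroup.mem_iSup_of_mem i hx, (H.D i).XX x hx⟩
  · exact ⟨one_mem _, by simp⟩
  · rintro a b ⟨ha, ha'⟩ ⟨hb, hb'⟩
    refine ⟨mul_mem ha hb, ?_⟩
    have := H.comm (H.VF ha) (H.VF hb)
    calc a * b * (a * b) = a * (b * a) * b := by group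
      _ = (a * a) * (b * b) := by rw [← this]; group
      _ = 1 := by rw [ha', hb', mul_one]

theorem Vinv (H : Fan K R P X W Y Z i0 z) {x : G} (hx : x ∈ ⨆ i, X i) : x⁻¹ = x :=
  inv_eq_of_mul_eq_one_left (H.VV hx)

theorem VP (H : Fan K R P X W Y Z i0 z) (i : ι) : (⨆ j, X j) ≤ P i := iSup_le fun j => H.XP i j

theorem brk (H : Fan K R P X W Y Z i0 z) {a f : G} (ha : a ∈ R) (hf : f ∈ ⨆ i, W i) : br a f ∈ ⨆ i, X i := by
  suffices h : f ∈ (⨆ i, W i) ∧ br a f ∈ ⨆ i, X i from h.2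
  refine Subgroup.iSup_induction W (C := fun f => f ∈ (⨆ i, W i) ∧ br a f ∈ ⨆ i, X i) hf ?_ ?_ ?_
  · intro i w hw
    exact ⟨Subgroup.mem_iSup_of_mem i hw, Subgroup.mem_iSup_of_mem i ((H.D i).brk a ha w hw)⟩
  · exact ⟨one_mem _, by rw [br_one]; exact one_mem _⟩
  · rintro v w ⟨hv, hv'⟩ ⟨hw, hw'⟩
    refine ⟨mul_mem hv hw, ?_⟩
    rw [br_mul' (H.comm (H.VF hv') hw)]
    exact mul_mem hv' hw'

theorem brm (H : Fan K R P X W Y Z i0 z) {a f g : G} (ha : a ∈ R) (hf : f ∈ ⨆ i, W i) (hg : g ∈ ⨆ i, W i) :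
    br a (f * g) = br a f * br a g :=
  br_mul' (H.comm (H.VF (H.brk ha hf)) hg)

theorem brV (H : Fan K R P X W Y Z i0 z) {a x : G} (ha : a ∈ R) (hx : x ∈ ⨆ i, X i) : br a x = 1 :=
  br_eq_one.mpr (H.A.comm a ha x (H.VK hx))

theorem ZF (H : Fan K R P X W Y Z i0 z) {h f : G} (hh : h ∈ Z) (hf : f ∈ ⨆ i, W i) : h * f * h⁻¹ ∈ ⨆ i, W i := by
  refine Subgroup.iSup_induction W (C := fun f => h * f * h⁻¹ ∈ ⨆ i, W i) hf ?_ ?_ ?_
  · intro i w hw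
    exact Subgroup.mem_iSup_of_mem i (H.ZW h hh i w hw)
  · rw [mul_one, mul_inv_cancel]; exact one_mem _
  · intro a b ha hb
    rw [conj_mul]; exact mul_mem ha hb

theorem ZV (H : Fan K R P X W Y Z i0 z) {h f : G} (hh : h ∈ Z) (hf : f ∈ ⨆ i, X i) : h * f * h⁻¹ ∈ ⨆ i, X i := by
  refine Subgroup.iSup_induction X (C := fun f => h * f * h⁻¹ ∈ ⨆ i, X i) hf ?_ ?_ ?_
  · intro i w hw
    exact Subgroup.mem_iSup_of_mem i (H.ZX h hh i w hw)
  · rw [mul_one, mul_inv_cancel]; exact one_mem _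
  · intro a b ha hb
    rw [conj_mul]; exact mul_mem ha hb

theorem C1F (H : Fan K R P X W Y Z i0 z) {c f : G} (hc : c ∈ C1 K R) (hf : f ∈ ⨆ i, W i) : c * f * c⁻¹ ∈ ⨆ i, W i := by
  refine Subgroup.iSup_induction W (C := fun f => c * f * c⁻¹ ∈ ⨆ i, W i) hf ?_ ?_ ?_
  · intro i w hw
    exact Subgroup.mem_iSup_of_mem i ((H.D i).C1W c hc w hw)
  · rw [mul_one, mul_inv_cancel]; exact one_mem _
  · intro a b ha hb
    rw [conj_mul]; exact mul_mem ha hb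

theorem comm_Y (H : Fan K R P X W Y Z i0 z) {y f : G} (hy : y ∈ Y) (hf : f ∈ ⨆ i, W i) : f * y = y * f := by
  refine Subgroup.iSup_induction W (C := fun f => f * y = y * f) hf ?_ ?_ ?_
  · intro i w hw
    exact (H.D i).WP w hw y (H.YP i hy)
  · simp
  · intro a b ha hb
    exact comm_mul_left ha hb

theorem exists_br [Finite G] (H : Fan K R P X W Y Z i0 z) {t f : G} (ht : t ∈ R) (ht1 : t ≠ 1)
    (hf : f ∈ ⨆ i, W i) : ∃ g ∈ ⨆ i, W i, f = br z g := by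
  refine Subgroup.iSup_induction W (C := fun f => ∃ g ∈ ⨆ i, W i, f = br z g) hf ?_ ?_ ?_
  · intro i w hw
    obtain ⟨v, hv, e⟩ := (H.D i).onto H.A ht ht1 (H.ZK H.zZ) (H.ZW z H.zZ i)
      (fun x hx => H.zfix x (Subgroup.mem_iSup_of_mem i hx)) w hw
    exact ⟨v, Subgroup.mem_iSup_of_mem i hv, e⟩
  · exact ⟨1, one_mem _, (br_one z).symm⟩
  · rintro a b ⟨g, hg, rfl⟩ ⟨g', hg', rfl⟩
    refine ⟨g * g', mul_mem hg hg', ?_⟩
    have h1 : br z g ∈ ⨆ i, W i := mul_mem (inv_mem hg) (H.ZF H.zZ hg)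
    rw [br_mul' (H.comm h1 hg')]

/-- **`C_F(t) = V`** -/
theorem fix [Finite G] (H : Fan K R P X W Y Z i0 z) {t f : G} (ht : t ∈ R) (ht1 : t ≠ 1)
    (hf : f ∈ ⨆ i, W i) (h : t * f = f * t) : f ∈ ⨆ i, X i := by
  obtain ⟨g, hg, rfl⟩ := H.exists_br ht ht1 hf
  have hz : t * z = z * t := H.A.comm t ht z (H.ZK H.zZ)
  have h1 : br z g ∈ ⨆ i, W i := mul_mem (inv_mem hg) (H.ZF H.zZ hg)
  have h2 := H.brk ht hg
  have h3 := br_br hz (H.comm h1 (H.VF h2))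
  rw [br_eq_of_comm h] at h3
  have h4 := H.zfix _ h2 (br_eq_one.mp h3.symm)
  have h5 : g * t = t * g := (br_eq_one.mp h4).symm
  have h6 := H.A.tight ht ht1 h5 (fun a ha => H.VK (H.brk ha hg))
  obtain ⟨ρ, hρ, hc⟩ := H.cen g h6 (fun y hy => H.comm_Y hy hg)
  set c := ρ⁻¹ * g with hcdef
  have hgc : g = ρ * c := by rw [hcdef]; group
  have hcK := (mem_C1.mp hc).1
  have e1 : c * z = z * c := hcK z (H.ZK H.zZ)
  have e2 : c * ρ = ρ * c := hcK ρ (H.VK hρ)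
  have e3 : br z g = br z ρ := by
    rw [hgc]
    unfold br
    calc (ρ * c)⁻¹ * (z * (ρ * c) * z⁻¹) = c⁻¹ * ρ⁻¹ * z * ρ * (c * z⁻¹) := by group
      _ = c⁻¹ * (ρ⁻¹ * (z * ρ * z⁻¹)) * c := by rw [comm_inv' e1]; group
      _ = ρ⁻¹ * (z * ρ * z⁻¹) := by
          have : c * (ρ⁻¹ * (z * ρ * z⁻¹)) = (ρ⁻¹ * (z * ρ * z⁻¹)) * c :=
            hcK _ (mul_mem (inv_mem (H.VK hρ)) (H.VK (H.ZV H.zZ hρ)))
          calc c⁻¹ * (ρ⁻¹ * (z * ρ * z⁻¹)) * c = c⁻¹ * ((ρ⁻¹ * (z * ρ * z⁻¹)) * c) := by group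
            _ = _ := by rw [← this]; group
  rw [e3]
  exact mul_mem (inv_mem hρ) (H.ZV H.zZ hρ)

theorem surj (H : Fan K R P X W Y Z i0 z) {t x : G} (ht : t ∈ R) (ht1 : t ≠ 1) (hx : x ∈ ⨆ i, X i) :
    ∃ f ∈ ⨆ i, W i, br t f = x := by
  refine Subgroup.iSup_induction X (C := fun x => ∃ f ∈ ⨆ i, W i, br t f = x) hx ?_ ?_ ?_
  · intro i x hx
    obtain ⟨w, hw, e⟩ := (H.D i).surj t ht ht1 x hx
    exact ⟨w, Subgroup.mem_iSup_of_mem i hw, e⟩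
  · exact ⟨1, one_mem _, br_one t⟩
  · rintro a b ⟨f, hf, rfl⟩ ⟨g, hg, rfl⟩
    exact ⟨f * g, mul_mem hf hg, H.brm ht hf hg⟩

/-- **one scalar** `h` with `br t' = h (br t) h⁻¹` on the whole of `F` -/
theorem scal (H : Fan K R P X W Y Z i0 z) {t t' : G} (ht : t ∈ R) (ht1 : t ≠ 1) (ht' : t' ∈ R) (ht'1 : t' ≠ 1) :
    ∃ h ∈ Z, ∀ f ∈ ⨆ i, W i, br t' f = h * br t f * h⁻¹ := by
  obtain ⟨x0, hx0, hx01⟩ := H.X0
  obtain ⟨v0, hv0, e0⟩ := (H.D i0).surj t ht ht1 x0 hx0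
  have hx0' := (H.D i0).brk t' ht' v0 hv0
  have hx0'1 : br t' v0 ≠ 1 := by
    intro h0
    have := (H.D i0).fix t' ht' ht'1 v0 hv0 (br_eq_one.mp h0)
    apply hx01
    rw [← e0]
    exact (H.D i0).br_x H.A ht this
  obtain ⟨h, hh, eh⟩ := H.Ztr x0 hx0 hx01 _ hx0' hx0'1
  refine ⟨h, hh, ?_⟩
  have key : ∀ w ∈ W i0, br t' w = h * br t w * h⁻¹ := by
    intro w hw
    by_cases hw1 : br t w = 1
    · have h1 := (H.D i0).fix t ht ht1 w hw (br_eq_one.mp hw1)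
      rw [hw1, (H.D i0).br_x H.A ht' h1]; group
    obtain ⟨k, hk, ek⟩ := H.Ztr x0 hx0 hx01 _ ((H.D i0).brk t ht w hw) hw1
    have h2 : br t (k * v0 * k⁻¹) = br t w := by
      rw [br_conj (H.A.comm t ht k (H.ZK hk)), e0, ek]
    have h3 := (H.D i0).eq_of_br ht ht1 hw (H.ZW k hk i0 v0 hv0) h2.symm
    have h4 : br t' w = br t' (k * v0 * k⁻¹) := by
      have h5 : w = (w * (k * v0 * k⁻¹)⁻¹) * (k * v0 * k⁻¹) := by group
      rw [h5, (H.D i0).br_mul ht' ((H.D i0).XW h3) (H.ZW k hk i0 v0 hv0), (H.D i0).br_x H.A ht' h3, one_mul]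
    rw [h4, br_conj (H.A.comm t' ht' k (H.ZK hk)), ← ek, ← eh]
    have hc := H.Zab k hk h hh
    calc k * (h * x0 * h⁻¹) * k⁻¹ = (k * h) * x0 * (k * h)⁻¹ := by group
      _ = h * (k * x0 * k⁻¹) * h⁻¹ := by rw [hc]; group
  intro f hf
  suffices hs : f ∈ (⨆ i, W i) ∧ br t' f = h * br t f * h⁻¹ from hs.2
  refine Subgroup.iSup_induction W (C := fun f => f ∈ (⨆ i, W i) ∧ br t' f = h * br t f * h⁻¹) hf ?_ ?_ ?_
  · intro i w hw
    refine ⟨Subgroup.mem_iSup_of_mem i hw, ?_⟩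
    obtain ⟨k, hk, hkh, hkW⟩ := H.tr i
    have h1 := key _ (hkW w hw)
    have h2 : w = k * (k⁻¹ * w * k) * k⁻¹ := by group
    have hc := hkh h hh
    rw [h2, br_conj (H.A.comm t' ht' k hk), br_conj (H.A.comm t ht k hk), h1]
    calc k * (h * br t (k⁻¹ * w * k) * h⁻¹) * k⁻¹ = (k * h) * br t (k⁻¹ * w * k) * (k * h)⁻¹ := by group
      _ = h * (k * br t (k⁻¹ * w * k) * k⁻¹) * h⁻¹ := by rw [← hc]; group
  · exact ⟨one_mem _, by rw [br_one, br_one]; group⟩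
  · rintro a b ⟨ha, ea⟩ ⟨hb, eb⟩
    refine ⟨mul_mem ha hb, ?_⟩
    rw [H.brm ht' ha hb, H.brm ht ha hb, ea, eb, conj_mul]

end Fan

/-- `[F, τ]` (for abelian `F`) -/
def tw (F : Subgroup G) (τ : G) : Subgroup G := Subgroup.closure {g | ∃ f ∈ F, g = br τ f}

theorem br_mem_tw {F : Subgroup G} {τ f : G} (hf : f ∈ F) : br τ f ∈ tw F τ := Subgroup.subset_closure ⟨f, hf, rfl⟩

theorem mem_tw {F : Subgroup G} {τ g : G} (hc : ∀ f ∈ F, ∀ g ∈ F, f * g = g * f)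
    (hF : ∀ f ∈ F, τ * f * τ⁻¹ ∈ F) (hg : g ∈ tw F τ) : g ∈ F ∧ ∃ f ∈ F, g = br τ f := by
  have hb : ∀ f ∈ F, br τ f ∈ F := fun f hf => mul_mem (inv_mem hf) (hF f hf)
  induction hg using Subgroup.closure_induction with
  | mem x hx =>
    obtain ⟨f, hf, rfl⟩ := hx
    exact ⟨hb f hf, f, hf, rfl⟩
  | one => exact ⟨one_mem _, 1, one_mem _, (br_one τ).symm⟩
  | mul x y _ _ hx hy =>
    obtain ⟨hx1, f, hf, rfl⟩ := hx
    obtain ⟨hy1, g, hg, rfl⟩ := hy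
    exact ⟨mul_mem hx1 hy1, f * g, mul_mem hf hg, (br_mul' (hc _ hx1 _ hg)).symm⟩
  | inv x _ hx =>
    obtain ⟨hx1, f, hf, rfl⟩ := hx
    refine ⟨inv_mem hx1, f⁻¹, inv_mem hf, ?_⟩
    have h1 := br_mul' (t := τ) (v := f) (w := f⁻¹) (hc _ (hb f hf) _ (inv_mem hf))
    rw [mul_inv_cancel, br_one] at h1
    exact (eq_inv_of_mul_eq_one_right h1.symm).symm

namespace Fan

variable {ι : Type*} {K R : Subgroup G} {P X W : ι → Subgroup G} {Y Z : Subgroup G} {i0 : ι} {z : G}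

/-- **the doubled `X₀ = [V, τ]`** -/
theorem dw [Finite G] (H : Fan K R P X W Y Z i0 z) {τ : G} (hτK : τ ∈ K) {l : ℕ} (hl : Odd l) (hτl : τ ^ l = 1)
    (hF : ∀ f ∈ ⨆ i, W i, τ * f * τ⁻¹ ∈ ⨆ i, W i) {X0 : Subgroup G} (hX0 : X0 ≤ ⨆ i, X i)
    (hX0τ : ∀ x ∈ X0, τ * x * τ⁻¹ ∈ X0) (hX01 : ∀ x ∈ X0, τ * x = x * τ → x = 1)
    (hdec : ∀ ρ ∈ ⨆ i, X i, ∃ c ∈ ⨆ i, X i, τ * c = c * τ ∧ ∃ x ∈ X0, ρ = c * x) :
    DW K R (⨆ i, X i) X0 (tw (⨆ i, W i) τ) := by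
  have hc : ∀ f ∈ ⨆ i, W i, ∀ g ∈ ⨆ i, W i, f * g = g * f := fun f hf g hg => H.comm hf hg
  have hXW : X0 ≤ tw (⨆ i, W i) τ := by
    intro x hx
    obtain ⟨v, hv, e⟩ := onto' hX0τ hX01 x hx
    have e' : x = br τ v := e
    rw [e']
    exact br_mem_tw (H.VF (hX0 hv))
  -- `br a (br τ f) = br τ (br a f) ∈ X0`
  have hbb : ∀ a ∈ R, ∀ f ∈ ⨆ i, W i, br a (br τ f) = br τ (br a f) := by
    intro a ha f hf
    exact br_br (H.A.comm a ha τ hτK) (H.comm (mul_mem (inv_mem hf) (hF f hf)) (H.VF (H.brk ha hf)))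
  have hbV : ∀ ρ ∈ ⨆ i, X i, br τ ρ ∈ X0 := by
    intro ρ hρ
    obtain ⟨c, hc', hcτ, x, hx, rfl⟩ := hdec ρ hρ
    have h1 : br τ c = 1 := br_eq_one.mpr hcτ
    rw [br_mul' (by rw [h1]; group), h1, one_mul]
    exact mul_mem (inv_mem hx) (hX0τ x hx)
  refine ⟨hX0, H.VK, hXW, fun x hx => H.VV (hX0 hx), ?_, ?_, ?_, ?_, ?_⟩
  · intro w hw p hp
    exact H.comm (mem_tw hc hF hw).1 (H.VF hp)
  · intro t ht w hw
    obtain ⟨-, f, hf, rfl⟩ := mem_tw hc hF hw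
    rw [hbb t ht f hf]
    exact hbV _ (H.brk ht hf)
  · intro t ht ht1 w hw htw
    have hwF := (mem_tw hc hF hw).1
    have hwV := H.fix ht ht1 hwF htw
    obtain ⟨c, hcV, hcτ, x, hx, e⟩ := hdec w hwV
    have hctw : c ∈ tw (⨆ i, W i) τ := by
      have : c = w * x⁻¹ := by rw [e]; group
      rw [this]
      exact mul_mem hw (inv_mem (hXW hx))
    obtain ⟨-, f, hf, ef⟩ := mem_tw hc hF hctw
    have e1 : τ * f * τ⁻¹ = f * c := by rw [ef]; exact conj_eq τ f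
    have e2 : ∀ n : ℕ, τ ^ n * f * (τ ^ n)⁻¹ = f * c ^ n := by
      intro n
      induction n with
      | zero => simp
      | succ n ih =>
        have e4 : τ * c ^ n = c ^ n * τ := ((show Commute τ c from hcτ).pow_right n)
        calc τ ^ (n + 1) * f * (τ ^ (n + 1))⁻¹ = τ * (τ ^ n * f * (τ ^ n)⁻¹) * τ⁻¹ := by rw [pow_succ']; group
          _ = τ * (f * c ^ n) * τ⁻¹ := by rw [ih]
          _ = τ * f * (c ^ n * τ⁻¹) := by group
          _ = τ * f * (τ⁻¹ * c ^ n) := by rw [comm_inv e4]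
          _ = (τ * f * τ⁻¹) * c ^ n := by group
          _ = f * c ^ (n + 1) := by rw [e1, pow_succ']; group
    have e3 := e2 l
    rw [hτl] at e3
    have e4 : c ^ l = 1 := by
      have : f = f * c ^ l := by simpa using e3
      exact (mul_eq_left.mp this.symm)
    have e5 : c = 1 := by
      obtain ⟨k, rfl⟩ := hl
      rw [pow_succ, pow_mul, pow_two, H.VV hcV, one_pow, one_mul] at e4
      exact e4
    rw [e, e5, one_mul]
    exact hx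
  · intro t ht ht1 x hx
    obtain ⟨x', hx', e⟩ := onto' hX0τ hX01 x hx
    obtain ⟨f, hf, ef⟩ := H.surj ht ht1 (hX0 hx')
    refine ⟨br τ f, br_mem_tw hf, ?_⟩
    rw [hbb t ht f hf, ef]
    exact e.symm
  · intro c hc1 w hw
    obtain ⟨-, f, hf, rfl⟩ := mem_tw hc hF hw
    have h1 : c * τ * c⁻¹ = τ := by rw [(mem_C1.mp hc1).1 τ hτK]; group
    have h2 : c * br τ f * c⁻¹ = br τ (c * f * c⁻¹) := by
      calc c * br τ f * c⁻¹ = (c * f * c⁻¹)⁻¹ * ((c * τ * c⁻¹) * (c * f * c⁻¹) * (c * τ * c⁻¹)⁻¹) := by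
            unfold br; group
        _ = _ := by rw [h1]; rfl
    rw [h2]
    exact br_mem_tw (H.C1F hc1 hf)

end Fan

end Cfsg.Agent.OddHalf.DblR
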