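import Cfsg.Agent.OddHalf.DblR.Row

/-!
# ODD, D4: the part of the rows that does not know the type of `K` (helper851, extracted by helper350)

* `Std1.core` : from `Std1 K`, `E` a Sylow 2-subgroup of `C_G(K)` and a pair of root type to `Amb K E`, the property
  `two`;
* `schreier` : perfect subgroups of `N_G(K)` lie in `K C_G(K)` if perfect groups of automorphisms are inner.
-/

set_option autoImplicit false

namespace Cfsg.Agent.OddHalf.DblR

open Cfsg.Agent.Nodes.Reps
open scoped commutatorElement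

theorem Std1.core {G : Type*} [Group G] [Finite G] {K : Subgroup G} (St : Std1 K) {E X : Subgroup G}
    (hXK : X ≤ K) (hXX : ∀ x ∈ X, x * x = 1) (hE : E ≤ Subgroup.centralizer (K : Set G)) (hE2 : IsPGroup 2 ↥E)
    (hEmax : ∀ D : Subgroup G, E ≤ D → D ≤ Subgroup.centralizer (K : Set G) → IsPGroup 2 ↥D → D ≤ E)
    {γ : G} (hg1 : cj γ E ≤ E ⊔ X) (hg3 : ¬ cj γ E ≤ E) :
    Amb K E ∧ ∀ c ∈ C1 K E, IsPGroup 2 (Subgroup.zpowers c) → c ∈ E := by
  have hKc : ∀ e ∈ E, ∀ y ∈ K, e * y = y * e := fun e he y hy =>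
    ((Subgroup.mem_centralizer_iff.1 (hE he)) y hy).symm
  -- `E` and `cj γ E` have trivial intersection
  have hEγ : ∀ y ∈ cj γ E, y ∈ E → y = 1 := by
    intro y hy hyE
    by_contra hy1
    -- an involution in the intersection
    obtain ⟨m, hm⟩ := hE2 ⟨y, hyE⟩
    have hm' : y ^ 2 ^ m = 1 := congrArg Subtype.val hm
    obtain ⟨j, hj1, hj2⟩ : ∃ j : ℕ, y ^ 2 ^ j ≠ 1 ∧ y ^ 2 ^ (j + 1) = 1 := by
      by_contra hcon
      push Not at hcon
      have key : ∀ j : ℕ, y ^ 2 ^ j ≠ 1 := by
        intro j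
        induction j with
        | zero => simpa using hy1
        | succ j ih => exact hcon j ih
      exact key m hm'
    set z := y ^ 2 ^ j with hz
    have hzz : z * z = 1 := by
      rw [hz, ← pow_two, ← pow_mul, ← pow_succ]; exact hj2
    have hzE : z ∈ E := pow_mem hyE _
    have hzγ : z ∈ cj γ E := pow_mem hy _
    rw [mem_cj] at hzγ
    have h1 : (γ⁻¹ * z * γ) * (γ⁻¹ * z * γ) = 1 := by
      calc (γ⁻¹ * z * γ) * (γ⁻¹ * z * γ) = γ⁻¹ * (z * z) * γ := by group
        _ = 1 := by rw [hzz]; group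
    have h2 : γ⁻¹ * z * γ ≠ 1 := by
      intro h0
      apply hj1
      calc z = γ * (γ⁻¹ * z * γ) * γ⁻¹ := by group
        _ = 1 := by rw [h0]; group
    have h3 : cj γ K = K := by
      apply St.te _ (hE hzγ) h1 h2 γ
      have : γ * (γ⁻¹ * z * γ) * γ⁻¹ = z := by group
      rw [this]
      exact hE hzE
    apply hg3
    -- `cj γ E ≤ C(K)`, so `cj γ E ≤ E`
    intro x hx
    obtain ⟨e, he, u, hu, rfl⟩ : ∃ e ∈ E, ∃ u ∈ X, x = e * u := by
      have h4 := hg1 hx
      have h8 : x ∈ ((E ⊔ X : Subgroup G) : Set G) := h4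
      have h7 : X ≤ Subgroup.normalizer (E : Set G) := by
        intro u hu
        rw [Subgroup.mem_normalizer_iff]
        intro e
        constructor
        · intro he
          have := hKc e he u (hXK hu)
          have e2 : u * e * u⁻¹ = e := by rw [← this]; group
          rwa [e2]
        · intro he
          have := hKc _ he u (hXK hu)
          have e2 : e = u * e * u⁻¹ := by
            calc e = u⁻¹ * ((u * e * u⁻¹) * u) := by group
              _ = u⁻¹ * (u * (u * e * u⁻¹)) := by rw [this]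
              _ = _ := by group
          rw [e2]; exact he
      rw [Subgroup.coe_mul_of_right_le_normalizer_left _ _ h7] at h8
      obtain ⟨e, he, u, hu, e3⟩ := h8
      exact ⟨e, he, u, hu, e3.symm⟩
    have h5 : e * u ∈ Subgroup.centralizer (K : Set G) := by
      rw [← h3, ← cj_centralizer]
      exact cj_mono γ hE hx
    have h6 : u ∈ Subgroup.centralizer (K : Set G) := by
      have : u = e⁻¹ * (e * u) := by group
      rw [this]
      exact mul_mem (inv_mem (hE he)) h5
    have h7 : u = 1 := St.ctr u (hXK hu) fun x hx => ((Subgroup.mem_centralizer_iff.1 h6) x hx).symm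
    rw [h7, mul_one]; exact he
  -- `E` is elementary abelian
  have hsplit : ∀ x ∈ E ⊔ X, ∃ e ∈ E, ∃ u ∈ X, x = e * u := by
    intro x h4
    have h8 : x ∈ ((E ⊔ X : Subgroup G) : Set G) := h4
    have h7 : X ≤ Subgroup.normalizer (E : Set G) := by
      intro u hu
      rw [Subgroup.mem_normalizer_iff]
      intro e
      constructor
      · intro he
        have := hKc e he u (hXK hu)
        have e2 : u * e * u⁻¹ = e := by rw [← this]; group
        rwa [e2]
      · intro he
        have := hKc _ he u (hXK hu)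
        have e2 : e = u * e * u⁻¹ := by
          calc e = u⁻¹ * ((u * e * u⁻¹) * u) := by group
            _ = u⁻¹ * (u * (u * e * u⁻¹)) := by rw [this]
            _ = _ := by group
        rw [e2]; exact he
    rw [Subgroup.coe_mul_of_right_le_normalizer_left _ _ h7] at h8
    obtain ⟨e, he, u, hu, e3⟩ := h8
    exact ⟨e, he, u, hu, e3.symm⟩
  have hEE : ∀ x ∈ E, x * x = 1 := by
    intro x hx
    have h1 : γ * x * γ⁻¹ ∈ cj γ E := conj_mem_cj.2 hx
    obtain ⟨e, he, u, hu, e1⟩ := hsplit _ (hg1 h1)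
    have h2 := hKc e he u (hXK hu)
    have h3 : u * u = 1 := hXX u hu
    have h4 : (γ * x * γ⁻¹) * (γ * x * γ⁻¹) = e * e := by
      rw [e1]
      calc e * u * (e * u) = e * (u * e) * u := by group
        _ = e * e * (u * u) := by rw [← h2]; group
        _ = e * e := by rw [h3, mul_one]
    have h5 := hEγ _ (mul_mem h1 h1) (by rw [h4]; exact mul_mem he he)
    calc x * x = γ⁻¹ * ((γ * x * γ⁻¹) * (γ * x * γ⁻¹)) * γ := by group
      _ = 1 := by rw [h5]; group
  have amb : Amb K E := ⟨hEE, hKc, fun t ht ht1 g hg k hk => St.nor t (hE ht) (hEE t ht) ht1 g hg k hk, St.ctr⟩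
  have two : ∀ c ∈ C1 K E, IsPGroup 2 (Subgroup.zpowers c) → c ∈ E := by
    intro c hc hc2
    have h1 := mem_C1.1 hc
    have h2 : Subgroup.zpowers c ≤ Subgroup.normalizer (E : Set G) := by
      rw [Subgroup.zpowers_le, mem_normalizer_iff_cj]
      have key : ∀ c : G, (∀ t ∈ E, c * t = t * c) → cj c E ≤ E := by
        intro c hc x hx
        rw [mem_cj] at hx
        have h3 := hc _ hx
        have : x = c⁻¹ * x * c := by
          calc x = (c * (c⁻¹ * x * c)) * c⁻¹ := by group
            _ = ((c⁻¹ * x * c) * c) * c⁻¹ := by rw [h3]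
            _ = _ := by group
        rw [this]; exact hx
      exact cj_eq_of_le (key c h1.2) (key c⁻¹ fun t ht => comm_inv (h1.2 t ht))
    have h3 : IsPGroup 2 ↥(E ⊔ Subgroup.zpowers c) := hE2.to_sup_of_normal_left' hc2 h2
    refine hEmax _ le_sup_left ?_ h3 (Subgroup.mem_sup_right (Subgroup.mem_zpowers c))
    refine sup_le hE ?_
    rw [Subgroup.zpowers_le, Subgroup.mem_centralizer_iff]
    exact fun y hy => (h1.1 y hy).symm
  exact ⟨amb, two⟩

theorem schreier {Y G : Type*} [Group Y] [Group G] (f : Y →* G) (hf : Function.Injective f)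
    (out : ∀ H : Subgroup (MulAut Y), H ≤ ⁅H, H⁆ → ∀ α ∈ H, ∃ y, α = MulAut.conj y) :
    ∀ H : Subgroup G, H ≤ Subgroup.normalizer (f.range : Set G) → H ≤ ⁅H, H⁆ →
      ∀ x ∈ H, ∃ k ∈ f.range, ∃ c : G, (∀ y ∈ f.range, c * y = y * c) ∧ x = k * c := by
  intro H hHN hHp x hx
  -- the action of the normaliser on `Y`
  let e : Y ≃* ↥f.range := MonoidHom.ofInjective hf
  let φ : ↥(Subgroup.normalizer (f.range : Set G)) →* MulAut Y :=
    (MulAut.congr e.symm).toMonoidHom.comp (Subgroup.normalizerMonoidHom f.range)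
  have hφ : ∀ (c : ↥(Subgroup.normalizer (f.range : Set G))) (y : Y), f (φ c y) = c * f y * (c : G)⁻¹ := by
    intro c y
    have h1 : φ c y = e.symm (Subgroup.normalizerMonoidHom f.range c (e y)) := rfl
    have h2 : ∀ z : ↥f.range, f (e.symm z) = z := by
      intro z
      have : ((e (e.symm z) : ↥f.range) : G) = z := by rw [MulEquiv.apply_symm_apply]
      exact this
    rw [h1, h2]
    rfl
  have h1 : ((H.subgroupOf (Subgroup.normalizer (f.range : Set G))).map φ) ≤
      ⁅(H.subgroupOf (Subgroup.normalizer (f.range : Set G))).map φ,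
        (H.subgroupOf (Subgroup.normalizer (f.range : Set G))).map φ⁆ := by
    rw [← Subgroup.map_commutator]
    apply Subgroup.map_mono
    intro y hy
    have hy' : (y : G) ∈ ⁅H, H⁆ := hHp (Subgroup.mem_subgroupOf.1 hy)
    have h2 : ⁅H, H⁆ = ⁅H.subgroupOf (Subgroup.normalizer (f.range : Set G)),
        H.subgroupOf (Subgroup.normalizer (f.range : Set G))⁆.map (Subgroup.normalizer (f.range : Set G)).subtype := by
      rw [Subgroup.map_commutator, Subgroup.map_subgroupOf_eq_of_le hHN]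
    rw [h2] at hy'
    obtain ⟨y', hy1, hy2⟩ := hy'
    have : y' = y := Subtype.ext hy2
    rwa [← this]
  have h2 : φ ⟨x, hHN hx⟩ ∈ (H.subgroupOf (Subgroup.normalizer (f.range : Set G))).map φ :=
    ⟨⟨x, hHN hx⟩, hx, rfl⟩
  obtain ⟨y, hy⟩ := out _ h1 _ h2
  refine ⟨f y, ⟨y, rfl⟩, (f y)⁻¹ * x, ?_, by group⟩
  rintro _ ⟨z, rfl⟩
  have h3 := hφ ⟨x, hHN hx⟩ z
  rw [hy, MulAut.conj_apply, map_mul, map_mul, map_inv] at h3
  have h4 : f y * f z * (f y)⁻¹ = x * f z * x⁻¹ := h3
  calc (f y)⁻¹ * x * f z = (f y)⁻¹ * (x * f z * x⁻¹) * x := by group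
    _ = f z * ((f y)⁻¹ * x) := by rw [← h4]; group

end Cfsg.Agent.OddHalf.DblR
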