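import Cfsg.Agent.OddHalf.DblR.HypW
import Cfsg.Agent.OddHalf.DblR.BaseS
import Cfsg.Agent.OddHalf.DblR.RgdPair
import Cfsg.Agent.OddHalf.DblR.RgdPerf

/-!
# ODD, D4, simply laced `K`, without `Sep` (for `L_4(q)`): existence of the doubled root group

* `Agr R r` : elements of `T ∩ ⟨X r, X (-r)⟩` and of `T ∩ ⟨X a, X (-a)⟩` acting in the same way on two root groups;
* `HypW.sc`, `HypW.perfect`, **`HypW.locS`**;
* **`no_pair_rgdS`** : no commuting pair of root type.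
-/

set_option autoImplicit false
set_option linter.unusedSectionVars false

namespace Cfsg.Agent.OddHalf.DblR

open CoxeterSystem Cfsg.Agent.ChevalleyStructure.CoxeterGeom Cfsg.Agent.Tits.Roots Cfsg.Agent.Tits.Core
  Cfsg.Agent.Tits.RootComb Cfsg.Agent.Tits.Exchange Cfsg.Agent.Nodes.Reps Cfsg.Agent.Nodes.BNOf
  Cfsg.Agent.Nodes.StabComb Cfsg.Agent.Nodes.Bruhat Cfsg.Agent.Nodes.OppDec Cfsg.Agent.Nodes.LeviDec
  Cfsg.Agent.Nodes.NormX Cfsg.Agent.Nodes.Coroot Cfsg.Agent.Nodes.PosPair Cfsg.Agent.KFacts.RgdPar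
  Cfsg.Agent.KFacts.RgdSL Cfsg.Agent.KFacts.RgdTI Cfsg.Agent.KFacts.RgdCent Cfsg.Agent.KFacts.RgdOdd
  Cfsg.Agent.KFacts.RgdEx Cfsg.Agent.KFacts.RgdTor Cfsg.Agent.KFacts.RgdKfour
open scoped commutatorElement

variable {I W Y : Type*} [Fintype I] [DecidableEq I] [Group W] [Group Y] {M : CoxeterMatrix I}
  {cs : CoxeterSystem M W} {A : I → I → ℤ} {h : IsCartan M A} {T : Subgroup Y} {n : I → Y}
  {X : (I → ℤ) → Subgroup Y}

/-- An element of `T ∩ ⟨X r, X (-r)⟩` acts on `X b` and `X c` as an element of `T ∩ ⟨X a, X (-a)⟩`. -/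
def Agr (cs : CoxeterSystem M W) (h : IsCartan M A) (T : Subgroup Y) (X : (I → ℤ) → Subgroup Y) (r : I → ℤ) : Prop :=
  ∀ a, IsRoot cs h a → cpr cs h a r = 0 → ∀ b ∈ Phi1 cs h r, ∀ c ∈ Phi1 cs h r, cpr cs h b a = 1 → cpr cs h c a = 1 →
    ∀ k ∈ T ⊓ (X r ⊔ X (-r)), ∃ t ∈ T ⊓ (X a ⊔ X (-a)), (∀ v ∈ X b, t * v * t⁻¹ = k * v * k⁻¹) ∧
      ∀ v ∈ X c, t * v * t⁻¹ = k * v * k⁻¹

namespace HypW

variable [Finite W] {R : RGD cs h 2 T n X} {r : I → ℤ} (H : HypW R r)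

include H

/-- `⟨X r, X (-r)⟩` commutes with `X a`, `a` orthogonal to `r`. -/
theorem t0_comm {a : I → ℤ} (ha : IsRoot cs h a) (har : cpr cs h a r = 0) {k u : Y} (hk : k ∈ X r ⊔ X (-r))
    (hu : u ∈ X a) : k * u = u * k := orth_comm R H.sl H.root ha har hk hu

theorem t_conj_P {t p : Y} (ht : t ∈ T) (hp : p ∈ RGD.Sup X (Ge cs h r)) : t * p * t⁻¹ ∈ RGD.Sup X (Ge cs h r) := by
  have h1 : RGD.Sup X (Ge cs h r) ≤ (RGD.Sup X (Ge cs h r)).comap (MulAut.conj t).toMonoidHom := by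
    refine RGD.Sup_le fun a ha u hu => ?_
    rw [Subgroup.mem_comap]
    exact RGD.le_Sup ha (tor_mem R ha.1 ht hu)
  exact h1 hp

theorem t_conj_Q {t p : Y} (ht : t ∈ T) (hp : p ∈ RGD.Sup X (Rad cs h r)) : t * p * t⁻¹ ∈ RGD.Sup X (Rad cs h r) := by
  have h1 : RGD.Sup X (Rad cs h r) ≤ (RGD.Sup X (Rad cs h r)).comap (MulAut.conj t).toMonoidHom := by
    refine RGD.Sup_le fun a ha u hu => ?_
    rw [Subgroup.mem_comap]
    exact RGD.le_Sup ha (tor_mem R ha.1 ht hu)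
  exact h1 hp

/-- `[T_r, P] ≤ Q` -/
theorem tq {k p : Y} (hk : k ∈ T ⊓ (X r ⊔ X (-r))) (hp : p ∈ RGD.Sup X (Ge cs h r)) :
    k * p * k⁻¹ * p⁻¹ ∈ RGD.Sup X (Rad cs h r) := by
  have hkT := (Subgroup.mem_inf.1 hk).1
  let L : Subgroup Y :=
    { carrier := {p | p ∈ RGD.Sup X (Ge cs h r) ∧ k * p * k⁻¹ * p⁻¹ ∈ RGD.Sup X (Rad cs h r)}
      one_mem' := ⟨one_mem _, by simp⟩
      mul_mem' := by
        rintro x y ⟨hx, hx'⟩ ⟨hy, hy'⟩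
        refine ⟨mul_mem hx hy, ?_⟩
        have : k * (x * y) * k⁻¹ * (x * y)⁻¹ = (k * x * k⁻¹ * x⁻¹) * (x * (k * y * k⁻¹ * y⁻¹) * x⁻¹) := by group
        rw [this]
        exact mul_mem hx' (H.QN hx hy')
      inv_mem' := by
        rintro x ⟨hx, hx'⟩
        refine ⟨inv_mem hx, ?_⟩
        have h1 : k * x⁻¹ * k⁻¹ * x⁻¹⁻¹ = x⁻¹ * (k * x * k⁻¹ * x⁻¹)⁻¹ * x := by group
        rw [h1]
        have := H.QN (inv_mem hx) (inv_mem hx')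
        rwa [inv_inv] at this }
  have hL : RGD.Sup X (Ge cs h r) ≤ L := by
    refine RGD.Sup_le fun a ha u hu => ⟨RGD.le_Sup ha hu, ?_⟩
    by_cases h0 : 1 ≤ cpr cs h a r
    · have h1 : a ∈ Rad cs h r := ⟨ha.1, h0⟩
      exact mul_mem (RGD.le_Sup h1 (tor_mem R ha.1 hkT hu)) (inv_mem (RGD.le_Sup h1 hu))
    · have h1 : cpr cs h a r = 0 := by have := ha.2; omega
      have h2 : k * u = u * k := t0_comm H ha.1 h1 (Subgroup.mem_inf.1 hk).2 hu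
      have h3 : k * u * k⁻¹ * u⁻¹ = 1 := by rw [h2]; group
      rw [h3]
      exact one_mem _
  exact (hL hp).2


theorem perfect [Finite Y] (big : ∀ b, IsRoot cs h b → ∃ u ∈ X b, ∃ u' ∈ X b, u ≠ 1 ∧ u' ≠ 1 ∧ u ≠ u') :
    RGD.Sup X (Ge cs h r) ≤ ⁅RGD.Sup X (Ge cs h r), RGD.Sup X (Ge cs h r)⁆ := by
  -- a root that is the sum of two roots of `Ge`
  have key : ∀ {a b : I → ℤ}, A2 cs h a b → a ∈ Ge cs h r → b ∈ Ge cs h r →
      X (a + b) ≤ ⁅RGD.Sup X (Ge cs h r), RGD.Sup X (Ge cs h r)⁆ := by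
    intro a b hA ha hb w hw
    obtain ⟨u, hu, hu1⟩ := exists_ne R hA.rx
    obtain ⟨v, hv, rfl⟩ := hA.comm_surj R hu hu1 hw
    exact Subgroup.commutator_mem_commutator (RGD.le_Sup ha hu) (RGD.le_Sup hb hv)
  refine RGD.Sup_le fun a ha => ?_
  rcases lt_or_ge 0 (cpr cs h a r) with h0 | h0
  · rcases H.rad_cases (b := a) ⟨ha.1, by omega⟩ with rfl | h1
    · -- `a = r`
      obtain ⟨b, hb⟩ := H.ex
      have h2 := key (H.a2 hb) (H.phi1_ge hb) (H.phi1_ge (H.sub_mem hb))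
      rwa [add_sub_cancel] at h2
    · obtain ⟨d, hd, hdr, had⟩ := H.lev a h1
      have hda : cpr cs h d a = 1 := by rw [H.sl d a hd h1.1, had]
      have hA : A2 cs h (a - d) d := by
        refine H.sl.a2 (isRoot_sub h1.1 hd had) hd ?_
        rw [cpr_sub_left H.sl hd hd hd, had, cpr_self cs h hd]; norm_num
      have h2 := key hA ⟨hA.rx, by
        rw [cpr_sub_left H.sl hd hd H.root, h1.2, hdr]; norm_num⟩ ⟨hd, by rw [hdr]⟩
      rwa [sub_add_cancel] at h2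
  · -- `a` orthogonal to `r`
    have h1 : cpr cs h a r = 0 := le_antisymm h0 ha.2
    obtain ⟨b, hb, hab⟩ := H.nb a ha.1
    have hA : A2 cs h a (-b) := by
      refine H.sl.a2 ha.1 hb.neg ?_
      rw [cpr_neg_right cs h _ hb, hab]
    obtain ⟨t, ht, hall⟩ := exists_tor_comm R H.tab hA (big a ha.1)
    intro u hu
    obtain ⟨v, hv, rfl⟩ := hall u hu
    refine Subgroup.commutator_mem_commutator (RGD.le_Sup ha hv) ?_
    have h3 : X a ⊔ X (-a) ≤ RGD.Sup X (Ge cs h r) := by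
      refine sup_le (RGD.le_Sup ha) (RGD.le_Sup ⟨ha.1.neg, ?_⟩)
      rw [cpr_neg_left _ H.root, h1, neg_zero]
    exact h3 ht.2

section Aut

variable {e : Y} (heP : ∀ p ∈ RGD.Sup X (Ge cs h r), e * p * e⁻¹ * p⁻¹ ∈ RGD.Sup X (Rad cs h r))

include heP

omit H in
theorem e_mem_Q {q : Y} (hq : q ∈ RGD.Sup X (Rad cs h r))
    (hle : RGD.Sup X (Rad cs h r) ≤ RGD.Sup X (Ge cs h r)) : e * q * e⁻¹ ∈ RGD.Sup X (Rad cs h r) := by
  have h1 := mul_mem (heP q (hle hq)) hq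
  rwa [inv_mul_cancel_right] at h1

/-- `e v e⁻¹`, `v ∈ X b`, has no component in `X c` if some root `a` orthogonal to `r` separates `b` from `c`. -/
theorem e_comm {b c a : I → ℤ} (hb : b ∈ Phi1 cs h r) (hc : c ∈ Phi1 cs h r) (ha : IsRoot cs h a)
    (har : cpr cs h a r = 0) (hab : 0 ≤ cpr cs h a b) (hac : cpr cs h a c = -1) {v : Y} (hv : v ∈ X b) :
    ∀ w ∈ X (r - c), (e * v * e⁻¹) * w = w * (e * v * e⁻¹) := by
  have hvQ : v ∈ RGD.Sup X (Rad cs h r) := RGD.le_Sup (H.phi1_rad hb) hv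
  have htQ : e * v * e⁻¹ ∈ RGD.Sup X (Rad cs h r) := e_mem_Q heP hvQ H.rad_le_ge
  set t := e * v * e⁻¹ with ht
  -- `t` commutes with `X (r - c)`
  have hc' := H.sub_mem hc
  have hac' : cpr cs h a (r - c) = 1 := by
    rw [H.sl a _ ha hc'.1, cpr_sub_left H.sl H.root H.root ha, H.sl r a H.root ha, har, H.sl c a hc.1 ha, hac]
    norm_num
  have hsub : IsRoot cs h (r - c - a) := by
    refine isRoot_sub hc'.1 ha ?_
    rw [H.sl _ a hc'.1 ha, hac']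
  have hdr : cpr cs h (r - c - a) r = 1 := by
    rw [cpr_sub_left H.sl H.root H.root H.root, hc'.2, har]; norm_num
  have hA : A2 cs h a (r - c - a) := by
    refine H.sl.a2 ha hsub ?_
    rw [H.sl a _ ha hsub, cpr_sub_left H.sl H.root H.root ha, cpr_self cs h ha, H.sl _ a hc'.1 ha, hac']
    norm_num
  intro w hw
  obtain ⟨x, hx, hx1⟩ := exists_ne R ha
  obtain ⟨w', hw', ew⟩ := hA.comm_surj R hx hx1 (w := w) (by rwa [add_sub_cancel])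
  have hxP : x ∈ RGD.Sup X (Ge cs h r) := RGD.le_Sup (⟨ha, har.ge⟩ : a ∈ Ge cs h r) hx
  have hw'Q : w' ∈ RGD.Sup X (Rad cs h r) := RGD.le_Sup (⟨hsub, hdr.ge⟩ : (r - c - a) ∈ Rad cs h r) hw'
  have hwQ : w ∈ RGD.Sup X (Rad cs h r) := RGD.le_Sup (H.phi1_rad hc') hw
  -- `x t x⁻¹ = t z`
  set q := e * x * e⁻¹ * x⁻¹ with hq
  have hqQ : q ∈ RGD.Sup X (Rad cs h r) := heP x hxP
  have hxv : x * v = v * x := (H.lr b hb.1).comm a ha hab x hx v hv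
  have h1 : (q * x) * t = t * (q * x) := by
    have : q * x = e * x * e⁻¹ := by rw [hq]; group
    rw [this, ht]
    calc e * x * e⁻¹ * (e * v * e⁻¹) = e * (x * v) * e⁻¹ := by group
      _ = e * v * e⁻¹ * (e * x * e⁻¹) := by rw [hxv]; group
  have hz : ⁅t⁻¹, q⁻¹⁆ ∈ X r := H.br_Q (inv_mem htQ) (inv_mem hqQ)
  have h2 : x * t * x⁻¹ = t * ⁅t⁻¹, q⁻¹⁆ := by
    calc x * t * x⁻¹ = q⁻¹ * ((q * x) * t) * x⁻¹ := by group
      _ = q⁻¹ * t * q := by rw [h1]; group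
      _ = t * ⁅t⁻¹, q⁻¹⁆ := by rw [commutatorElement_def]; group
  have h3 : x * w' * x⁻¹ = w * w' := by
    rw [← ew, commutatorElement_def]; group
  have hcQ : ∀ {q z : Y}, q ∈ RGD.Sup X (Rad cs h r) → z ∈ X r → q * z = z * q :=
    fun hq hz => H.central (H.rad_le_ge hq) hz
  have h4 : ⁅t, w'⁆ ∈ X r := H.br_Q htQ hw'Q
  have h4' : ⁅t, w⁆ ∈ X r := H.br_Q htQ hwQ
  have h5 : x * ⁅t, w'⁆ * x⁻¹ = ⁅t, w'⁆ := by
    rw [H.central hxP h4]; group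
  have h6 : x * ⁅t, w'⁆ * x⁻¹ = ⁅t, w⁆ * ⁅t, w'⁆ := by
    have e1 : x * ⁅t, w'⁆ * x⁻¹ = ⁅x * t * x⁻¹, x * w' * x⁻¹⁆ := by
      simp only [commutatorElement_def]; group
    rw [e1, h2, h3]
    have hzw : ⁅t⁻¹, q⁻¹⁆ * (w * w') = (w * w') * ⁅t⁻¹, q⁻¹⁆ := (hcQ (mul_mem hwQ hw'Q) hz).symm
    have e2 : ⁅t * ⁅t⁻¹, q⁻¹⁆, w * w'⁆ = ⁅t, w * w'⁆ := by
      rw [commutatorElement_def (t * _), commutatorElement_def t (w * w')]
      calc t * ⁅t⁻¹, q⁻¹⁆ * (w * w') * (t * ⁅t⁻¹, q⁻¹⁆)⁻¹ * (w * w')⁻¹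
          = t * (⁅t⁻¹, q⁻¹⁆ * (w * w')) * (t * ⁅t⁻¹, q⁻¹⁆)⁻¹ * (w * w')⁻¹ := by group
        _ = _ := by rw [hzw]; group
    have e3 : ⁅t, w * w'⁆ = ⁅t, w⁆ * (w * ⁅t, w'⁆ * w⁻¹) := by simp only [commutatorElement_def]; group
    rw [e2, e3, hcQ hwQ h4]; group
  rw [h5] at h6
  have h7 : ⁅t, w⁆ = 1 := by
    have := h6.symm
    exact mul_eq_right.mp this
  exact commutatorElement_eq_one_iff_mul_comm.1 h7

/-- **(sc)** -/
theorem sc (hagr : Agr cs h T X r) (heX : ∀ z ∈ X r, e * z * e⁻¹ ∈ X r) {k : Y} (hk : k ∈ T ⊓ (X r ⊔ X (-r))) {v : Y}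
    (hv : v ∈ RGD.Sup X (Rad cs h r)) :
    k * (e * v * e⁻¹) * k⁻¹ * (e * (k * v * k⁻¹) * e⁻¹)⁻¹ ∈ X r := by
  have hkT := (Subgroup.mem_inf.1 hk).1
  have hcQ : ∀ {q z : Y}, q ∈ RGD.Sup X (Rad cs h r) → z ∈ X r → q * z = z * q :=
    fun hq hz => H.central (H.rad_le_ge hq) hz
  have hkQ : ∀ {q : Y}, q ∈ RGD.Sup X (Rad cs h r) → k * q * k⁻¹ ∈ RGD.Sup X (Rad cs h r) := fun hq => t_conj_Q H hkT hq
  have heQ : ∀ {q : Y}, q ∈ RGD.Sup X (Rad cs h r) → e * q * e⁻¹ ∈ RGD.Sup X (Rad cs h r) :=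
    fun hq => e_mem_Q heP hq H.rad_le_ge
  let L : Subgroup Y :=
    { carrier := {v | v ∈ RGD.Sup X (Rad cs h r) ∧
        k * (e * v * e⁻¹) * k⁻¹ * (e * (k * v * k⁻¹) * e⁻¹)⁻¹ ∈ X r}
      one_mem' := ⟨one_mem _, by
        have : k * (e * 1 * e⁻¹) * k⁻¹ * (e * (k * 1 * k⁻¹) * e⁻¹)⁻¹ = 1 := by group
        rw [this]; exact one_mem _⟩
      mul_mem' := by
        rintro x y ⟨hx, hx'⟩ ⟨hy, hy'⟩
        refine ⟨mul_mem hx hy, ?_⟩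
        have h1 := hcQ (hkQ (heQ hx)) hy'
        have h2 : k * (e * (x * y) * e⁻¹) * k⁻¹ * (e * (k * (x * y) * k⁻¹) * e⁻¹)⁻¹ =
            (k * (e * x * e⁻¹) * k⁻¹) * (k * (e * y * e⁻¹) * k⁻¹ * (e * (k * y * k⁻¹) * e⁻¹)⁻¹) *
              (e * (k * x * k⁻¹) * e⁻¹)⁻¹ := by group
        rw [h2, h1, mul_assoc]
        exact mul_mem hy' hx'
      inv_mem' := by
        rintro x ⟨hx, hx'⟩
        refine ⟨inv_mem hx, ?_⟩
        have h1 := hcQ (inv_mem (hkQ (heQ hx))) (inv_mem hx')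
        have h2 : k * (e * x⁻¹ * e⁻¹) * k⁻¹ * (e * (k * x⁻¹ * k⁻¹) * e⁻¹)⁻¹ =
            (k * (e * x * e⁻¹) * k⁻¹)⁻¹ * (k * (e * x * e⁻¹) * k⁻¹ * (e * (k * x * k⁻¹) * e⁻¹)⁻¹)⁻¹ *
              (k * (e * x * e⁻¹) * k⁻¹) := by group
        rw [h2, h1, mul_assoc, inv_mul_cancel, mul_one]
        exact inv_mem hx' }
  suffices hL : RGD.Sup X (Rad cs h r) ≤ L from (hL hv).2
  clear hv v
  refine RGD.Sup_le fun b hb v hv => ?_
  have hvQ : v ∈ RGD.Sup X (Rad cs h r) := RGD.le_Sup hb hv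
  refine ⟨hvQ, ?_⟩
  rcases H.rad_cases hb with hbr | hb'
  · rw [hbr] at hv
    exact mul_mem (tor_mem R H.root hkT (heX v hv)) (inv_mem (heX _ (tor_mem R H.root hkT hv)))
  -- `v ∈ X b`, `b ∈ Phi1`
  set u := e * v * e⁻¹ with hu
  have huQ : u ∈ RGD.Sup X (Rad cs h r) := heQ hvQ
  have hvb : k * v * k⁻¹ ∈ X b := tor_mem R hb'.1 hkT hv
  have hDQ : k * u * k⁻¹ * (e * (k * v * k⁻¹) * e⁻¹)⁻¹ ∈ RGD.Sup X (Rad cs h r) :=
    mul_mem (hkQ huQ) (inv_mem (heQ (hkQ hvQ)))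
  have h1 := H.mem_QS (S := ∅) (Set.empty_subset _) hDQ ?_
  · exact (sup_le (RGD.Sup_le fun x hx => absurd hx (Set.notMem_empty x)) le_rfl : QS X r ∅ ≤ X r) h1
  intro c hc _ w hw
  have hc' := H.sub_mem hc
  -- conjugates by elements of `T`
  have htc : ∀ {t m : Y}, t ∈ T → (∀ w ∈ X (r - c), m * w = w * m) → ∀ w ∈ X (r - c), (t * m * t⁻¹) * w = w * (t * m * t⁻¹) := by
    intro t m ht hm w hw
    have h2 : t⁻¹ * w * t ∈ X (r - c) := by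
      have := tor_mem R hc'.1 (inv_mem ht) hw
      rwa [inv_inv] at this
    have h3 := hm _ h2
    calc t * m * t⁻¹ * w = t * (m * (t⁻¹ * w * t)) * t⁻¹ := by group
      _ = t * ((t⁻¹ * w * t) * m) * t⁻¹ := by rw [h3]
      _ = _ := by group
  by_cases hsep : ∃ a, IsRoot cs h a ∧ cpr cs h a r = 0 ∧ 0 ≤ cpr cs h a b ∧ cpr cs h a c = -1
  · obtain ⟨a, ha, har, hab, hac⟩ := hsep
    have h2 := H.e_comm heP hb' hc ha har hab hac hv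
    have h3 := H.e_comm heP hb' hc ha har hab hac hvb w hw
    have h4 := htc hkT h2 w hw
    have h5 : (e * (k * v * k⁻¹) * e⁻¹)⁻¹ * w = w * (e * (k * v * k⁻¹) * e⁻¹)⁻¹ := (Commute.inv_left h3).eq
    calc k * u * k⁻¹ * (e * (k * v * k⁻¹) * e⁻¹)⁻¹ * w = k * u * k⁻¹ * ((e * (k * v * k⁻¹) * e⁻¹)⁻¹ * w) := by
          rw [mul_assoc]
      _ = (k * u * k⁻¹ * w) * (e * (k * v * k⁻¹) * e⁻¹)⁻¹ := by rw [h5, ← mul_assoc]
      _ = _ := by rw [h4, mul_assoc]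
  · obtain ⟨a, ha, har, hca⟩ := H.lev c hc
    have hba : cpr cs h b a = 1 := by
      by_contra hne
      apply hsep
      refine ⟨-a, ha.neg, by rw [cpr_neg_left _ H.root, har, neg_zero], ?_, ?_⟩
      · rw [cpr_neg_left _ hb'.1]
        rcases H.sl.cases ha hb'.1 with ⟨h2, -⟩ | ⟨h2, h3⟩ | h2
        · rw [h2, hb'.2] at har; omega
        · omega
        · have := H.sl b a hb'.1 ha
          omega
      · rw [cpr_neg_left _ hc.1, H.sl a c ha hc.1, hca]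
    obtain ⟨t, ht, htb, htc'⟩ := hagr a ha har b hb' c hc hba hca k hk
    have htT := (Subgroup.mem_inf.1 ht).1
    have htP : t ∈ RGD.Sup X (Ge cs h r) := by
      have h1 : a ∈ Ge cs h r := ⟨ha, har.ge⟩
      have h2 : -a ∈ Ge cs h r := ⟨ha.neg, by rw [cpr_neg_left _ H.root, har, neg_zero]⟩
      exact (sup_le (RGD.le_Sup h1) (RGD.le_Sup h2) : X a ⊔ X (-a) ≤ _) (Subgroup.mem_inf.1 ht).2
    set q := e * t * e⁻¹ * t⁻¹ with hq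
    have hqQ : q ∈ RGD.Sup X (Rad cs h r) := heP t htP
    have htuQ : t * u * t⁻¹ ∈ RGD.Sup X (Rad cs h r) := t_conj_Q H htT huQ
    have hz : ⁅q, t * u * t⁻¹⁆ ∈ X r := H.br_Q hqQ htuQ
    have h2 : e * (k * v * k⁻¹) * e⁻¹ = ⁅q, t * u * t⁻¹⁆ * (t * u * t⁻¹) := by
      rw [← htb v hv, commutatorElement_def, hu, hq]; group
    -- the component in `X c`
    have huS : u ∈ QS X r (Phi1 cs h r) := by rw [← H.rad_eq]; exact huQ
    obtain ⟨vc, hvc, q', hq', e1⟩ := H.QS_split subset_rfl hc huS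
    have hq'c : ∀ w ∈ X (r - c), q' * w = w * q' := fun w hw => by
      refine H.QS_comm (S := Phi1 cs h r \ {c}) (fun y hy => hy.1) hc' ?_ hq' hw
      rw [sub_sub_cancel]
      exact fun h0 => h0.2 rfl
    set m := (k * q' * k⁻¹) * (t * q' * t⁻¹)⁻¹ with hm
    have hmc : ∀ w ∈ X (r - c), m * w = w * m := by
      intro w hw
      have h3 : (k * q' * k⁻¹) * w = w * (k * q' * k⁻¹) := htc hkT hq'c w hw
      have h4 : (t * q' * t⁻¹)⁻¹ * w = w * (t * q' * t⁻¹)⁻¹ := (Commute.inv_left (htc htT hq'c w hw)).eq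
      rw [hm, mul_assoc, h4, ← mul_assoc, h3, mul_assoc]
    have hD : k * u * k⁻¹ * (e * (k * v * k⁻¹) * e⁻¹)⁻¹ =
        (k * vc * k⁻¹) * m * (k * vc * k⁻¹)⁻¹ * ⁅q, t * u * t⁻¹⁆⁻¹ := by
      rw [h2, mul_inv_rev, hm]
      have h3 : k * u * k⁻¹ * (t * u * t⁻¹)⁻¹ = (k * vc * k⁻¹) * ((k * q' * k⁻¹) * (t * q' * t⁻¹)⁻¹) * (k * vc * k⁻¹)⁻¹ := by
        conv_rhs => rw [← htc' vc hvc]
        rw [e1]
        have h4 := htc' vc hvc
        calc k * (vc * q') * k⁻¹ * (t * (vc * q') * t⁻¹)⁻¹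
            = (k * vc * k⁻¹) * ((k * q' * k⁻¹) * (t * q' * t⁻¹)⁻¹) * (t * vc * t⁻¹)⁻¹ := by group
          _ = _ := by rw [h4]
      rw [← mul_assoc, h3]
    have hvcX : k * vc * k⁻¹ ∈ X c := tor_mem R hc.1 hkT hvc
    set v' := k * vc * k⁻¹ with hv'
    have hzw : ⁅v', w⁆ ∈ X r := H.br_mem hc hvcX hw
    have hwQ : w ∈ RGD.Sup X (Rad cs h r) := RGD.le_Sup (H.phi1_rad hc') hw
    have hv'Q : v' ∈ RGD.Sup X (Rad cs h r) := RGD.le_Sup (H.phi1_rad hc) hvcX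
    have hmQ : m ∈ RGD.Sup X (Rad cs h r) := by
      have hq'Q : q' ∈ RGD.Sup X (Rad cs h r) := by
        have : q' = vc⁻¹ * u := by rw [e1]; group
        rw [this]
        exact mul_mem (inv_mem (RGD.le_Sup (H.phi1_rad hc) hvc)) huQ
      exact mul_mem (hkQ hq'Q) (inv_mem (t_conj_Q H htT hq'Q))
    have h5 : v' * m * v'⁻¹ * w = w * (v' * m * v'⁻¹) := by
      -- `v'⁻¹ w v' = w z`
      have h6 : ⁅v'⁻¹, w⁆ ∈ X r := H.br_mem hc (inv_mem hvcX) hw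
      have h7 : v'⁻¹ * w = ⁅v'⁻¹, w⁆ * w * v'⁻¹ := by rw [commutatorElement_def]; group
      have h8 : m * ⁅v'⁻¹, w⁆ = ⁅v'⁻¹, w⁆ * m := hcQ hmQ h6
      calc v' * m * v'⁻¹ * w = v' * m * (v'⁻¹ * w) := by group
        _ = v' * (m * ⁅v'⁻¹, w⁆) * w * v'⁻¹ := by rw [h7]; group
        _ = v' * ⁅v'⁻¹, w⁆ * (m * w) * v'⁻¹ := by rw [h8]; group
        _ = v' * ⁅v'⁻¹, w⁆ * (w * m) * v'⁻¹ := by rw [hmc w hw]
        _ = (v' * (⁅v'⁻¹, w⁆ * w * v'⁻¹)) * (v' * m * v'⁻¹) := by group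
        _ = (v' * (v'⁻¹ * w)) * (v' * m * v'⁻¹) := by rw [h7]
        _ = _ := by group
    rw [hD]
    have h6 : ⁅q, t * u * t⁻¹⁆⁻¹ * w = w * ⁅q, t * u * t⁻¹⁆⁻¹ := (hcQ hwQ (inv_mem hz)).symm
    rw [mul_assoc, h6, ← mul_assoc, h5, mul_assoc]

end Aut

/-- **`LocS`** -/
theorem locS [Finite Y] (hagr : Agr cs h T X r) (hq : ∀ b, IsRoot cs h b → ∃ u ∈ X b, ∃ v ∈ X b, u ≠ 1 ∧ v ≠ 1 ∧ u ≠ v)
    {Rr : Subgroup Y} (amb : Amb (GG cs h T X) Rr)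
    (two : ∀ c ∈ C1 (GG cs h T X) Rr, IsPGroup 2 (Subgroup.zpowers c) → c ∈ Rr)
    (k3 : ∀ c : Y, (∀ a ∈ Rr, c * a = a * c) → (∀ p ∈ RGD.Sup X (Ge cs h r), c * p = p * c) →
      ∃ x ∈ X r, x⁻¹ * c ∈ C1 (GG cs h T X) Rr) :
    LocS (GG cs h T X) Rr (RGD.Sup X (Ge cs h r)) (RGD.Sup X (Rad cs h r)) (X r) (T ⊓ (X r ⊔ X (-r))) where
  amb := amb
  PK := le_trans (RGD.Sup_mono fun _ hx => hx.1) le_sup_right
  QP := H.rad_le_ge
  XQ := RGD.le_Sup H.r_rad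
  XX := fun x hx => H.r_sq hx
  XZ := fun x hx p hp => (H.central hp hx).symm
  QN := fun p hp q hq => H.QN hp hq
  TK := le_trans inf_le_left le_sup_left
  TX := fun t ht x hx => tor_mem R H.root (Subgroup.mem_inf.1 ht).1 hx
  TQ := fun k hk p hp => tq H hk hp
  Tab := fun s hs t ht => H.tab s (Subgroup.mem_inf.1 hs).1 t (Subgroup.mem_inf.1 ht).1
  Ttr := by
    intro x hx hx1 y hy hy1
    obtain ⟨b, hb⟩ := H.ex
    have hA' : A2 cs h r (-b) := by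
      refine H.sl.a2 H.root hb.1.neg ?_
      rw [cpr_neg_right cs h _ hb.1, H.sl r b H.root hb.1, hb.2]
    exact tor_self hA' R H.tab hx hx1 hy hy1
  big := by
    obtain ⟨x, hx, y, hy, h1, h2, h3⟩ := hq r H.root
    exact ⟨x, hx, y, hy, h1, h2, h3⟩
  two := two
  k3 := k3
  sc := fun e _ _ heX he k hk v hv => H.sc he hagr heX hk hv
  gen := by
    obtain ⟨b, hb⟩ := H.ex
    obtain ⟨u, hu, hu1⟩ := exists_ne R hb.1
    intro w hw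
    obtain ⟨v, hv, rfl⟩ := (H.a2 hb).comm_surj R hu hu1 (w := w) (by rwa [add_sub_cancel])
    exact Subgroup.commutator_mem_commutator (RGD.le_Sup (H.phi1_rad hb) hu) (RGD.le_Sup (H.phi1_rad (H.sub_mem hb)) hv)
  B := by
    intro y _ hyP hyQ hyX
    exact H.B hyP hyX hyQ (fun b _ => inferInstance) hq

end HypW

/-- **No commuting pair of root type**, simply laced root group datum. -/
theorem no_pair_rgdS [Finite W] (Rd : RGD cs h 2 T n X) [Finite Y] (hs : SL cs h) (hL : ∀ a, IsRoot cs h a → LR Rd a)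
    (hN : NoCent cs h T X) (Tab : ∀ t ∈ T, ∀ t' ∈ T, t * t' = t' * t) {E T0 : Subgroup Y}
    (F1 : FactOne cs h T X E) (F2 : FactTwo cs h T X E)
    {r s g g' : I → ℤ} (hA : A2 cs h r s) (hgs : cpr cs h s g = 0) (hgr : A2 cs h g r)
    (hgs' : cpr cs h r g' = 0) (hgr' : A2 cs h g' s)
    (hT0 : T0 ≤ T) (L : LocS (GG cs h T X) E (RGD.Sup X (Ge cs h r)) (RGD.Sup X (Rad cs h r)) (X r) T0)
    (hPp : RGD.Sup X (Ge cs h r) ≤ ⁅RGD.Sup X (Ge cs h r), RGD.Sup X (Ge cs h r)⁆)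
    (hout : ∀ H : Subgroup Y, H ≤ Subgroup.normalizer (GG cs h T X : Set Y) → H ≤ ⁅H, H⁆ →
      ∀ x ∈ H, ∃ k ∈ GG cs h T X, ∃ c : Y, (∀ y ∈ GG cs h T X, c * y = y * c) ∧ x = k * c)
    (hC1 : ∀ H : Subgroup Y, H ≤ C1 (GG cs h T X) E → H ≤ ⁅H, H⁆ → H = ⊥)
    {t t' : Y} (ht : t ∈ E) (ht1 : t ≠ 1) (ht' : t' ∈ E) (ht1' : t' ≠ 1) (hne : t' ≠ t)
    {γ k : Y} (hk : k ∈ GG cs h T X) (hg1 : cj γ E ≤ E ⊔ X r) (hg2 : E ≤ cj γ (E ⊔ cj k (X r)))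
    (hg3 : ¬ cj γ E ≤ E) : False := by
  obtain ⟨k1, m1, H, ek, em⟩ := ktri Rd hs hL Tab F1 F2 hA hgs hgr hgs' hgr' L.big
  have hL' := hL r hA.rx
  have hkm : m1⁻¹ * k1 ∈ GG cs h T X := mul_mem (inv_mem H.mK) H.nK
  obtain ⟨V, B, -⟩ := L.base_of_pair (norX Rd hL' Tab hT0) res res_cj
    (res_eq L.amb (fun p hp x hx => (L.XZ x hx p hp).symm) L.PK (le_trans L.XQ (le_trans L.QP L.PK))
      ⟨t, ht, ht1⟩ hPp hout hC1 (fun x hx hx1 H hH hHx hHp => le_P_of_perfect Rd hL' Tab hx hx1 hH hHx hHp))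
    (fun g hg => cj_of_cj_P Rd hs hL hN hA.rx L.QN hg) hk hg1 hg2 hg3
  exact hne ((H.tri L.amb B (a := 1) (b := m1⁻¹ * k1) (c := k1) (one_mem _) hkm H.nK (cj_one _)
    (by rw [cj_mul, H.nX, ← H.mX, cj_inv_cj]) H.nX (cj_one _) (by rw [cj_mul, ek, ← em, cj_inv_cj]) ek).eq_of_ne_one
    ht ht1 ht' ht1')

end Cfsg.Agent.OddHalf.DblR
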