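import Cfsg.Agent.Nodes.Reps
import Cfsg.Agent.OddHalf.D4.Basic
import Cfsg.Agent.OddHalf.DblR.Res

/-!
# ODD, D4: the reduction to pairs of root type

`K` a standard component, `F` a 2-group normalising `K`, `S = F ∩ K` a Sylow 2-subgroup of `K`, `X = Z(S)`, `H` the last
term of the derived series of `C_K(w)` for every `1 ≠ w ∈ X`.

* `proj`, `proj_le`, `proj_perf` : the projection of a subgroup of `L × D` to `L`;
* `One K F X H` : the hypotheses;
* **`One.inf_eq_bot`** : `F ∩ K ∩ C(L) = 1` for another conjugate `L` of `K` satisfying the same hypotheses;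
* **`One.le_sup`** : `F ∩ C(L) ≤ (F ∩ C(K)) X`.
-/

set_option autoImplicit false

namespace Cfsg.Agent.OddHalf.DblR

open Cfsg.Agent.Nodes.Reps
open scoped commutatorElement

variable {G : Type*} [Group G]

/-- the projection of `H` to `L` along `D` -/
def proj {L D : Subgroup G} (hLD : ∀ a ∈ L, ∀ b ∈ D, a * b = b * a) (H : Subgroup G) : Subgroup G where
  carrier := {a | a ∈ L ∧ ∃ b ∈ D, a * b ∈ H}
  one_mem' := ⟨one_mem _, 1, one_mem _, by rw [one_mul]; exact one_mem _⟩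
  mul_mem' := by
    rintro a a' ⟨ha, b, hb, h⟩ ⟨ha', b', hb', h'⟩
    refine ⟨mul_mem ha ha', b * b', mul_mem hb hb', ?_⟩
    have e : a * a' * (b * b') = (a * b) * (a' * b') := by
      calc a * a' * (b * b') = a * (a' * b) * b' := by group
        _ = a * (b * a') * b' := by rw [hLD a' ha' b hb]
        _ = _ := by group
    rw [e]
    exact mul_mem h h'
  inv_mem' := by
    rintro a ⟨ha, b, hb, h⟩
    refine ⟨inv_mem ha, b⁻¹, inv_mem hb, ?_⟩
    have e : a⁻¹ * b⁻¹ = (a * b)⁻¹ := by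
      rw [hLD a ha b hb]; group
    rw [e]
    exact inv_mem h

section proj

variable {L D H : Subgroup G} (hLD : ∀ a ∈ L, ∀ b ∈ D, a * b = b * a)

theorem mem_proj {a : G} : a ∈ proj hLD H ↔ a ∈ L ∧ ∃ b ∈ D, a * b ∈ H := Iff.rfl

theorem proj_le : proj hLD H ≤ L := fun _ ha => ha.1

theorem proj_perf (hH : ∀ x ∈ H, ∃ a ∈ L, ∃ b ∈ D, x = a * b) (hHp : H ≤ ⁅H, H⁆)
    (hdis : ∀ x ∈ L, x ∈ D → x = 1) : proj hLD H ≤ ⁅proj hLD H, proj hLD H⁆ := by
  -- every element of `⁅H, H⁆` has its first component in the commutator subgroup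
  have key : ∀ x ∈ ⁅H, H⁆, ∃ a ∈ ⁅proj hLD H, proj hLD H⁆, ∃ b ∈ D, x = a * b := by
    intro x hx
    rw [Subgroup.commutator_def] at hx
    induction hx using Subgroup.closure_induction with
    | mem x hx =>
      obtain ⟨y, hy, z, hz, rfl⟩ := hx
      obtain ⟨a, ha, b, hb, rfl⟩ := hH y hy
      obtain ⟨a', ha', b', hb', rfl⟩ := hH z hz
      refine ⟨⁅a, a'⁆, Subgroup.commutator_mem_commutator ⟨ha, b, hb, hy⟩ ⟨ha', b', hb', hz⟩, ⁅b, b'⁆, ?_, ?_⟩
      · rw [commutatorElement_def]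
        exact mul_mem (mul_mem (mul_mem hb hb') (inv_mem hb)) (inv_mem hb')
      · have e1 := hLD a' ha' b hb
        have e2 := hLD a⁻¹ (inv_mem ha) b' hb'
        have e3 := hLD a⁻¹ (inv_mem ha) b hb
        have e4 := hLD a'⁻¹ (inv_mem ha') b hb
        have e5 := hLD a'⁻¹ (inv_mem ha') b' hb'
        have e6 := hLD a'⁻¹ (inv_mem ha') b⁻¹ (inv_mem hb)
        rw [commutatorElement_def, commutatorElement_def, commutatorElement_def, mul_inv_rev, mul_inv_rev]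
        calc a * b * (a' * b') * (b⁻¹ * a⁻¹) * (b'⁻¹ * a'⁻¹)
            = a * (b * a') * b' * b⁻¹ * a⁻¹ * b'⁻¹ * a'⁻¹ := by group
          _ = a * (a' * b) * b' * b⁻¹ * a⁻¹ * b'⁻¹ * a'⁻¹ := by rw [e1]
          _ = a * a' * (b * b' * b⁻¹ * (a⁻¹ * b'⁻¹)) * a'⁻¹ := by group
          _ = a * a' * (b * b' * b⁻¹ * (b'⁻¹ * a⁻¹)) * a'⁻¹ := by
              rw [hLD a⁻¹ (inv_mem ha) b'⁻¹ (inv_mem hb')]
          _ = a * a' * ((b * b' * b⁻¹ * b'⁻¹) * a⁻¹) * a'⁻¹ := by group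
          _ = a * a' * (a⁻¹ * (b * b' * b⁻¹ * b'⁻¹)) * a'⁻¹ := by
              rw [hLD a⁻¹ (inv_mem ha) (b * b' * b⁻¹ * b'⁻¹)
                (mul_mem (mul_mem (mul_mem hb hb') (inv_mem hb)) (inv_mem hb'))]
          _ = a * a' * a⁻¹ * ((b * b' * b⁻¹ * b'⁻¹) * a'⁻¹) := by group
          _ = a * a' * a⁻¹ * (a'⁻¹ * (b * b' * b⁻¹ * b'⁻¹)) := by
              rw [hLD a'⁻¹ (inv_mem ha') (b * b' * b⁻¹ * b'⁻¹)
                (mul_mem (mul_mem (mul_mem hb hb') (inv_mem hb)) (inv_mem hb'))]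
          _ = a * a' * a⁻¹ * a'⁻¹ * (b * b' * b⁻¹ * b'⁻¹) := by group
    | one => exact ⟨1, one_mem _, 1, one_mem _, by group⟩
    | mul x y _ _ hx hy =>
      obtain ⟨a, ha, b, hb, rfl⟩ := hx
      obtain ⟨a', ha', b', hb', rfl⟩ := hy
      have ha'' : a' ∈ L := proj_le hLD (Subgroup.commutator_le_self _ ha')
      refine ⟨a * a', mul_mem ha ha', b * b', mul_mem hb hb', ?_⟩
      calc a * b * (a' * b') = a * (b * a') * b' := by group
        _ = a * (a' * b) * b' := by rw [hLD a' ha'' b hb]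
        _ = _ := by group
    | inv x _ hx =>
      obtain ⟨a, ha, b, hb, rfl⟩ := hx
      have ha'' : a ∈ L := proj_le hLD (Subgroup.commutator_le_self _ ha)
      refine ⟨a⁻¹, inv_mem ha, b⁻¹, inv_mem hb, ?_⟩
      rw [hLD a ha'' b hb]; group
  intro a ha
  obtain ⟨haL, b, hb, hab⟩ := ha
  obtain ⟨a', ha', b', hb', e⟩ := key _ (hHp hab)
  have ha'' : a' ∈ L := proj_le hLD (Subgroup.commutator_le_self _ ha')
  have h1 : a'⁻¹ * a = b' * b⁻¹ := by
    calc a'⁻¹ * a = a'⁻¹ * (a * b) * b⁻¹ := by group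
      _ = a'⁻¹ * (a' * b') * b⁻¹ := by rw [e]
      _ = _ := by group
  have h2 := hdis (a'⁻¹ * a) (mul_mem (inv_mem ha'') haL) (by rw [h1]; exact mul_mem hb' (inv_mem hb))
  have h3 : a = a' := by
    calc a = a' * (a'⁻¹ * a) := by group
      _ = a' := by rw [h2, mul_one]
  rw [h3]; exact ha'

/-- if `H` centralises `x r`, `x ∈ L`, `r ∈ D`, then the projection centralises `x` -/
theorem proj_comm (hdis : ∀ x ∈ L, x ∈ D → x = 1) {x r : G} (hx : x ∈ L) (hr : r ∈ D)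
    (hc : ∀ y ∈ H, y * (r * x) = r * x * y) : ∀ a ∈ proj hLD H, a * x = x * a := by
  rintro a ⟨ha, b, hb, hab⟩
  have h1 := hc _ hab
  have h2 : x⁻¹ * a⁻¹ * x * a = r⁻¹ * b⁻¹ * r * b := by
    have e1 : a * b * (r * x) = (a * x) * (b * r) := by
      calc a * b * (r * x) = a * ((b * r) * x) := by group
        _ = a * (x * (b * r)) := by rw [hLD x hx (b * r) (mul_mem hb hr)]
        _ = _ := by group
    have e2 : r * x * (a * b) = (x * a) * (r * b) := by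
      calc r * x * (a * b) = (r * (x * a)) * b := by group
        _ = (x * a * r) * b := by rw [← hLD (x * a) (mul_mem hx ha) r hr]
        _ = _ := by group
    rw [e1, e2] at h1
    -- `(a x) (b r) = (x a) (r b)`
    have h3 : (x * a)⁻¹ * (a * x) = (r * b) * (b * r)⁻¹ := by
      calc (x * a)⁻¹ * (a * x) = (x * a)⁻¹ * ((a * x) * (b * r)) * (b * r)⁻¹ := by group
        _ = (x * a)⁻¹ * ((x * a) * (r * b)) * (b * r)⁻¹ := by rw [h1]
        _ = _ := by group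
    have h4 := hdis _ (mul_mem (inv_mem (mul_mem hx ha)) (mul_mem ha hx))
      (by rw [h3]; exact mul_mem (mul_mem hr hb) (inv_mem (mul_mem hb hr)))
    have h5 : a * x = x * a := by
      calc a * x = (x * a) * ((x * a)⁻¹ * (a * x)) := by group
        _ = x * a := by rw [h4, mul_one]
    rw [h4] at h3
    have h6 : b * r = r * b := by
      calc b * r = ((r * b) * (b * r)⁻¹) * (b * r) := by rw [← h3, one_mul]
        _ = r * b := by group
    calc x⁻¹ * a⁻¹ * x * a = x⁻¹ * a⁻¹ * (x * a) := by group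
      _ = x⁻¹ * a⁻¹ * (a * x) := by rw [h5]
      _ = r⁻¹ * b⁻¹ * (b * r) := by group
      _ = r⁻¹ * b⁻¹ * (r * b) := by rw [h6]
      _ = _ := by group
  have h3 := hdis (x⁻¹ * a⁻¹ * x * a) (mul_mem (mul_mem (mul_mem (inv_mem hx) (inv_mem ha)) hx) ha)
    (by rw [h2]; exact mul_mem (mul_mem (mul_mem (inv_mem hr) (inv_mem hb)) hr) hb)
  calc a * x = a * x * (x⁻¹ * a⁻¹ * x * a) := by rw [h3, mul_one]
    _ = x * a := by group

end proj

/-- The facts on `K`, a 2-group `F` normalising `K`, `X = Z(F ∩ K)` and `H` (the last term of the derived series of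
`C_K(w)`, `1 ≠ w ∈ X`). -/
structure One (K F X H : Subgroup G) : Prop where
  two : IsPGroup 2 ↥F
  nF : ∀ y ∈ F, ∀ k ∈ K, y * k * y⁻¹ ∈ K
  nor : ∀ t ∈ Subgroup.centralizer (K : Set G), t * t = 1 → t ≠ 1 → ∀ g : G, g * t = t * g →
    ∀ k ∈ K, g * k * g⁻¹ ∈ K
  ctr : ∀ k ∈ K, k ∈ Subgroup.centralizer (K : Set G) → k = 1
  XF : X ≤ F
  XH : X ≤ H
  HK : H ≤ K
  HX : ∀ y ∈ H, ∀ x ∈ X, y * x = x * y
  perf : H ≤ ⁅H, H⁆
  cen : ∀ y ∈ F, (∀ s ∈ F, s ∈ K → s * y = y * s) → ∃ q ∈ Subgroup.centralizer (K : Set G), ∃ x ∈ X, y = q * x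
  res : ∀ w ∈ X, w ≠ 1 → ∀ P : Subgroup G, P ≤ K → P ≤ ⁅P, P⁆ → (∀ y ∈ P, y * w = w * y) → P ≤ H
  out : ∀ P : Subgroup G, (∀ y ∈ P, ∀ k ∈ K, y * k * y⁻¹ ∈ K) → P ≤ ⁅P, P⁆ →
    ∀ y ∈ P, ∃ k ∈ K, ∃ c ∈ Subgroup.centralizer (K : Set G), y = k * c
  ind : ∀ A B : Subgroup G, A ≤ H → B ≤ H → (∀ a ∈ A, ∀ b ∈ B, a * b = b * a) → A ⊓ B = ⊥ →
    (∀ y ∈ H, ∃ a ∈ A, ∃ b ∈ B, y = a * b) → A = ⊥ ∨ B = ⊥
  gen : ∀ J : Subgroup G, (∀ x ∈ H, x * x = 1 → x ≠ 1 → ∀ k ∈ K, k * x = x * k → k ∈ J) → K ≤ J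
  simp : ∀ N : Subgroup G, N ≤ K → (∀ k ∈ K, ∀ y ∈ N, k * y * k⁻¹ ∈ N) → N = ⊥ ∨ N = K

namespace One

variable {K L F X X' H H' : Subgroup G}

theorem XK (h : One K F X H) : X ≤ K := h.XH.trans h.HK

theorem kc (h : One K F X H) : ∀ a ∈ K, ∀ b ∈ Subgroup.centralizer (K : Set G), a * b = b * a :=
  fun a ha b hb => (Subgroup.mem_centralizer_iff.1 hb) a ha

theorem nC (h : One K F X H) {g : G} (hg : ∀ k ∈ K, g * k * g⁻¹ ∈ K) (hg' : ∀ k ∈ K, g⁻¹ * k * g ∈ K) {c : G}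
    (hc : c ∈ Subgroup.centralizer (K : Set G)) : g * c * g⁻¹ ∈ Subgroup.centralizer (K : Set G) := by
  rw [Subgroup.mem_centralizer_iff]
  intro k hk
  have h1 := h.kc _ (hg' k hk) c hc
  calc k * (g * c * g⁻¹) = g * ((g⁻¹ * k * g) * c) * g⁻¹ := by group
    _ = g * (c * (g⁻¹ * k * g)) * g⁻¹ := by rw [h1]
    _ = g * c * g⁻¹ * k := by group

theorem FC (h : One K F X H) {y c : G} (hy : y ∈ F) (hc : c ∈ Subgroup.centralizer (K : Set G)) :
    y * c * y⁻¹ ∈ Subgroup.centralizer (K : Set G) :=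
  h.nC (h.nF y hy) (fun k hk => by simpa using h.nF y⁻¹ (inv_mem hy) k hk) hc

theorem dis (h : One K F X H) : ∀ x ∈ K, x ∈ Subgroup.centralizer (K : Set G) → x = 1 := h.ctr

/-- an involution of `Z(F ∩ K)` in a nontrivial subgroup normalised by `F` -/
theorem exists_inv [Finite G] (h : One K F X H) {N : Subgroup G} (hNF : N ≤ F) (hNK : N ≤ K) (hN : N ≠ ⊥)
    (hn : ∀ y ∈ F, ∀ x ∈ N, y * x * y⁻¹ ∈ N) : ∃ w ∈ N, w ∈ X ∧ w * w = 1 ∧ w ≠ 1 := by
  have hS : IsPGroup 2 ↥(F ⊓ K : Subgroup G) := D4.Basic.isPGroup_of_le h.two inf_le_left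
  obtain ⟨w, hw, hw2, hwc⟩ := D4.Basic.exists_central_invol hS (le_inf hNF hNK) hN
    (fun t ht x hx => hn t ht.1 x hx)
  have hw1 : w ≠ 1 := by
    rintro rfl
    rw [orderOf_one] at hw2
    exact absurd hw2 (by norm_num)
  refine ⟨w, hw, ?_, by rw [← pow_two, ← hw2]; exact pow_orderOf_eq_one w, hw1⟩
  obtain ⟨q, hq, x, hx, e⟩ := h.cen w (hNF hw) fun s hs hsK => hwc s ⟨hs, hsK⟩
  have h1 : q = 1 := by
    apply h.ctr q _ hq
    have : q = w * x⁻¹ := by rw [e]; group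
    rw [this]
    exact mul_mem (hNK hw) (inv_mem (h.XK hx))
  rw [e, h1, one_mul]; exact hx

/-- the main step: no element of `X` in `C(L)` -/
theorem false_of_mem [Finite G] (h : One K F X H) (h' : One L F X' H')
    (hne : ¬ ∀ k ∈ K, ∀ l ∈ L, k * l = l * k) {w : G} (hwX : w ∈ X) (hw1 : w ≠ 1)
    (hw2 : w * w = 1) (hwL : w ∈ Subgroup.centralizer (L : Set G))
    {r x' : G} (hr : r ∈ Subgroup.centralizer (L : Set G)) (hrF : r ∈ F) (hx' : x' ∈ X') (hx1 : x' ≠ 1)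
    (hq : r * x' ∈ Subgroup.centralizer (K : Set G)) (hq2 : r * x' * (r * x') = 1) (hq1 : r * x' ≠ 1) 
    (hrH : ∀ y ∈ H', y * r = r * y) : False := by
  set C := Subgroup.centralizer (K : Set G) with hC
  set D := Subgroup.centralizer (L : Set G) with hD
  -- `H ≤ N(L)`
  have hHL : ∀ y ∈ H, ∀ k ∈ L, y * k * y⁻¹ ∈ L := fun y hy => h'.nor w hwL hw2 hw1 y (h.HX y hy w hwX)
  have hHdec := h'.out H hHL h.perf
  -- the projection of `H` to `L` lies in `H'`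
  have hP : proj h'.kc H ≤ H' := by
    apply h'.res x' hx' hx1 _ (proj_le _) (proj_perf h'.kc hHdec h.perf h'.dis)
    apply proj_comm h'.kc h'.dis (h'.XK hx') hr
    intro y hy
    exact h.kc y (h.HK hy) _ hq
  -- `H' ≤ N(K)`
  have hH'K : ∀ y ∈ H', ∀ k ∈ K, y * k * y⁻¹ ∈ K := by
    intro y hy
    apply h.nor _ hq hq2 hq1
    calc y * (r * x') = (y * r) * x' := by group
      _ = r * (y * x') := by rw [hrH y hy]; group
      _ = r * (x' * y) := by rw [h'.HX y hy x' hx']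
      _ = r * x' * y := by group
  have hH'dec := h.out H' hH'K h'.perf
  have hP' : proj h.kc H' ≤ H := by
    apply h.res w hwX hw1 _ (proj_le _) (proj_perf h.kc hH'dec h'.perf h.dis)
    apply proj_comm h.kc h.dis (h.XK hwX) (one_mem _)
    intro y hy
    rw [one_mul]
    exact h'.kc y (h'.HK hy) _ hwL
  -- `H'` normalises `H`
  have hHH : ∀ y ∈ H', ∀ x ∈ H, y * x * y⁻¹ ∈ H := by
    intro y hy x hx
    obtain ⟨k, hk, c, hc, rfl⟩ := hH'dec y hy
    have hkH : k ∈ H := hP' ⟨hk, c, hc, hy⟩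
    have h1 := h.kc x (h.HK hx) c hc
    have h2 : k * c * x * (k * c)⁻¹ = k * x * k⁻¹ := by
      calc k * c * x * (k * c)⁻¹ = k * (c * x) * c⁻¹ * k⁻¹ := by group
        _ = k * (x * c) * c⁻¹ * k⁻¹ := by rw [h1]
        _ = k * x * k⁻¹ := by group
    rw [h2]
    exact mul_mem (mul_mem hkH hx) (inv_mem hkH)
  -- the projection of `H` to `D`
  have hdl : ∀ a ∈ D, ∀ b ∈ L, a * b = b * a := fun a ha b hb => (h'.kc b hb a ha).symm
  have hHdec' : ∀ x ∈ H, ∃ a ∈ D, ∃ b ∈ L, x = a * b := by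
    intro x hx
    obtain ⟨l, hl, d, hd, e⟩ := hHdec x hx
    exact ⟨d, hd, l, hl, by rw [e, h'.kc l hl d hd]⟩
  have hEperf := proj_perf hdl hHdec' h.perf (fun x hx hx' => h'.dis x hx' hx)
  have hEH : proj hdl H ≤ H := by
    refine hEperf.trans ?_
    rw [Subgroup.commutator_le]
    rintro d1 ⟨hd1, l1, hl1, h1⟩ d2 ⟨hd2, l2, hl2, h2⟩
    -- `d2` normalises `H`
    have hd2H : ∀ x ∈ H, d2 * x * d2⁻¹ ∈ H := by
      intro x hx
      have hl2H : l2 ∈ H' := hP ⟨hl2, d2, hd2, by rw [h'.kc l2 hl2 d2 hd2]; exact h2⟩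
      have h3 := hHH l2⁻¹ (inv_mem hl2H) x hx
      have h4 : d2 = (d2 * l2) * l2⁻¹ := by group
      rw [h4]
      have h5 := mul_mem (mul_mem h2 h3) (inv_mem h2)
      have e : d2 * l2 * l2⁻¹ * x * (d2 * l2 * l2⁻¹)⁻¹ = d2 * l2 * (l2⁻¹ * x * l2⁻¹⁻¹) * (d2 * l2)⁻¹ := by group
      rw [e]; exact h5
    have e : ⁅d1, d2⁆ = (d1 * l1) * (d2 * (d1 * l1)⁻¹ * d2⁻¹) := by
      have h6 : d2 * l1⁻¹ = l1⁻¹ * d2 := hdl d2 hd2 l1⁻¹ (inv_mem hl1)
      have h7 : l1 * d2 = d2 * l1 := h'.kc l1 hl1 d2 hd2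
      rw [commutatorElement_def]
      calc d1 * d2 * d1⁻¹ * d2⁻¹ = d1 * (d2 * l1 * l1⁻¹) * d1⁻¹ * d2⁻¹ := by group
        _ = d1 * (l1 * d2 * l1⁻¹) * d1⁻¹ * d2⁻¹ := by rw [h7]
        _ = _ := by group
    rw [e]
    exact mul_mem h1 (hd2H _ (inv_mem h1))
  -- `H` is the direct product of `H ∩ L` and `H ∩ D`
  have hdec : ∀ y ∈ H, ∃ a ∈ H ⊓ L, ∃ b ∈ H ⊓ D, y = a * b := by
    intro y hy
    obtain ⟨l, hl, d, hd, rfl⟩ := hHdec y hy
    have hdH : d ∈ H := hEH ⟨hd, l, hl, by rw [← h'.kc l hl d hd]; exact hy⟩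
    have hlH : l ∈ H := by
      have := mul_mem hy (inv_mem hdH)
      rwa [mul_inv_cancel_right] at this
    exact ⟨l, ⟨hlH, hl⟩, d, ⟨hdH, hd⟩, rfl⟩
  have hHD : H ≤ D := by
    rcases h.ind (H ⊓ L) (H ⊓ D) inf_le_left inf_le_left
      (fun a ha b hb => h'.kc a ha.2 b hb.2) (by
        rw [eq_bot_iff]
        rintro x ⟨hx1, hx2⟩
        rw [Subgroup.mem_bot]
        exact h'.dis x hx1.2 hx2.2) hdec with h1 | h1
    · intro y hy
      obtain ⟨a, ha, b, hb, rfl⟩ := hdec y hy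
      rw [h1, Subgroup.mem_bot] at ha
      rw [ha, one_mul]; exact hb.2
    · exfalso
      apply hw1
      rw [← Subgroup.mem_bot, ← h1]
      exact ⟨h.XH hwX, hwL⟩
  -- `K ≤ N(L)`
  have hKL : ∀ y ∈ K, ∀ l ∈ L, y * l * y⁻¹ ∈ L := by
    have h1 : K ≤ Subgroup.normalizer (L : Set G) := by
      apply h.gen
      intro x hx hx2 hx1 k hk hkx
      rw [mem_normalizer_iff_cj]
      have key : ∀ k : G, k * x = x * k → cj k L ≤ L := by
        intro k hkx y hy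
        rw [mem_cj] at hy
        have h2 := h'.nor x (hHD hx) hx2 hx1 k hkx _ hy
        have e : k * (k⁻¹ * y * k) * k⁻¹ = y := by group
        rwa [e] at h2
      apply le_antisymm (key k hkx)
      have hkx' : k⁻¹ * x = x * k⁻¹ := by
        calc k⁻¹ * x = k⁻¹ * (x * k) * k⁻¹ := by group
          _ = k⁻¹ * (k * x) * k⁻¹ := by rw [hkx]
          _ = x * k⁻¹ := by group
      have h3 := cj_mono k (key k⁻¹ hkx')
      rwa [cj_cj_inv] at h3
    intro y hy l hl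
    exact (Subgroup.mem_normalizer_iff.1 (h1 hy) l).1 hl
  -- `K ∩ C(L)` is normal in `K`
  rcases h.simp (K ⊓ D) inf_le_left (by
    rintro k hk y ⟨hy1, hy2⟩
    refine Subgroup.mem_inf.2 ⟨mul_mem (mul_mem hk hy1) (inv_mem hk), ?_⟩
    apply h'.nC (hKL k hk) (fun l hl => ?_) hy2
    simpa using hKL k⁻¹ (inv_mem hk) l hl) with h1 | h1
  · apply hw1
    rw [← Subgroup.mem_bot, ← h1]
    exact ⟨h.XK hwX, hwL⟩
  · apply hne
    intro k hk l hl
    have h2 : k ∈ K ⊓ D := by rw [h1]; exact hk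
    exact (h'.kc l hl k h2.2).symm

/-- `[F ∩ C(K), F ∩ C(L)] = 1` -/
theorem comm_QR (h : One K F X H) (h' : One L F X' H')
    (hno : ∀ z ∈ Subgroup.centralizer (K : Set G), z ∈ Subgroup.centralizer (L : Set G) → z ∈ F → z = 1)
    {q r : G} (hqF : q ∈ F) (hq : q ∈ Subgroup.centralizer (K : Set G)) (hrF : r ∈ F)
    (hr : r ∈ Subgroup.centralizer (L : Set G)) : q * r = r * q := by
  have h1 : q * r * q⁻¹ * r⁻¹ = 1 := by
    apply hno
    · have e : q * r * q⁻¹ * r⁻¹ = q * (r * q⁻¹ * r⁻¹) := by group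
      rw [e]
      exact mul_mem hq (h.FC hrF (inv_mem hq))
    · exact mul_mem (h'.FC hqF hr) (inv_mem hr)
    · exact mul_mem (mul_mem (mul_mem hqF hrF) (inv_mem hqF)) (inv_mem hrF)
  calc q * r = (q * r * q⁻¹ * r⁻¹) * (r * q) := by group
    _ = r * q := by rw [h1, one_mul]

/-- **If `F ∩ K ∩ C(L) = 1` then `F ∩ C(L) ≤ C(K) X`.** -/
theorem le_of_inf (h : One K F X H) (h' : One L F X' H') (hi : ∀ x ∈ F, x ∈ K → x ∈ Subgroup.centralizer (L : Set G) → x = 1)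
    {r : G} (hrF : r ∈ F) (hr : r ∈ Subgroup.centralizer (L : Set G)) :
    ∃ q ∈ F, q ∈ Subgroup.centralizer (K : Set G) ∧ ∃ x ∈ X, r = q * x := by
  obtain ⟨q, hq, x, hx, e⟩ := h.cen r hrF (by
    intro s hs hsK
    have h1 : s * r * s⁻¹ * r⁻¹ = 1 := by
      apply hi
      · exact mul_mem (mul_mem (mul_mem hs hrF) (inv_mem hs)) (inv_mem hrF)
      · have e : s * r * s⁻¹ * r⁻¹ = s * (r * s⁻¹ * r⁻¹) := by group
        rw [e]
        exact mul_mem hsK (h.nF r hrF _ (inv_mem hsK))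
      · exact mul_mem (h'.FC hs hr) (inv_mem hr)
    calc s * r = (s * r * s⁻¹ * r⁻¹) * (r * s) := by group
      _ = r * s := by rw [h1, one_mul])
  refine ⟨q, ?_, hq, x, hx, e⟩
  have : q = r * x⁻¹ := by rw [e]; group
  rw [this]
  exact mul_mem hrF (inv_mem (h.XF hx))

/-- **`F ∩ K ∩ C(L) = 1`.** -/
theorem inf_eq_bot [Finite G] (h : One K F X H) (h' : One L F X' H')
    (hno : ∀ z ∈ Subgroup.centralizer (K : Set G), z ∈ Subgroup.centralizer (L : Set G) → z ∈ F → z = 1)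
    (hne : ¬ ∀ k ∈ K, ∀ l ∈ L, k * l = l * k)
    (hQ : ∃ q ∈ F, q ∈ Subgroup.centralizer (K : Set G) ∧ q * q = 1 ∧ q ≠ 1) :
    ∀ x ∈ F, x ∈ K → x ∈ Subgroup.centralizer (L : Set G) → x = 1 := by
  by_contra hcon
  push Not at hcon
  obtain ⟨y, hyF, hyK, hyL, hy1⟩ := hcon
  obtain ⟨w, hw, hwX, hw2, hw1⟩ := h.exists_inv (N := F ⊓ K ⊓ Subgroup.centralizer (L : Set G))
    (inf_le_left.trans inf_le_left) (inf_le_left.trans inf_le_right) (by
      intro h1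
      apply hy1
      rw [← Subgroup.mem_bot, ← h1]
      exact ⟨⟨hyF, hyK⟩, hyL⟩) (by
      rintro y hy x ⟨⟨hx1, hx2⟩, hx3⟩
      exact Subgroup.mem_inf.2 ⟨Subgroup.mem_inf.2 ⟨mul_mem (mul_mem hy hx1) (inv_mem hy), h.nF y hy x hx2⟩,
        h'.FC hy hx3⟩)
  by_cases hmix : ∀ x ∈ F, x ∈ L → x ∈ Subgroup.centralizer (K : Set G) → x = 1
  · -- `F ∩ C(K) ≤ C(L) X'`
    obtain ⟨q, hqF, hqC, hq2, hq1⟩ := hQ
    obtain ⟨r, hrF, hrD, x', hx', e⟩ := h'.le_of_inf h hmix hqF hqC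
    have hx1 : x' ≠ 1 := by
      rintro rfl
      rw [mul_one] at e
      exact hq1 (hno q hqC (by rw [e]; exact hrD) hqF)
    refine h.false_of_mem h' hne hwX hw1 hw2 hw.2 hrD hrF hx' hx1 (by rw [← e]; exact hqC)
      (by rw [← e]; exact hq2) (by rw [← e]; exact hq1) ?_
    intro y hy
    exact h'.kc y (h'.HK hy) r hrD
  · push Not at hmix
    obtain ⟨y', hyF', hyL', hyK', hy1'⟩ := hmix
    obtain ⟨w', hw', hwX', hw2', hw1'⟩ := h'.exists_inv (N := F ⊓ L ⊓ Subgroup.centralizer (K : Set G))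
      (inf_le_left.trans inf_le_left) (inf_le_left.trans inf_le_right) (by
        intro h1
        apply hy1'
        rw [← Subgroup.mem_bot, ← h1]
        exact ⟨⟨hyF', hyL'⟩, hyK'⟩) (by
        rintro y hy x ⟨⟨hx1, hx2⟩, hx3⟩
        exact Subgroup.mem_inf.2 ⟨Subgroup.mem_inf.2 ⟨mul_mem (mul_mem hy hx1) (inv_mem hy), h'.nF y hy x hx2⟩,
          h.FC hy hx3⟩)
    refine h.false_of_mem h' hne hwX hw1 hw2 hw.2 (one_mem _) (one_mem _) hwX' hw1' (by rw [one_mul]; exact hw'.2)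
      (by rw [one_mul]; exact hw2') (by rw [one_mul]; exact hw1') ?_
    intro y _
    rw [mul_one, one_mul]

/-- **`F ∩ C(L) ≤ (F ∩ C(K)) X`.** -/
theorem le_sup [Finite G] (h : One K F X H) (h' : One L F X' H')
    (hno : ∀ z ∈ Subgroup.centralizer (K : Set G), z ∈ Subgroup.centralizer (L : Set G) → z ∈ F → z = 1)
    (hne : ¬ ∀ k ∈ K, ∀ l ∈ L, k * l = l * k)
    (hQ : ∃ q ∈ F, q ∈ Subgroup.centralizer (K : Set G) ∧ q * q = 1 ∧ q ≠ 1) :
    F ⊓ Subgroup.centralizer (L : Set G) ≤ (F ⊓ Subgroup.centralizer (K : Set G)) ⊔ X := by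
  rintro r ⟨hrF, hr⟩
  obtain ⟨q, hqF, hqC, x, hx, rfl⟩ := h.le_of_inf h' (h.inf_eq_bot h' hno hne hQ) hrF hr
  exact mul_mem (Subgroup.mem_sup_left ⟨hqF, hqC⟩) (Subgroup.mem_sup_right hx)

theorem conj_cent {g c : G} : g * c * g⁻¹ ∈ Subgroup.centralizer (cj g K : Set G) ↔ c ∈ Subgroup.centralizer (K : Set G) := by
  rw [← cj_centralizer]; exact conj_mem_cj

theorem inv_conj {g x : G} : g * (g⁻¹ * x * g) * g⁻¹ = x := by group

/-- the hypotheses are invariant under conjugation -/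
theorem cj [Finite G] (h : One K F X H) (g : G) : One (cj g K) (cj g F) (cj g X) (cj g H) := by
  have cmul : ∀ x y : G, (g⁻¹ * x * g) * (g⁻¹ * y * g) = g⁻¹ * (x * y) * g := fun x y => by group
  have cinv : ∀ x : G, (g⁻¹ * x * g)⁻¹ = g⁻¹ * x⁻¹ * g := fun x => by group
  have cone : ∀ {x : G}, g⁻¹ * x * g = 1 → x = 1 := fun {x} h0 => by
    calc x = g * (g⁻¹ * x * g) * g⁻¹ := by group
      _ = 1 := by rw [h0]; group
  have ccomm : ∀ {x y : G}, x * y = y * x ↔ (g⁻¹ * x * g) * (g⁻¹ * y * g) = (g⁻¹ * y * g) * (g⁻¹ * x * g) := by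
    intro x y
    rw [cmul, cmul]
    constructor
    · intro e; rw [e]
    · intro e
      calc x * y = g * (g⁻¹ * (x * y) * g) * g⁻¹ := by group
        _ = g * (g⁻¹ * (y * x) * g) * g⁻¹ := by rw [e]
        _ = y * x := by group
  have cC : ∀ {x : G}, x ∈ Subgroup.centralizer (Nodes.Reps.cj g K : Set G) ↔ g⁻¹ * x * g ∈ Subgroup.centralizer (K : Set G) := by
    intro x
    rw [← cj_centralizer, mem_cj]
  have cmem : ∀ {A : Subgroup G} {x : G}, x ∈ A → g * x * g⁻¹ ∈ Nodes.Reps.cj g A := fun {A x} hx => conj_mem_cj.2 hx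
  have cback : ∀ x : G, g⁻¹ * (g * x * g⁻¹) * g = x := fun x => by group
  have cperf : ∀ {P : Subgroup G}, P ≤ ⁅P, P⁆ → Nodes.Reps.cj g⁻¹ P ≤ ⁅Nodes.Reps.cj g⁻¹ P, Nodes.Reps.cj g⁻¹ P⁆ := by
    intro P hP
    rw [← cj_commutator]
    exact cj_mono _ hP
  have cle : ∀ {A B : Subgroup G}, A ≤ Nodes.Reps.cj g B → Nodes.Reps.cj g⁻¹ A ≤ B := by
    intro A B hAB
    have := cj_mono g⁻¹ hAB
    rwa [cj_inv_cj] at this
  have cle' : ∀ {A B : Subgroup G}, Nodes.Reps.cj g⁻¹ A ≤ B → A ≤ Nodes.Reps.cj g B := by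
    intro A B hAB
    have := cj_mono g hAB
    rwa [cj_cj_inv] at this
  have cm' : ∀ {A : Subgroup G} {x : G}, x ∈ Nodes.Reps.cj g⁻¹ A → g * x * g⁻¹ ∈ A := by
    intro A x hx
    rw [mem_cj, inv_inv] at hx
    exact hx
  refine ⟨?_, ?_, ?_, ?_, cj_mono g h.XF, cj_mono g h.XH, cj_mono g h.HK, ?_, ?_, ?_, ?_, ?_, ?_, ?_, ?_⟩
  · exact h.two.map _
  · intro y hy k hk
    rw [mem_cj] at hy hk ⊢
    have := h.nF _ hy _ hk
    rw [cmul, cinv, cmul] at this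
    exact this
  · intro t ht ht2 ht1 x hx k hk
    rw [mem_cj] at hk ⊢
    have := h.nor _ (cC.1 ht) (by rw [cmul, ht2]; group) (fun h0 => ht1 (cone h0)) (g⁻¹ * x * g) (ccomm.1 hx) _ hk
    rw [cmul, cinv, cmul] at this
    exact this
  · intro k hk hkc
    rw [mem_cj] at hk
    exact cone (h.ctr _ hk (cC.1 hkc))
  · intro y hy x hx
    rw [mem_cj] at hy hx
    exact ccomm.2 (h.HX _ hy _ hx)
  · rw [← cj_commutator]
    exact cj_mono g h.perf
  · intro y hy hc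
    rw [mem_cj] at hy
    obtain ⟨q, hq, x, hx, e⟩ := h.cen _ hy (by
      intro s hs hsK
      have := ccomm.1 (hc (g * s * g⁻¹) (cmem hs) (cmem hsK))
      rwa [cback] at this)
    refine ⟨g * q * g⁻¹, conj_cent.2 hq, g * x * g⁻¹, cmem hx, ?_⟩
    calc y = g * (g⁻¹ * y * g) * g⁻¹ := by group
      _ = g * (q * x) * g⁻¹ := by rw [e]
      _ = _ := by group
  · intro w hw hw1 P hP hPp hPw
    rw [mem_cj] at hw
    apply cle'
    apply h.res _ hw (fun h0 => hw1 (cone h0)) _ (cle hP) (cperf hPp)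
    intro y hy
    have := ccomm.1 (hPw _ (cm' hy))
    rwa [cback] at this
  · intro P hP hPp y hy
    obtain ⟨k, hk, c, hc, e⟩ := h.out (Nodes.Reps.cj g⁻¹ P) (by
      intro y hy k hk
      have h1 := hP _ (cm' hy) _ (cmem hk)
      rw [mem_cj] at h1
      have e : g⁻¹ * (g * y * g⁻¹ * (g * k * g⁻¹) * (g * y * g⁻¹)⁻¹) * g = y * k * y⁻¹ := by group
      rwa [e] at h1) (cperf hPp) (g⁻¹ * y * g) (by rw [mem_cj, inv_inv, inv_conj]; exact hy)
    refine ⟨g * k * g⁻¹, cmem hk, g * c * g⁻¹, conj_cent.2 hc, ?_⟩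
    calc y = g * (g⁻¹ * y * g) * g⁻¹ := by group
      _ = g * (k * c) * g⁻¹ := by rw [e]
      _ = _ := by group
  · intro A B hA hB hAB hdis hdec
    have key : ∀ {A : Subgroup G}, Nodes.Reps.cj g⁻¹ A = ⊥ → A = ⊥ := by
      intro A hA
      rw [eq_bot_iff]
      have := cle' hA.le
      rwa [show Nodes.Reps.cj g (⊥ : Subgroup G) = ⊥ from Subgroup.map_bot _] at this
    have := h.ind (Nodes.Reps.cj g⁻¹ A) (Nodes.Reps.cj g⁻¹ B) (cle hA) (cle hB) (by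
      intro a ha b hb
      have := ccomm.1 (hAB _ (cm' ha) _ (cm' hb))
      rwa [cback, cback] at this) (by
      rw [eq_bot_iff]
      rintro x ⟨hx1, hx2⟩
      have h1 : g * x * g⁻¹ ∈ A ⊓ B := ⟨cm' hx1, cm' hx2⟩
      rw [hdis, Subgroup.mem_bot] at h1
      rw [Subgroup.mem_bot, ← cback x, h1]; group) (by
      intro y hy
      obtain ⟨a, ha, b, hb, e⟩ := hdec (g * y * g⁻¹) (cmem hy)
      refine ⟨g⁻¹ * a * g, by rw [mem_cj, inv_inv, inv_conj]; exact ha, g⁻¹ * b * g,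
        by rw [mem_cj, inv_inv, inv_conj]; exact hb, ?_⟩
      rw [cmul, ← e, cback])
    rcases this with h1 | h1
    · exact Or.inl (key h1)
    · exact Or.inr (key h1)
  · intro J hJ
    have h0 : K ≤ Nodes.Reps.cj g⁻¹ J := by
      apply h.gen
      intro x hx hx2 hx1 k hk hkx
      rw [mem_cj, inv_inv]
      apply hJ (g * x * g⁻¹) (cmem hx) (by
        calc g * x * g⁻¹ * (g * x * g⁻¹) = g * (x * x) * g⁻¹ := by group
          _ = 1 := by rw [hx2]; group) (by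
        intro h0
        apply hx1
        rw [← cback x, h0]; group) _ (cmem hk)
      rw [ccomm, cback, cback]
      exact hkx
    have h1 := cj_mono g h0
    rwa [cj_cj_inv] at h1
  · intro N hN hn
    have := h.simp (Nodes.Reps.cj g⁻¹ N) (cle hN) (by
      intro k hk y hy
      rw [mem_cj, inv_inv]
      have := hn _ (cmem hk) _ (cm' hy)
      have e : g * (k * y * k⁻¹) * g⁻¹ = g * k * g⁻¹ * (g * y * g⁻¹) * (g * k * g⁻¹)⁻¹ := by group
      rw [e]; exact this)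
    rcases this with h1 | h1
    · left
      rw [eq_bot_iff]
      have := cle' h1.le
      rwa [show Nodes.Reps.cj g (⊥ : Subgroup G) = ⊥ from Subgroup.map_bot _] at this
    · right
      rw [← h1, cj_cj_inv]

/-- **A pair of root type**: `γ` normalises `F`, moves `K`. -/
theorem pair [Finite G] (h : One K F X H)
    (te : ∀ t ∈ Subgroup.centralizer (K : Set G), t * t = 1 → t ≠ 1 → ∀ g : G,
      g * t * g⁻¹ ∈ Subgroup.centralizer (K : Set G) → Nodes.Reps.cj g K = K)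
    {γ : G} (hγF : Nodes.Reps.cj γ F = F) (hγ : Nodes.Reps.cj γ K ≠ K)
    (hne : ¬ ∀ k ∈ K, ∀ l ∈ Nodes.Reps.cj γ K, k * l = l * k)
    (hQ : ∃ q ∈ F, q ∈ Subgroup.centralizer (K : Set G) ∧ q * q = 1 ∧ q ≠ 1) :
    Nodes.Reps.cj γ (F ⊓ Subgroup.centralizer (K : Set G)) ≤ (F ⊓ Subgroup.centralizer (K : Set G)) ⊔ X ∧
    F ⊓ Subgroup.centralizer (K : Set G) ≤ Nodes.Reps.cj γ ((F ⊓ Subgroup.centralizer (K : Set G)) ⊔ X) := by
  have h' := h.cj γ
  rw [hγF] at h'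
  have hno : ∀ z ∈ Subgroup.centralizer (K : Set G), z ∈ Subgroup.centralizer (Nodes.Reps.cj γ K : Set G) → z ∈ F → z = 1 := by
    intro z hz hz' hzF
    by_contra hz1
    obtain ⟨m, hm⟩ := h.two ⟨z, hzF⟩
    have hm' : z ^ 2 ^ m = 1 := congrArg Subtype.val hm
    obtain ⟨j, hj1, hj2⟩ : ∃ j : ℕ, z ^ 2 ^ j ≠ 1 ∧ z ^ 2 ^ (j + 1) = 1 := by
      by_contra hcon
      push Not at hcon
      have key : ∀ j : ℕ, z ^ 2 ^ j ≠ 1 := by
        intro j
        induction j with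
        | zero => simpa using hz1
        | succ j ih => exact hcon j ih
      exact key m hm'
    have h2 : z ^ 2 ^ j * z ^ 2 ^ j = 1 := by
      rw [← pow_two, ← pow_mul, ← pow_succ]; exact hj2
    have h3 : γ⁻¹ * z ^ 2 ^ j * γ ∈ Subgroup.centralizer (K : Set G) := by
      have := pow_mem hz' (2 ^ j)
      rw [← cj_centralizer, mem_cj] at this
      exact this
    apply hγ
    apply te _ h3 _ _ γ
    · rw [inv_conj]; exact pow_mem hz _
    · calc γ⁻¹ * z ^ 2 ^ j * γ * (γ⁻¹ * z ^ 2 ^ j * γ) = γ⁻¹ * (z ^ 2 ^ j * z ^ 2 ^ j) * γ := by group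
        _ = 1 := by rw [h2]; group
    · intro h0
      apply hj1
      calc z ^ 2 ^ j = γ * (γ⁻¹ * z ^ 2 ^ j * γ) * γ⁻¹ := by group
        _ = 1 := by rw [h0]; group
  have e : Nodes.Reps.cj γ (F ⊓ Subgroup.centralizer (K : Set G)) = F ⊓ Subgroup.centralizer (Nodes.Reps.cj γ K : Set G) := by
    ext x
    rw [mem_cj, Subgroup.mem_inf, Subgroup.mem_inf]
    conv_rhs => rw [← hγF, ← cj_centralizer, mem_cj, mem_cj]
  refine ⟨?_, ?_⟩
  · rw [e]
    exact h.le_sup h' hno hne hQ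
  · rw [cj_sup, e]
    refine h'.le_sup h (fun z hz hz' hzF => hno z hz' hz hzF) (fun h0 => hne fun k hk l hl => (h0 l hl k hk).symm) ?_
    obtain ⟨q, hqF, hqC, hq2, hq1⟩ := hQ
    refine ⟨γ * q * γ⁻¹, by rw [← hγF]; exact conj_mem_cj.2 hqF, conj_cent.2 hqC, ?_, ?_⟩
    · calc γ * q * γ⁻¹ * (γ * q * γ⁻¹) = γ * (q * q) * γ⁻¹ := by group
        _ = 1 := by rw [hq2]; group
    · intro h0
      apply hq1
      calc q = γ⁻¹ * (γ * q * γ⁻¹) * γ := by group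
        _ = 1 := by rw [h0]; group

end One

end Cfsg.Agent.OddHalf.DblR
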