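import Mathlib
import Cfsg.Agent.OddHalf.D4.Input
import Cfsg.Agent.OddHalf.DblR.RowCore

/-!
# ODD, D4: LEMMA INPUT, the facts on the abstract group `Y` (helper552)

* `YInp S X H` : the facts of `Input.Inp` as facts on the group `Y` alone;
* `YInp.inp` : `Inp f.range (S.map f) (X.map f) (H.map f)` for `f : Y →* G` injective;
* `ind_of_trans` (K-free) : a perfect group `H` generated by 2-elements, `S` Sylow in `H`, `Z(S) ≤ X`, some group of
  automorphisms of `H` transitive on `X ∖ 1` ⟹ `H` is directly indecomposable.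
-/

set_option autoImplicit false

namespace Cfsg.Agent.OddHalf.DblR.YInput

open Subgroup Cfsg.Agent.OddHalf.D4 Cfsg.Agent.OddHalf.D4.Basic Cfsg.Agent.OddHalf.D4.Input
open Cfsg.Agent.OddHalf.D4.CommConj (cj mem_cj cj_mul card_cj mem_cj_mul)
open scoped commutatorElement

/-! ### Direct decompositions -/

section Dir

variable {G : Type*} [Group G]

/-- `H = A × B` -/
structure Dir (H A B : Subgroup G) : Prop where
  le1 : A ≤ H
  le2 : B ≤ H
  com : ∀ a ∈ A, ∀ b ∈ B, a * b = b * a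
  dis : ∀ x ∈ A, x ∈ B → x = 1
  dec : ∀ y ∈ H, ∃ a ∈ A, ∃ b ∈ B, y = a * b

variable {H A B A' B' : Subgroup G}

theorem Dir.symm (h : Dir H A B) : Dir H B A :=
  ⟨h.le2, h.le1, fun b hb a ha => (h.com a ha b hb).symm, fun x h1 h2 => h.dis x h2 h1, fun y hy => by
    obtain ⟨a, ha, b, hb, e⟩ := h.dec y hy
    exact ⟨b, hb, a, ha, by rw [e, h.com a ha b hb]⟩⟩

theorem Dir.nrm (h : Dir H A B) : ∀ y ∈ H, ∀ a ∈ A, y * a * y⁻¹ ∈ A := by
  intro y hy a ha
  obtain ⟨a', ha', b, hb, rfl⟩ := h.dec y hy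
  have e : a' * b * a * (a' * b)⁻¹ = a' * a * a'⁻¹ := by
    have h1 := h.com a ha b hb
    calc a' * b * a * (a' * b)⁻¹ = a' * (b * a) * b⁻¹ * a'⁻¹ := by group
      _ = a' * (a * b) * b⁻¹ * a'⁻¹ := by rw [h1]
      _ = _ := by group
  rw [e]
  exact mul_mem (mul_mem ha' ha) (inv_mem ha')

theorem Dir.perf (h : Dir H A B) (hp : H ≤ ⁅H, H⁆) : A ≤ ⁅A, A⁆ := by
  have h1 := proj_perf (L := B) (D := A) h.symm.com h.symm.dec hp (fun x h1 h2 => h.dis x h2 h1)
  have h2 : proj h.symm.com H = A := by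
    apply le_antisymm (fun a ha => ha.1)
    intro a ha
    exact ⟨ha, 1, one_mem _, by rw [one_mul]; exact h.le1 ha⟩
  rwa [h2] at h1

/-- a perfect group is the product of its intersections with the factors of a second decomposition -/
theorem Dir.refine (h : Dir H A B) (h' : Dir H A' B') (hp : H ≤ ⁅H, H⁆) :
    ∀ a ∈ A, ∃ x ∈ A ⊓ A', ∃ y ∈ A ⊓ B', a = x * y := by
  -- the product is a subgroup
  let P : Subgroup G :=
    { carrier := {a | ∃ x ∈ A ⊓ A', ∃ y ∈ A ⊓ B', a = x * y}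
      one_mem' := ⟨1, one_mem _, 1, one_mem _, by rw [one_mul]⟩
      mul_mem' := by
        rintro _ _ ⟨x, hx, y, hy, rfl⟩ ⟨x', hx', y', hy', rfl⟩
        refine ⟨x * x', mul_mem hx hx', y * y', mul_mem hy hy', ?_⟩
        have h1 := h'.com x' (Subgroup.mem_inf.1 hx').2 y (Subgroup.mem_inf.1 hy).2
        calc x * y * (x' * y') = x * (y * x') * y' := by group
          _ = x * (x' * y) * y' := by rw [h1]
          _ = _ := by group
      inv_mem' := by
        rintro _ ⟨x, hx, y, hy, rfl⟩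
        refine ⟨x⁻¹, inv_mem hx, y⁻¹, inv_mem hy, ?_⟩
        have h1 := h'.com x⁻¹ (inv_mem (Subgroup.mem_inf.1 hx).2) y⁻¹ (inv_mem (Subgroup.mem_inf.1 hy).2)
        rw [h1]; group }
  have h1 : A ≤ P := by
    refine (h.perf hp).trans ?_
    rw [Subgroup.commutator_le]
    intro a ha c hc
    obtain ⟨x, hx, y, hy, rfl⟩ := h'.dec c (h.le1 hc)
    have hxH := h'.le1 hx
    have hyH := h'.le2 hy
    refine ⟨⁅a, x⁆, ?_, x * ⁅a, y⁆ * x⁻¹, ?_, ?_⟩
    · refine Subgroup.mem_inf.2 ⟨?_, ?_⟩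
      · have e : ⁅a, x⁆ = a * (x * a⁻¹ * x⁻¹) := by rw [commutatorElement_def]; group
        rw [e]; exact mul_mem ha (h.nrm x hxH _ (inv_mem ha))
      · rw [commutatorElement_def]
        exact mul_mem (h'.nrm a (h.le1 ha) x hx) (inv_mem hx)
    · refine Subgroup.mem_inf.2 ⟨?_, ?_⟩
      · have e : ⁅a, y⁆ = a * (y * a⁻¹ * y⁻¹) := by rw [commutatorElement_def]; group
        rw [e]; exact h.nrm x hxH _ (mul_mem ha (h.nrm y hyH _ (inv_mem ha)))
      · rw [commutatorElement_def]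
        exact h'.symm.nrm x hxH _ (mul_mem (h'.symm.nrm a (h.le1 ha) y hy) (inv_mem hy))
    · simp only [commutatorElement_def]; group
  exact fun a ha => h1 ha

/-- the intersection of two direct factors of a perfect group is a direct factor -/
theorem Dir.inf (h : Dir H A B) (h' : Dir H A' B') (hp : H ≤ ⁅H, H⁆) : Dir H (A ⊓ A') ((A ⊓ B') ⊔ B) := by
  have hcom : ∀ y ∈ A ⊓ B', ∀ b ∈ B, y * b = b * y := fun y hy b hb => h.com y (Subgroup.mem_inf.1 hy).1 b hb
  have hsup : ∀ z ∈ (A ⊓ B') ⊔ B, ∃ y ∈ A ⊓ B', ∃ b ∈ B, z = y * b := by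
    intro z hz
    have h7 : A ⊓ B' ≤ Subgroup.normalizer (B : Set G) := by
      intro u hu
      rw [Subgroup.mem_normalizer_iff]
      intro e
      constructor
      · intro he
        have e2 : u * e * u⁻¹ = e := by rw [hcom u hu e he]; group
        rwa [e2]
      · intro he
        have h1 := hcom u⁻¹ (inv_mem hu) _ he
        have e2 : e = u * e * u⁻¹ := by
          calc e = (u⁻¹ * (u * e * u⁻¹)) * u := by group
            _ = ((u * e * u⁻¹) * u⁻¹) * u := by rw [h1]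
            _ = _ := by group
        rw [e2]; exact he
    have h8 : z ∈ (((A ⊓ B') ⊔ B : Subgroup G) : Set G) := hz
    rw [Subgroup.coe_mul_of_left_le_normalizer_right _ _ h7] at h8
    obtain ⟨y, hy, b, hb, e⟩ := h8
    exact ⟨y, hy, b, hb, e.symm⟩
  refine ⟨inf_le_left.trans h.le1, sup_le (inf_le_left.trans h.le1) h.le2, ?_, ?_, ?_⟩
  · rintro x ⟨hx, hx'⟩ z hz
    obtain ⟨y, hy, b, hb, rfl⟩ := hsup z hz
    have h1 := h'.com x hx' y hy.2
    have h2 := h.com x hx b hb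
    calc x * (y * b) = (x * y) * b := by group
      _ = y * (x * b) := by rw [h1]; group
      _ = _ := by rw [h2]; group
  · rintro x ⟨hx, hx'⟩ hz
    obtain ⟨y, hy, b, hb, rfl⟩ := hsup x hz
    have h1 : b = 1 := h.dis b (by
      have : b = y⁻¹ * (y * b) := by group
      rw [this]
      exact mul_mem (inv_mem hy.1) hx) hb
    rw [h1, mul_one] at hx' ⊢
    exact h'.dis y hx' hy.2
  · intro z hz
    obtain ⟨a, ha, b, hb, rfl⟩ := h.dec z hz
    obtain ⟨x, hx, y, hy, rfl⟩ := h.refine h' hp a ha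
    exact ⟨x, hx, y * b, mul_mem (Subgroup.mem_sup_left hy) (Subgroup.mem_sup_right hb), by group⟩

theorem Dir.cj (h : Dir H A B) {t : G} (ht : CommConj.cj t H = H) :
    Dir H (CommConj.cj t A) (CommConj.cj t B) := by
  have h1 : ∀ C : Subgroup G, C ≤ H → CommConj.cj t C ≤ H := fun C hC => by
    rw [← ht]; exact map_mono hC
  refine ⟨h1 A h.le1, h1 B h.le2, ?_, ?_, ?_⟩
  · intro a ha b hb
    rw [mem_cj] at ha hb
    have h2 := h.com _ ha _ hb
    calc a * b = t * ((t⁻¹ * a * t) * (t⁻¹ * b * t)) * t⁻¹ := by group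
      _ = t * ((t⁻¹ * b * t) * (t⁻¹ * a * t)) * t⁻¹ := by rw [h2]
      _ = _ := by group
  · intro x hx hx'
    rw [mem_cj] at hx hx'
    have h2 := h.dis _ hx hx'
    calc x = t * (t⁻¹ * x * t) * t⁻¹ := by group
      _ = 1 := by rw [h2]; group
  · intro y hy
    rw [← ht, mem_cj] at hy
    obtain ⟨a, ha, b, hb, e⟩ := h.dec _ hy
    refine ⟨t * a * t⁻¹, mem_cj_mul ha, t * b * t⁻¹, mem_cj_mul hb, ?_⟩
    calc y = t * (t⁻¹ * y * t) * t⁻¹ := by group
      _ = _ := by rw [e]; group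

/-- **Direct indecomposability from transitivity on `X ∖ 1`.** -/
theorem dir_of_trans [Finite G] {H S X : Subgroup G} (perf : H ≤ ⁅H, H⁆)
    (gen : H ≤ Subgroup.closure {x | x ∈ H ∧ ∃ k : ℕ, x ^ 2 ^ k = 1}) (hS : IsSyl S H)
    (hX : ∀ w ∈ S, (∀ s ∈ S, s * w = w * s) → w ∈ X)
    (tr : ∀ x ∈ X, ∀ y ∈ X, x ≠ 1 → y ≠ 1 → ∃ t : G, CommConj.cj t H = H ∧ t * x * t⁻¹ = y)
    {A B : Subgroup G} (h : Dir H A B) : A = ⊥ ∨ B = ⊥ := by
  -- every nontrivial factor meets `X`
  have key : ∀ A B : Subgroup G, Dir H A B → A ≠ ⊥ → ∃ w ∈ A, w ∈ X ∧ w ≠ 1 := by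
    intro A B h hA
    -- a 2-element of `A`
    obtain ⟨a, ha, ha1, k, hak⟩ : ∃ a ∈ A, a ≠ 1 ∧ ∃ k : ℕ, a ^ 2 ^ k = 1 := by
      by_contra hcon
      push Not at hcon
      apply hA
      have h1 : H ≤ B := by
        refine gen.trans ((Subgroup.closure_le _).2 ?_)
        rintro x ⟨hx, k, hk⟩
        obtain ⟨a, ha, b, hb, rfl⟩ := h.dec x hx
        have h2 : (a * b) ^ 2 ^ k = a ^ 2 ^ k * b ^ 2 ^ k := Commute.mul_pow (h.com a ha b hb) _
        have h3 : a ^ 2 ^ k = 1 := by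
          apply h.dis _ (pow_mem ha _)
          rw [h2] at hk
          rw [eq_inv_of_mul_eq_one_left hk]
          exact inv_mem (pow_mem hb _)
        have h4 : a = 1 := by
          by_contra h5
          exact hcon a ha h5 k h3
        rw [h4, one_mul]; exact hb
      rw [Subgroup.eq_bot_iff_forall]
      intro x hx
      exact h.dis x hx (h1 (h.le1 hx))
    -- a conjugate of it in `S`
    have hz : IsPGroup 2 ↥(Subgroup.zpowers a) := by
      rintro ⟨x, hx⟩
      obtain ⟨m, rfl⟩ := Subgroup.mem_zpowers_iff.1 hx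
      refine ⟨k, Subtype.ext ?_⟩
      show (a ^ m) ^ 2 ^ k = 1
      rw [← zpow_natCast, ← zpow_mul, mul_comm, zpow_mul, zpow_natCast, hak, one_zpow]
    obtain ⟨m, hm, hmS⟩ := hS.conj_into hz (by rw [Subgroup.zpowers_le]; exact h.le1 ha)
    have h1 := hmS a (Subgroup.mem_zpowers a)
    have h2 : m * a * m⁻¹ ∈ A := h.nrm m hm a ha
    obtain ⟨w, ⟨hwS, hwA⟩, hw2, hwc⟩ := exists_central_invol (T := S) (N := S ⊓ A) hS.two inf_le_left (by
      intro h3
      have h4 : m * a * m⁻¹ ∈ S ⊓ A := ⟨h1, h2⟩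
      rw [h3, Subgroup.mem_bot] at h4
      apply ha1
      calc a = m⁻¹ * (m * a * m⁻¹) * m := by group
        _ = 1 := by rw [h4]; group) (by
      rintro t ht x ⟨hx1, hx2⟩
      exact Subgroup.mem_inf.2 ⟨mul_mem (mul_mem ht hx1) (inv_mem ht), h.nrm t (hS.le ht) x hx2⟩)
    refine ⟨w, hwA, hX w hwS hwc, ?_⟩
    rintro rfl
    rw [orderOf_one] at hw2
    exact absurd hw2 (by norm_num)
  -- a nontrivial factor of minimal order
  by_contra hcon
  push Not at hcon
  obtain ⟨hA, hB⟩ := hcon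
  have hex : ∃ m : ℕ, ∃ A B : Subgroup G, Dir H A B ∧ A ≠ ⊥ ∧ Nat.card ↥A = m := ⟨_, A, B, h, hA, rfl⟩
  classical
  obtain ⟨C, D, hCD, hC, hcard⟩ := Nat.find_spec hex
  have hmin : ∀ A B : Subgroup G, Dir H A B → A ≠ ⊥ → Nat.card ↥C ≤ Nat.card ↥A := by
    intro A B h hA
    rw [hcard]
    exact Nat.find_min' hex ⟨A, B, h, hA, rfl⟩
  have hD : D ≠ ⊥ := by
    rintro rfl
    have h1 : H ≤ C := by
      intro y hy
      obtain ⟨a, ha, b, hb, rfl⟩ := hCD.dec y hy
      rw [Subgroup.mem_bot] at hb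
      rw [hb, mul_one]; exact ha
    have h2 : A = H := by
      apply Subgroup.eq_of_le_of_card_ge h.le1
      exact (Subgroup.card_le_of_le h1).trans (hmin A B h hA)
    apply hB
    rw [Subgroup.eq_bot_iff_forall]
    intro x hx
    exact h.dis x (by rw [h2]; exact h.le2 hx) hx
  obtain ⟨w, hwC, hwX, hw1⟩ := key C D hCD hC
  obtain ⟨v, hvD, hvX, hv1⟩ := key D C hCD.symm hD
  have hwv1 : w * v ≠ 1 := by
    intro h0
    apply hw1
    apply hCD.dis w hwC
    rw [eq_inv_of_mul_eq_one_left h0]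
    exact inv_mem hvD
  obtain ⟨t, ht, e⟩ := tr w hwX (w * v) (mul_mem hwX hvX) hw1 hwv1
  have hT := hCD.cj ht
  have hwt : w * v ∈ CommConj.cj t C := by rw [← e]; exact mem_cj_mul hwC
  by_cases h1 : C ⊓ CommConj.cj t C = ⊥
  · -- `C^t ≤ D`
    obtain ⟨x, hx, y, hy, e2⟩ := hT.refine hCD perf _ hwt
    have hx1 : x = 1 := by
      rw [← Subgroup.mem_bot, ← h1]
      exact ⟨hx.2, hx.1⟩
    rw [hx1, one_mul] at e2
    apply hw1
    apply hCD.dis w hwC
    have : w = (w * v) * v⁻¹ := by group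
    rw [this, e2]
    exact mul_mem hy.2 (inv_mem hvD)
  · have h2 := hmin _ _ (hCD.inf hT perf) h1
    have h3 : C ⊓ CommConj.cj t C = C := Subgroup.eq_of_le_of_card_ge inf_le_left h2
    have h4 : C ≤ CommConj.cj t C := inf_eq_left.1 h3
    have h5 : C = CommConj.cj t C := Subgroup.eq_of_le_of_card_ge h4 (by rw [card_cj])
    rw [← h5] at hwt
    apply hv1
    apply hCD.dis v _ hvD
    have : v = w⁻¹ * (w * v) := by group
    rw [this]
    exact mul_mem (inv_mem hwC) hwt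

end Dir

/-! ### The facts on `Y` -/

/-- The facts of LEMMA INPUT on the group `Y`: `S` a Sylow 2-subgroup, `X` its centre, `H` the largest perfect subgroup
of `C(w)`, `1 ≠ w ∈ X`. -/
structure YInp {Y : Type*} [Group Y] (S X H : Subgroup Y) : Prop where
  syl : IsSyl S ⊤
  ctr : ∀ x : Y, (∀ y : Y, x * y = y * x) → x = 1
  simp : ∀ N : Subgroup Y, N.Normal → N = ⊥ ∨ N = ⊤
  XS : X ≤ S
  SH : S ≤ H
  HX : ∀ y ∈ H, ∀ x ∈ X, y * x = x * y
  perf : H ≤ ⁅H, H⁆
  cen : ∀ α : MulAut Y, (∃ k : ℕ, α ^ 2 ^ k = 1) → (∀ s ∈ S, α s = s) → ∃ x ∈ X, α = MulAut.conj x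
  res : ∀ w ∈ X, w ≠ 1 → ∀ P : Subgroup Y, P ≤ ⁅P, P⁆ → (∀ y ∈ P, y * w = w * y) → P ≤ H
  out : ∀ P : Subgroup (MulAut Y), P ≤ ⁅P, P⁆ → ∀ α ∈ P, ∃ y, α = MulAut.conj y
  ind : ∀ A B : Subgroup Y, Dir H A B → A = ⊥ ∨ B = ⊥
  gen : ∀ J : Subgroup Y, (∀ x ∈ H, x * x = 1 → x ≠ 1 → ∀ k, k * x = x * k → k ∈ J) → J = ⊤

section Map

variable {Y G : Type*} [Group Y] [Group G] {S X H : Subgroup Y} (f : Y →* G) (hf : Function.Injective f)

include hf

theorem map_comap_of_le {N : Subgroup G} (hN : N ≤ f.range) : (N.comap f).map f = N := by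
  rw [Subgroup.map_comap_eq]
  exact inf_eq_right.2 hN

theorem comap_perf {P : Subgroup G} (hP : P ≤ f.range) (hPP : P ≤ ⁅P, P⁆) :
    P.comap f ≤ ⁅P.comap f, P.comap f⁆ := by
  intro x hx
  have h1 := hPP (Subgroup.mem_comap.1 hx)
  have h2 : ⁅P, P⁆ = (⁅P.comap f, P.comap f⁆).map f := by
    rw [Subgroup.map_commutator, map_comap_of_le f hf hP]
  rw [h2] at h1
  obtain ⟨y, hy, e⟩ := h1
  rwa [← hf e]

/-- the automorphism induced by an element of the normaliser of the range -/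
theorem exists_aut {g : G} (hg : g ∈ Subgroup.normalizer (f.range : Set G)) :
    ∃ α : MulAut Y, (∀ y, f (α y) = g * f y * g⁻¹) ∧ ∀ k : ℕ, g ^ k = 1 → α ^ k = 1 := by
  let e : Y ≃* ↥f.range := MonoidHom.ofInjective hf
  let θ : ↥(normalizer (f.range : Set G)) →* MulAut Y :=
    (MulAut.congr e.symm).toMonoidHom.comp (Subgroup.normalizerMonoidHom f.range)
  have hθ : ∀ (g : ↥(normalizer (f.range : Set G))) (y : Y), f (θ g y) = (g : G) * f y * (g : G)⁻¹ := by
    intro g y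
    have h1 : θ g y = e.symm (Subgroup.normalizerMonoidHom f.range g (e y)) := rfl
    have h2 : ∀ z : ↥f.range, f (e.symm z) = (z : G) := by
      intro z
      have h3 : f (e.symm z) = ((e (e.symm z) : ↥f.range) : G) := rfl
      rw [h3, MulEquiv.apply_symm_apply]
    rw [h1, h2]
    rfl
  refine ⟨θ ⟨g, hg⟩, hθ ⟨g, hg⟩, fun k hk => ?_⟩
  rw [← map_pow]
  have : (⟨g, hg⟩ : ↥(normalizer (f.range : Set G))) ^ k = 1 := Subtype.ext hk
  rw [this, map_one]

/-- **`Inp` from the facts on `Y`.** -/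
theorem YInp.inp (h : YInp S X H) (tight : TightAt f.range)
    (even : Even (Nat.card ↥(centralizer (f.range : Set G))))
    (std : ∀ g : G, ¬ ∀ k ∈ f.range, ∀ l ∈ CommConj.cj g f.range, k * l = l * k)
    (core : ∀ Q : Subgroup G, IsSyl Q (centralizer (f.range : Set G)) → ∀ P : Subgroup G,
      P ≤ centralizer (f.range : Set G) → (∀ x ∈ P, ∀ q ∈ Q, x * q = q * x) → P ≤ ⁅P, P⁆ → P = ⊥) :
    Inp f.range (S.map f) (X.map f) (H.map f) where
  syl := by
    refine ⟨h.syl.two.map f, ?_, ?_⟩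
    · rintro _ ⟨y, -, rfl⟩; exact ⟨y, rfl⟩
    · intro Q hQ hle hQf
      have h1 : Q.comap f ≤ S := by
        apply h.syl.max _ _ _ le_top
        · rintro ⟨x, hx⟩
          obtain ⟨k, hk⟩ := hQ ⟨f x, hx⟩
          refine ⟨k, Subtype.ext (hf ?_)⟩
          have h1 : (f x) ^ 2 ^ k = 1 := congrArg Subtype.val hk
          change f (x ^ 2 ^ k) = f 1
          rw [map_pow, h1, map_one]
        · intro s hs
          exact hle ⟨s, hs, rfl⟩
      rw [← map_comap_of_le f hf hQf]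
      exact map_mono h1
  tight := tight
  even := even
  ctr := by
    rintro _ ⟨x, rfl⟩ hx
    rw [h.ctr x, map_one]
    intro y
    apply hf
    rw [map_mul, map_mul]
    exact (mem_centralizer_iff.1 hx (f y) ⟨y, rfl⟩).symm
  std := std
  simp := by
    intro N hN hNn
    have h2 : (N.comap f).Normal := by
      constructor
      intro x hx y
      show f (y * x * y⁻¹) ∈ N
      rw [map_mul, map_mul, map_inv]
      exact hNn (f y) ⟨y, rfl⟩ _ hx
    rcases h.simp (N.comap f) h2 with h3 | h3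
    · left
      rw [← map_comap_of_le f hf hN, h3, Subgroup.map_bot]
    · right
      rw [← map_comap_of_le f hf hN, h3, ← MonoidHom.range_eq_map]
  XS := map_mono h.XS
  SH := map_mono h.SH
  HK := by
    rintro _ ⟨y, -, rfl⟩
    exact ⟨y, rfl⟩
  HX := by
    rintro _ ⟨y, hy, rfl⟩ _ ⟨x, hx, rfl⟩
    rw [← map_mul, ← map_mul, h.HX y hy x hx]
  perf := by
    rw [← Subgroup.map_commutator]
    exact map_mono h.perf
  cen := by
    rintro y hy ⟨k, hk⟩ hyS
    obtain ⟨α, hα, hαk⟩ := exists_aut f hf hy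
    obtain ⟨x, hx, e⟩ := h.cen α ⟨k, hαk _ hk⟩ (fun s hs => by
      apply hf
      rw [hα, ← hyS (f s) ⟨s, hs, rfl⟩, mul_inv_cancel_right])
    have hcz : ∀ z : Y, (f x)⁻¹ * y * f z = f z * ((f x)⁻¹ * y) := by
      intro z
      have h1 := hα z
      rw [e, MulAut.conj_apply, map_mul, map_mul, map_inv] at h1
      calc (f x)⁻¹ * y * f z = (f x)⁻¹ * (y * f z * y⁻¹) * y := by group
        _ = (f x)⁻¹ * (f x * f z * (f x)⁻¹) * y := by rw [h1]
        _ = _ := by group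
    have h2 : (f x)⁻¹ * y ∈ centralizer (f.range : Set G) := by
      rw [mem_centralizer_iff]
      rintro _ ⟨z, rfl⟩
      exact (hcz z).symm
    refine ⟨(f x)⁻¹ * y, h2, f x, ⟨x, hx, rfl⟩, ?_⟩
    have h3 := mem_centralizer_iff.1 h2 (f x) ⟨x, rfl⟩
    rw [← h3]; group
  res := by
    rintro _ ⟨w, hw, rfl⟩ hw1 P hPK hPP hPw
    rw [← map_comap_of_le f hf hPK]
    apply map_mono
    apply h.res w hw (fun h0 => hw1 (by rw [h0, map_one])) _ (comap_perf f hf hPK hPP)
    intro y hy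
    apply hf
    rw [map_mul, map_mul]
    exact hPw (f y) hy
  out := by
    intro P hP hPP x hx
    obtain ⟨k, hk, c, hc, e⟩ := schreier f hf h.out P hP hPP x hx
    rw [e]
    exact mul_mem_sup hk (mem_centralizer_iff.2 fun y hy => (hc y hy).symm)
  ind := by
    intro A B hA hB hAB hdis hdec
    have hr : H.map f ≤ f.range := by
      rintro _ ⟨y, -, rfl⟩
      exact ⟨y, rfl⟩
    have hAr := hA.trans hr
    have hBr := hB.trans hr
    have hle : ∀ C : Subgroup G, C ≤ H.map f → C.comap f ≤ H := by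
      intro C hC x hx
      obtain ⟨y, hy, e⟩ := hC hx
      rwa [← hf e]
    rcases h.ind (A.comap f) (B.comap f) ⟨hle A hA, hle B hB, by
        intro a ha b hb
        apply hf
        rw [map_mul, map_mul]
        exact hAB _ ha _ hb, by
        intro x hx hx'
        apply hf
        rw [map_one, ← Subgroup.mem_bot, ← hdis]
        exact ⟨hx, hx'⟩, by
        intro y hy
        obtain ⟨a, ha, b, hb, e⟩ := hdec (f y) ⟨y, hy, rfl⟩
        obtain ⟨a', rfl⟩ := hAr ha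
        obtain ⟨b', rfl⟩ := hBr hb
        exact ⟨a', ha, b', hb, hf (by rw [e, map_mul])⟩⟩ with h1 | h1
    · left
      rw [← map_comap_of_le f hf hAr, h1, Subgroup.map_bot]
    · right
      rw [← map_comap_of_le f hf hBr, h1, Subgroup.map_bot]
  gen := by
    intro J hJ
    have h2 : J.comap f = ⊤ := by
      apply h.gen
      intro x hx hxx hx1 k hkx
      refine hJ (f x) ⟨x, hx, rfl⟩ ?_ ?_ (f k) ⟨k, rfl⟩ ?_
      · rw [← map_mul, hxx, map_one]
      · intro h0
        exact hx1 (hf (h0.trans (map_one f).symm))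
      · rw [← map_mul, hkx, map_mul]
    rintro _ ⟨y, rfl⟩
    have h3 : y ∈ J.comap f := by rw [h2]; trivial
    exact h3
  core := core

end Map

end Cfsg.Agent.OddHalf.DblR.YInput
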