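import Cfsg.Agent.OddHalf.DblR.RowL
import Cfsg.Agent.OddHalf.DblR.YInput
import Cfsg.Agent.KFacts.RgdLocL
import Cfsg.Agent.KFacts.RgdAutFacts
import Cfsg.Agent.OddHalf.D4.KP

/-!
# ODD, D4: LEMMA INPUT and the end of case (a) for a root group datum with `SheetL` (helper552)

* `OneL R r` : `SheetL`, `HasFull`, `r` dominant, some root orthogonal to `r`, no type `G₂`;
* `OneL.yinp` : `YInp U (X r) ⟨X a : ⟨a, r^∨⟩ ≥ 0⟩`;
* `HasOneL Y`;
* **`HasOneL.false_of_pair`** : no full pair `(K, L)` with a Sylow 2-subgroup of `K` contained in `N(L)`.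
-/

set_option autoImplicit false
set_option linter.unusedSectionVars false

namespace Cfsg.Agent.OddHalf.DblR.OneLong

open CoxeterSystem Cfsg.Agent.ChevalleyStructure.CoxeterGeom Cfsg.Agent.Tits.Roots Cfsg.Agent.Tits.Core
  Cfsg.Agent.Tits.RootComb Cfsg.Agent.Tits.Exchange Cfsg.Agent.Nodes.Reps Cfsg.Agent.Nodes.BNOf
  Cfsg.Agent.Nodes.StabComb Cfsg.Agent.Nodes.Bruhat Cfsg.Agent.Nodes.OppDec Cfsg.Agent.Nodes.LeviDec
  Cfsg.Agent.Nodes.NormX Cfsg.Agent.Nodes.Coroot Cfsg.Agent.Nodes.PosPair Cfsg.Agent.KFacts.RgdPar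
  Cfsg.Agent.KFacts.RgdSL Cfsg.Agent.KFacts.RgdTI Cfsg.Agent.KFacts.RgdCent Cfsg.Agent.KFacts.RgdOdd
  Cfsg.Agent.KFacts.RgdEx Cfsg.Agent.KFacts.RgdTor Cfsg.Agent.KFacts.RgdKfour
  Cfsg.Agent.OddHalf.DblR.YInput
open scoped commutatorElement

variable {I W Y : Type*} [Fintype I] [DecidableEq I] [Group W] [Group Y] {M : CoxeterMatrix I}
  {cs : CoxeterSystem M W} {A : I → I → ℤ} {h : IsCartan M A} {T : Subgroup Y} {n : I → Y}
  {X : (I → ℤ) → Subgroup Y}

/-- `SheetL`, `HasFull`, `r` dominant. -/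
structure OneL [Finite W] (R : RGD cs h 2 T n X) (r : I → ℤ) : Prop where
  sheet : SheetL R r
  full : Cfsg.Agent.KFacts.RgdLocL.HasFull cs h T X r
  dom : ∀ i, 0 ≤ cpr cs h (sr i) r
  orth : ∃ g, IsRoot cs h g ∧ cpr cs h g r = 0
  two : ∀ c, IsRoot cs h c → cpr cs h c r < 0 → c ≠ -r → cpr cs h c r * cpr cs h r c ≤ 2

namespace OneL

variable [Finite W] {R : RGD cs h 2 T n X} {r : I → ℤ} (O : OneL R r)

include O

theorem root : IsRoot cs h r := O.sheet.long.root

theorem GG_top : GG cs h T X = ⊤ := by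
  rw [eq_top_iff, ← O.sheet.top]
  exact le_sup_right

theorem nonneg {a : I → ℤ} (ha : 0 ≤ a) : 0 ≤ cpr cs h a r := dom_nonneg (f := ell cs h O.root) O.dom ha

theorem r_pos : 0 ≤ r := by
  rcases O.root.pos_or_neg with h1 | h1
  · exact h1
  · exfalso
    have h2 := O.nonneg (a := -r) (neg_nonneg.2 h1)
    rw [cpr_neg_left _ O.root, cpr_self cs h O.root] at h2
    omega

theorem rad_pos {a : I → ℤ} (ha : a ∈ Rad cs h r) : a ∈ RGD.Pos cs h := by
  refine ⟨ha.1, ?_⟩
  rcases ha.1.pos_or_neg with h1 | h1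
  · exact h1
  · exfalso
    have h2 := O.nonneg (a := -a) (neg_nonneg.2 h1)
    rw [cpr_neg_left _ O.root] at h2
    have := ha.2
    omega

theorem U_le : RGD.Sup X (RGD.Pos cs h) ≤ RGD.Sup X (Ge cs h r) :=
  RGD.Sup_mono fun _ ha => ⟨ha.1, O.nonneg ha.2⟩

theorem r_ge : r ∈ Ge cs h r := ⟨O.root, by rw [cpr_self cs h O.root]; norm_num⟩

theorem cj_T {t : Y} (ht : t ∈ T) : cj t (RGD.Sup X (Ge cs h r)) = RGD.Sup X (Ge cs h r) := by
  have key : ∀ t ∈ T, cj t (RGD.Sup X (Ge cs h r)) ≤ RGD.Sup X (Ge cs h r) := by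
    intro t ht x hx
    rw [mem_cj] at hx
    have h1 := Cfsg.Agent.KFacts.RgdLocL.t_conj_P R ht hx
    have e : t * (t⁻¹ * x * t) * t⁻¹ = x := by group
    rwa [e] at h1
  exact cj_eq_of_le (key t ht) (key t⁻¹ (inv_mem ht))

theorem exists_tr {x y : Y} (hx : x ∈ X r) (hy : y ∈ X r) (hx1 : x ≠ 1) (hy1 : y ≠ 1) :
    ∃ t ∈ T, t * x * t⁻¹ = y := by
  obtain ⟨ι, _, V, st, i, T', H⟩ := O.full
  obtain ⟨t, ht, e⟩ := H.tr x hx hx1 y hy hy1
  exact ⟨t, ht.1, e⟩

theorem sq {x : Y} (hx : x ∈ X r) : x * x = 1 := by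
  obtain ⟨ι, _, V, st, i, T', H⟩ := O.full
  exact H.zsq x hx

theorem isSyl [Finite Y] : Cfsg.Agent.OddHalf.D4.Basic.IsSyl (RGD.Sup X (RGD.Pos cs h)) ⊤ := by
  have : Fact (Nat.Prime 2) := ⟨Nat.prime_two⟩
  obtain ⟨S, hS⟩ := Cfsg.Agent.KFacts.RgdAutFacts.exists_sylow R O.GG_top
  refine ⟨R.isPGroup_Upos, le_top, fun Q hQ hle _ => ?_⟩
  rw [← hS] at hle ⊢
  exact (S.is_maximal' hQ hle).le

theorem center [IsSimpleGroup Y] (x : Y) (hx : ∀ y : Y, x * y = y * x) : x = 1 := by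
  have h1 : x ∈ Subgroup.center Y := Subgroup.mem_center_iff.2 fun y => (hx y).symm
  rcases (inferInstance : (Subgroup.center Y).Normal).eq_bot_or_eq_top with h2 | h2
  · rwa [h2, Subgroup.mem_bot] at h1
  · exfalso
    obtain ⟨z, hz, hz1⟩ := exists_ne R O.root
    apply hz1
    have h3 := O.sheet.perf (RGD.le_Sup O.r_ge hz)
    have h4 : ⁅RGD.Sup X (Ge cs h r), RGD.Sup X (Ge cs h r)⁆ = ⊥ := by
      rw [Subgroup.commutator_eq_bot_iff_le_centralizer]
      intro a _
      rw [Subgroup.mem_centralizer_iff]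
      intro b _
      have : b ∈ Subgroup.center Y := by rw [h2]; trivial
      exact (Subgroup.mem_center_iff.1 this a).symm
    rwa [h4, Subgroup.mem_bot] at h3

/-- automorphisms centralising `U` -/
theorem cen (α : MulAut Y) (hα : ∀ s ∈ RGD.Sup X (RGD.Pos cs h), α s = s) : ∃ x ∈ X r, α = MulAut.conj x :=
  O.sheet.k1 r O.sheet.long α fun _ ha x hx => hα x (RGD.le_Sup (O.rad_pos ha) hx)

/-- the reflection in a root, as an element of the Weyl group -/
theorem exists_rfl {c : I → ℤ} (hc : IsRoot cs h c) : ∃ w : W, ∀ x, rep cs h w x = x - cpr cs h x c • c := by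
  obtain ⟨w, i, hw⟩ := id hc
  refine ⟨w * cs.simple i * w⁻¹, fun x => ?_⟩
  have h6 := rep_rfl'_eq cs h w i x
  rw [← hw] at h6
  exact h6

/-- **generation by centralisers of involutions of `P_r`** -/
theorem gen [Finite Y] (J : Subgroup Y)
    (hJ : ∀ x ∈ RGD.Sup X (Ge cs h r), x * x = 1 → x ≠ 1 → ∀ k, k * x = x * k → k ∈ J) : J = ⊤ := by
  rw [eq_top_iff, ← O.sheet.top]
  refine RGD.Sup_le fun c hc => ?_
  have hc : IsRoot cs h c := hc
  have hr := O.root
  -- `X c` commutes with an involution of `P_r`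
  obtain ⟨u, hu, huu, hu1, hcu⟩ : ∃ u ∈ RGD.Sup X (Ge cs h r), u * u = 1 ∧ u ≠ 1 ∧ ∀ v ∈ X c, v * u = u * v := by
    by_cases h0 : 0 ≤ cpr cs h c r
    · obtain ⟨u, hu, hu1⟩ := exists_ne R hr
      exact ⟨u, RGD.le_Sup O.r_ge hu, O.sq hu, hu1, fun v hv => O.sheet.long.lr.comm c hc h0 v hv u hu⟩
    push Not at h0
    by_cases hcr : c = -r
    · subst hcr
      obtain ⟨g, hg, hgr⟩ := O.orth
      obtain ⟨u, hu, hu2⟩ := Cfsg.Agent.OddHalf.D4.Basic.exists_invol_of_two (R.pgrp' hg) (X_ne_bot R hg)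
      have hu1 : u ≠ 1 := by
        rintro rfl
        rw [orderOf_one] at hu2
        exact absurd hu2 (by norm_num)
      have huu : u * u = 1 := by rw [← pow_two, ← hu2, pow_orderOf_eq_one]
      refine ⟨u, RGD.le_Sup (S := Ge cs h r) ⟨hg, hgr.ge⟩ hu, huu, hu1, fun v hv => ?_⟩
      exact (O.sheet.long.neg.lr.comm g hg (by rw [cpr_neg_right cs h _ hr, hgr, neg_zero]) u hu v hv).symm
    · obtain ⟨w, hw⟩ := O.exists_rfl hc
      have L := O.sheet.long.lr.act w
      obtain ⟨k, hk⟩ := exists_rp cs R.nsys w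
      obtain ⟨u, hu, hu1⟩ := exists_ne R hr
      have h1 := R.conj_mem hk hr hu
      have h2 : 0 ≤ cpr cs h (rep cs h w r) r := by
        rw [hw, sub_eq_add_neg, cpr_add cs h _ _ hr, cpr_neg cs h _ hr, cpr_smul cs h _ _ hr, cpr_self cs h hr]
        have := O.two c hc h0 hcr
        rw [mul_comm] at this
        omega
      refine ⟨k * u * k⁻¹, RGD.le_Sup (S := Ge cs h r) ⟨L.root, h2⟩ h1, ?_, ?_, fun v hv => ?_⟩
      · calc k * u * k⁻¹ * (k * u * k⁻¹) = k * (u * u) * k⁻¹ := by group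
          _ = 1 := by rw [O.sq hu]; group
      · intro h3
        apply hu1
        calc u = k⁻¹ * (k * u * k⁻¹) * k := by group
          _ = 1 := by rw [h3]; group
      · refine L.comm c hc ?_ v hv _ h1
        -- `⟨c, (s_c r)^∨⟩ = - ⟨c, r^∨⟩`
        have h4 : rep cs h w c = -c := by
          rw [hw, cpr_self cs h hc, two_smul]; abel
        have h5 := cpr_rep cs h w⁻¹ c (hr.act w)
        rw [rep_inv_apply] at h5
        have h6 : rep cs h w⁻¹ c = -c := by
          have h7 := rep_inv_apply cs h w (-c)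
          rw [map_neg, h4, neg_neg] at h7
          exact h7
        rw [← h5, h6, cpr_neg cs h _ hr]
        omega
  intro v hv
  exact hJ u hu huu hu1 v (hcu v hv)

/-- **The facts of LEMMA INPUT.** -/
theorem yinp [Finite Y] [IsSimpleGroup Y] : YInp (RGD.Sup X (RGD.Pos cs h)) (X r) (RGD.Sup X (Ge cs h r)) := by
  have hL := O.sheet.long.lr
  exact
    { syl := O.isSyl
      ctr := O.center
      simp := fun N hN => hN.eq_bot_or_eq_top
      XS := RGD.le_Sup ⟨O.root, O.r_pos⟩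
      SH := O.U_le
      HX := fun y hy x hx => hL.comm' hy hx
      perf := O.sheet.perf
      cen := fun α _ hα => O.cen α hα
      res := fun w hw hw1 P hPP hPw =>
        le_P_of_perfect R hL O.sheet.tab hw hw1 (by rw [O.GG_top]; exact le_top) hPw hPP
      out := O.sheet.out
      ind := by
        intro A B hAB
        refine dir_of_trans (S := RGD.Sup X (RGD.Pos cs h)) (X := X r) O.sheet.perf ?_ (O.isSyl.mono O.U_le le_top)
          ?_ ?_ hAB
        · refine RGD.Sup_le fun a ha x hx => Subgroup.subset_closure ⟨RGD.le_Sup ha hx, ?_⟩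
          obtain ⟨k, hk⟩ := (R.pgrp' ha.1) ⟨x, hx⟩
          exact ⟨k, congrArg Subtype.val hk⟩
        · intro w hw hwc
          obtain ⟨x, hx, e⟩ := O.cen (MulAut.conj w) fun s hs => by
            rw [MulAut.conj_apply, ← hwc s hs, mul_inv_cancel_right]
          have h1 : x⁻¹ * w = 1 := by
            apply O.center
            intro y
            have h2 : w * y * w⁻¹ = x * y * x⁻¹ := by
              have := congrArg (fun α : MulAut Y => α y) e
              simpa [MulAut.conj_apply] using this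
            calc x⁻¹ * w * y = x⁻¹ * (w * y * w⁻¹) * w := by group
              _ = y * (x⁻¹ * w) := by rw [h2]; group
          rw [inv_mul_eq_one] at h1
          rw [← h1]; exact hx
        · intro x hx y hy hx1 hy1
          obtain ⟨t, ht, e⟩ := O.exists_tr hx hy hx1 hy1
          exact ⟨t, O.cj_T ht, e⟩
      gen := O.gen }

end OneL

/-- Some root group datum of `Y` has a dominant long root with `OneL`. -/
def HasOneL (Y : Type*) [Group Y] : Prop :=
  ∃ (l : ℕ) (M : CoxeterMatrix (Fin l)) (A : Fin l → Fin l → ℤ) (h : IsCartan M A) (T : Subgroup Y) (n : Fin l → Y)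
    (X : (Fin l → ℤ) → Subgroup Y) (_ : Finite M.Group) (R : RGD M.toCoxeterSystem h 2 T n X) (r : Fin l → ℤ), OneL R r

section End

variable {G : Type*} [Group G] [Finite G]

/-- `Std1` from tightness -/
theorem std1_of_tight {K : Subgroup G} (tight : Cfsg.Agent.OddHalf.D4.TightAt K)
    (ctr : ∀ x ∈ K, x ∈ Subgroup.centralizer (K : Set G) → x = 1) : Std1 K where
  nor := by
    intro t ht htt ht1 g hg k hk
    have h2 : orderOf t = 2 := orderOf_eq_prime (by rw [pow_two]; exact htt) ht1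
    exact (Subgroup.mem_normalizer_iff.1 (tight.mem ht h2 hg) k).1 hk
  te := by
    intro t ht htt ht1 g hg
    have h2 : orderOf t = 2 := orderOf_eq_prime (by rw [pow_two]; exact htt) ht1
    exact Cfsg.Agent.OddHalf.D4.CommConj.cj_eq_of_mem_normalizer (tight.tight g t ht h2 hg)
  ctr := fun k hk hc => ctr k hk (Subgroup.mem_centralizer_iff.2 fun x hx => (hc x hx).symm)

/-- **The end of case (a).** A full pair `(K, L)` such that a Sylow 2-subgroup of `K` normalises `L` does not exist. -/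
theorem OneL.false_of_pair [Finite W] [Finite Y] [IsSimpleGroup Y] {R : RGD cs h 2 T n X} {r : I → ℤ} (O : OneL R r)
    (f : Y →* G) (hf : Function.Injective f) (tight : Cfsg.Agent.OddHalf.D4.TightAt f.range)
    (rk : Cfsg.Agent.OddHalf.D4.Rk2 f.range)
    (std : ∀ g : G, ¬ ∀ k ∈ f.range, ∀ l ∈ Cfsg.Agent.OddHalf.D4.CommConj.cj g f.range, k * l = l * k)
    (core : ∀ Q : Subgroup G, Cfsg.Agent.OddHalf.D4.Basic.IsSyl Q (Subgroup.centralizer (f.range : Set G)) →
      ∀ P : Subgroup G, P ≤ Subgroup.centralizer (f.range : Set G) → (∀ x ∈ P, ∀ q ∈ Q, x * q = q * x) →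
        P ≤ ⁅P, P⁆ → P = ⊥) {L Q U S' : Subgroup G} (hp : Cfsg.Agent.OddHalf.D4.FullPair f.range L Q U)
    (hS' : Cfsg.Agent.OddHalf.D4.Basic.IsSyl S' f.range) (hS'L : S' ≤ Subgroup.normalizer (L : Set G)) : False := by
  obtain ⟨a, ha, b, hb, ha2, hb2, -, hab⟩ := rk.exists_syl hp.sylQ
  have even : Even (Nat.card ↥(Subgroup.centralizer (f.range : Set G))) :=
    Cfsg.Agent.OddHalf.D4.Basic.even_of_mem ha2 (hp.sylQ.le ha)
  have hI := YInp.inp f hf O.yinp tight even std core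
  obtain ⟨k, hk, γ, -, -, -, -, hg1, hg2, hg3, -⟩ := hI.root_pair hp hS' hS'L
  have ne1 : ∀ {x : G}, orderOf x = 2 → x ≠ 1 := by
    rintro x hx rfl
    rw [orderOf_one] at hx
    exact absurd hx (by norm_num)
  obtain ⟨ι, _, V, st, i, T', Fu⟩ := O.full
  refine O.sheet.row f hf rfl (std1_of_tight tight hI.ctr) hp.sylQ.le hp.sylQ.two
    (fun D hED hDK hD => hp.sylQ.max D hD hED hDK) ?_ ha (ne1 ha2) hb (ne1 hb2) hab.symm
    (T0 := T ⊓ (X r ⊔ X (-r))) inf_le_left ?_ (γ := γ) (one_mem f.range) hg1 ?_ hg3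
  · intro H hH hHp
    refine core Q hp.sylQ H (fun x hx => (Subgroup.mem_inf.1 (hH hx)).1) (fun x hx q hq => ?_) hHp
    exact ((mem_C1.1 (hH hx)).2 q hq)
  · intro amb two k3
    refine (Fu.map f hf).loc ?_ ?_ amb two k3
    · rintro _ ⟨y, -, rfl⟩
      exact ⟨y, rfl⟩
    · rintro _ ⟨y, -, rfl⟩
      exact ⟨y, rfl⟩
  · rw [cj_one]; exact hg2

/-- **The end of case (a)**, any `K` isomorphic to `Y`. -/
theorem HasOneL.false_of_pair {Y : Type*} [Group Y] [Finite Y] [IsSimpleGroup Y] (hY : HasOneL Y) {K : Subgroup G}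
    (e : Y ≃* ↥K) (tight : Cfsg.Agent.OddHalf.D4.TightAt K) (rk : Cfsg.Agent.OddHalf.D4.Rk2 K)
    (std : ∀ g : G, ¬ ∀ k ∈ K, ∀ l ∈ Cfsg.Agent.OddHalf.D4.CommConj.cj g K, k * l = l * k)
    (core : ∀ Q : Subgroup G, Cfsg.Agent.OddHalf.D4.Basic.IsSyl Q (Subgroup.centralizer (K : Set G)) →
      ∀ P : Subgroup G, P ≤ Subgroup.centralizer (K : Set G) → (∀ x ∈ P, ∀ q ∈ Q, x * q = q * x) →
        P ≤ ⁅P, P⁆ → P = ⊥) {L Q U S' : Subgroup G} (hp : Cfsg.Agent.OddHalf.D4.FullPair K L Q U)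
    (hS' : Cfsg.Agent.OddHalf.D4.Basic.IsSyl S' K) (hS'L : S' ≤ Subgroup.normalizer (L : Set G)) : False := by
  obtain ⟨l, M, A, h, T, n, X, hM, R, r, O⟩ := hY
  have hf : Function.Injective (K.subtype.comp e.toMonoidHom) :=
    (Subgroup.subtype_injective K).comp e.injective
  have hK : (K.subtype.comp e.toMonoidHom).range = K := by
    rw [MonoidHom.range_comp, MonoidHom.range_eq_top.2 e.surjective, ← MonoidHom.range_eq_map, Subgroup.range_subtype]
  have key : ∀ (f : Y →* G), Function.Injective f → f.range = K → False := by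
    rintro f hf' rfl
    exact O.false_of_pair f hf' tight rk std core hp hS' hS'L
  exact key _ hf hK

end End

end Cfsg.Agent.OddHalf.DblR.OneLong
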