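import Cfsg.Agent.OddHalf.DblR.Row
import Cfsg.Agent.OddHalf.DblR.OneA
import Cfsg.Agent.KFacts.RgdAutFacts
import Cfsg.Agent.KFacts.RgdLieCharP

/-!
# ODD, D4: the hypotheses of `OneA` for a simply laced root group datum

* `surj_r` : `[x, Q_r] = X_r` for `x ∈ Q_r`, `x ∉ X_r`;
* `indec` : `P_r` is directly indecomposable;
* `gen` : `K` is generated by the centralisers of the involutions of `P_r`;
* `exists_dom_root` : `C(U) = X_r`;
* **`Sheet.one`**, **`Sheet.input`** : a 2-group `F` containing Sylow 2-subgroups of `K` and of `C(K)` and normalised by some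
  `γ` moving `K` does not exist.
-/

set_option autoImplicit false
set_option linter.unusedSectionVars false

namespace Cfsg.Agent.OddHalf.DblR

open CoxeterSystem Cfsg.Agent.ChevalleyStructure.CoxeterGeom Cfsg.Agent.Tits.Roots Cfsg.Agent.Tits.Core
  Cfsg.Agent.Tits.RootComb Cfsg.Agent.Tits.Exchange Cfsg.Agent.Nodes.Reps Cfsg.Agent.Nodes.BNOf
  Cfsg.Agent.Nodes.StabComb Cfsg.Agent.Nodes.Bruhat Cfsg.Agent.Nodes.OppDec Cfsg.Agent.Nodes.LeviDec
  Cfsg.Agent.Nodes.NormX Cfsg.Agent.Nodes.Coroot Cfsg.Agent.Nodes.PosPair Cfsg.Agent.KFacts.RgdPar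
  Cfsg.Agent.KFacts.RgdSL Cfsg.Agent.KFacts.RgdTI Cfsg.Agent.KFacts.RgdCent Cfsg.Agent.KFacts.RgdOdd
  Cfsg.Agent.KFacts.RgdEx Cfsg.Agent.KFacts.RgdTor Cfsg.Agent.KFacts.RgdKfour
open scoped commutatorElement

variable {I W Y : Type*} [Fintype I] [DecidableEq I] [Group W] [Group Y] {M : CoxeterMatrix I}
  {cs : CoxeterSystem M W} {A : I → I → ℤ} {h : IsCartan M A} {T : Subgroup Y} {n : I → Y}
  {X : (I → ℤ) → Subgroup Y}

section

variable [Finite W] {R : RGD cs h 2 T n X} {r : I → ℤ}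

/-- `[x, Q_r] = X_r` -/
theorem surj_r (H : Hyp R r) {x z : Y} (hx : x ∈ RGD.Sup X (Rad cs h r)) (hxr : x ∉ X r) (hz : z ∈ X r) :
    ∃ w ∈ RGD.Sup X (Rad cs h r), ⁅x, w⁆ = z := by
  -- some `X (r - c)` is not centralised by `x`
  obtain ⟨c, hc, hnc⟩ : ∃ c ∈ Phi1 cs h r, ¬ ∀ w ∈ X (r - c), x * w = w * x := by
    by_contra hcon
    push Not at hcon
    apply hxr
    have h1 := H.mem_QS (S := ∅) (Set.empty_subset _) hx fun c hc _ => hcon c hc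
    exact (sup_le (RGD.Sup_le fun y hy => absurd hy (Set.notMem_empty y)) le_rfl : QS X r ∅ ≤ X r) h1
  have hxQ : x ∈ QS X r (Phi1 cs h r) := by rw [← H.rad_eq]; exact hx
  obtain ⟨v, hv, q', hq', rfl⟩ := H.QS_split subset_rfl hc hxQ
  have hrc := H.sub_mem hc
  have hcomm : ∀ w ∈ X (r - c), q' * w = w * q' := fun w hw => by
    refine H.QS_comm (S := Phi1 cs h r \ {c}) (fun y hy => hy.1) hrc ?_ hq' hw
    rw [sub_sub_cancel]
    intro h0
    exact h0.2 rfl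
  have hv1 : v ≠ 1 := by
    rintro rfl
    apply hnc
    intro w hw
    rw [one_mul]; exact hcomm w hw
  have hz' : z ∈ X (c + (r - c)) := by rwa [add_sub_cancel]
  obtain ⟨w, hw, e⟩ := (H.a2 hc).comm_surj R hv hv1 hz'
  refine ⟨w, RGD.le_Sup (H.phi1_rad hrc) hw, ?_⟩
  rw [← e, commutatorElement_def, commutatorElement_def]
  calc v * q' * w * (v * q')⁻¹ * w⁻¹ = v * (q' * w) * q'⁻¹ * v⁻¹ * w⁻¹ := by group
    _ = v * (w * q') * q'⁻¹ * v⁻¹ * w⁻¹ := by rw [hcomm w hw]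
    _ = _ := by group

/-- **`P_r` is directly indecomposable.** -/
theorem indec (H : Hyp R r) (hperf : RGD.Sup X (Ge cs h r) ≤ ⁅RGD.Sup X (Ge cs h r), RGD.Sup X (Ge cs h r)⁆)
    (hcent : ∀ c ∈ RGD.Sup X (Ge cs h r), (∀ x ∈ RGD.Sup X (Rad cs h r), c * x = x * c) → c ∈ X r)
    {D E : Subgroup Y} (hD : D ≤ RGD.Sup X (Ge cs h r)) (hE : E ≤ RGD.Sup X (Ge cs h r))
    (hDE : ∀ a ∈ D, ∀ b ∈ E, a * b = b * a) (hdis : D ⊓ E = ⊥)
    (hdec : ∀ y ∈ RGD.Sup X (Ge cs h r), ∃ a ∈ D, ∃ b ∈ E, y = a * b) : D = ⊥ ∨ E = ⊥ := by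
  -- both factors are normal
  have nrm : ∀ {D E : Subgroup Y}, (∀ a ∈ D, ∀ b ∈ E, a * b = b * a) →
      (∀ y ∈ RGD.Sup X (Ge cs h r), ∃ a ∈ D, ∃ b ∈ E, y = a * b) →
      ∀ y ∈ RGD.Sup X (Ge cs h r), ∀ d ∈ D, y * d * y⁻¹ ∈ D := by
    intro D E hDE hdec y hy d hd
    obtain ⟨a, ha, b, hb, rfl⟩ := hdec y hy
    have h1 : a * b * d * (a * b)⁻¹ = a * d * a⁻¹ := by
      calc a * b * d * (a * b)⁻¹ = a * (b * d) * b⁻¹ * a⁻¹ := by group
        _ = a * (d * b) * b⁻¹ * a⁻¹ := by rw [hDE d hd b hb]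
        _ = _ := by group
    rw [h1]
    exact mul_mem (mul_mem ha hd) (inv_mem ha)
  -- one factor
  have key : ∀ {D E : Subgroup Y}, D ≤ RGD.Sup X (Ge cs h r) → (∀ a ∈ D, ∀ b ∈ E, a * b = b * a) → D ⊓ E = ⊥ →
      (∀ y ∈ RGD.Sup X (Ge cs h r), ∃ a ∈ D, ∃ b ∈ E, y = a * b) →
      (∀ x ∈ D, x ∈ RGD.Sup X (Rad cs h r) → x ∈ X r) → D = ⊥ := by
    intro D E hD hDE hdis hdec hQ
    have hn := nrm hDE hdec
    have hdis' : ∀ x ∈ D, x ∈ E → x = 1 := fun x h1 h2 => by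
      have : x ∈ D ⊓ E := ⟨h1, h2⟩
      rwa [hdis, Subgroup.mem_bot] at this
    -- `[D, Q] ≤ X_r`
    have h1 : ∀ d ∈ D, ∀ q ∈ RGD.Sup X (Rad cs h r), ⁅d, q⁆ ∈ X r := by
      intro d hd q hq
      apply hQ
      · have e : ⁅d, q⁆ = d * (q * d⁻¹ * q⁻¹) := by rw [commutatorElement_def]; group
        rw [e]
        exact mul_mem hd (hn q (H.rad_le_ge hq) _ (inv_mem hd))
      · rw [commutatorElement_def]
        exact mul_mem (H.QN (hD hd) hq) (inv_mem hq)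
    -- `D` is perfect
    have hDp : D ≤ ⁅D, D⁆ := by
      have h2 := proj_perf (L := D) (D := E) hDE hdec hperf hdis'
      have h3 : proj hDE (RGD.Sup X (Ge cs h r)) = D := by
        apply le_antisymm (proj_le _)
        intro d hd
        exact ⟨hd, 1, one_mem _, by rw [mul_one]; exact hD hd⟩
      rwa [h3] at h2
    -- `D` centralises `Q`
    have h2 : D ≤ Subgroup.centralizer (RGD.Sup X (Rad cs h r) : Set Y) := by
      refine hDp.trans ?_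
      rw [Subgroup.commutator_le]
      intro a ha b hb
      rw [Subgroup.mem_centralizer_iff]
      intro q hq
      have e1 : ∀ d ∈ D, d * q * d⁻¹ = ⁅d, q⁆ * q := fun d hd => by rw [commutatorElement_def]; group
      have c1 : ∀ d ∈ D, ∀ z ∈ X r, d * z = z * d := fun d hd z hz => H.central (hD hd) hz
      have k1 := e1 a ha
      have k2 := e1 b hb
      have z1 := h1 a ha q hq
      have z2 := h1 b hb q hq
      -- `a b q = z1 z2 q a b`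
      have m1 : a * b * q = ⁅a, q⁆ * ⁅b, q⁆ * q * (a * b) := by
        have e2 : b * q = ⁅b, q⁆ * q * b := by rw [← k2]; group
        have e3 : a * q = ⁅a, q⁆ * q * a := by rw [← k1]; group
        calc a * b * q = a * (b * q) := by group
          _ = (a * ⁅b, q⁆) * q * b := by rw [e2]; group
          _ = (⁅b, q⁆ * a) * q * b := by rw [c1 a ha _ z2]
          _ = ⁅b, q⁆ * (a * q) * b := by group
          _ = ⁅b, q⁆ * (⁅a, q⁆ * q * a) * b := by rw [e3]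
          _ = (⁅b, q⁆ * ⁅a, q⁆) * q * (a * b) := by group
          _ = (⁅a, q⁆ * ⁅b, q⁆) * q * (a * b) := by rw [H.central (RGD.le_Sup H.r_ge z2) z1]
          _ = _ := by group
      have m2 : b * a * q = ⁅a, q⁆ * ⁅b, q⁆ * q * (b * a) := by
        have e2 : b * q = ⁅b, q⁆ * q * b := by rw [← k2]; group
        have e3 : a * q = ⁅a, q⁆ * q * a := by rw [← k1]; group
        calc b * a * q = b * (a * q) := by group
          _ = (b * ⁅a, q⁆) * q * a := by rw [e3]; group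
          _ = (⁅a, q⁆ * b) * q * a := by rw [c1 b hb _ z1]
          _ = ⁅a, q⁆ * (b * q) * a := by group
          _ = ⁅a, q⁆ * (⁅b, q⁆ * q * b) * a := by rw [e2]
          _ = _ := by group
      have m3 : (⁅a, q⁆ * ⁅b, q⁆ * q) = b * a * q * (b * a)⁻¹ := by rw [m2]; group
      have m4 : (⁅a, q⁆ * ⁅b, q⁆ * q) = a * b * q * (a * b)⁻¹ := by rw [m1]; group
      have m5 : a * b * q * (a * b)⁻¹ = b * a * q * (b * a)⁻¹ := m4.symm.trans m3
      -- `⁅a, b⁆ (b a q (b a)⁻¹) ⁅a, b⁆⁻¹ = b a q (b a)⁻¹`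
      have m6 : ⁅a, b⁆ * (⁅a, q⁆ * ⁅b, q⁆ * q) = (⁅a, q⁆ * ⁅b, q⁆ * q) * ⁅a, b⁆ := by
        calc ⁅a, b⁆ * (⁅a, q⁆ * ⁅b, q⁆ * q) = ⁅a, b⁆ * (b * a * q * (b * a)⁻¹) := by rw [m3]
          _ = a * b * q * (a * b)⁻¹ * ⁅a, b⁆ := by rw [commutatorElement_def]; group
          _ = (⁅a, q⁆ * ⁅b, q⁆ * q) * ⁅a, b⁆ := by rw [← m4]
      have m7 : ⁅a, b⁆ ∈ D := by
        rw [commutatorElement_def]
        exact mul_mem (mul_mem (mul_mem ha hb) (inv_mem ha)) (inv_mem hb)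
      have m8 : ⁅a, b⁆ * (⁅a, q⁆ * ⁅b, q⁆) = (⁅a, q⁆ * ⁅b, q⁆) * ⁅a, b⁆ := c1 _ m7 _ (mul_mem z1 z2)
      have m9 : (⁅a, q⁆ * ⁅b, q⁆) * (⁅a, b⁆ * q) = (⁅a, q⁆ * ⁅b, q⁆) * (q * ⁅a, b⁆) := by
        calc (⁅a, q⁆ * ⁅b, q⁆) * (⁅a, b⁆ * q) = ((⁅a, q⁆ * ⁅b, q⁆) * ⁅a, b⁆) * q := by group
          _ = (⁅a, b⁆ * (⁅a, q⁆ * ⁅b, q⁆)) * q := by rw [m8]
          _ = ⁅a, b⁆ * (⁅a, q⁆ * ⁅b, q⁆ * q) := by group
          _ = (⁅a, q⁆ * ⁅b, q⁆ * q) * ⁅a, b⁆ := m6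
          _ = _ := by group
      exact (mul_left_cancel m9).symm
    have h3 : ∀ d ∈ D, d ∈ X r := fun d hd => hcent d (hD hd) fun x hx =>
      ((Subgroup.mem_centralizer_iff.1 (h2 hd)) x hx).symm
    rw [eq_bot_iff]
    refine hDp.trans ?_
    rw [Subgroup.commutator_le]
    intro a ha b hb
    rw [Subgroup.mem_bot, commutatorElement_def, H.central (hD ha) (h3 b hb)]; group
  by_cases h1 : ∀ x ∈ D, x ∈ RGD.Sup X (Rad cs h r) → x ∈ X r
  · exact Or.inl (key hD hDE hdis hdec h1)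
  by_cases h2 : ∀ x ∈ E, x ∈ RGD.Sup X (Rad cs h r) → x ∈ X r
  · right
    refine key hE (fun a ha b hb => (hDE b hb a ha).symm) (by rw [inf_comm]; exact hdis) ?_ h2
    intro y hy
    obtain ⟨a, ha, b, hb, rfl⟩ := hdec y hy
    exact ⟨b, hb, a, ha, hDE a ha b hb⟩
  exfalso
  push Not at h1 h2
  obtain ⟨x, hxD, hxQ, hxr⟩ := h1
  obtain ⟨y, hyE, hyQ, hyr⟩ := h2
  obtain ⟨z, hz, hz1⟩ := exists_ne R H.root
  obtain ⟨w, hw, ew⟩ := surj_r H hxQ hxr hz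
  obtain ⟨w', hw', ew'⟩ := surj_r H hyQ hyr hz
  apply hz1
  rw [← Subgroup.mem_bot, ← hdis]
  constructor
  · rw [← ew]
    have e : ⁅x, w⁆ = x * (w * x⁻¹ * w⁻¹) := by rw [commutatorElement_def]; group
    rw [e]
    exact mul_mem hxD (nrm hDE hdec w (H.rad_le_ge hw) _ (inv_mem hxD))
  · rw [← ew']
    have e : ⁅y, w'⁆ = y * (w' * y⁻¹ * w'⁻¹) := by rw [commutatorElement_def]; group
    rw [e]
    refine mul_mem hyE (nrm (fun a ha b hb => (hDE b hb a ha).symm) ?_ w' (H.rad_le_ge hw') _ (inv_mem hyE))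
    intro y hy
    obtain ⟨a, ha, b, hb, rfl⟩ := hdec y hy
    exact ⟨b, hb, a, ha, hDE a ha b hb⟩

/-- **generation by centralisers of involutions of `P_r`** -/
theorem gen (H : Hyp R r) {g : I → ℤ} (hg : IsRoot cs h g) (hrg : cpr cs h r g = 0)
    (top : RGD.Sup X {x | IsRoot cs h x} = ⊤) {J : Subgroup Y}
    (hJ : ∀ x ∈ RGD.Sup X (Ge cs h r), x * x = 1 → x ≠ 1 → ∀ k, k * x = x * k → k ∈ J) : J = ⊤ := by
  have key : ∀ c b, IsRoot cs h c → b ∈ Ge cs h r → 0 ≤ cpr cs h c b → X c ≤ J := by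
    intro c b hc hb hcb v hv
    obtain ⟨u, hu, hu1⟩ := exists_ne R hb.1
    have hb2 : u * u = 1 := by
      obtain ⟨d, hd, hbd⟩ := H.nb b hb.1
      have hA : A2 cs h b (-d) := H.sl.a2 hb.1 hd.neg (by rw [cpr_neg_right cs h _ hd, hbd])
      exact sq_x hA R hu
    exact hJ u (RGD.le_Sup hb hu) hb2 hu1 v ((H.lr b hb.1).comm c hc hcb v hv u hu)
  rw [eq_top_iff, ← top]
  refine RGD.Sup_le fun c hc => ?_
  have hc : IsRoot cs h c := hc
  by_cases h0 : 0 ≤ cpr cs h c r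
  · exact key c r hc H.r_ge h0
  rcases H.sl.cases hc H.root with ⟨h1, h2⟩ | ⟨h1, h2⟩ | h1
  · omega
  · subst h1
    exact key (-r) g hc ⟨hg, by rw [H.sl g r hg H.root, hrg]⟩ (by rw [cpr_neg_left _ hg, hrg, neg_zero])
  · have h2 : cpr cs h c r = -1 := by omega
    have h3 : IsRoot cs h (c + r) := (H.sl.a2 hc H.root h2).rxy
    refine key c (c + r) hc ⟨h3, ?_⟩ ?_
    · rw [cpr_add cs h _ _ H.root, cpr_self cs h H.root, h2]; norm_num
    · rw [H.sl c _ hc h3, cpr_add cs h _ _ hc, cpr_self cs h hc, H.sl r c H.root hc, h2]; norm_num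

end

end Cfsg.Agent.OddHalf.DblR
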