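import Cfsg.Agent.OddHalf.DblR.OneRow
import Cfsg.Agent.OddHalf.D4.LinESix

/-!
# ODD, D4, the row `two.e6te` (helper552)

* **`e6te`** : the row of `²E₆(2^a)`, `a ≥ 2`.
-/

set_option autoImplicit false

namespace Cfsg.Agent.OddHalf.DblR.OneRowE

open Cfsg.Agent.OddHalf

universe u

/-- **D4, the row of `²E₆(2^a)`, `a ≥ 2`.** -/
theorem e6te (h1173 : D4.Start.P1173.{u}) (hFT : D4.StartQ.FTT.{u}) :
    D4.Cut.Row1.{u} (fun K _ => D4.Cut.E6te K) :=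
  OneRow.row_e6te h1173 hFT fun _ _ _ _ ha hF _ _ _ _ he => he.elim fun e => D4.LinESix.bfacts ha hF e

end Cfsg.Agent.OddHalf.DblR.OneRowE
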