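import Cfsg.Agent.OddHalf.DblR.OneRow
import Cfsg.Agent.OddHalf.D4.MinusB.FactsInst

/-!
# ODD, D4, the row `two.ome` (helper552)

* **`ome`** : the row of `Ω⁻_{2m}(2^a)`, `a ≥ 2`, `m ≥ 4`.
-/

set_option autoImplicit false

namespace Cfsg.Agent.OddHalf.DblR.OneRowM

open Cfsg.Agent.OddHalf

universe u

/-- **D4, the row of `Ω⁻_{2m}(2^a)`, `a ≥ 2`, `m ≥ 4`.** -/
theorem ome (h1173 : D4.Start.P1173.{u}) (hFT : D4.StartQ.FTT.{u}) :
    D4.Cut.Row1.{u} (fun K _ => D4.Cut.Ome K) := by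
  refine OneRow.row_ome h1173 hFT ?_
  rintro F _ _ a m b c ha hF hm hbc G _ _ K he
  have h2 : (2 : F) = 0 := by
    have h1 : ((Fintype.card F : ℕ) : F) = 0 := FiniteField.cast_card_eq_zero F
    rw [hF] at h1
    push_cast at h1
    exact eq_zero_of_pow_eq_zero h1
  have hs : ∃ s : F, s ≠ 0 ∧ s ≠ 1 := by
    classical
    have h1 : 2 < Fintype.card F := by
      rw [hF]
      calc 2 < 2 ^ 2 := by norm_num
        _ ≤ 2 ^ a := Nat.pow_le_pow_right (by norm_num) ha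
    obtain ⟨s, hs⟩ := Finset.exists_mem_notMem_of_card_lt_card (s := ({0, 1} : Finset F)) (t := Finset.univ)
      (lt_of_le_of_lt Finset.card_le_two (by rw [Finset.card_univ]; exact h1))
    refine ⟨s, fun h0 => hs.2 (by rw [h0]; simp), fun h0 => hs.2 (by rw [h0]; simp)⟩
  rw [← Cfsg.Agent.LieClassical.OrthForms.coe_minusForm] at he
  obtain ⟨e⟩ := he
  exact D4.MinusB.bfacts_minus h2 hs hm b c hbc e

end Cfsg.Agent.OddHalf.DblR.OneRowM
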