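import Cfsg.Agent.OddHalf.DblR.OneLong
import Cfsg.Agent.OddHalf.DblR.SheetTwE6

/-!
# ODD, D4, row `two.e6te` (`²E₆(2^a)`, `a ≥ 2`): LEMMA INPUT and the end of case (a) (helper552)

* `oneL` : `OneL R ρ` from `SheetL R ρ`, `HasFull`;
* **`hasOneL_twE6`**;
* **`false_of_pair`** : no full pair `(K, L)`, `K ≅ ²E₆(2^a)`, with a Sylow 2-subgroup of `K` contained in `N(L)`.
-/

set_option autoImplicit false
set_option linter.unusedSectionVars false

namespace Cfsg.Agent.OddHalf.DblR.OneTwE6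

open CoxeterSystem Cfsg.Agent.ChevalleyStructure.CoxeterGeom Cfsg.Agent.Tits.Roots Cfsg.Agent.Tits.Core
  Cfsg.Agent.Tits.RootComb Cfsg.Agent.Tits.Exchange Cfsg.Agent.Nodes.Reps Cfsg.Agent.Nodes.BNOf
  Cfsg.Agent.Nodes.StabComb Cfsg.Agent.Nodes.Bruhat Cfsg.Agent.Nodes.OppDec
  Cfsg.Agent.Nodes.Coroot Cfsg.Agent.KFacts.RgdSL Cfsg.Agent.KFacts.RgdTI Cfsg.Agent.KFacts.RgdOdd
  Cfsg.Agent.KFacts.RgdCent Cfsg.Agent.KFacts.RgdEx Cfsg.Agent.KFacts.RgdPar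
  Cfsg.Agent.Nodes.RGDTwE6 Cfsg.Agent.KFacts.TwESix.Comb Cfsg.Agent.KFacts.TwESix.CombRho
  Cfsg.Agent.KFacts.TwESix.Facts Cfsg.Agent.KFacts.TwESix.QRho Cfsg.Agent.KFacts.TwESix.Tor
  Cfsg.Agent.OddHalf.DblR.OneLong Cfsg.Agent.OddHalf.DblR.SheetTwE6
open scoped commutatorElement

theorem orth_comb : ∃ g ∈ rts, g 0 = 0 := by decide +kernel

theorem two_comb : ∀ c ∈ rts, c 0 < 0 → c ≠ -rho → c 0 = -1 := by decide +kernel

section

variable {W Y : Type*} [Group W] [Group Y] {cs : CoxeterSystem CoxeterMatrix.F₄ W} {T : Subgroup Y} {n : Fin 4 → Y}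
  {X : (Fin 4 → ℤ) → Subgroup Y} {R : RGD cs isCartan 2 T n X}

/-- **`OneL` at `ρ`** -/
theorem oneL [Finite W] (S : SheetL R rho) (F : Cfsg.Agent.KFacts.RgdLocL.HasFull cs isCartan T X rho) :
    OneL R rho where
  sheet := S
  full := F
  dom := by
    intro i
    rw [cpr_rho]
    show 0 ≤ (Pi.single i 1 : Fin 4 → ℤ) 0
    fin_cases i <;> decide
  orth := by
    obtain ⟨g, hg, h0⟩ := orth_comb
    exact ⟨g, (mem_rts cs).2 hg, by rw [cpr_rho, h0]⟩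
  two := by
    intro c hc h0 hne
    rw [cpr_rho] at h0 ⊢
    rw [two_comb c ((mem_rts cs).1 hc) h0 hne]
    have h1 := two_bf cs rho hc
    have h2 := two_bf cs c (rho_root cs)
    rw [cpr_rho, two_comb c ((mem_rts cs).1 hc) h0 hne, rho_long, bf_comm] at h2
    rcases norm cs hc with h3 | h3 <;> rw [h3] at h1 <;> omega

end

section Inst

open Cfsg.Lie

universe u

variable {F : Type u} [Field F] [Fintype F]

/-- **`²E₆(2^a)`, `a ≥ 2`** -/
theorem hasOneL_twE6 {a : ℕ} (ha : 2 ≤ a) (hF : Fintype.card F = 4 ^ a) : HasOneL ↥(twistedE6 F (2 ^ a)) := by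
  have hF' : Fintype.card F = (2 ^ a) ^ 2 := by rw [hF, ← pow_mul, mul_comm, pow_mul]; norm_num
  have hq : IsPrimePow (2 ^ a) := (Nat.prime_two.isPrimePow).pow (by omega)
  have : Fact (Nat.Prime 2) := ⟨Nat.prime_two⟩
  have hc : CharP F 2 := by
    obtain ⟨p, hp⟩ := CharP.exists F
    have hpp : p.Prime := (CharP.char_is_prime_or_zero F p).resolve_right (CharP.char_ne_zero_of_finite F p)
    have : Fact p.Prime := ⟨hpp⟩
    obtain ⟨n, hn⟩ := FiniteField.card F p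
    have h2 : p ∣ 2 := by
      apply hpp.dvd_of_dvd_pow (n := 2 * a)
      rw [pow_mul]
      norm_num
      rw [← hF, hn.2]
      exact dvd_pow_self p n.ne_zero
    have h3 : p = 2 := (Nat.prime_dvd_prime_iff_eq hpp Nat.prime_two).1 h2
    rwa [h3] at hp
  obtain ⟨φ, hφ, hqq⟩ := Cfsg.Agent.ChevalleyStructure.TwE6Basic.exists_frob hq hF'
  have hW : Finite CoxeterMatrix.F₄.Group := finiteW CoxeterMatrix.F₄.toCoxeterSystem
  have hq2 : 2 < 2 ^ a := by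
    calc 2 < 2 ^ 2 := by norm_num
      _ ≤ 2 ^ a := Nat.pow_le_pow_right (by norm_num) ha
  exact ⟨4, CoxeterMatrix.F₄, _, isCartan, _, _, _, hW, _, rho,
    oneL (sheetL_inst CoxeterMatrix.F₄.toCoxeterSystem hφ hqq hq hF') (hasFull_inst _ hφ hqq hq hF' hq2)⟩

theorem isSimple {a : ℕ} (ha : 2 ≤ a) (hF : Fintype.card F = 4 ^ a) : IsSimpleGroup ↥(twistedE6 F (2 ^ a)) := by
  have hF' : Fintype.card F = (2 ^ a) ^ 2 := by rw [hF, ← pow_mul, mul_comm, pow_mul]; norm_num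
  exact (Cfsg.Agent.S1070.result (K := F) (Nat.prime_two.isPrimePow.pow (by omega)) hF').1

variable {G : Type*} [Group G] [Finite G]

/-- **Case (a) for `²E₆(2^a)`, `a ≥ 2`.** -/
theorem false_of_pair {K : Subgroup G} (hK : ∃ (F : Type) (_ : Field F) (_ : Fintype F) (a : ℕ), 2 ≤ a ∧
      Fintype.card F = 4 ^ a ∧ Nonempty (↥K ≃* ↥(Lie.twistedE6 F (2 ^ a))))
    (tight : Cfsg.Agent.OddHalf.D4.TightAt K) (rk : Cfsg.Agent.OddHalf.D4.Rk2 K)
    (std : ∀ g : G, ¬ ∀ k ∈ K, ∀ l ∈ Cfsg.Agent.OddHalf.D4.CommConj.cj g K, k * l = l * k)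
    (core : ∀ Q : Subgroup G, Cfsg.Agent.OddHalf.D4.Basic.IsSyl Q (Subgroup.centralizer (K : Set G)) →
      ∀ P : Subgroup G, P ≤ Subgroup.centralizer (K : Set G) → (∀ x ∈ P, ∀ q ∈ Q, x * q = q * x) →
        P ≤ ⁅P, P⁆ → P = ⊥) {L Q U S' : Subgroup G} (hp : Cfsg.Agent.OddHalf.D4.FullPair K L Q U)
    (hS' : Cfsg.Agent.OddHalf.D4.Basic.IsSyl S' K) (hS'L : S' ≤ Subgroup.normalizer (L : Set G)) : False := by
  obtain ⟨F, _, _, a, ha, hF, ⟨e⟩⟩ := hK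
  have := isSimple ha hF
  have : Finite ↥(Lie.twistedE6 F (2 ^ a)) := Finite.of_equiv _ e.toEquiv
  exact (hasOneL_twE6 ha hF).false_of_pair e.symm tight rk std core hp hS' hS'L

end Inst

end Cfsg.Agent.OddHalf.DblR.OneTwE6
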