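import Cfsg.Agent.OddHalf.DblR.RgdTriL
import Cfsg.Agent.OddHalf.DblR.RgdPair

/-!
# ODD, D4: no commuting pair of long root type, two root lengths

helper328. `no_pair_rgdL` : `no_pair_rgd` for the long roots of a root group datum with two root lengths.
-/

set_option autoImplicit false
set_option linter.unusedSectionVars false

namespace Cfsg.Agent.OddHalf.DblR

open CoxeterSystem Cfsg.Agent.ChevalleyStructure.CoxeterGeom Cfsg.Agent.Tits.Roots Cfsg.Agent.Tits.Core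
  Cfsg.Agent.Tits.RootComb Cfsg.Agent.Tits.Exchange Cfsg.Agent.Nodes.Reps Cfsg.Agent.Nodes.BNOf
  Cfsg.Agent.Nodes.StabComb Cfsg.Agent.Nodes.Bruhat Cfsg.Agent.Nodes.OppDec Cfsg.Agent.Nodes.LeviDec
  Cfsg.Agent.Nodes.NormX Cfsg.Agent.Nodes.Coroot Cfsg.Agent.Nodes.PosPair Cfsg.Agent.KFacts.RgdPar
  Cfsg.Agent.KFacts.RgdSL Cfsg.Agent.KFacts.RgdTI Cfsg.Agent.KFacts.RgdCent Cfsg.Agent.KFacts.RgdOdd
  Cfsg.Agent.KFacts.RgdEx
open scoped commutatorElement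

variable {I W Y : Type*} [Fintype I] [DecidableEq I] [Group W] [Group Y] {M : CoxeterMatrix I}
  {cs : CoxeterSystem M W} {A : I → I → ℤ} {h : IsCartan M A} {T : Subgroup Y} {n : I → Y}
  {X : (I → ℤ) → Subgroup Y}

section

variable [Finite W] (Rd : RGD cs h 2 T n X)

include Rd

omit [Finite W] in
/-- (K1) gives `C_K(P_r) ≤ X_r` -/
theorem FactOneL.self {E : Subgroup Y} (F1 : FactOneL Rd E) (Am : Amb (GG cs h T X) E) {r : I → ℤ} (Lr : LG Rd r)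
    {x : Y} (hx : x ∈ GG cs h T X) (hc : ∀ a ∈ Rad cs h r, ∀ v ∈ X a, x * v = v * x) : x ∈ X r := by
  have hXr : X r ≤ GG cs h T X := le_trans (RGD.le_Sup (S := {x | IsRoot cs h x}) Lr.lr.root) le_sup_right
  obtain ⟨z, hz, hz1⟩ := F1 r Lr x (fun e he => (Am.comm e he x hx).symm) hc
  have h1 : z⁻¹ * x = 1 := Am.K_inf_C1 (mul_mem (inv_mem (hXr hz)) hx) hz1
  have h2 : x = z := by rw [inv_mul_eq_one] at h1; exact h1.symm
  rw [h2]; exact hz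

/-- `P_r` determines `Q_r` and `X_r` -/
theorem cj_of_cj_PL [Finite Y] {r : I → ℤ} (L : LR Rd r)
    (self : ∀ x ∈ GG cs h T X, (∀ a ∈ Ge cs h r, ∀ v ∈ X a, x * v = v * x) → x ∈ X r)
    (QN : ∀ p ∈ RGD.Sup X (Ge cs h r), ∀ q ∈ RGD.Sup X (Rad cs h r), p * q * p⁻¹ ∈ RGD.Sup X (Rad cs h r))
    {g : Y} (hg : cj g (RGD.Sup X (Ge cs h r)) = RGD.Sup X (Ge cs h r)) :
    cj g (RGD.Sup X (Rad cs h r)) = RGD.Sup X (Rad cs h r) ∧ cj g (X r) = X r := by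
  have hr := L.root
  have hXP : X r ≤ RGD.Sup X (Ge cs h r) := RGD.le_Sup ⟨hr, by rw [cpr_self cs h hr]; norm_num⟩
  have hPG : RGD.Sup X (Ge cs h r) ≤ GG cs h T X := le_trans (RGD.Sup_mono fun x hx => hx.1) le_sup_right
  have hQP : RGD.Sup X (Rad cs h r) ≤ RGD.Sup X (Ge cs h r) := RGD.Sup_mono fun x hx => ⟨hx.1, by have := hx.2; omega⟩
  have key1 : ∀ g : Y, cj g (RGD.Sup X (Ge cs h r)) = RGD.Sup X (Ge cs h r) → cj g (X r) ≤ X r := by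
    intro g hg x hx
    rw [mem_cj] at hx
    have hxP : x ∈ RGD.Sup X (Ge cs h r) := by
      rw [← hg, mem_cj]
      exact hXP hx
    refine self x (hPG hxP) ?_
    intro a ha v hv
    have hvP : v ∈ RGD.Sup X (Ge cs h r) := RGD.le_Sup (S := Ge cs h r) ha hv
    have h1 : g⁻¹ * v * g ∈ RGD.Sup X (Ge cs h r) := by
      rw [← mem_cj, hg]; exact hvP
    have h2 := L.comm' h1 hx
    calc x * v = g * ((g⁻¹ * x * g) * (g⁻¹ * v * g)) * g⁻¹ := by group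
      _ = g * ((g⁻¹ * v * g) * (g⁻¹ * x * g)) * g⁻¹ := by rw [h2]
      _ = v * x := by group
  have key2 : ∀ g : Y, cj g (RGD.Sup X (Ge cs h r)) = RGD.Sup X (Ge cs h r) →
      cj g (RGD.Sup X (Rad cs h r)) ≤ RGD.Sup X (Rad cs h r) := by
    intro g hg
    have : Fact (Nat.Prime 2) := ⟨Nat.prime_two⟩
    refine core_le Rd hr ?_ ((isPGroup_rad Rd hr).map _) ?_
    · refine le_trans (cj_mono g hQP) ?_
      rw [hg]; exact hPG
    · intro u hu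
      have hQn : ∀ p ∈ RGD.Sup X (Ge cs h r), cj p (RGD.Sup X (Rad cs h r)) = RGD.Sup X (Rad cs h r) := by
        intro p hp
        have key : ∀ p ∈ RGD.Sup X (Ge cs h r), cj p (RGD.Sup X (Rad cs h r)) ≤ RGD.Sup X (Rad cs h r) := by
          intro p hp x hx
          rw [mem_cj] at hx
          have := QN p hp _ hx
          have e : p * (p⁻¹ * x * p) * p⁻¹ = x := by group
          rwa [e] at this
        exact cj_eq_of_le (key p hp) (key p⁻¹ (inv_mem hp))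
      have h1 : g⁻¹ * u * g ∈ RGD.Sup X (Ge cs h r) := by
        rw [← mem_cj, hg]; exact hu
      have h2 : u * g = g * (g⁻¹ * u * g) := by group
      rw [← cj_mul, h2, cj_mul, hQn _ h1]
  have hgi := cj_inv_eq hg
  exact ⟨cj_eq_of_le (key2 g hg) (key2 g⁻¹ hgi), cj_eq_of_le (key1 g hg) (key1 g⁻¹ hgi)⟩

/-- **No commuting pair of long root type**, two root lengths. -/
theorem no_pair_rgdL [Finite Y] (Tab : ∀ t ∈ T, ∀ t' ∈ T, t * t' = t' * t) {E T0 : Subgroup Y}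
    (F1 : FactOneL Rd E) (F2 : FactTwoL Rd E)
    {r s g g' : I → ℤ} (hA : A2 cs h r s) (Lr : LG Rd r) (Ls : LG Rd s) (hg : TorTr cs h T X g r s)
    (hg' : TorTr cs h T X g' s r)
    (hT0 : T0 ≤ T) (L : Loc (GG cs h T X) E (RGD.Sup X (Ge cs h r)) (RGD.Sup X (Rad cs h r)) (X r) T0)
    (hPp : RGD.Sup X (Ge cs h r) ≤ ⁅RGD.Sup X (Ge cs h r), RGD.Sup X (Ge cs h r)⁆)
    (hout : ∀ H : Subgroup Y, H ≤ Subgroup.normalizer (GG cs h T X : Set Y) → H ≤ ⁅H, H⁆ →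
      ∀ x ∈ H, ∃ k ∈ GG cs h T X, ∃ c : Y, (∀ y ∈ GG cs h T X, c * y = y * c) ∧ x = k * c)
    (hC1 : ∀ H : Subgroup Y, H ≤ C1 (GG cs h T X) E → H ≤ ⁅H, H⁆ → H = ⊥)
    {t t' : Y} (ht : t ∈ E) (ht1 : t ≠ 1) (ht' : t' ∈ E) (ht1' : t' ≠ 1) (hne : t' ≠ t)
    {γ k : Y} (hk : k ∈ GG cs h T X) (hg1 : cj γ E ≤ E ⊔ X r) (hg2 : E ≤ cj γ (E ⊔ cj k (X r)))
    (hg3 : ¬ cj γ E ≤ E) : False := by
  obtain ⟨k1, m1, H, ek, em⟩ := ktriL Rd Tab F1 F2 hA Lr Ls hg hg' L.big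
  have hL' := Lr.lr
  have hkm : m1⁻¹ * k1 ∈ GG cs h T X := mul_mem (inv_mem H.mK) H.nK
  have self : ∀ x ∈ GG cs h T X, (∀ a ∈ Ge cs h r, ∀ v ∈ X a, x * v = v * x) → x ∈ X r := fun x hx hc =>
    F1.self Rd L.amb Lr hx fun a ha v hv => hc a ⟨ha.1, by have := ha.2; omega⟩ v hv
  refine H.no_pair L (norX Rd hL' Tab hT0) (a := 1) (b := m1⁻¹ * k1) (c := k1) (one_mem _) hkm H.nK (cj_one _) ?_ H.nX
    (cj_one _) ?_ ek ht ht1 ht' ht1' hne res res_cj ?_ (fun g hg => cj_of_cj_PL Rd hL' self L.QN hg)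
    hk hg1 hg2 hg3
  · rw [cj_mul, H.nX, ← H.mX, cj_inv_cj]
  · rw [cj_mul, ek, ← em, cj_inv_cj]
  · refine res_eq L.amb (fun p hp x hx => (L.XZ x hx p hp).symm) L.PK (le_trans L.XQ (le_trans L.QP L.PK))
      ⟨t, ht, ht1⟩ hPp hout hC1 ?_
    intro x hx hx1 H hH hHx hHp
    exact le_P_of_perfect Rd hL' Tab hx hx1 hH hHx hHp

end

end Cfsg.Agent.OddHalf.DblR
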