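import Cfsg.Agent.OddHalf.DblR.InpEnd
import Cfsg.Agent.OddHalf.D4.Start

/-!
# ODD, D4: the type-free assembly of a row, `q ≥ 4` (helper350)

`S ↦ Inp K S X H ∧ EndHyp K X` for every Sylow 2-subgroup `S` of `K` (case (a)) and `CaseB K` (no full pair unless
`N(L)` contains a Sylow 2-subgroup of `K`) give the row.

* `exists_fullPair_of_inp` : a full pair exists;
* **`false_of_inp`** : the contradiction;
* **`row_of_inp`** : rows of `Cut.lean`.
-/

set_option autoImplicit false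

namespace Cfsg.Agent.OddHalf.D4.RowEnd

open Cfsg Subgroup Cfsg.Agent.OddHalf.D4 Cfsg.Agent.OddHalf.D4.Basic Cfsg.Agent.OddHalf.D4.Input

universe u

/-- Case (b): if no `N(L)`, for a full pair `K`, `L`, contains a Sylow 2-subgroup of `K`, there is no full pair. -/
def CaseB {G : Type u} [Group G] (K : Subgroup G) : Prop :=
  (∀ L Q U S : Subgroup G, FullPair K L Q U → IsSyl S K → ¬ S ≤ normalizer (L : Set G)) →
    ∀ L Q U : Subgroup G, ¬ FullPair K L Q U

/-- the facts for every Sylow 2-subgroup of `K` -/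
def CaseA {G : Type u} [Group G] (K : Subgroup G) : Prop :=
  ∀ S : Subgroup G, IsSyl S K → ∃ X H : Subgroup G, Inp K S X H ∧ EndHyp K X

theorem exists_fullPair_of_inp {G : Type u} [Group G] [Finite G] [IsSimpleGroup G] (h1173 : EvenPair.H1173 G)
    {K : Subgroup G} (hA : CaseA K) (hKne : K ≠ ⊥) (hKp : ⁅K, K⁆ = K) :
    ∃ L Q U : Subgroup G, FullPair K L Q U := by
  obtain ⟨S, hS, -⟩ := exists_isSyl (G := G) (M := K) (Q := ⊥) IsPGroup.of_bot bot_le
  obtain ⟨X, H, h, -⟩ := hA S hS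
  have hcomm : ∀ k ∈ K, ∀ c ∈ centralizer (K : Set G), k * c = c * k :=
    fun k hk c hc => mem_centralizer_iff.mp hc k hk
  obtain ⟨g, hg, r, hr, hr2, hrg⟩ := EvenPair.exists_even h1173 h.tight h.even hKne hKp hcomm
  obtain ⟨E, hE⟩ := h.tight.exists_maxE hg hr hr2 hrg
  obtain ⟨L, Q, U, hF, -, -⟩ := Exists.fullPair_of_maxE h.tight h.ctr (by
    intro T hT y hy hc
    have hTK : IsSyl (T ⊓ K) K := hT.inf le_normalizer hT.le
    obtain ⟨X', H', h', -⟩ := hA (T ⊓ K) hTK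
    obtain ⟨m, hm⟩ := hT.two ⟨y, hy⟩
    obtain ⟨c, hc', x, hx, e⟩ := h'.cen y (hT.le hy) ⟨m, congrArg Subtype.val hm⟩ fun s hs => hc s hs.1 hs.2
    have hxS := h'.XS hx
    exact ⟨c, hc', x, hxS.1, hxS.2, fun u hu hu' => h'.HX u (h'.SH ⟨hu, hu'⟩) x hx, e⟩) hE
  exact ⟨L, Q, U, hF⟩

/-- **The contradiction.** -/
theorem false_of_inp {G : Type u} [Group G] [Finite G] [IsSimpleGroup G] {K : Subgroup G}
    (hstd : IsStandardSubgroup K) (hs : IsSimpleGroup ↥K) (hrk : ¬ PRankLE 2 1 ↥(centralizer (K : Set G)))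
    (h1173 : oddCore G = ⊥ → EvenPair.H1173 G) (hA : CaseA K) (hB : CaseB K) : False := by
  have hperf : ⁅K, K⁆ = K := by
    have h1 : ⁅(⊤ : Subgroup ↥K), (⊤ : Subgroup ↥K)⁆ = ⊤ := hstd.1.1.commutator_eq_top
    have h2 := congrArg (Subgroup.map K.subtype) h1
    rw [Subgroup.map_commutator, ← MonoidHom.range_eq_map, Subgroup.range_subtype] at h2
    exact h2
  have hne : K ≠ ⊥ := by
    rintro rfl
    have := hs.toNontrivial
    exact not_subsingleton ↥(⊥ : Subgroup G) inferInstance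
  obtain ⟨a, b, ha, hb, ha2, hb2, hab, hne2⟩ := EvenPair.exists_two_of_not_pRankLE hrk
  obtain ⟨L, Q, U, hp⟩ := exists_fullPair_of_inp (h1173 (Start.oddCore_eq_bot ha2)) hA hne hperf
  refine hB ?_ L Q U hp
  intro L Q U S hp hS hSL
  obtain ⟨X, H, h, hend⟩ := hA S hS
  exact h.no_full hend hrk hp hS hSL

/-- **A row of `Cut.lean`.** -/
theorem row_of_inp (h1173 : Start.P1173.{u}) {P : (K : Type u) → [Group K] → Prop}
    (hA : ∀ (G : Type u) [Group G] [Finite G] (K : Subgroup G), IsStandardSubgroup K → IsSimpleGroup ↥K →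
      ¬ PRankLE 2 1 ↥(centralizer (K : Set G)) → P ↥K → CaseA K)
    (hB : ∀ (G : Type u) [Group G], Iface.Ctx G → ∀ K : Subgroup G, Iface.Std G K → IsSimpleGroup ↥K →
      ¬ PRankLE 2 1 ↥(centralizer (K : Set G)) → P ↥K → CaseB K) : Cut.Row1.{u} P := by
  intro G _ hG K hK hrk hz hP
  have := hG.fin
  have := hG.simple
  have hs := Start.isSimple_of_center hK.simple hz
  exact false_of_inp hK.std hs hrk (h1173 G) (hA G K hK.std hs hrk hP) (hB G hG K hK hs hrk hP)

end Cfsg.Agent.OddHalf.D4.RowEnd
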