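import Cfsg.Agent.OddHalf.DblR.RowEnd
import Cfsg.Agent.OddHalf.D4.Free.Main

/-!
# ODD, D4: the type-free assembly of a row, `q ≥ 4`, with the free pair theorem (helper350)

* `caseB_of_bFacts` : `CaseB K` from helper994's `BFacts`;
* **`row_of_bFacts`** : rows of `Cut.lean` from `CaseA` and `BFacts`.
-/

set_option autoImplicit false

namespace Cfsg.Agent.OddHalf.D4.RowEnd

open Cfsg Subgroup Cfsg.Agent.OddHalf.D4 Cfsg.Agent.OddHalf.D4.Basic Cfsg.Agent.OddHalf.D4.Input
open Cfsg.Agent.OddHalf.D4.CommConj (cj)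

universe u

theorem rk2_of_not_pRankLE {G : Type*} [Group G] [Finite G] {K : Subgroup G}
    (hrk : ¬ PRankLE 2 1 ↥(centralizer (K : Set G))) : Rk2 K := by
  obtain ⟨a, b, ha, hb, ha2, hb2, hab, hne⟩ := EvenPair.exists_two_of_not_pRankLE hrk
  exact ⟨a, b, ha, hb, ha2, hb2, hab, hne⟩

theorem cen_of_simple {G : Type*} [Group G] {K : Subgroup G} (hs : IsSimpleGroup ↥K) (hp : Group.IsPerfect ↥K) :
    ∀ x ∈ K, x ∈ centralizer (K : Set G) → x = 1 := by
  intro x hx hc
  by_contra hne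
  have h1 : center ↥K = ⊤ := by
    rcases (inferInstance : (center ↥K).Normal).eq_bot_or_eq_top with h | h
    · exfalso
      apply hne
      have h2 : (⟨x, hx⟩ : ↥K) ∈ center ↥K := by
        rw [mem_center_iff]
        intro k
        exact Subtype.ext (mem_centralizer_iff.mp hc k k.2)
      rw [h, mem_bot] at h2
      exact congrArg Subtype.val h2
    · exact h
  have h3 : ⁅(⊤ : Subgroup ↥K), (⊤ : Subgroup ↥K)⁆ = ⊥ := by
    rw [commutator_eq_bot_iff_le_centralizer, ← h1]
    exact center_le_centralizer _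
  have h4 : ⁅(⊤ : Subgroup ↥K), (⊤ : Subgroup ↥K)⁆ = ⊤ := hp.commutator_eq_top
  rw [h3] at h4
  have := hs.toNontrivial
  exact bot_ne_top h4

/-- `CaseB` from `BFacts` -/
theorem caseB_of_bFacts {G : Type u} [Group G] [Finite G] {K : Subgroup G}
    (hK : IsStandardSubgroup K) (hs : IsSimpleGroup ↥K)
    (hrk : ¬ PRankLE 2 1 ↥(centralizer (K : Set G))) (hB : ∀ g : G, Free.BFacts (cj g K)) : CaseB K := by
  intro hin L Q U hp
  refine Free.no_fullPair (EvenPair.tight_of_standard hK) (cen_of_simple hs hK.1.1) (rk2_of_not_pRankLE hrk) hB ?_ hp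
  intro L Q U hp S hS hSL
  exact hin L Q U S hp hS hSL

/-- **A row of `Cut.lean` from `CaseA` and `BFacts`.** -/
theorem row_of_bFacts (h1173 : Start.P1173.{u}) {P : (K : Type u) → [Group K] → Prop}
    (hiso : ∀ {X Y : Type u} [Group X] [Group Y], (X ≃* Y) → P X → P Y)
    (hA : ∀ (G : Type u) [Group G] [Finite G] (K : Subgroup G), IsStandardSubgroup K → IsSimpleGroup ↥K →
      ¬ PRankLE 2 1 ↥(centralizer (K : Set G)) → P ↥K → CaseA K)
    (hB : ∀ (G : Type u) [Group G] [Finite G] (K : Subgroup G), IsSimpleGroup ↥K → P ↥K → Free.BFacts K) :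
    Cut.Row1.{u} P := by
  refine row_of_inp h1173 hA ?_
  intro G _ hG K hK hs hrk hP
  have := hG.fin
  refine caseB_of_bFacts hK.std hs hrk fun g => ?_
  let e : ↥K ≃* ↥(cj g K) := K.equivMapOfInjective (MulAut.conj g).toMonoidHom (MulAut.conj g).injective
  exact hB G (cj g K) (e.isSimpleGroup_congr.1 hs) (hiso e hP)

end Cfsg.Agent.OddHalf.D4.RowEnd
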