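import Cfsg.Agent.OddHalf.DblR.LocW
import Cfsg.Agent.OddHalf.DblR.RowCore

/-!
# ODD, D4: rows, `K` simply laced of rank at least 3 over a field with at least 4 elements, `A₃` included

* `SheetW R` : as `Sheet R`, `Sep` replaced by `lev` and `Agr`;
* **`SheetW.row`** : `f : Y →* G` injective with image `K`, `E` a Sylow 2-subgroup of `C_G(K)` of order at least 4:
  there is no commuting pair of root type.
-/

set_option autoImplicit false
set_option linter.unusedSectionVars false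

namespace Cfsg.Agent.OddHalf.DblR

open CoxeterSystem Cfsg.Agent.ChevalleyStructure.CoxeterGeom Cfsg.Agent.Tits.Roots Cfsg.Agent.Tits.Core
  Cfsg.Agent.Tits.RootComb Cfsg.Agent.Tits.Exchange Cfsg.Agent.Nodes.Reps Cfsg.Agent.Nodes.BNOf
  Cfsg.Agent.Nodes.StabComb Cfsg.Agent.Nodes.Bruhat Cfsg.Agent.Nodes.OppDec Cfsg.Agent.Nodes.LeviDec
  Cfsg.Agent.Nodes.NormX Cfsg.Agent.Nodes.Coroot Cfsg.Agent.Nodes.PosPair Cfsg.Agent.KFacts.RgdPar
  Cfsg.Agent.KFacts.RgdSL Cfsg.Agent.KFacts.RgdTI Cfsg.Agent.KFacts.RgdCent Cfsg.Agent.KFacts.RgdOdd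
  Cfsg.Agent.KFacts.RgdEx Cfsg.Agent.KFacts.RgdTor Cfsg.Agent.KFacts.RgdKfour
open scoped commutatorElement

variable {I W Y : Type*} [Fintype I] [DecidableEq I] [Group W] [Group Y] {M : CoxeterMatrix I}
  {cs : CoxeterSystem M W} {A : I → I → ℤ} {h : IsCartan M A} {T : Subgroup Y} {n : I → Y}
  {X : (I → ℤ) → Subgroup Y}

/-- The facts on `Y`. -/
structure SheetW [Finite W] (R : RGD cs h 2 T n X) : Prop where
  top : RGD.Sup X {x | IsRoot cs h x} = ⊤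
  sl : SL cs h
  tab : ∀ s ∈ T, ∀ t ∈ T, s * t = t * s
  lev : ∀ r, IsRoot cs h r → ∀ b ∈ Phi1 cs h r, ∃ a, IsRoot cs h a ∧ cpr cs h a r = 0 ∧ cpr cs h b a = 1
  nb : ∀ a, IsRoot cs h a → ∃ b, IsRoot cs h b ∧ cpr cs h a b = 1
  three : ∀ r s, IsRoot cs h r → IsRoot cs h s → cpr cs h r s = 1 →
    ∃ c, IsRoot cs h c ∧ cpr cs h c r = 1 ∧ cpr cs h c s = 1
  nocent : NoCent cs h T X
  big : ∀ b, IsRoot cs h b → ∃ u ∈ X b, ∃ v ∈ X b, u ≠ 1 ∧ v ≠ 1 ∧ u ≠ v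
  k1 : ∀ r, IsRoot cs h r → ∀ α : MulAut Y, (∀ a ∈ Rad cs h r, ∀ x ∈ X a, α x = x) → ∃ z ∈ X r, α = MulAut.conj z
  k2 : ∀ r s, IsRoot cs h r → IsRoot cs h s → cpr cs h r s = 1 → ∀ α : MulAut Y,
    (∀ a ∈ Psi cs h r s, ∀ x ∈ X a, α x = x) → ∃ z ∈ X r ⊔ X s, α = MulAut.conj z
  /-- perfect groups of automorphisms are inner -/
  out : ∀ H : Subgroup (MulAut Y), H ≤ ⁅H, H⁆ → ∀ α ∈ H, ∃ y, α = MulAut.conj y
  agr : ∀ r, IsRoot cs h r → Agr cs h T X r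

theorem SheetW.hyp [Finite W] {R : RGD cs h 2 T n X} (S : SheetW R) {r : I → ℤ} (hr : IsRoot cs h r) : HypW R r :=
  ⟨S.sl, hr, S.tab, S.lev r hr, S.nb⟩

section

variable [Finite W] {R : RGD cs h 2 T n X} {G : Type*} [Group G] (f : Y →* G)

theorem map_hypW {r : I → ℤ} (R' : RGD cs h 2 (T.map f) (fun i => f (n i)) (fun x => (X x).map f)) (H : HypW R r) :
    HypW R' r := by
  refine ⟨H.sl, H.root, ?_, H.lev, H.nb⟩
  rintro _ ⟨s, hs, rfl⟩ _ ⟨t, ht, rfl⟩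
  rw [← map_mul, ← map_mul, H.tab s hs t ht]

theorem map_agr (hf : Function.Injective f) {r : I → ℤ} (H : Agr cs h T X r) :
    Agr cs h (T.map f) (fun x => (X x).map f) r := by
  intro a ha har b hb c hc hba hca k hk
  have key : ∀ y : I → ℤ, T.map f ⊓ ((X y).map f ⊔ (X (-y)).map f) = (T ⊓ (X y ⊔ X (-y))).map f := by
    intro y
    rw [← Subgroup.map_sup, Subgroup.map_inf _ _ f hf]
  rw [key] at hk
  obtain ⟨k0, hk0, rfl⟩ := hk
  obtain ⟨t, ht, h1, h2⟩ := H a ha har b hb c hc hba hca k0 hk0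
  refine ⟨f t, ?_, ?_, ?_⟩
  · rw [key]; exact ⟨t, ht, rfl⟩
  · rintro _ ⟨v, hv, rfl⟩
    rw [← map_inv, ← map_inv, ← map_mul, ← map_mul, ← map_mul, ← map_mul, h1 v hv]
  · rintro _ ⟨v, hv, rfl⟩
    rw [← map_inv, ← map_inv, ← map_mul, ← map_mul, ← map_mul, ← map_mul, h2 v hv]

/-- **Row.** No commuting pair of root type. -/
theorem SheetW.row [Finite Y] [Finite G] (S : SheetW R) (hf : Function.Injective f) {K : Subgroup G} (hK : f.range = K)
    (St : Std1 K) {E : Subgroup G} (hE : E ≤ Subgroup.centralizer (K : Set G)) (hE2 : IsPGroup 2 ↥E)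
    (hEmax : ∀ D : Subgroup G, E ≤ D → D ≤ Subgroup.centralizer (K : Set G) → IsPGroup 2 ↥D → D ≤ E)
    (hC1 : ∀ H : Subgroup G, H ≤ C1 K E → H ≤ ⁅H, H⁆ → H = ⊥)
    {t t' : G} (ht : t ∈ E) (ht1 : t ≠ 1) (ht' : t' ∈ E) (ht1' : t' ≠ 1) (hne : t' ≠ t)
    {r : I → ℤ} (hr : IsRoot cs h r) {γ k : G} (hk : k ∈ K) (hg1 : cj γ E ≤ E ⊔ (X r).map f)
    (hg2 : E ≤ cj γ (E ⊔ cj k ((X r).map f))) (hg3 : ¬ cj γ E ≤ E) : False := by
  subst hK
  have H := S.hyp hr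
  set R' := Cfsg.Agent.Nodes.RGDLib.rgd_map_of_injective R f hf with hR'
  have H' : HypW R' r := map_hypW f R' H
  have hGG : GG cs h (T.map f) (fun x => (X x).map f) = f.range := by
    rw [← map_GG, Cfsg.Agent.KFacts.RgdRigid.GG_eq_top S.top, ← MonoidHom.range_eq_map]
  have hXK : ∀ x, (X x).map f ≤ f.range := by
    rintro x _ ⟨y, -, rfl⟩
    exact ⟨y, rfl⟩
  have hKc : ∀ e ∈ E, ∀ y ∈ f.range, e * y = y * e := fun e he y hy =>
    ((Subgroup.mem_centralizer_iff.1 (hE he)) y hy).symm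
  obtain ⟨amb, two⟩ := St.core (hXK r) (fun x hx => H'.r_sq hx) hE hE2 hEmax hg1 hg3
  -- elements of `C_G(E)` normalise `K`
  have hnorm : ∀ c : G, (∀ a ∈ E, c * a = a * c) → c ∈ Subgroup.normalizer (f.range : Set G) := by
    intro c hc
    rw [mem_normalizer_iff_cj]
    have key : ∀ c : G, (∀ a ∈ E, c * a = a * c) → cj c f.range ≤ f.range := by
      intro c hc x hx
      rw [mem_cj] at hx
      have := amb.nor t ht ht1 c (hc t ht) _ hx
      have e2 : c * (c⁻¹ * x * c) * c⁻¹ = x := by group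
      rwa [e2] at this
    exact cj_eq_of_le (key c hc) (key c⁻¹ fun t ht => comm_inv (hc t ht))
  have inC1 : ∀ (c : G) (z : Y), (∀ a ∈ E, c * a = a * c) → (∀ y, (f z)⁻¹ * c * f y = f y * ((f z)⁻¹ * c)) →
      (f z)⁻¹ * c ∈ C1 f.range E := by
    intro c z hc hz
    rw [mem_C1]
    refine ⟨?_, ?_⟩
    · rintro _ ⟨y, rfl⟩
      exact hz y
    · intro a ha
      have h1 := comm_inv' (hKc a ha (f z) ⟨z, rfl⟩)
      calc (f z)⁻¹ * c * a = (f z)⁻¹ * (c * a) := by group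
        _ = ((f z)⁻¹ * a) * c := by rw [hc a ha]; group
        _ = a * ((f z)⁻¹ * c) := by rw [← h1]; group
  have F1 : FactOne cs h (T.map f) (fun x => (X x).map f) E := by
    intro a ha c hc hcP
    rw [hGG]
    obtain ⟨z, hz, hzc⟩ := Cfsg.Agent.KFacts.RgdAutChev.exists_of_aut f hf (S := {y | ∃ b ∈ Rad cs h a, y ∈ X b}) (Z := X a)
      (fun α hα => S.k1 a ha α fun b hb x hx => hα x ⟨b, hb, hx⟩) (hnorm c hc)
      (by rintro x ⟨b, hb, hx⟩; exact hcP b hb _ ⟨x, hx, rfl⟩)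
    exact ⟨f z, ⟨z, hz, rfl⟩, inC1 c z hc hzc⟩
  have F2 : FactTwo cs h (T.map f) (fun x => (X x).map f) E := by
    intro a b ha hb hab c hc hcP
    rw [hGG]
    obtain ⟨z, hz, hzc⟩ := Cfsg.Agent.KFacts.RgdAutChev.exists_of_aut f hf (S := {y | ∃ d ∈ Psi cs h a b, y ∈ X d}) (Z := X a ⊔ X b)
      (fun α hα => S.k2 a b ha hb hab α fun b hb x hx => hα x ⟨b, hb, hx⟩) (hnorm c hc)
      (by rintro x ⟨b, hb, hx⟩; exact hcP b hb _ ⟨x, hx, rfl⟩)
    have hcomm : ∀ x ∈ X a, ∀ y ∈ X b, x * y = y * x := fun x hx y hy =>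
      ((S.hyp ha).lr b hb).comm a ha (by rw [hab]; norm_num) x hx y hy
    have h8 : z ∈ ((X a ⊔ X b : Subgroup Y) : Set Y) := hz
    have h7 : X a ≤ Subgroup.normalizer (X b : Set Y) := by
      intro u hu
      rw [mem_normalizer_iff_cj]
      have key : ∀ u ∈ X a, cj u (X b) ≤ X b := by
        intro u hu x hx
        rw [mem_cj] at hx
        have h3 := hcomm u hu _ hx
        have : x = u⁻¹ * x * u := by
          calc x = (u * (u⁻¹ * x * u)) * u⁻¹ := by group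
            _ = ((u⁻¹ * x * u) * u) * u⁻¹ := by rw [h3]
            _ = _ := by group
        rw [this]; exact hx
      exact cj_eq_of_le (key u hu) (key u⁻¹ (inv_mem hu))
    rw [Subgroup.coe_mul_of_left_le_normalizer_right _ _ h7] at h8
    obtain ⟨x, hx, y, hy, rfl⟩ := h8
    refine ⟨f x, ⟨x, hx, rfl⟩, f y, ⟨y, hy, rfl⟩, ?_⟩
    rw [← map_mul]
    exact inC1 c (x * y) hc hzc
  have k3 : ∀ c : G, (∀ a ∈ E, c * a = a * c) →
      (∀ p ∈ RGD.Sup (fun x => (X x).map f) (Ge cs h r), c * p = p * c) →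
      ∃ x ∈ (X r).map f, x⁻¹ * c ∈ C1 (GG cs h (T.map f) (fun x => (X x).map f)) E := by
    intro c hc hcP
    apply F1 r hr c hc
    intro b hb v hv
    have hb' : b ∈ Ge cs h r := ⟨hb.1, le_trans zero_le_one hb.2⟩
    exact hcP v (RGD.le_Sup (X := fun x => (X x).map f) hb' hv)
  obtain ⟨s, g, g', hA, c1, hgr, c2, hgr'⟩ := exists_tri S.sl S.nb S.three hr
  have big' := map_big (cs := cs) (h := h) f hf S.big
  have L := H'.locS (map_agr f hf (S.agr r hr)) big' (Rr := E) (by rw [hGG]; exact amb) (by rw [hGG]; exact two) k3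
  refine no_pair_rgdS R' S.sl (fun a ha => H'.lr a ha) (map_nocent f hf S.nocent) H'.tab F1 F2 hA c1 hgr c2 hgr'
    inf_le_left L (H'.perfect big') ?_ ?_ ht ht1 ht' ht1' hne (γ := γ) (k := k) (by rw [hGG]; exact hk) hg1 hg2 hg3
  · rw [hGG]; exact schreier f hf S.out
  · rw [hGG]; exact hC1

end

end Cfsg.Agent.OddHalf.DblR
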