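import Mathlib

/-!
# ODD, D4, (INPUT): the trace theorem, first half

`V₀ ≤ C(K)`, `V = ⟨V₀^n : n ∈ N⟩` abelian of exponent two, `P` a 2-subgroup of `K ∩ N` transitive on the
conjugates `V₀^n`, `n ∉ M`. If `V₀` lies in the product of these conjugates then `V₀ = 1`.
-/

set_option autoImplicit false

namespace Cfsg.Agent.OddHalf.DblR.Trace

open Subgroup
open scoped Pointwise commutatorElement

theorem eq_bot_of_le_commutator {Q : Type*} [Group Q] [Group.IsNilpotent Q] {T : Subgroup Q}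
    (h : T ≤ ⁅T, (⊤ : Subgroup Q)⁆) : T = ⊥ := by
  have h1 : ∀ n, T ≤ (⊤ : Subgroup Q).lowerCentralSeries n := by
    intro n
    induction n with
    | zero => exact le_top
    | succ n ih => exact h.trans (commutator_mono ih le_rfl)
  obtain ⟨n, hn⟩ := Subgroup.nilpotent_iff_lowerCentralSeries.1 (inferInstance : Group.IsNilpotent Q)
  rw [eq_bot_iff, ← hn]
  exact h1 n

/-- `T = [T, P]` for a `2`-group `P` acting on the `2`-group `T` forces `T = 1`. -/
theorem eq_bot_of_commutator {G : Type*} [Group G] [Finite G] {p : ℕ} [Fact p.Prime] {T P : Subgroup G}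
    (hT : IsPGroup p ↥T) (hP : IsPGroup p ↥P) (hn : P ≤ normalizer (T : Set G)) (h : T ≤ ⁅T, P⁆) : T = ⊥ := by
  have h1 : IsPGroup p ↥(T ⊔ P) := hT.to_sup_of_normal_left' hP hn
  have h2 : Group.IsNilpotent ↥(T ⊔ P) := h1.isNilpotent
  have h3 : T.subgroupOf (T ⊔ P) ≤ ⁅T.subgroupOf (T ⊔ P), (⊤ : Subgroup ↥(T ⊔ P))⁆ := by
    have h4 : ((T.subgroupOf (T ⊔ P)).map (T ⊔ P).subtype) = T := by
      rw [subgroupOf_map_subtype, inf_eq_left.mpr le_sup_left]
    have h5 : (⊤ : Subgroup ↥(T ⊔ P)).map (T ⊔ P).subtype = T ⊔ P := by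
      rw [← MonoidHom.range_eq_map, range_subtype]
    have h6 : (T.subgroupOf (T ⊔ P)).map (T ⊔ P).subtype ≤
        (⁅T.subgroupOf (T ⊔ P), (⊤ : Subgroup ↥(T ⊔ P))⁆).map (T ⊔ P).subtype := by
      rw [map_commutator, h4, h5]
      exact h.trans (commutator_mono le_rfl le_sup_right)
    exact (map_le_map_iff_of_injective (subtype_injective _)).mp h6
  have h7 := eq_bot_of_le_commutator h3
  rwa [subgroupOf_eq_bot, disjoint_iff, inf_eq_left.mpr le_sup_left] at h7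

variable {G : Type*} [Group G]

/-- the set of all conjugates of elements of `V₀` under `N` -/
def conjSet (N V₀ : Subgroup G) : Set G := {y | ∃ n ∈ N, ∃ x ∈ V₀, y = n * x * n⁻¹}

/-- the conjugates outside `M` -/
def conjOut (N M V₀ : Subgroup G) : Set G := {y | ∃ n ∈ N, n ∉ M ∧ ∃ x ∈ V₀, y = n * x * n⁻¹}

theorem false_of_trace [Finite G] {K M N V₀ P : Subgroup G}
    (hVK : ∀ x ∈ V₀, ∀ k ∈ K, x * k = k * x)
    (hKC : ∀ x ∈ K, (∀ k ∈ K, x * k = k * x) → x = 1)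
    (hKM : ∀ m ∈ M, ∀ k ∈ K, m * k * m⁻¹ ∈ K)
    (hV2 : ∀ x ∈ V₀, x * x = 1)
    (hVM : ∀ n ∈ N, ∀ x ∈ V₀, n * x * n⁻¹ ∈ M)
    (hVN : ∀ n ∈ N, n ∈ M → ∀ x ∈ V₀, n * x * n⁻¹ ∈ V₀)
    (hcomm : ∀ n ∈ N, ∀ x ∈ V₀, ∀ y ∈ V₀, x * (n * y * n⁻¹) = n * y * n⁻¹ * x)
    (hcap : ∀ n ∈ N, n ∉ M → ∀ x ∈ V₀, n * x * n⁻¹ ∈ V₀ → x = 1)
    (hP2 : IsPGroup 2 ↥P) (hPK : P ≤ K) (hPN : P ≤ N)
    (htrans : ∀ n₁ ∈ N, ∀ n₂ ∈ N, n₁ ∉ M → n₂ ∉ M → ∃ p ∈ P, n₂⁻¹ * (p * n₁) ∈ M)
    (hn : ∃ n ∈ N, n ∉ M)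
    (htr : ∀ v ∈ V₀, v ∈ closure (conjOut N M V₀)) : V₀ = ⊥ := by
  obtain ⟨n, hnN, hnM⟩ := hn
  set V : Subgroup G := closure (conjSet N V₀) with hVdef
  have hV₀V : V₀ ≤ V := fun x hx => subset_closure ⟨1, N.one_mem, x, hx, by group⟩
  have hcj : ∀ m ∈ N, ∀ v ∈ V, m * v * m⁻¹ ∈ V := by
    intro m hm v hv
    rw [hVdef] at hv ⊢
    induction hv using closure_induction with
    | mem x hx =>
      obtain ⟨a, ha, y, hy, rfl⟩ := hx
      exact subset_closure ⟨m * a, N.mul_mem hm ha, y, hy, by group⟩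
    | one => simp
    | mul x y _ _ hx hy =>
      have : m * (x * y) * m⁻¹ = m * x * m⁻¹ * (m * y * m⁻¹) := by group
      rw [this]; exact mul_mem hx hy
    | inv x _ hx =>
      have : m * x⁻¹ * m⁻¹ = (m * x * m⁻¹)⁻¹ := by group
      rw [this]; exact inv_mem hx
  -- `V` is abelian of exponent two, in `M`
  have hab0 : ∀ x ∈ conjSet N V₀, ∀ y ∈ conjSet N V₀, x * y = y * x := by
    rintro _ ⟨a, ha, x, hx, rfl⟩ _ ⟨b, hb, y, hy, rfl⟩
    have h1 := hcomm (a⁻¹ * b) (N.mul_mem (N.inv_mem ha) hb) x hx y hy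
    calc a * x * a⁻¹ * (b * y * b⁻¹) = a * (x * (a⁻¹ * b * y * (a⁻¹ * b)⁻¹)) * a⁻¹ := by group
      _ = a * (a⁻¹ * b * y * (a⁻¹ * b)⁻¹ * x) * a⁻¹ := by rw [h1]
      _ = b * y * b⁻¹ * (a * x * a⁻¹) := by group
  have hab : ∀ x ∈ V, ∀ y ∈ V, x * y = y * x := by
    intro x hx y hy
    have h1 : y ∈ centralizer (conjSet N V₀) := by
      have h2 : V ≤ centralizer (conjSet N V₀) := by
        rw [hVdef, closure_le]
        intro z hz
        rw [SetLike.mem_coe, mem_centralizer_iff]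
        intro w hw
        exact hab0 w hw z hz
      exact h2 hy
    have h3 : V ≤ centralizer ({y} : Set G) := by
      rw [hVdef, closure_le]
      intro z hz
      rw [SetLike.mem_coe, mem_centralizer_iff]
      intro w hw
      rw [Set.mem_singleton_iff.mp hw]
      exact (mem_centralizer_iff.mp h1 z hz).symm
    exact (mem_centralizer_iff.mp (h3 hx) y rfl).symm
  have hV2' : ∀ x ∈ V, x * x = 1 := by
    intro x hx
    have h1 : x * x = 1 ∧ x ∈ V := by
      rw [hVdef] at hx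
      induction hx using closure_induction with
      | mem x hx =>
        refine ⟨?_, subset_closure hx⟩
        obtain ⟨a, ha, y, hy, rfl⟩ := hx
        calc a * y * a⁻¹ * (a * y * a⁻¹) = a * (y * y) * a⁻¹ := by group
          _ = 1 := by rw [hV2 y hy]; group
      | one => exact ⟨by simp, one_mem _⟩
      | mul x y _ _ hx hy =>
        refine ⟨?_, mul_mem hx.2 hy.2⟩
        calc x * y * (x * y) = x * (y * x) * y := by group
          _ = x * (x * y) * y := by rw [hab y hy.2 x hx.2]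
          _ = (x * x) * (y * y) := by group
          _ = 1 := by rw [hx.1, hy.1, one_mul]
      | inv x _ hx =>
        refine ⟨?_, inv_mem hx.2⟩
        rw [← mul_inv_rev, hx.1, inv_one]
    exact h1.1
  have hVM' : V ≤ M := by
    rw [hVdef, closure_le]
    rintro _ ⟨a, ha, y, hy, rfl⟩
    exact hVM a ha y hy
  -- the commutator subgroup
  set W : Subgroup G := ⁅V, P⁆ with hWdef
  have hWV : W ≤ V := by
    rw [hWdef, commutator_le]
    intro v hv p hp
    have h1 : v * p * v⁻¹ * p⁻¹ = v * (p * v⁻¹ * p⁻¹) := by group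
    rw [commutatorElement_def, h1]
    exact V.mul_mem hv (hcj p (hPN hp) _ (V.inv_mem hv))
  have hWK : W ≤ K := by
    rw [hWdef, commutator_le]
    intro v hv p hp
    rw [commutatorElement_def]
    exact K.mul_mem (hKM v (hVM' hv) p (hPK hp)) (K.inv_mem (hPK hp))
  have hWV₀ : ∀ x ∈ V₀, x ∈ W → x = 1 := fun x hx hxW => hKC x (hWK hxW) (hVK x hx)
  -- all conjugates outside `M`
  have hout : closure (conjOut N M V₀) ≤ V₀.map (MulAut.conj n).toMonoidHom ⊔ W := by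
    rw [closure_le]
    rintro _ ⟨n₁, hn₁, hn₁M, x, hx, rfl⟩
    obtain ⟨p, hp, hpm⟩ := htrans n₁ hn₁ n hnN hn₁M hnM
    set m := n⁻¹ * (p * n₁) with hm
    have hmN : m ∈ N := N.mul_mem (N.inv_mem hnN) (N.mul_mem (hPN hp) hn₁)
    have hy : n * (m * x * m⁻¹) * n⁻¹ ∈ V := subset_closure ⟨n, hnN, _, hVN m hmN hpm x hx, rfl⟩
    set y := n * (m * x * m⁻¹) * n⁻¹ with hydef
    have h1 : n₁ * x * n₁⁻¹ = y * (y⁻¹ * p⁻¹ * y⁻¹⁻¹ * p⁻¹⁻¹) := by
      rw [hydef, hm]; group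
    rw [h1]
    apply mul_mem
    · apply mem_sup_left
      exact ⟨_, hVN m hmN hpm x hx, rfl⟩
    · apply mem_sup_right
      rw [hWdef]
      exact commutator_mem_commutator (V.inv_mem hy) (P.inv_mem hp)
  have hVle : V ≤ V₀.map (MulAut.conj n).toMonoidHom ⊔ W := by
    rw [hVdef, closure_le]
    rintro _ ⟨n₁, hn₁, x, hx, rfl⟩
    by_cases h1 : n₁ ∈ M
    · exact hout (htr _ (hVN n₁ hn₁ h1 x hx))
    · exact hout (subset_closure ⟨n₁, hn₁, h1, x, hx, rfl⟩)
  -- orders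
  have hcard1 : Nat.card ↥V ≤ Nat.card ↥V₀ * Nat.card ↥W := by
    have hmapV : V₀.map (MulAut.conj n).toMonoidHom ≤ V := by
      rintro _ ⟨x, hx, rfl⟩
      exact subset_closure ⟨n, hnN, x, hx, rfl⟩
    have h1 : ((V₀.map (MulAut.conj n).toMonoidHom ⊔ W : Subgroup G) : Set G) =
        (V₀.map (MulAut.conj n).toMonoidHom : Set G) * (W : Set G) := by
      apply coe_mul_of_left_le_normalizer_right
      intro x hx
      rw [mem_normalizer_iff]
      intro w
      constructor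
      · intro hw
        rw [hab x (hmapV hx) w (hWV hw)]
        simpa using hw
      · intro hw
        have h2 : x * w * x⁻¹ ∈ V := hWV hw
        have h3 := hab x⁻¹ (V.inv_mem (hmapV hx)) _ h2
        have h4 : w = x * w * x⁻¹ := by
          calc w = x⁻¹ * (x * w * x⁻¹) * x := by group
            _ = x * w * x⁻¹ * x⁻¹ * x := by rw [h3]
            _ = x * w * x⁻¹ := by group
        rw [h4]; exact hw
    have h2 : Nat.card ↥(V₀.map (MulAut.conj n).toMonoidHom ⊔ W : Subgroup G) ≤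
        Nat.card ↥(V₀.map (MulAut.conj n).toMonoidHom) * Nat.card ↥W := by
      have h3 : Nat.card ↥(V₀.map (MulAut.conj n).toMonoidHom ⊔ W : Subgroup G) =
          Nat.card (((V₀.map (MulAut.conj n).toMonoidHom : Subgroup G) : Set G) * (W : Set G) : Set G) := by
        rw [← h1]; rfl
      rw [h3]
      exact Set.natCard_mul_le
    refine (card_le_of_le hVle).trans (h2.trans ?_)
    rw [Nat.card_congr (V₀.equivMapOfInjective _ (MulAut.conj n).injective).symm.toEquiv]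
  have hcard2 : Nat.card ↥V₀ * Nat.card ↥W ≤ Nat.card ↥(V₀ ⊔ W : Subgroup G) := by
    have h1 : Function.Injective (fun z : ↥V₀ × ↥W => (⟨(z.1 : G) * z.2,
        mul_mem (mem_sup_left z.1.2) (mem_sup_right z.2.2)⟩ : ↥(V₀ ⊔ W : Subgroup G))) := by
      rintro ⟨x, w⟩ ⟨x', w'⟩ h
      have h2 : (x : G) * w = x' * w' := congrArg Subtype.val h
      have h3 : (x' : G)⁻¹ * x = w' * (w : G)⁻¹ := by
        calc (x' : G)⁻¹ * x = (x' : G)⁻¹ * (x * w) * (w : G)⁻¹ := by group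
          _ = (x' : G)⁻¹ * (x' * w') * (w : G)⁻¹ := by rw [h2]
          _ = w' * (w : G)⁻¹ := by group
      have h4 := hWV₀ _ (V₀.mul_mem (V₀.inv_mem x'.2) x.2) (by rw [h3]; exact W.mul_mem w'.2 (W.inv_mem w.2))
      have h5 : x = x' := Subtype.ext (inv_mul_eq_one.mp h4).symm
      subst h5
      have h6 : w = w' := Subtype.ext (mul_left_cancel h2)
      rw [h6]
    have h2 := Nat.card_le_card_of_injective _ h1
    rwa [Nat.card_prod] at h2
  have hVeq : V₀ ⊔ W = V :=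
    eq_of_le_of_card_ge (sup_le hV₀V hWV) (hcard1.trans hcard2)
  -- `W = [W, P]`
  have hWW : W ≤ ⁅W, P⁆ := by
    conv_lhs => rw [hWdef]
    rw [commutator_le]
    intro v hv p hp
    rw [← hVeq] at hv
    have h1 : v ∈ ((V₀ ⊔ W : Subgroup G) : Set G) := hv
    rw [coe_mul_of_left_le_normalizer_right V₀ W (by
      intro x hx
      rw [mem_normalizer_iff]
      intro w
      constructor
      · intro hw
        rw [hab x (hV₀V hx) w (hWV hw)]
        simpa using hw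
      · intro hw
        have h2 : x * w * x⁻¹ ∈ V := hWV hw
        have h3 := hab x⁻¹ (V.inv_mem (hV₀V hx)) _ h2
        have h4 : w = x * w * x⁻¹ := by
          calc w = x⁻¹ * (x * w * x⁻¹) * x := by group
            _ = x * w * x⁻¹ * x⁻¹ * x := by rw [h3]
            _ = x * w * x⁻¹ := by group
        rw [h4]; exact hw)] at h1
    obtain ⟨x, hx, w, hw, rfl⟩ := h1
    have h2 : x * p = p * x := hVK x hx p (hPK hp)
    have h3 : ⁅w, p⁆ ∈ ⁅W, P⁆ := commutator_mem_commutator hw hp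
    have h4 : ⁅w, p⁆ ∈ V := by
      rw [commutatorElement_def]
      have h1 : w * p * w⁻¹ * p⁻¹ = w * (p * w⁻¹ * p⁻¹) := by group
      rw [h1]
      exact V.mul_mem (hWV hw) (hcj p (hPN hp) _ (V.inv_mem (hWV hw)))
    have h5 : ⁅x * w, p⁆ = ⁅w, p⁆ := by
      have h6 : ⁅x * w, p⁆ = x * ⁅w, p⁆ * (p * x⁻¹ * p⁻¹) := by
        rw [commutatorElement_def, commutatorElement_def]; group
      have h7 : p * x⁻¹ * p⁻¹ = x⁻¹ := by
        have h8 : p * x⁻¹ = x⁻¹ * p := by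
          calc p * x⁻¹ = x⁻¹ * (x * p) * x⁻¹ := by group
            _ = x⁻¹ * (p * x) * x⁻¹ := by rw [h2]
            _ = x⁻¹ * p := by group
        rw [h8]; group
      rw [h6, h7, hab x (hV₀V hx) _ h4]
      group
    show ⁅x * w, p⁆ ∈ _
    rw [h5]; exact h3
  have hW2 : IsPGroup 2 ↥W := by
    intro w
    refine ⟨1, Subtype.ext ?_⟩
    show (w : G) ^ 2 ^ 1 = 1
    rw [pow_one, pow_two]
    exact hV2' _ (hWV w.2)
  have hPW : P ≤ normalizer (W : Set G) := by
    have h1 : ∀ p ∈ P, ∀ w ∈ W, p * w * p⁻¹ ∈ W := by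
      intro p hp w hw
      have h2 : ⁅w, p⁆ ∈ W := by
        rw [hWdef]
        exact commutator_mem_commutator (hWV hw) hp
      have h3 : p * w * p⁻¹ = (w⁻¹ * ⁅w, p⁆)⁻¹ := by
        rw [commutatorElement_def]; group
      rw [h3]
      exact W.inv_mem (W.mul_mem (W.inv_mem hw) h2)
    intro p hp
    rw [mem_normalizer_iff]
    intro w
    constructor
    · exact h1 p hp w
    · intro hw
      have h2 := h1 p⁻¹ (P.inv_mem hp) _ hw
      have h3 : p⁻¹ * (p * w * p⁻¹) * p⁻¹⁻¹ = w := by group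
      rwa [h3] at h2
  have hW : W = ⊥ := eq_bot_of_commutator hW2 hP2 hPW hWW
  rw [hW, sup_bot_eq] at hVeq
  rw [eq_bot_iff_forall]
  intro x hx
  apply hcap n hnN hnM x hx
  rw [hVeq]
  exact subset_closure ⟨n, hnN, x, hx, rfl⟩

end Cfsg.Agent.OddHalf.DblR.Trace
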