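import Mathlib
import Cfsg.Agent.StrongEmb.Split
import Cfsg.Agent.StrongEmb.Consequences
import Cfsg.Agent.TwoFusion.TransferIndex
import Cfsg.Agent.OddHalf.DblR.Trace

/-!
# ODD, D4, (INPUT): the trace theorem, second half

`H` strongly embedded in `X`, `K' ≤ M'` normal in `H`, `H/M'` a 2-group, `M'/K'` odd modulo `O(X)`: a 2-subgroup
of `K'` is transitive on the cosets `≠ H` (from Bender's theorem).
-/

set_option autoImplicit false

namespace Cfsg.Agent.OddHalf.DblR.TraceB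

open Cfsg Subgroup Cfsg.Agent.TwoFusion.StronglyEmbeddedBasic
open Cfsg.Agent.StrongEmb.Basic Cfsg.Agent.StrongEmb.TwoRank Cfsg.Agent.StrongEmb.Split
open Cfsg.Agent.StrongEmb.Consequences
open Cfsg.Agent.SuzukiRankOne.Reduction (invClosure mem_invClosure invClosure_normal)
open scoped commutatorElement

universe u

/-- a Sylow 2-subgroup containing an involution of `B` lies in `B` -/
theorem sylow_le {L : Type*} [Group L] [Finite L] {B : Subgroup L} (hB : IsStronglyEmbedded B) (S : Sylow 2 L)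
    {t : L} (ht : t ∈ B) (ht2 : orderOf t = 2) (htS : t ∈ S) : (S : Subgroup L) ≤ B := by
  have hp : Fact (Nat.Prime 2) := ⟨Nat.prime_two⟩
  have hnt : Nontrivial ↥(S : Subgroup L) := ⟨⟨⟨t, htS⟩, 1, fun h => by
    have h1 : t = 1 := congrArg Subtype.val h
    rw [h1, orderOf_one] at ht2; exact absurd ht2 (by norm_num)⟩⟩
  have hZ : Nontrivial (center ↥(S : Subgroup L)) := S.2.center_nontrivial
  have h2 : IsPGroup 2 ↥(center ↥(S : Subgroup L)) := S.2.to_subgroup _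
  obtain ⟨z, hz⟩ : ∃ z : center ↥(S : Subgroup L), orderOf z = 2 := by
    apply exists_prime_orderOf_dvd_card'
    rcases h2.card_eq_or_dvd with h | h
    · exact absurd h Finite.one_lt_card.ne'
    · exact h
  have hz2 : orderOf ((z : ↥(S : Subgroup L)) : L) = 2 := by
    rw [Subgroup.orderOf_coe, Subgroup.orderOf_coe, hz]
  have hzc : ∀ s ∈ (S : Subgroup L), Commute s ((z : ↥(S : Subgroup L)) : L) := fun s hs =>
    congrArg Subtype.val (mem_center_iff.mp z.2 ⟨s, hs⟩)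
  have hzB : ((z : ↥(S : Subgroup L)) : L) ∈ B := mem_of_commute hB ht ht2 (hzc t htS).symm
  intro s hs
  exact mem_of_commute hB hzB hz2 (hzc s hs)

/-- the focal subgroup theorem: a strongly embedded subgroup of a simple group has its Sylow 2-subgroups in the
commutator subgroup -/
theorem sylow_le_commutator {L : Type*} [Group L] [Finite L] [IsSimpleGroup L] {B : Subgroup L}
    (hB : IsStronglyEmbedded B) (S : Sylow 2 L) (hS : (S : Subgroup L) ≤ B) : (S : Subgroup L) ≤ ⁅B, B⁆ := by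
  have hp : Fact (Nat.Prime 2) := ⟨Nat.prime_two⟩
  obtain ⟨N, hN, hidx, hinf⟩ := Cfsg.Agent.TwoFusion.TransferIndex.exists_normal_of_fusion S
    ((S : Subgroup L) ⊓ ⁅B, B⁆) inf_le_left (by
      intro s hs g hg
      refine mem_inf.mpr ⟨mul_mem (inv_mem hs) hg, ?_⟩
      by_cases hs1 : s = 1
      · rw [hs1]; simp
      · have hgB : g ∈ B := by
          obtain ⟨k, hk⟩ := IsPGroup.iff_orderOf.mp S.2 ⟨s, hs⟩
          rw [Subgroup.orderOf_mk] at hk
          have hk0 : k ≠ 0 := by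
            rintro rfl
            exact hs1 (orderOf_eq_one_iff.mp (by simpa using hk))
          obtain ⟨k, rfl⟩ := Nat.exists_eq_succ_of_ne_zero hk0
          have h1 : orderOf (s ^ 2 ^ k) = 2 := by
            rw [orderOf_pow' _ (by positivity), hk, Nat.succ_eq_add_one, pow_succ,
              Nat.gcd_eq_right (Dvd.intro _ rfl)]
            exact Nat.mul_div_cancel_left 2 (by positivity)
          refine mem_of_conj_mem hB (pow_mem (hS hs) _) h1 ?_
          rw [← conj_pow]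
          exact pow_mem (hS hg) _
        have h2 : s⁻¹ * (g * s * g⁻¹) = ⁅s⁻¹, g⁆ := by
          rw [commutatorElement_def]; group
        rw [h2]
        exact commutator_mem_commutator (B.inv_mem (hS hs)) hgB)
  rcases hN.eq_bot_or_eq_top with h | h
  · exfalso
    rw [h] at hidx
    have h1 : Nat.card L ∣ Nat.card ↥(S : Subgroup L) := by
      rw [← Subgroup.index_bot, hidx]
      exact Subgroup.relIndex_dvd_card _ _
    have h2 : (S : Subgroup L) = ⊤ := by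
      apply Subgroup.eq_top_of_le_card
      exact Nat.le_of_dvd Nat.card_pos h1
    rw [h2] at hS
    exact hB.1 (top_le_iff.mp hS)
  · rw [h, top_inf_eq] at hinf
    rw [hinf]
    exact inf_le_right

/-- a quotient of `B` which is a 2-group is trivial -/
theorem le_of_two_quotient {L : Type*} [Group L] [Finite L] [IsSimpleGroup L] {B M₁ : Subgroup L}
    (hB : IsStronglyEmbedded B) (hM : ∀ b ∈ B, ∀ m ∈ M₁, b * m * b⁻¹ ∈ M₁)
    (h2 : ∀ b ∈ B, ∃ k : ℕ, b ^ 2 ^ k ∈ M₁) : B ≤ M₁ := by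
  have hp : Fact (Nat.Prime 2) := ⟨Nat.prime_two⟩
  obtain ⟨t, ht, ht2⟩ := exists_involution hB
  have htp : IsPGroup 2 ↥(zpowers t) := IsPGroup.of_card (n := 1) (by rw [Nat.card_zpowers, ht2, pow_one])
  obtain ⟨S, hS⟩ := htp.exists_le_sylow
  have hSB : (S : Subgroup L) ≤ B := sylow_le hB S ht ht2 (hS (mem_zpowers t))
  have hSc := sylow_le_commutator hB S hSB
  have hN : (M₁.subgroupOf B).Normal := ⟨fun m hm b => by
    rw [mem_subgroupOf] at hm ⊢
    exact hM b b.2 m hm⟩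
  set π := QuotientGroup.mk' (M₁.subgroupOf B) with hπ
  have hY : IsPGroup 2 (↥B ⧸ M₁.subgroupOf B) := by
    intro y
    obtain ⟨b, rfl⟩ := QuotientGroup.mk'_surjective _ y
    obtain ⟨k, hk⟩ := h2 b b.2
    refine ⟨k, ?_⟩
    rw [← map_pow, ← MonoidHom.mem_ker, QuotientGroup.ker_mk', mem_subgroupOf]
    exact hk
  have hnil : Group.IsNilpotent (↥B ⧸ M₁.subgroupOf B) := hY.isNilpotent
  -- the image of `S` is everything
  let T : Subgroup ↥B := (S : Subgroup L).subgroupOf B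
  have hTidx : ¬ 2 ∣ T.index := by
    intro h
    apply S.not_dvd_index
    have h1 := Subgroup.relIndex_mul_index hSB
    rw [← h1]
    exact Dvd.dvd.mul_right h _
  have hTtop : T.map π = ⊤ := by
    have h1 : (T.map π).index ∣ T.index :=
      Subgroup.index_map_dvd _ (QuotientGroup.mk'_surjective _)
    have h3 : ¬ 2 ∣ (T.map π).index := fun h => hTidx (h.trans h1)
    have h4 : (T.map π).index ∣ Nat.card (↥B ⧸ M₁.subgroupOf B) := Subgroup.index_dvd_card _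
    obtain ⟨n, hn⟩ := IsPGroup.iff_card.mp hY
    rw [hn] at h4
    obtain ⟨k, -, hk⟩ := (Nat.dvd_prime_pow Nat.prime_two).mp h4
    have hk0 : k = 0 := by
      by_contra hk0
      apply h3
      rw [hk]
      exact dvd_pow_self 2 hk0
    rw [hk0, pow_zero] at hk
    exact Subgroup.index_eq_one.mp hk
  have hTc : T ≤ ⁅(⊤ : Subgroup ↥B), (⊤ : Subgroup ↥B)⁆ := by
    have h5 : (⊤ : Subgroup ↥B).map B.subtype = B := by
      rw [← MonoidHom.range_eq_map, range_subtype]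
    have h6 : T.map B.subtype ≤ (⁅(⊤ : Subgroup ↥B), (⊤ : Subgroup ↥B)⁆).map B.subtype := by
      rw [map_commutator, h5, subgroupOf_map_subtype, inf_eq_left.mpr hSB]
      exact hSc
    exact (map_le_map_iff_of_injective (subtype_injective _)).mp h6
  have htop : (⊤ : Subgroup (↥B ⧸ M₁.subgroupOf B)) ≤
      ⁅(⊤ : Subgroup (↥B ⧸ M₁.subgroupOf B)), (⊤ : Subgroup (↥B ⧸ M₁.subgroupOf B))⁆ := by
    have h1 := map_mono (f := π) hTc
    rw [hTtop, map_commutator, Subgroup.map_top_of_surjective π (QuotientGroup.mk'_surjective _)] at h1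
    exact h1
  have hbot := Cfsg.Agent.OddHalf.DblR.Trace.eq_bot_of_le_commutator htop
  intro b hb
  have h1 : π ⟨b, hb⟩ ∈ (⊤ : Subgroup (↥B ⧸ M₁.subgroupOf B)) := mem_top _
  rw [hbot, mem_bot, ← MonoidHom.mem_ker, hπ, QuotientGroup.ker_mk', mem_subgroupOf] at h1
  exact h1

/-- **transitive 2-subgroup, `O(X) = 1`** -/
theorem exists_trans_core_free {X : Type u} [Group X] [Finite X] {H K' M' : Subgroup X} (hO : oddCore X = ⊥)
    (hH : IsStronglyEmbedded H) (hr : CommPair X) (hBen : BenderHolds ↥(invClosure X))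
    (hMn : ∀ h ∈ H, ∀ m ∈ M', h * m * h⁻¹ ∈ M') (hM2 : ∀ h ∈ H, ∃ k : ℕ, h ^ 2 ^ k ∈ M')
    (hMK : ∀ m ∈ M', (∃ k : ℕ, m ^ 2 ^ k = 1) → m ∈ K') :
    ∃ P : Subgroup X, P ≤ K' ∧ IsPGroup 2 ↥P ∧
      ∀ g₁ g₂ : X, g₁ ∉ H → g₂ ∉ H → ∃ u ∈ P, g₂⁻¹ * (u * g₁) ∈ H := by
  have hsim := isSimpleGroup_invClosure hH hO
  have hB := stronglyEmbedded_invClosure hH
  have hrL := commPair_invClosure hr
  obtain ⟨Q, hQ, hQ2⟩ := hBen _ hB hrL (normalCore_eq_bot_of_simple hB.1)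
  have hle : H.subgroupOf (invClosure X) ≤ M'.subgroupOf (invClosure X) := by
    apply le_of_two_quotient hB
    · intro b hb m hm
      rw [mem_subgroupOf] at hb hm ⊢
      exact hMn b hb m hm
    · intro b hb
      rw [mem_subgroupOf] at hb
      obtain ⟨k, hk⟩ := hM2 b hb
      exact ⟨k, mem_subgroupOf.mpr hk⟩
  refine ⟨Q.map (invClosure X).subtype, ?_, hQ2.map _, ?_⟩
  · rintro _ ⟨x, hx, rfl⟩
    apply hMK
    · exact mem_subgroupOf.mp (hle (hQ.le hx))
    · obtain ⟨k, hk⟩ := hQ2 ⟨x, hx⟩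
      refine ⟨k, ?_⟩
      have h1 : x ^ 2 ^ k = 1 := congrArg Subtype.val hk
      have h2 := congrArg (fun z : ↥(invClosure X) => (z : X)) h1
      simpa using h2
  · intro g₁ g₂ h₁ h₂
    obtain ⟨n₁, hn₁, hn₁g⟩ := exists_invClosure_mul hH g₁
    obtain ⟨n₂, hn₂, hn₂g⟩ := exists_invClosure_mul hH g₂
    have e₁ : (⟨n₁, hn₁⟩ : invClosure X) ∉ H.subgroupOf (invClosure X) := by
      intro hc
      have hc' : n₁ ∈ H := hc
      apply h₁
      have := mul_mem hc' hn₁g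
      simpa using this
    have e₂ : (⟨n₂, hn₂⟩ : invClosure X) ∉ H.subgroupOf (invClosure X) := by
      intro hc
      have hc' : n₂ ∈ H := hc
      apply h₂
      have := mul_mem hc' hn₂g
      simpa using this
    obtain ⟨u, hu, hu2⟩ := hQ.trans _ _ e₁ e₂
    refine ⟨u, ⟨u, hu, rfl⟩, ?_⟩
    have h3 : n₂⁻¹ * ((u : X) * n₁) ∈ H := hu2
    have h4 : g₂⁻¹ * ((u : X) * g₁) = (n₂⁻¹ * g₂)⁻¹ * (n₂⁻¹ * ((u : X) * n₁)) * (n₁⁻¹ * g₁) := by
      group
    rw [h4]
    exact mul_mem (mul_mem (inv_mem hn₂g) h3) hn₁g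

/-- a 2-subgroup of the image of `R` is the image of a 2-subgroup of `R` -/
theorem exists_two_lift {X Y : Type*} [Group X] [Finite X] [Group Y] (f : X →* Y) {R : Subgroup X} {P : Subgroup Y}
    (hP : IsPGroup 2 ↥P) (hPR : P ≤ R.map f) :
    ∃ Q : Subgroup X, Q ≤ R ∧ IsPGroup 2 ↥Q ∧ ∀ u ∈ P, ∃ q ∈ Q, f q = u := by
  have hp : Fact (Nat.Prime 2) := ⟨Nat.prime_two⟩
  let R₁ : Subgroup X := R ⊓ P.comap f
  let φ : ↥R₁ →* ↥P := (f.comp R₁.subtype).codRestrict P (fun x => x.2.2)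
  have hφ : Function.Surjective φ := by
    rintro ⟨u, hu⟩
    obtain ⟨x, hx, rfl⟩ := hPR hu
    exact ⟨⟨x, hx, hu⟩, Subtype.ext rfl⟩
  obtain ⟨Q⟩ : Nonempty (Sylow 2 ↥R₁) := inferInstance
  have hfin : Finite ↥P := Finite.of_surjective φ hφ
  have hQtop : ((Q.mapSurjective hφ : Sylow 2 ↥P) : Subgroup ↥P) = ⊤ := by
    have h1 : IsPGroup 2 ↥(⊤ : Subgroup ↥P) := hP.to_subgroup _
    exact ((Q.mapSurjective hφ).3 h1 le_top).symm
  refine ⟨(Q : Subgroup ↥R₁).map R₁.subtype, ?_, Q.2.map _, ?_⟩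
  · exact (map_subtype_le _).trans inf_le_left
  · intro u hu
    have h1 : (⟨u, hu⟩ : ↥P) ∈ ((Q.mapSurjective hφ : Sylow 2 ↥P) : Subgroup ↥P) := by
      rw [hQtop]; exact mem_top _
    rw [Sylow.coe_mapSurjective] at h1
    obtain ⟨q, hq, hqu⟩ := h1
    exact ⟨q, ⟨q, hq, rfl⟩, congrArg Subtype.val hqu⟩

/-- **transitive 2-subgroup** -/
theorem exists_trans {X : Type u} [Group X] [Finite X] {H K' M' : Subgroup X}
    (hH : IsStronglyEmbedded H) (hr : CommPair X)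
    (hBen : BenderHolds ↥(invClosure (X ⧸ oddCore X)))
    (hMn : ∀ h ∈ H, ∀ m ∈ M', h * m * h⁻¹ ∈ M') (hM2 : ∀ h ∈ H, ∃ k : ℕ, h ^ 2 ^ k ∈ M')
    (hMK : ∀ m ∈ M', ∃ n : ℕ, Odd n ∧ m ^ n ∈ K' ⊔ oddCore X) :
    ∃ P : Subgroup X, P ≤ K' ∧ IsPGroup 2 ↥P ∧
      ∀ g₁ g₂ : X, g₁ ∉ H → g₂ ∉ H → ∃ u ∈ P, g₂⁻¹ * (u * g₁) ∈ H := by
  obtain ⟨hH', hr', -⟩ := quotient_data hH hr
  set π := QuotientGroup.mk' (oddCore X) with hπ
  have hKmap : (K' ⊔ oddCore X).map π = K'.map π := by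
    rw [Subgroup.map_sup]
    have h1 : (oddCore X).map π = ⊥ := by
      rw [Subgroup.map_eq_bot_iff, hπ, QuotientGroup.ker_mk']
    rw [h1, sup_bot_eq]
  obtain ⟨P', hP'K, hP'2, hP't⟩ := exists_trans_core_free (K' := K'.map π) (M' := M'.map π)
    (oddCore_quotient_eq_bot X) hH' hr' hBen (by
      rintro _ ⟨h, hh, rfl⟩ _ ⟨m, hm, rfl⟩
      exact ⟨h * m * h⁻¹, hMn h hh m hm, by simp⟩) (by
      rintro _ ⟨h, hh, rfl⟩
      obtain ⟨k, hk⟩ := hM2 h hh
      exact ⟨k, h ^ 2 ^ k, hk, by simp⟩) (by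
      rintro _ ⟨m, hm, rfl⟩ ⟨k, hk⟩
      obtain ⟨n, hn, hmn⟩ := hMK m hm
      have h1 : π m ^ n ∈ K'.map π := by
        rw [← hKmap, ← map_pow]
        exact ⟨_, hmn, rfl⟩
      -- `m` is a power of `m ^ n`
      have h2 : Nat.Coprime n (2 ^ k) := Nat.Coprime.pow_right k (Nat.coprime_two_right.mpr hn)
      have h3 : Nat.Coprime (orderOf (π m)) n :=
        (h2.symm).coprime_dvd_left (orderOf_dvd_of_pow_eq_one hk)
      have h4 := exists_pow_eq_self_of_coprime (x := π m) (n := n) h3.symm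
      obtain ⟨j, hj⟩ := h4
      rw [← hj]
      exact pow_mem h1 j)
  obtain ⟨P, hPK, hP2, hPu⟩ := exists_two_lift π hP'2 hP'K
  refine ⟨P, hPK, hP2, ?_⟩
  intro g₁ g₂ h₁ h₂
  have hiff := mk_mem_map_iff (oddCore_le hH hr)
  obtain ⟨u, hu, hut⟩ := hP't (π g₁) (π g₂) (fun h => h₁ ((hiff g₁).mp h)) (fun h => h₂ ((hiff g₂).mp h))
  obtain ⟨p, hp, rfl⟩ := hPu u hu
  refine ⟨p, hp, (hiff _).mp ?_⟩
  rw [← hπ, map_mul, map_mul, map_inv]
  exact hut

end Cfsg.Agent.OddHalf.DblR.TraceB
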