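import Mathlib
import Cfsg.Agent.OddHalf.D4.FullPair
import Cfsg.Agent.OddHalf.DblR.TraceB

/-!
# ODD, D4, (INPUT): the trace theorem

`maxE_false`: `K` tight, `E` maximal with `N(E) ≰ N(K)`, `E` containing a Sylow 2-subgroup of `C(K)`, `Out(K)`
2-nilpotent. If every element of `V₀ = Ω₁(Z(E)) ∩ C(K)` is a product of elements of the other conjugates of `V₀`
under `N(E)` we have a contradiction. `maxE_false_of_four`: this is the case if four-group traces vanish.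
-/

set_option autoImplicit false

namespace Cfsg.Agent.OddHalf.DblR.TraceC

open Cfsg Subgroup Cfsg.Agent.OddHalf.D4 Cfsg.Agent.OddHalf.D4.Basic
open Cfsg.Agent.OddHalf.D4.CommConj (Tight MaxE cj mem_cj mem_cj_mul exists_central_involution)
open Cfsg.Agent.StrongEmb.TwoRank Cfsg.Agent.StrongEmb.Split
open Cfsg.Agent.SuzukiRankOne.Reduction (invClosure)
open Cfsg.Agent.OddHalf.DblR.Trace Cfsg.Agent.OddHalf.DblR.TraceB

universe u

variable {G : Type u} [Group G]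

/-- `Ω₁(Z(E)) ∩ C` -/
def omegaZ (E C : Subgroup G) : Subgroup G where
  carrier := {v | v ∈ E ∧ v ∈ C ∧ v * v = 1 ∧ ∀ e ∈ E, e * v = v * e}
  one_mem' := ⟨E.one_mem, C.one_mem, by simp, fun e _ => by simp⟩
  mul_mem' := by
    rintro a b ⟨ha, haC, ha2, hac⟩ ⟨hb, hbC, hb2, hbc⟩
    refine ⟨E.mul_mem ha hb, C.mul_mem haC hbC, ?_, ?_⟩
    · calc a * b * (a * b) = a * (b * a) * b := by group
        _ = a * (a * b) * b := by rw [hac b hb]
        _ = (a * a) * (b * b) := by group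
        _ = 1 := by rw [ha2, hb2, one_mul]
    · intro e he
      calc e * (a * b) = (e * a) * b := by group
        _ = a * (e * b) := by rw [hac e he]; group
        _ = a * b * e := by rw [hbc e he]; group
  inv_mem' := by
    rintro a ⟨ha, haC, ha2, hac⟩
    have h1 : a⁻¹ = a := inv_eq_of_mul_eq_one_right ha2
    rw [Set.mem_setOf_eq, h1]
    exact ⟨ha, haC, ha2, hac⟩

theorem mem_omegaZ {E C : Subgroup G} {v : G} :
    v ∈ omegaZ E C ↔ v ∈ E ∧ v ∈ C ∧ v * v = 1 ∧ ∀ e ∈ E, e * v = v * e := Iff.rfl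

/-- a 2-element of `C` normalizing the Sylow subgroup `Q` of `C` lies in `Q` -/
theorem mem_of_syl [Finite G] {C Q : Subgroup G} (hQ : IsSyl Q C) {c : G} (hc : c ∈ C) (hc2 : ∃ k : ℕ, c ^ 2 ^ k = 1)
    (hn : ∀ q ∈ Q, c * q * c⁻¹ ∈ Q) : c ∈ Q := by
  have h1 : IsPGroup 2 ↥(zpowers c) := by
    obtain ⟨k, hk⟩ := hc2
    rw [IsPGroup.iff_card]
    obtain ⟨m, -, hm⟩ := (Nat.dvd_prime_pow Nat.prime_two).mp (orderOf_dvd_of_pow_eq_one hk)
    exact ⟨m, by rw [Nat.card_zpowers, hm]⟩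
  have h2 : zpowers c ≤ normalizer (Q : Set G) := by
    rw [zpowers_le]
    exact mem_normalizer_fintype hn
  exact hQ.max _ (hQ.two.to_sup_of_normal_left' h1 h2) le_sup_left (sup_le hQ.le (by rwa [zpowers_le]))
    (mem_sup_right (mem_zpowers c))

section Main

variable [Finite G] {K E Q : Subgroup G}

/-- `E ∩ C(K) = Q` -/
theorem inf_eq (hQ : IsSyl Q (centralizer (K : Set G))) (hQE : Q ≤ E) (h2 : IsPGroup 2 ↥E) :
    E ⊓ centralizer (K : Set G) = Q := by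
  apply le_antisymm
  · exact hQ.max _ (h2.to_le inf_le_left) (le_inf hQE hQ.le) inf_le_right
  · exact le_inf hQE hQ.le

/-- the components of an element of `KC(K)` normalizing `E` normalize `E` -/
theorem comp_mem (ht : TightAt K) (hcen : ∀ x ∈ K, x ∈ centralizer (K : Set G) → x = 1)
    (h2 : IsPGroup 2 ↥E) (hEM : E ≤ normalizer (K : Set G)) (hQ : IsSyl Q (centralizer (K : Set G)))
    (hQE : Q ≤ E) {k c : G} (hk : k ∈ K) (hc : c ∈ centralizer (K : Set G))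
    (hx : k * c ∈ normalizer (E : Set G)) : c ∈ normalizer (E : Set G) ∧ k ∈ normalizer (E : Set G) := by
  have hEC := inf_eq hQ hQE h2
  have hcomm : ∀ k ∈ K, ∀ c ∈ centralizer (K : Set G), k * c = c * k :=
    fun k hk c hc => mem_centralizer_iff.mp hc k hk
  have hcE : c ∈ normalizer (E : Set G) := by
    apply mem_normalizer_fintype
    intro e he
    have hc' : c * e * c⁻¹ * e⁻¹ ∈ centralizer (K : Set G) := by
      have h1 : c * e * c⁻¹ * e⁻¹ = c * (e * c⁻¹ * e⁻¹) := by group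
      rw [h1]
      exact mul_mem hc (ht.norm e (hEM he) _ (inv_mem hc))
    have hk' : k * e * k⁻¹ * e⁻¹ ∈ K := by
      have h1 : k * e * k⁻¹ * e⁻¹ = k * (e * k⁻¹ * e⁻¹) := by group
      rw [h1]
      exact mul_mem hk ((mem_normalizer_iff.mp (hEM he) _).mp (inv_mem hk))
    set c' := c * e * c⁻¹ * e⁻¹ with hc'def
    set k' := k * e * k⁻¹ * e⁻¹ with hk'def
    have hy : c' * k' ∈ E := by
      have h1 : k * c * e * (k * c)⁻¹ ∈ E := (mem_normalizer_iff.mp hx e).mp he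
      have h3 : k * c * e * (k * c)⁻¹ * e⁻¹ = k * c' * k⁻¹ * k' := by
        rw [hc'def, hk'def]; group
      have h4 : k * c' * k⁻¹ = c' := by rw [hcomm k hk c' hc']; group
      rw [h4] at h3
      rw [← h3]
      exact mul_mem h1 (inv_mem he)
    -- `c'` is a 2-element
    have hkc : Commute c' k' := (hcomm k' hk' c' hc').symm
    obtain ⟨j, hj⟩ := h2 ⟨_, hy⟩
    have hj' : (c' * k') ^ 2 ^ j = 1 := congrArg Subtype.val hj
    have hc2 : c' ^ 2 ^ j = 1 := by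
      rw [hkc.mul_pow] at hj'
      have h3 : c' ^ 2 ^ j = (k' ^ 2 ^ j)⁻¹ := eq_inv_of_mul_eq_one_left hj'
      apply hcen
      · rw [h3]; exact inv_mem (pow_mem hk' _)
      · exact pow_mem hc' _
    have h5 : c' ∈ Q := by
      apply mem_of_syl hQ hc' ⟨j, hc2⟩
      intro q hq
      have h6 : c' * q * c'⁻¹ = c' * k' * q * (c' * k')⁻¹ := by
        have h7 : k' * q = q * k' := hcomm k' hk' q (hQ.le hq)
        calc c' * q * c'⁻¹ = c' * (q * k') * k'⁻¹ * c'⁻¹ := by group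
          _ = c' * (k' * q) * k'⁻¹ * c'⁻¹ := by rw [h7]
          _ = c' * k' * q * (c' * k')⁻¹ := by group
      rw [← hEC]
      refine mem_inf.mpr ⟨?_, mul_mem (mul_mem hc' (hQ.le hq)) (inv_mem hc')⟩
      rw [h6]
      exact mul_mem (mul_mem hy (hQE hq)) (inv_mem hy)
    have h8 : c * e * c⁻¹ = c' * e := by rw [hc'def]; group
    rw [h8]
    exact mul_mem (hQE h5) he
  refine ⟨hcE, ?_⟩
  have h1 : k = k * c * c⁻¹ := by group
  rw [h1]
  exact mul_mem hx (inv_mem hcE)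

variable (E) in
/-- the quotient `N(E)/E` -/
abbrev NQ : Type u := ↥(normalizer (E : Set G)) ⧸ E.subgroupOf (normalizer (E : Set G))

variable (E) in
/-- the projection -/
abbrev pr : ↥(normalizer (E : Set G)) →* NQ E := QuotientGroup.mk' _

variable (E) in
/-- the image of a subgroup -/
def im (A : Subgroup G) : Subgroup (NQ E) := (A.subgroupOf (normalizer (E : Set G))).map (pr E)

theorem pr_eq_one {x : ↥(normalizer (E : Set G))} : pr E x = 1 ↔ (x : G) ∈ E := by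
  rw [← MonoidHom.mem_ker, QuotientGroup.ker_mk', mem_subgroupOf]

theorem pr_mem_im {A : Subgroup G} (hEA : E ≤ A) {x : ↥(normalizer (E : Set G))} :
    pr E x ∈ im E A ↔ (x : G) ∈ A := by
  constructor
  · rintro ⟨y, hy, hyx⟩
    have h1 : pr E (y⁻¹ * x) = 1 := by rw [map_mul, map_inv, hyx, inv_mul_cancel]
    rw [pr_eq_one] at h1
    have h2 : (y : G)⁻¹ * x ∈ A := hEA h1
    have h3 := mul_mem (mem_subgroupOf.mp hy) h2
    simpa using h3
  · intro h
    exact ⟨x, mem_subgroupOf.mpr h, rfl⟩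

/-- `N_M(E)/E` is strongly embedded -/
theorem stronglyEmbedded {C M : Subgroup G} (hE : MaxE C M E) (hev : ∃ a ∈ normalizer (E : Set G), a ∈ M ∧ a ∉ E ∧ a * a ∈ E) :
    IsStronglyEmbedded (im E M) := by
  refine ⟨?_, ?_, ?_⟩
  · intro htop
    obtain ⟨a, ha, haM⟩ := hE.exists_norm
    have h1 : pr E ⟨a, ha⟩ ∈ im E M := by rw [htop]; exact mem_top _
    exact haM ((pr_mem_im hE.le).mp h1)
  · obtain ⟨a, ha, haM, haE, ha2⟩ := hev
    refine even_of_mem (u := pr E ⟨a, ha⟩) ?_ ((pr_mem_im hE.le).mpr haM)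
    refine orderOf_eq_prime ?_ ?_
    · rw [← map_pow, pr_eq_one]
      show a ^ 2 ∈ E
      rw [pow_two]; exact ha2
    · intro h
      exact haE (pr_eq_one.mp h)
  · intro g hg
    obtain ⟨a, rfl⟩ := QuotientGroup.mk'_surjective _ g
    apply odd_of_forall
    rintro u hu hu2
    obtain ⟨y, rfl⟩ := QuotientGroup.mk'_surjective _ u
    rw [mem_inf] at hu
    have hyM : (y : G) ∈ M := (pr_mem_im hE.le).mp hu.1
    have hy2 : (y : G) * y ∈ E := by
      have h1 : pr E (y * y) = 1 := by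
        rw [map_mul, ← pow_two, ← hu2]
        exact pow_orderOf_eq_one _
      exact pr_eq_one.mp h1
    have haM : (a : G) ∉ M := fun h => hg ((pr_mem_im hE.le).mpr h)
    have hya : (a : G)⁻¹ * y * a ∈ M := by
      obtain ⟨z, hz, hzu⟩ := hu.2
      have h1 : z = pr E (a⁻¹ * y * a) := by
        rw [map_mul, map_mul, map_inv]
        have h2 : (MulAut.conj (pr E a)).toMonoidHom z = pr E y := hzu
        rw [← h2]
        simp [mul_assoc]
      rw [h1] at hz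
      exact (pr_mem_im hE.le).mp hz
    have h3 := hE.mem_of_conj a.2 haM y.2 hyM (hE.sq_isPElt hy2) hya
    rw [pr_eq_one.mpr h3, orderOf_one] at hu2
    exact absurd hu2 (by norm_num)

/-- **the trace theorem** -/
theorem maxE_false (hBen : ∀ (Y : Type u) [Group Y] [Finite Y], BenderHolds Y)
    (ht : TightAt K) (hcen : ∀ x ∈ K, x ∈ centralizer (K : Set G) → x = 1)
    (hE : MaxE (centralizer (K : Set G)) (normalizer (K : Set G)) E)
    (hQ : IsSyl Q (centralizer (K : Set G))) (hQE : Q ≤ E)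
    {M₀ : Subgroup G} (hM₀n : ∀ m ∈ normalizer (K : Set G), ∀ x ∈ M₀, m * x * m⁻¹ ∈ M₀)
    (hM₀2 : ∀ m ∈ normalizer (K : Set G), ∃ k : ℕ, m ^ 2 ^ k ∈ M₀)
    (hM₀o : ∀ m ∈ M₀, ∃ n : ℕ, Odd n ∧ ∃ k ∈ K, ∃ c ∈ centralizer (K : Set G), m ^ n = k * c)
    (hrk : ∃ a ∈ normalizer (E : Set G), ∃ b ∈ normalizer (E : Set G), a ∈ normalizer (K : Set G) ∧
      a * a ∈ E ∧ b * b ∈ E ∧ a * b * a⁻¹ * b⁻¹ ∈ E ∧ a ∉ E ∧ b ∉ E ∧ a * b⁻¹ ∉ E)
    (htr : ∀ v ∈ omegaZ E (centralizer (K : Set G)), v ∈ closure (conjOut (normalizer (E : Set G))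
      (normalizer (K : Set G)) (omegaZ E (centralizer (K : Set G))))) : False := by
  have hp : Fact (Nat.Prime 2) := ⟨Nat.prime_two⟩
  set M := normalizer (K : Set G) with hM
  set N := normalizer (E : Set G) with hN
  set C := centralizer (K : Set G) with hC
  have hEC := inf_eq hQ hQE hE.isPGroup
  have hcomm : ∀ k ∈ K, ∀ c ∈ C, k * c = c * k := fun k hk c hc => mem_centralizer_iff.mp hc k hk
  have hKM : ∀ m ∈ M, ∀ k ∈ K, m * k * m⁻¹ ∈ K := fun m hm k hk => (mem_normalizer_iff.mp hm k).mp hk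
  obtain ⟨a, ha, b, hb, haM, ha2, hb2, habc, haE, hbE, habE⟩ := hrk
  have hSE : IsStronglyEmbedded (im E M) := stronglyEmbedded hE ⟨a, ha, haM, haE, ha2⟩
  have ordp : ∀ {x : G} (hx : x ∈ N), x * x ∈ E → x ∉ E → orderOf (pr E ⟨x, hx⟩) = 2 := by
    intro x hx hx2 hxE
    refine orderOf_eq_prime ?_ ?_
    · rw [← map_pow, pr_eq_one]
      show x ^ 2 ∈ E
      rw [pow_two]; exact hx2
    · intro h
      exact hxE (pr_eq_one.mp h)
  have hCP : CommPair (NQ E) := by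
    refine ⟨pr E ⟨a, ha⟩, pr E ⟨b, hb⟩, ordp ha ha2 haE, ordp hb hb2 hbE, ?_, ?_⟩
    · intro h
      apply habE
      have h1 : pr E (⟨a, ha⟩ * (⟨b, hb⟩ : ↥N)⁻¹) = 1 := by rw [map_mul, map_inv, h, mul_inv_cancel]
      exact pr_eq_one.mp h1
    · have h1 : pr E (⟨a, ha⟩ * ⟨b, hb⟩ * (⟨a, ha⟩ : ↥N)⁻¹ * (⟨b, hb⟩ : ↥N)⁻¹) = 1 := pr_eq_one.mpr habc
      rw [map_mul, map_mul, map_mul, map_inv, map_inv] at h1
      exact mul_inv_eq_iff_eq_mul.mp (mul_inv_eq_one.mp h1)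
  -- the image of `N ∩ C` lies in `O(X)`
  have hCodd : Odd (Nat.card ↥(im E C)) := by
    apply odd_of_forall
    rintro _ ⟨c, hc', rfl⟩ hc2
    have hc := mem_subgroupOf.mp hc'
    have hcc : (c : G) * c ∈ E := by
      have h1 : pr E (c * c) = 1 := by
        rw [map_mul, ← pow_two, ← hc2]
        exact pow_orderOf_eq_one _
      exact pr_eq_one.mp h1
    have hcQ : (c : G) ∈ Q := by
      apply mem_of_syl hQ hc (hE.sq_isPElt hcc)
      intro q hq
      rw [← hEC]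
      exact mem_inf.mpr ⟨(mem_normalizer_iff.mp c.2 q).mp (hQE hq), mul_mem (mul_mem hc (hQ.le hq)) (inv_mem hc)⟩
    rw [pr_eq_one.mpr (hQE hcQ), orderOf_one] at hc2
    exact absurd hc2 (by norm_num)
  have hCM : C ≤ M := ht.le
  have hCO : im E C ≤ oddCore (NQ E) := by
    have hCH : im E C ≤ im E M := map_mono (fun x hx => mem_subgroupOf.mpr (hCM (mem_subgroupOf.mp hx)))
    have h1 : ((im E C).subgroupOf (im E M)).Normal := by
      refine ⟨?_⟩
      rintro ⟨x, hxH⟩ hx ⟨h, hh⟩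
      rw [mem_subgroupOf] at hx ⊢
      obtain ⟨c, hc, rfl⟩ := hx
      obtain ⟨m, hm, rfl⟩ := hh
      refine ⟨m * c * m⁻¹, ?_, by simp⟩
      exact ht.norm _ (mem_subgroupOf.mp hm) _ (mem_subgroupOf.mp hc)
    have h2 : (im E C).subgroupOf (im E M) ≤ oddCore ↥(im E M) := by
      apply le_oddCore h1
      rw [Nat.card_congr (subgroupOfEquivOfLe hCH).toEquiv]
      exact hCodd
    have h3 := map_mono (f := (im E M).subtype) h2
    rw [subgroupOf_map_subtype, inf_eq_left.mpr hCH] at h3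
    exact h3.trans (Cfsg.Agent.StrongEmb.Consequences.s1221 (hBen _) hSE)
  -- the transitive 2-group
  obtain ⟨P', hP'K, hP'2, hP't⟩ := exists_trans (K' := im E K) (M' := im E M₀) hSE hCP (hBen _) (by
      rintro _ ⟨h, hh, rfl⟩ _ ⟨m, hm, rfl⟩
      exact ⟨h * m * h⁻¹, hM₀n _ (mem_subgroupOf.mp hh) _ (mem_subgroupOf.mp hm), by simp⟩) (by
      rintro _ ⟨h, hh, rfl⟩
      obtain ⟨k, hk⟩ := hM₀2 _ (mem_subgroupOf.mp hh)
      exact ⟨k, h ^ 2 ^ k, mem_subgroupOf.mpr (by simpa using hk), by simp⟩) (by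
      rintro _ ⟨m, hm, rfl⟩
      obtain ⟨n, hn, k, hk, c, hc, hkc⟩ := hM₀o _ (mem_subgroupOf.mp hm)
      refine ⟨n, hn, ?_⟩
      have hx : k * c ∈ N := by rw [← hkc]; exact pow_mem m.2 n
      obtain ⟨hcN, hkN⟩ := comp_mem ht hcen hE.isPGroup hE.le hQ hQE hk hc hx
      have h1 : m ^ n = (⟨k, hkN⟩ : ↥N) * ⟨c, hcN⟩ := Subtype.ext (by simpa using hkc)
      rw [← map_pow, h1, map_mul]
      exact mul_mem (mem_sup_left ⟨⟨k, hkN⟩, mem_subgroupOf.mpr hk, rfl⟩)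
        (mem_sup_right (hCO ⟨⟨c, hcN⟩, mem_subgroupOf.mpr hc, rfl⟩)))
  obtain ⟨P₁, hP₁K, hP₁2, hP₁⟩ := exists_two_lift (pr E) hP'2 hP'K
  set V₀ := omegaZ E C with hV₀
  have hcjE : ∀ n ∈ N, ∀ x ∈ E, n * x * n⁻¹ ∈ E := fun n hn x hx => (mem_normalizer_iff.mp hn x).mp hx
  have hV₀bot : V₀ = ⊥ := by
    refine false_of_trace (K := K) (M := M) (N := N) (P := P₁.map N.subtype) ?_ ?_ hKM ?_ ?_ ?_ ?_ ?_ (hP₁2.map _)
      ?_ ?_ ?_ ?_ htr
    · intro x hx k hk
      exact (hcomm k hk x hx.2.1).symm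
    · intro x hx hxc
      apply hcen x hx
      rw [mem_centralizer_iff]
      intro k hk
      exact (hxc k hk).symm
    · intro x hx
      exact hx.2.2.1
    · intro n hn x hx
      exact hE.le (hcjE n hn x hx.1)
    · intro n hn hnM x hx
      refine ⟨hcjE n hn x hx.1, ht.norm n hnM x hx.2.1, ?_, ?_⟩
      · calc n * x * n⁻¹ * (n * x * n⁻¹) = n * (x * x) * n⁻¹ := by group
          _ = 1 := by rw [hx.2.2.1]; group
      · intro e he
        have h1 : n⁻¹ * e * n ∈ E := by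
          have := hcjE n⁻¹ (inv_mem hn) e he
          rwa [inv_inv] at this
        have h2 := hx.2.2.2 _ h1
        calc e * (n * x * n⁻¹) = n * (n⁻¹ * e * n * x) * n⁻¹ := by group
          _ = n * (x * (n⁻¹ * e * n)) * n⁻¹ := by rw [h2]
          _ = n * x * n⁻¹ * e := by group
    · intro n hn x hx y hy
      exact (hx.2.2.2 _ (hcjE n hn y hy.1)).symm
    · intro n hn hnM x hx hnx
      by_contra hx1
      apply hnM
      exact ht.tight n x hx.2.1 (orderOf_eq_prime (by rw [pow_two]; exact hx.2.2.1) hx1) hnx.2.1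
    · rintro _ ⟨p, hp, rfl⟩
      exact mem_subgroupOf.mp (hP₁K hp)
    · rintro _ ⟨p, hp, rfl⟩
      exact p.2
    · intro n₁ hn₁ n₂ hn₂ h₁ h₂
      obtain ⟨u, hu, hut⟩ := hP't (pr E ⟨n₁, hn₁⟩) (pr E ⟨n₂, hn₂⟩)
        (fun h => h₁ ((pr_mem_im hE.le).mp h)) (fun h => h₂ ((pr_mem_im hE.le).mp h))
      obtain ⟨p, hp, rfl⟩ := hP₁ u hu
      refine ⟨p, ⟨p, hp, rfl⟩, ?_⟩
      rw [← map_inv, ← map_mul, ← map_mul] at hut
      exact (pr_mem_im hE.le).mp hut
    · exact hE.exists_norm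
  -- a central involution
  obtain ⟨x, hxE, hxC, hx2⟩ := hE.exists_inv
  obtain ⟨z, hzE, hzC, hz2, hzc⟩ := exists_central_involution (S := E) (N := E ⊓ C) hE.isPGroup (by
      intro s hs n hn
      exact mem_inf.mpr ⟨mul_mem (mul_mem hs hn.1) (inv_mem hs), ht.norm s (hE.le hs) n hn.2⟩)
    ⟨x, hxE, ⟨hxE, hxC⟩, by rintro rfl; rw [orderOf_one] at hx2; exact absurd hx2 (by norm_num)⟩
  have hz : z ∈ V₀ := ⟨hzE, hzC.2, by rw [← pow_two, ← hz2]; exact pow_orderOf_eq_one z, hzc⟩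
  rw [hV₀bot, mem_bot] at hz
  rw [hz, orderOf_one] at hz2
  exact absurd hz2 (by norm_num)

/-- **the trace theorem with four-groups**: for the conjugate `V₀^n` the traces of two elements `a, b` of
`N(E)` vanish -/
theorem maxE_false_of_four (hBen : ∀ (Y : Type u) [Group Y] [Finite Y], BenderHolds Y)
    (ht : TightAt K) (hcen : ∀ x ∈ K, x ∈ centralizer (K : Set G) → x = 1)
    (hE : MaxE (centralizer (K : Set G)) (normalizer (K : Set G)) E)
    (hQ : IsSyl Q (centralizer (K : Set G))) (hQE : Q ≤ E)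
    {M₀ : Subgroup G} (hM₀n : ∀ m ∈ normalizer (K : Set G), ∀ x ∈ M₀, m * x * m⁻¹ ∈ M₀)
    (hM₀2 : ∀ m ∈ normalizer (K : Set G), ∃ k : ℕ, m ^ 2 ^ k ∈ M₀)
    (hM₀o : ∀ m ∈ M₀, ∃ n : ℕ, Odd n ∧ ∃ k ∈ K, ∃ c ∈ centralizer (K : Set G), m ^ n = k * c)
    (hfour : ∀ n ∈ normalizer (E : Set G), n ∉ normalizer (K : Set G) → ∀ v ∈ omegaZ E (centralizer (K : Set G)),
      v ≠ 1 → ∃ a ∈ normalizer (E : Set G), ∃ b ∈ normalizer (E : Set G), a ∈ normalizer (K : Set G) ∧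
        a * a ∈ E ∧ b * b ∈ E ∧ a * b * a⁻¹ * b⁻¹ ∈ E ∧
        n⁻¹ * a * n ∉ normalizer (K : Set G) ∧ n⁻¹ * b * n ∉ normalizer (K : Set G) ∧
        n⁻¹ * (a * b) * n ∉ normalizer (K : Set G) ∧
        n * v * n⁻¹ * (a * (n * v * n⁻¹) * a⁻¹) * (b * (n * v * n⁻¹) * b⁻¹) *
          (a * b * (n * v * n⁻¹) * (a * b)⁻¹) = 1) : False := by
  have hcj : ∀ n ∈ normalizer (E : Set G), ∀ x ∈ E, n * x * n⁻¹ ∈ E :=
    fun n hn x hx => (mem_normalizer_iff.mp hn x).mp hx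
  have hcj' : ∀ n ∈ normalizer (E : Set G), ∀ x ∈ E, n⁻¹ * x * n ∈ E :=
    fun n hn x hx => (mem_normalizer_iff''.mp hn x).mp hx
  obtain ⟨n, hn, hnM⟩ := hE.exists_norm
  -- a nontrivial element
  obtain ⟨x, hxE, hxC, hx2⟩ := hE.exists_inv
  obtain ⟨z, hzE, hzC, hz2, hzc⟩ := exists_central_involution (S := E) (N := E ⊓ centralizer (K : Set G))
    hE.isPGroup (by
      intro s hs n hn
      exact mem_inf.mpr ⟨mul_mem (mul_mem hs hn.1) (inv_mem hs), ht.norm s (hE.le hs) n hn.2⟩)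
    ⟨x, hxE, ⟨hxE, hxC⟩, by rintro rfl; rw [orderOf_one] at hx2; exact absurd hx2 (by norm_num)⟩
  have hz : z ∈ omegaZ E (centralizer (K : Set G)) :=
    ⟨hzE, hzC.2, by rw [← pow_two, ← hz2]; exact pow_orderOf_eq_one z, hzc⟩
  have hz1 : z ≠ 1 := by rintro rfl; rw [orderOf_one] at hz2; exact absurd hz2 (by norm_num)
  have hmem : ∀ {x : G}, n⁻¹ * x * n ∉ normalizer (K : Set G) → x ∉ E := fun h hx => h (hE.le (hcj' n hn _ hx))
  refine maxE_false hBen ht hcen hE hQ hQE hM₀n hM₀2 hM₀o ?_ ?_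
  · obtain ⟨a, ha, b, hb, haM, ha2, hb2, hab, haM', hbM', habM', -⟩ := hfour n hn hnM z hz hz1
    refine ⟨a, ha, b, hb, haM, ha2, hb2, hab, hmem haM', hmem hbM', ?_⟩
    intro h
    apply hmem habM'
    have h1 : a * b = a * b⁻¹ * (b * b) := by group
    rw [h1]
    exact mul_mem h hb2
  · intro v hv
    by_cases hv1 : v = 1
    · rw [hv1]; exact one_mem _
    obtain ⟨a, ha, b, hb, haM, ha2, hb2, hab, haM', hbM', habM', htr⟩ := hfour n hn hnM v hv hv1
    have key : ∀ {c : G}, c ∈ normalizer (E : Set G) → n⁻¹ * c * n ∉ normalizer (K : Set G) →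
        n⁻¹ * (c * (n * v * n⁻¹) * c⁻¹) * n ∈ closure (conjOut (normalizer (E : Set G))
          (normalizer (K : Set G)) (omegaZ E (centralizer (K : Set G)))) := by
      intro c hc hcM
      refine subset_closure ⟨n⁻¹ * c * n, mul_mem (mul_mem (inv_mem hn) hc) hn, hcM, v, hv, ?_⟩
      group
    have h1 := mul_mem (mul_mem (key ha haM') (key hb hbM')) (key (mul_mem ha hb) habM')
    have h2 : v = (n⁻¹ * (a * (n * v * n⁻¹) * a⁻¹) * n * (n⁻¹ * (b * (n * v * n⁻¹) * b⁻¹) * n) *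
        (n⁻¹ * (a * b * (n * v * n⁻¹) * (a * b)⁻¹) * n))⁻¹ := by
      apply eq_inv_of_mul_eq_one_left
      calc v * (n⁻¹ * (a * (n * v * n⁻¹) * a⁻¹) * n * (n⁻¹ * (b * (n * v * n⁻¹) * b⁻¹) * n) *
            (n⁻¹ * (a * b * (n * v * n⁻¹) * (a * b)⁻¹) * n))
          = n⁻¹ * (n * v * n⁻¹ * (a * (n * v * n⁻¹) * a⁻¹) * (b * (n * v * n⁻¹) * b⁻¹) *
            (a * b * (n * v * n⁻¹) * (a * b)⁻¹)) * n := by group
        _ = 1 := by rw [htr]; group
    rw [h2]
    exact inv_mem h1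

end Main

end Cfsg.Agent.OddHalf.DblR.TraceC
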