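import Cfsg.Agent.OddHalf.DblR.UnFrameDefs

/-!
# ODD, D4, unitary groups: elements acting on a frame with two pairs by matrices (helper780)

`Acts q e f g M N`; `hE hF E α β δ` : the element `aEl` of the hermitian matrix `(α β; β^q δ)`, characteristic 2.
-/

set_option autoImplicit false

namespace Cfsg.Agent.OddHalf.DblR.UnF

open Cfsg Cfsg.Agent.LieClassical.HermBasic Cfsg.Agent.LieClassical.HermSiegel
  Cfsg.Agent.LieClassical.HermGen Cfsg.Agent.LieClassical.SUBasic Matrix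
  Cfsg.Agent.ClassicalGeometry.PSUAutBasic Cfsg.Agent.ClassicalGeometry.PSUAutSylow
  Cfsg.Agent.ClassicalGeometry.PSUAutUnip Cfsg.Agent.KFacts.Unit

/-- `g` acts on the frame `e, f` by `M`, `N` and trivially on the orthogonal space. -/
structure Acts {F : Type*} [Field F] {n : ℕ} (q : ℕ) (e f : Fin 2 → (Fin n → F)) (g : SU n F q)
    (M N : Matrix (Fin 2) (Fin 2) F) : Prop where
  he : ∀ j, act g (e j) = ∑ i, M i j • e i
  hf : ∀ j, act g (f j) = ∑ i, N i j • f i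
  ho : ∀ v, (∀ j, hermForm n F q v (e j) = 0) → (∀ j, hermForm n F q v (f j) = 0) → act g v = v

section

variable {F : Type*} [Field F] {q n : ℕ} {e f : Fin 2 → (Fin n → F)} {g g' : SU n F q}
  {M N M' N' : Matrix (Fin 2) (Fin 2) F}

theorem Acts.one : Acts q e f (1 : SU n F q) 1 1 := by
  have key : ∀ (w : Fin 2 → (Fin n → F)) (j : Fin 2), act (1 : SU n F q) (w j) = ∑ i, (1 : Matrix (Fin 2) (Fin 2) F) i j • w i := by
    intro w
    exact Fin.forall_fin_two.2 ⟨by rw [act_one, Fin.sum_univ_two]; simp, by rw [act_one, Fin.sum_univ_two]; simp⟩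
  exact ⟨key e, key f, fun v _ _ => act_one v⟩

theorem Acts.mul (h : Acts q e f g M N) (h' : Acts q e f g' M' N') : Acts q e f (g * g') (M * M') (N * N') := by
  have key : ∀ (w : Fin 2 → (Fin n → F)) (A B : Matrix (Fin 2) (Fin 2) F), (∀ j, act g (w j) = ∑ i, A i j • w i) →
      (∀ j, act g' (w j) = ∑ i, B i j • w i) → ∀ j, act (g * g') (w j) = ∑ i, (A * B) i j • w i := by
    intro w A B h1 h2 j
    rw [act_mul, h2, act_sum]
    simp only [act_smul, h1, Fin.sum_univ_two, mul_apply]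
    module
  refine ⟨key e _ _ h.he h'.he, key f _ _ h.hf h'.hf, fun v h1 h2 => ?_⟩
  rw [act_mul, h'.ho v h1 h2, h.ho v h1 h2]

theorem Acts.inv (h : Acts q e f g M N) (h1 : M * M' = 1) (h2 : N * N' = 1) : Acts q e f g⁻¹ M' N' := by
  have key : ∀ (w : Fin 2 → (Fin n → F)) (A B : Matrix (Fin 2) (Fin 2) F), (∀ j, act g (w j) = ∑ i, A i j • w i) →
      A * B = 1 → ∀ j, act g⁻¹ (w j) = ∑ i, B i j • w i := by
    intro w A B h1 h2 j
    symm
    rw [← act_eq_iff, act_sum]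
    have h3 : ∀ j, ∑ i, (A * B) i j • w i = w j := by
      rw [h2]
      exact Fin.forall_fin_two.2 ⟨by rw [Fin.sum_univ_two]; simp, by rw [Fin.sum_univ_two]; simp⟩
    refine Eq.trans ?_ (h3 j)
    simp only [act_smul, h1, Fin.sum_univ_two, mul_apply]
    module
  refine ⟨key e _ _ h.he h1, key f _ _ h.hf h2, fun v h1 h2 => ?_⟩
  have := h.ho v h1 h2
  exact ((act_eq_iff g).1 this).symm

theorem Acts.congr (h : Acts q e f g M N) (hM : M = M') (hN : N = N') : Acts q e f g M' N' := by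
  subst hM hN; exact h

theorem Acts.pow (h : Acts q e f g M N) (k : ℕ) : Acts q e f (g ^ k) (M ^ k) (N ^ k) := by
  induction k with
  | zero => rw [pow_zero, pow_zero, pow_zero]; exact Acts.one
  | succ k ih => rw [pow_succ, pow_succ, pow_succ]; exact ih.mul h

theorem Acts.e0 (h : Acts q e f g M N) : act g (e 0) = M 0 0 • e 0 + M 1 0 • e 1 := by
  rw [h.he, Fin.sum_univ_two]

theorem Acts.e1 (h : Acts q e f g M N) : act g (e 1) = M 0 1 • e 0 + M 1 1 • e 1 := by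
  rw [h.he, Fin.sum_univ_two]

theorem Acts.f0 (h : Acts q e f g M N) : act g (f 0) = N 0 0 • f 0 + N 1 0 • f 1 := by
  rw [h.hf, Fin.sum_univ_two]

theorem Acts.f1 (h : Acts q e f g M N) : act g (f 1) = N 0 1 • f 0 + N 1 1 • f 1 := by
  rw [h.hf, Fin.sum_univ_two]

theorem actsE {w : Fin 2 → (Fin n → F)} {a b c d : F} (h0 : act g (w 0) = a • w 0 + c • w 1)
    (h1 : act g (w 1) = b • w 0 + d • w 1) : ∀ j, act g (w j) = ∑ i, !![a, b; c, d] i j • w i := by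
  intro j
  rw [Fin.sum_univ_two]
  fin_cases j
  · simpa using h0
  · simpa using h1

end

variable {F : Type*} [Field F] [Fintype F] {q n : ℕ} {e f : Fin 2 → (Fin n → F)}

/-- An element is determined by its action on the frame. -/
theorem Acts.ext (hF : Fintype.card F = q ^ 2) (E : Frm q e f) {g g' : SU n F q} {M N : Matrix (Fin 2) (Fin 2) F}
    (h : Acts q e f g M N) (h' : Acts q e f g' M N) : g = g' := by
  apply ext_act
  intro v
  obtain ⟨a, ha⟩ : ∃ a : Fin 2 → F, a = fun i => hermForm n F q v (f i) := ⟨_, rfl⟩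
  obtain ⟨b, hb⟩ : ∃ b : Fin 2 → F, b = fun i => hermForm n F q v (e i) := ⟨_, rfl⟩
  have o1 : ∀ j, hermForm n F q (v - ∑ i, a i • e i - ∑ i, b i • f i) (e j) = 0 := by
    intro j
    rw [herm_sub_left, herm_sub_left, E.herm_sum_e, (E.symm hF).herm_sum, hb]
    simp
  have o2 : ∀ j, hermForm n F q (v - ∑ i, a i • e i - ∑ i, b i • f i) (f j) = 0 := by
    intro j
    rw [herm_sub_left, herm_sub_left, E.herm_sum, (E.symm hF).herm_sum_e, ha]
    simp
  have h1 := (h.ho _ o1 o2).trans (h'.ho _ o1 o2).symm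
  simp only [act_sub, act_sum, act_smul, h.he, h'.he, h.hf, h'.hf] at h1
  rwa [sub_left_inj, sub_left_inj] at h1

theorem Frm.exists_acts (hF : Fintype.card F = q ^ 2) (E : Frm q e f) {M N : Matrix (Fin 2) (Fin 2) F}
    (hMN : Mᵀ * N.map (LieClassical.HermBasic.conj hF) = 1) (hdet : M.det * N.det = 1) :
    ∃ g : SU n F q, Acts q e f g M N := by
  obtain ⟨g, h1, h2, h3⟩ := exists_GL hF E hMN hdet
  exact ⟨g, h1, h2, h3⟩

section Two

variable [CharP F 2]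

omit [Fintype F] in
theorem two0 : (2 : F) = 0 := CharTwo.two_eq_zero

omit [Fintype F] in
theorem add_self' (a : F) : a + a = 0 := CharTwo.add_self_eq_zero a

omit [Fintype F] in
theorem eq_of_add_eq_zero' {a b : F} (h : a + b = 0) : a = b := CharTwo.add_eq_zero.1 h

theorem isSkew_mk (hF : Fintype.card F = q ^ 2) {α δ : F} (β : F) (hα : α ^ q = α) (hδ : δ ^ q = δ) :
    IsSkew q !![α, β; β ^ q, δ] := by
  intro i j
  fin_cases i <;> fin_cases j
  · change α + α ^ q = 0; rw [hα, add_self']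
  · change β + (β ^ q) ^ q = 0; rw [pow_q_pow_q hF, add_self']
  · change β ^ q + β ^ q = 0; rw [add_self']
  · change δ + δ ^ q = 0; rw [hδ, add_self']

/-- The element with hermitian matrix `(α β; β^q δ)`. -/
def hE (hF : Fintype.card F = q ^ 2) (E : Frm q e f) (α β δ : F) (hα : α ^ q = α) (hδ : δ ^ q = δ) : SU n F q :=
  aEl hF E !![α, β; β ^ q, δ] (isSkew_mk hF β hα hδ)

theorem hE_mem (hF : Fintype.card F = q ^ 2) (E : Frm q e f) {α β δ : F} (hα : α ^ q = α) (hδ : δ ^ q = δ) :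
    hE hF E α β δ hα hδ ∈ aG hF E := ⟨_, _, rfl⟩

theorem exists_hE {hF : Fintype.card F = q ^ 2} {E : Frm q e f} {g : SU n F q} (hg : g ∈ aG hF E) :
    ∃ (α β δ : F) (hα : α ^ q = α) (hδ : δ ^ q = δ), g = hE hF E α β δ hα hδ := by
  obtain ⟨H, hH, rfl⟩ := hg
  refine ⟨H 0 0, H 0 1, H 1 1, (eq_of_add_eq_zero' (hH 0 0)).symm, (eq_of_add_eq_zero' (hH 1 1)).symm, ?_⟩
  apply aEl_congr
  ext i j
  fin_cases i <;> fin_cases j
  · rfl
  · rfl
  · exact eq_of_add_eq_zero' (hH 1 0)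
  · rfl

theorem hE_congr (hF : Fintype.card F = q ^ 2) (E : Frm q e f) {α β δ α' β' δ' : F} {hα : α ^ q = α} {hδ : δ ^ q = δ}
    {hα' : α' ^ q = α'} {hδ' : δ' ^ q = δ'} (h1 : α = α') (h2 : β = β') (h3 : δ = δ') :
    hE hF E α β δ hα hδ = hE hF E α' β' δ' hα' hδ' := by
  subst h1 h2 h3; rfl

theorem act_hE (hF : Fintype.card F = q ^ 2) (E : Frm q e f) {α β δ : F} (hα : α ^ q = α) (hδ : δ ^ q = δ)
    (v : Fin n → F) : act (hE hF E α β δ hα hδ) v = v + (α * hermForm n F q v (e 0) + β * hermForm n F q v (e 1)) • e 0 +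
      (β ^ q * hermForm n F q v (e 0) + δ * hermForm n F q v (e 1)) • e 1 := by
  rw [hE, act_aEl, Fin.sum_univ_two, Fin.sum_univ_two, Fin.sum_univ_two, ← add_assoc]
  rfl

theorem fix_add (hF : Fintype.card F = q ^ 2) {α α' : F} (h : α ^ q = α) (h' : α' ^ q = α') :
    (α + α') ^ q = α + α' := by rw [add_pow_q hF, h, h']

theorem hE_mul (hF : Fintype.card F = q ^ 2) (E : Frm q e f) {α β δ α' β' δ' : F} (hα : α ^ q = α) (hδ : δ ^ q = δ)
    (hα' : α' ^ q = α') (hδ' : δ' ^ q = δ') : hE hF E α β δ hα hδ * hE hF E α' β' δ' hα' hδ' =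
      hE hF E (α + α') (β + β') (δ + δ') (fix_add hF hα hα') (fix_add hF hδ hδ') := by
  rw [hE, hE, hE, aEl_mul]
  apply aEl_congr
  ext i j
  fin_cases i <;> fin_cases j
  · rfl
  · rfl
  · exact (add_pow_q hF β β').symm
  · rfl

theorem hE_zero (hF : Fintype.card F = q ^ 2) (E : Frm q e f) {h h' : (0 : F) ^ q = 0} :
    hE hF E 0 0 0 h h' = 1 := by
  apply ext_act
  intro v
  rw [act_hE, act_one, h]
  simp

theorem hE_sq (hF : Fintype.card F = q ^ 2) (E : Frm q e f) {α β δ : F} (hα : α ^ q = α) (hδ : δ ^ q = δ) :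
    hE hF E α β δ hα hδ * hE hF E α β δ hα hδ = 1 := by
  rw [hE_mul, hE_congr hF E (hα' := zero_pow_q hF) (hδ' := zero_pow_q hF) (add_self' α) (add_self' β) (add_self' δ),
    hE_zero]

theorem hE_inv (hF : Fintype.card F = q ^ 2) (E : Frm q e f) {α β δ : F} (hα : α ^ q = α) (hδ : δ ^ q = δ) :
    (hE hF E α β δ hα hδ)⁻¹ = hE hF E α β δ hα hδ := inv_eq_of_mul_eq_one_left (hE_sq hF E hα hδ)

theorem hE_inj (hF : Fintype.card F = q ^ 2) (hn : 3 ≤ n) (E : Frm q e f) {α β δ α' β' δ' : F} {hα : α ^ q = α}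
    {hδ : δ ^ q = δ} {hα' : α' ^ q = α'} {hδ' : δ' ^ q = δ'}
    (h : pr n F q (hE hF E α β δ hα hδ) = pr n F q (hE hF E α' β' δ' hα' hδ')) : α = α' ∧ β = β' ∧ δ = δ' := by
  have h1 := aEl_pr_inj hF hn E h
  exact ⟨congrFun (congrFun h1 0) 0, congrFun (congrFun h1 0) 1, congrFun (congrFun h1 1) 1⟩

theorem hE_ne_one (hF : Fintype.card F = q ^ 2) (hn : 3 ≤ n) (E : Frm q e f) {α β δ : F} {hα : α ^ q = α}
    {hδ : δ ^ q = δ} (h : pr n F q (hE hF E α β δ hα hδ) = 1) : α = 0 ∧ β = 0 ∧ δ = 0 := by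
  refine hE_inj hF hn E (hα := hα) (hδ := hδ) (hα' := zero_pow_q hF) (hδ' := zero_pow_q hF) ?_
  rw [h, hE_zero, map_one]

/-- **Conjugation.** -/
theorem hE_conj (hF : Fintype.card F = q ^ 2) (E : Frm q e f) {g : SU n F q} {a b c d : F}
    (h0 : act g (e 0) = a • e 0 + c • e 1) (h1 : act g (e 1) = b • e 0 + d • e 1) {α β δ α' β' δ' : F}
    (hα : α ^ q = α) (hδ : δ ^ q = δ) (hα' : α' ^ q = α') (hδ' : δ' ^ q = δ')
    (k1 : α' = a * α * a ^ q + a * β * b ^ q + b * β ^ q * a ^ q + b * δ * b ^ q)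
    (k2 : β' = a * α * c ^ q + a * β * d ^ q + b * β ^ q * c ^ q + b * δ * d ^ q)
    (k3 : δ' = c * α * c ^ q + c * β * d ^ q + d * β ^ q * c ^ q + d * δ * d ^ q) :
    g * hE hF E α β δ hα hδ * g⁻¹ = hE hF E α' β' δ' hα' hδ' := by
  rw [hE, conj_aEl hF E _ (actsE h0 h1), hE]
  apply aEl_congr
  ext i j
  have k4 : β' ^ q = c * α * a ^ q + c * β * b ^ q + d * β ^ q * a ^ q + d * δ * b ^ q := by
    rw [k2]
    simp only [add_pow_q hF, mul_pow, pow_q_pow_q hF, hα, hδ]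
    ring
  fin_cases i <;> fin_cases j
  · simp only [mul_apply, Fin.sum_univ_two, map_apply, transpose_apply]
    simp
    rw [k1]; ring
  · simp only [mul_apply, Fin.sum_univ_two, map_apply, transpose_apply]
    simp
    rw [k2]; ring
  · simp only [mul_apply, Fin.sum_univ_two, map_apply, transpose_apply]
    simp
    rw [k4]; ring
  · simp only [mul_apply, Fin.sum_univ_two, map_apply, transpose_apply]
    simp
    rw [k3]; ring

theorem hE_e (hF : Fintype.card F = q ^ 2) (E : Frm q e f) {α β δ : F} (hα : α ^ q = α) (hδ : δ ^ q = δ)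
    (i : Fin 2) : act (hE hF E α β δ hα hδ) (e i) = e i := by
  rw [act_hE, E.ee, E.ee]
  simp

theorem hE_f0 (hF : Fintype.card F = q ^ 2) (E : Frm q e f) {α β δ : F} (hα : α ^ q = α) (hδ : δ ^ q = δ) :
    act (hE hF E α β δ hα hδ) (f 0) = f 0 + α • e 0 + β ^ q • e 1 := by
  rw [act_hE, E.fe hF, E.fe hF]
  simp

theorem hE_f1 (hF : Fintype.card F = q ^ 2) (E : Frm q e f) {α β δ : F} (hα : α ^ q = α) (hδ : δ ^ q = δ) :
    act (hE hF E α β δ hα hδ) (f 1) = f 1 + β • e 0 + δ • e 1 := by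
  rw [act_hE, E.fe hF, E.fe hF]
  simp

/-- The transvections with centre `e 0`, `e 1`. -/
theorem transv_e0 (hF : Fintype.card F = q ^ 2) (E : Frm q e f) {μ : F} (hμ : μ + μ ^ q = 0) (h : μ ^ q = μ)
    (h0 : (0 : F) ^ q = 0) : transv hF (e 0) (E.ee 0 0) μ hμ = hE hF E μ 0 0 h h0 := by
  apply ext_act
  intro v
  rw [act_transv, act_hE, h0]
  simp

theorem transv_e1 (hF : Fintype.card F = q ^ 2) (E : Frm q e f) {μ : F} (hμ : μ + μ ^ q = 0) (h : μ ^ q = μ)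
    (h0 : (0 : F) ^ q = 0) : transv hF (e 1) (E.ee 1 1) μ hμ = hE hF E 0 0 μ h0 h := by
  apply ext_act
  intro v
  rw [act_transv, act_hE, h0]
  simp

theorem mem_RR0 (hF : Fintype.card F = q ^ 2) (E : Frm q e f) {x : PSU n F q} : x ∈ RR hF (e 0) (E.ee 0 0) ↔
    ∃ (μ : F) (h : μ ^ q = μ), x = pr n F q (hE hF E μ 0 0 h (zero_pow_q hF)) := by
  rw [mem_RR]
  constructor
  · rintro ⟨μ, hμ, rfl⟩
    exact ⟨μ, fixed_of_tr hμ, by rw [transv_e0 hF E hμ (fixed_of_tr hμ) (zero_pow_q hF)]⟩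
  · rintro ⟨μ, h, rfl⟩
    have hμ : μ + μ ^ q = 0 := by rw [h, add_self']
    exact ⟨μ, hμ, by rw [transv_e0 hF E hμ h (zero_pow_q hF)]⟩

theorem mem_RR1 (hF : Fintype.card F = q ^ 2) (E : Frm q e f) {x : PSU n F q} : x ∈ RR hF (e 1) (E.ee 1 1) ↔
    ∃ (μ : F) (h : μ ^ q = μ), x = pr n F q (hE hF E 0 0 μ (zero_pow_q hF) h) := by
  rw [mem_RR]
  constructor
  · rintro ⟨μ, hμ, rfl⟩
    exact ⟨μ, fixed_of_tr hμ, by rw [transv_e1 hF E hμ (fixed_of_tr hμ) (zero_pow_q hF)]⟩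
  · rintro ⟨μ, h, rfl⟩
    have hμ : μ + μ ^ q = 0 := by rw [h, add_self']
    exact ⟨μ, hμ, by rw [transv_e1 hF E hμ h (zero_pow_q hF)]⟩

/-- The off-diagonal elements. -/
def xG (hF : Fintype.card F = q ^ 2) (E : Frm q e f) : Subgroup (SU n F q) where
  carrier := {g | ∃ a : F, g = hE hF E 0 a 0 (zero_pow_q hF) (zero_pow_q hF)}
  one_mem' := ⟨0, (hE_zero hF E).symm⟩
  mul_mem' := by
    rintro _ _ ⟨a, rfl⟩ ⟨b, rfl⟩
    refine ⟨a + b, ?_⟩
    rw [hE_mul]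
    exact hE_congr hF E (add_zero 0) rfl (add_zero 0)
  inv_mem' := by
    rintro _ ⟨a, rfl⟩
    exact ⟨a, hE_inv hF E _ _⟩

def XE (hF : Fintype.card F = q ^ 2) (E : Frm q e f) : Subgroup (PSU n F q) := (xG hF E).map (pr n F q)

theorem mem_XE {hF : Fintype.card F = q ^ 2} {E : Frm q e f} {x : PSU n F q} :
    x ∈ XE hF E ↔ ∃ a : F, pr n F q (hE hF E 0 a 0 (zero_pow_q hF) (zero_pow_q hF)) = x := by
  constructor
  · rintro ⟨_, ⟨a, rfl⟩, rfl⟩; exact ⟨a, rfl⟩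
  · rintro ⟨a, rfl⟩; exact ⟨_, ⟨a, rfl⟩, rfl⟩

theorem mem_VE' {hF : Fintype.card F = q ^ 2} {E : Frm q e f} {x : PSU n F q} : x ∈ VE hF E ↔
    ∃ (α β δ : F) (hα : α ^ q = α) (hδ : δ ^ q = δ), pr n F q (hE hF E α β δ hα hδ) = x := by
  constructor
  · rintro ⟨g, hg, rfl⟩
    obtain ⟨α, β, δ, hα, hδ, rfl⟩ := exists_hE hg
    exact ⟨α, β, δ, hα, hδ, rfl⟩
  · rintro ⟨α, β, δ, hα, hδ, rfl⟩
    exact ⟨_, hE_mem hF E hα hδ, rfl⟩

end Two

end Cfsg.Agent.OddHalf.DblR.UnF
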