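import Cfsg.Agent.OddHalf.DblR.Fan

/-!
# ODD, D4: two short roots whose sum is long (helper350)

`Uni` : two commuting families `X1 i ≤ V1`, `X2 i ≤ V2` of long root groups with one member `X_r` in common, short
root groups `X_m ≤ V1`, `X_d ≤ V2` with `[X_m, X_d] ≤ X_r` nondegenerate (unitary groups in even characteristic:
`r = 2e₁`, `m = e₁ + e₂`, `d = e₁ - e₂`).
* `Uni.mem` : `[X_m, W_d] ≤ W_r`;
* **`Uni.eq_of_ne_one`** : `R` has at most one involution.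
-/

set_option autoImplicit false

namespace Cfsg.Agent.OddHalf.DblR

variable {G : Type*} [Group G]

/-- half of the hypotheses -/
structure Half {ι₁ ι₂ : Type*} (K R T : Subgroup G) (P1 X1 W1 : ι₁ → Subgroup G) (P2 X2 W2 : ι₂ → Subgroup G)
    (Y1 Z1 : Subgroup G) (i1 : ι₁) (z1 : G) (i2 : ι₂) (Xm Xd E1 : Subgroup G) (τ : G) : Prop where
  F : Fan K R P1 X1 W1 Y1 Z1 i1 z1
  eqX : X1 i1 = X2 i2
  eqW : W1 i1 = W2 i2
  τK : τ ∈ K
  τodd : ∃ l : ℕ, Odd l ∧ τ ^ l = 1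
  τF : ∀ f ∈ ⨆ i, W1 i, τ * f * τ⁻¹ ∈ ⨆ i, W1 i
  τdec : ∀ ρ ∈ ⨆ i, X1 i, ∃ c ∈ ⨆ i, X1 i, τ * c = c * τ ∧ ∃ x ∈ Xm, ρ = c * x
  ZT : Z1 ≤ T
  XmV : Xm ≤ ⨆ i, X1 i
  τX : ∀ x ∈ Xm, τ * x * τ⁻¹ ∈ Xm
  τfix : ∀ x ∈ Xm, τ * x = x * τ → x = 1
  /-- the scalars of the first family centralise `X_d` and normalise `X_m` and the second family -/
  Zd : ∀ h ∈ Z1, ∀ y ∈ Xd, h * y = y * h
  Zm : ∀ h ∈ Z1, ∀ x ∈ Xm, h * x * h⁻¹ ∈ Xm
  Z2 : ∀ h ∈ Z1, ∀ f ∈ ⨆ i, W2 i, h * f * h⁻¹ ∈ ⨆ i, W2 i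
  Zτ : ∀ h ∈ Z1, h * τ = τ * h
  /-- `X_d` normalises the first family -/
  dF : ∀ y ∈ Xd, ∀ f ∈ ⨆ i, W1 i, y * f * y⁻¹ ∈ ⨆ i, W1 i
  dXr : ∀ y ∈ Xd, ∀ x ∈ X1 i1, y * x = x * y
  /-- `V1 = X_r X_m E1` -/
  VE : ∀ ρ ∈ ⨆ i, X1 i, ∃ a ∈ X1 i1, ∃ b ∈ Xm, ∃ e ∈ E1, ρ = a * b * e
  EV : E1 ≤ ⨆ i, X1 i
  cE : ∀ y ∈ Xd, ∀ e ∈ E1, cm y e ∈ X1 i1 → y = 1 ∨ e = 1

/-- **The hypotheses for two short roots whose sum is long.** -/
structure Uni {ι₁ ι₂ : Type*} (K R T : Subgroup G) (P1 X1 W1 : ι₁ → Subgroup G) (P2 X2 W2 : ι₂ → Subgroup G)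
    (Y1 Z1 Y2 Z2 : Subgroup G) (i1 : ι₁) (z1 : G) (i2 : ι₂) (z2 : G) (Xm Xd E1 E2 : Subgroup G) (τ : G) : Prop where
  H1 : Half K R T P1 X1 W1 P2 X2 W2 Y1 Z1 i1 z1 i2 Xm Xd E1 τ
  H2 : Half K R T P2 X2 W2 P1 X1 W1 Y2 Z2 i2 z2 i1 Xd Xm E2 τ
  TK : T ≤ K
  Tab : ∀ h ∈ T, ∀ k ∈ T, h * k = k * h
  Todd : ∀ h ∈ T, ∃ l : ℕ, Odd l ∧ h ^ l = 1
  cmX : ∀ x ∈ Xm, ∀ y ∈ Xd, cm x y ∈ X1 i1
  nd : ∀ y ∈ Xd, y ≠ 1 → ∃ x ∈ Xm, cm x y ≠ 1

namespace Half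

variable {ι₁ ι₂ : Type*} {K R T : Subgroup G} {P1 X1 W1 : ι₁ → Subgroup G} {P2 X2 W2 : ι₂ → Subgroup G}
  {Y1 Z1 : Subgroup G} {i1 : ι₁} {z1 : G} {i2 : ι₂} {Xm Xd E1 : Subgroup G} {τ : G}

/-- the doubled short root group -/
theorem dw [Finite G] (H : Half K R T P1 X1 W1 P2 X2 W2 Y1 Z1 i1 z1 i2 Xm Xd E1 τ) :
    DW K R (⨆ i, X1 i) Xm (tw (⨆ i, W1 i) τ) := by
  obtain ⟨l, hl, hτl⟩ := H.τodd
  exact H.F.dw H.τK hl hτl H.τF H.XmV H.τX H.τfix H.τdec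

theorem twF (H : Half K R T P1 X1 W1 P2 X2 W2 Y1 Z1 i1 z1 i2 Xm Xd E1 τ) {w : G} (hw : w ∈ tw (⨆ i, W1 i) τ) :
    w ∈ ⨆ i, W1 i :=
  (mem_tw (fun _ hf _ hg => H.F.comm hf hg) H.τF hw).1

/-- `[X_d, w] ∈ W_r` for `w` in the doubled `X_m` -/
theorem mem [Finite G] (H : Half K R T P1 X1 W1 P2 X2 W2 Y1 Z1 i1 z1 i2 Xm Xd E1 τ)
    (cmX : ∀ y ∈ Xd, ∀ x ∈ Xm, cm y x ∈ X1 i1) (hd2 : ∀ y ∈ Xd, y * y = 1)
    (hdR : Xd ≤ K)
    (hdW : ∀ y ∈ Xd, ∀ w ∈ W1 i1, y * w = w * y) {t : G} (ht : t ∈ R) (ht1 : t ≠ 1)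
    (hκ : ∃ κ ∈ K, (∀ f ∈ Xd, κ * f * κ⁻¹ ∈ Xd) ∧ (∀ f ∈ Xd, κ * f = f * κ → f = 1) ∧
      (∀ w ∈ tw (⨆ i, W1 i) τ, κ * w = w * κ) ∧ (∀ w ∈ W1 i1, κ * w * κ⁻¹ ∈ W1 i1)) :
    ∀ y ∈ Xd, ∀ w ∈ tw (⨆ i, W1 i) τ, cm y w ∈ W1 i1 := by
  have Dm := H.dw
  have hX0F : W1 i1 ≤ ⨆ i, W1 i := le_iSup W1 i1
  have hXrV : X1 i1 ≤ ⨆ i, X1 i := le_iSup X1 i1
  -- first: `cm y w ∈ W_r X_m`
  have key : ∀ y ∈ Xd, ∀ w ∈ tw (⨆ i, W1 i) τ, ∃ w' ∈ W1 i1, ∃ b ∈ Xm, cm y w = w' * b := by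
    intro y hy w hw
    by_cases hy1 : y = 1
    · exact ⟨1, one_mem _, 1, one_mem _, by rw [hy1]; unfold cm; group⟩
    have hwF := H.twF hw
    set u := cm y w with hu
    have huF : u ∈ ⨆ i, W1 i := by
      have : u = (y * w * y⁻¹) * w⁻¹ := by rw [hu]; rfl
      rw [this]
      exact mul_mem (H.dF y hy w hwF) (inv_mem hwF)
    -- the commutator with `a ∈ R`
    have hbr : br t u = cm y (br t w) := by
      have hx := Dm.brk t ht w hw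
      have h0 := cmX y hy _ hx
      have h1 : t * y * t⁻¹ = y := by rw [H.F.A.comm t ht y (hdR hy)]; group
      have h2 : t * u * t⁻¹ = u * cm y (br t w) := by
        rw [hu, cm_conj, h1, conj_eq t w]
        exact cm_mul_right (H.F.comm hwF (H.F.VF (hXrV h0)))
      rw [br_def, h2]; group
    have hX0 : cm y (br t w) ∈ X1 i1 := cmX y hy _ (Dm.brk t ht w hw)
    obtain ⟨w0, hw0, e0⟩ := (H.F.D i1).surj t ht ht1 _ hX0
    have h3 : t * (u * w0⁻¹) = (u * w0⁻¹) * t := comm_of_br_eq (hbr.trans e0.symm)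
    have h4 := H.F.fix ht ht1 (mul_mem huF (inv_mem (hX0F hw0))) h3
    obtain ⟨a, ha, b, hb, e, he, eρ⟩ := H.VE _ h4
    -- `u = w0 a b e`
    have hbF : b ∈ ⨆ i, W1 i := H.F.VF (H.XmV hb)
    have heF : e ∈ ⨆ i, W1 i := H.F.VF (H.EV he)
    have haF : a ∈ ⨆ i, W1 i := H.F.VF (hXrV ha)
    have hw0F := hX0F hw0
    set w' := w0 * a with hw'
    have hw'W : w' ∈ W1 i1 := mul_mem hw0 ((H.F.D i1).XW ha)
    have hu2 : u = w' * b * e := by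
      have h5 : u = (a * b * e) * w0 := by rw [← eρ]; group
      have h6 := H.F.comm (mul_mem (mul_mem haF hbF) heF) hw0F
      rw [h5, h6, hw']; group
    -- `y u y⁻¹ = u⁻¹`
    have hyy : y⁻¹ = y := inv_eq_of_mul_eq_one_left (hd2 y hy)
    have h7 : y * u * y⁻¹ = u⁻¹ := by
      have h8 : y * w * y⁻¹ = u * w := by rw [hu]; unfold cm; group
      have h9 : y * (y * w * y⁻¹) * y⁻¹ = w := by
        calc y * (y * w * y⁻¹) * y⁻¹ = (y * y) * w * (y * y)⁻¹ := by group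
          _ = w := by rw [hd2 y hy]; group
      rw [h8] at h9
      have h10 : y * (u * w) * y⁻¹ = (y * u * y⁻¹) * (u * w) := by
        rw [conj_mul, h8]
      rw [h10] at h9
      calc y * u * y⁻¹ = ((y * u * y⁻¹) * (u * w)) * w⁻¹ * u⁻¹ := by group
        _ = u⁻¹ := by rw [h9]; group
    -- the commutators
    have hcb : cm y b ∈ X1 i1 := cmX y hy b hb
    have hwX : w' * w' ∈ X1 i1 := by
      apply (H.F.D i1).fix t ht ht1 _ (mul_mem hw'W hw'W)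
      apply br_eq_one.mp
      rw [(H.F.D i1).br_mul ht hw'W hw'W]
      exact (H.F.D i1).XX _ ((H.F.D i1).brk t ht w' hw'W)
    have h11 : cm y e ∈ X1 i1 := by
      have e1 : y * w' * y⁻¹ = w' := by rw [hdW y hy w' hw'W]; group
      have e2 : y * b * y⁻¹ = cm y b * b := by unfold cm; group
      have e3 : y * e * y⁻¹ = cm y e * e := by unfold cm; group
      have e4 : y * u * y⁻¹ = w' * (cm y b * b) * (cm y e * e) := by
        rw [hu2]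
        calc y * (w' * b * e) * y⁻¹ = (y * w' * y⁻¹) * (y * b * y⁻¹) * (y * e * y⁻¹) := by group
          _ = _ := by rw [e1, e2, e3]
      have hb2 : b * b = 1 := H.F.VV (H.XmV hb)
      have he2 : e * e = 1 := H.F.VV (H.EV he)
      rw [h7, hu2] at e4
      -- `(w' b e)⁻¹ = w' (cm y b) b (cm y e) e`
      have hceF : cm y e ∈ ⨆ i, W1 i := by
        have : cm y e = (y * e * y⁻¹) * e⁻¹ := rfl
        rw [this]
        exact mul_mem (H.dF y hy e heF) (inv_mem heF)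
      have hcbF : cm y b ∈ ⨆ i, W1 i := H.F.VF (hXrV hcb)
      have hw'F := hX0F hw'W
      have c1 := H.F.comm hbF hceF
      have c2 := H.F.comm hw'F hcbF
      have e5 : (1 : G) = w' * cm y b * b * (cm y e * e) * (w' * b * e) := by
        calc (1 : G) = (w' * b * e)⁻¹ * (w' * b * e) := by group
          _ = w' * (cm y b * b) * (cm y e * e) * (w' * b * e) := by rw [e4]
          _ = _ := by group
      have e6 : (1 : G) = cm y e * (cm y b * (w' * w')) := by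
        have c3 := H.F.comm (mul_mem hceF heF) (mul_mem (mul_mem hw'F hcbF) hbF)
        have c4 := H.F.comm heF (mul_mem (mul_mem hw'F hcbF) (mul_mem hbF (mul_mem hw'F hbF)))
        have c5 := H.F.comm (mul_mem hbF hw'F) hbF
        calc (1 : G) = (w' * cm y b * b) * (cm y e * e) * (w' * b * e) := e5
          _ = (cm y e * e) * (w' * cm y b * b) * (w' * b * e) := by rw [← c3]
          _ = cm y e * (e * (w' * cm y b * (b * (w' * b)))) * e := by group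
          _ = cm y e * ((w' * cm y b * (b * (w' * b))) * e) * e := by rw [c4]
          _ = cm y e * (w' * cm y b * ((b * w') * b)) * (e * e) := by group
          _ = cm y e * (w' * cm y b * (b * (b * w'))) := by rw [c5, he2, mul_one]
          _ = cm y e * (w' * cm y b * ((b * b) * w')) := by group
          _ = cm y e * ((w' * cm y b) * w') := by rw [hb2, one_mul]
          _ = _ := by rw [c2]; group
      have e7 : cm y e = (cm y b * (w' * w'))⁻¹ := eq_inv_of_mul_eq_one_left e6.symm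
      rw [e7]
      exact inv_mem (mul_mem hcb hwX)
    have he1 : e = 1 := (H.cE y hy e he h11).resolve_left hy1
    exact ⟨w', hw'W, b, hb, by rw [hu2, he1, mul_one]⟩
  -- second: the torus trick
  obtain ⟨κ, hκK, hκd, hκf, hκm, hκr⟩ := hκ
  intro y hy w hw
  obtain ⟨v, hv, e⟩ := onto' hκd hκf y hy
  obtain ⟨w', hw', b, hb, ec⟩ := key v hv w hw
  have hbm : κ * b = b * κ := hκm b (Dm.XW hb)
  rw [e, kappa' (hκm w hw), ec]
  have h1 : κ * (w' * b) * κ⁻¹ * (w' * b)⁻¹ = (κ * w' * κ⁻¹) * w'⁻¹ := by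
    calc κ * (w' * b) * κ⁻¹ * (w' * b)⁻¹ = κ * w' * (b * κ⁻¹) * b⁻¹ * w'⁻¹ := by group
      _ = κ * w' * (κ⁻¹ * b) * b⁻¹ * w'⁻¹ := by rw [← comm_inv hbm]
      _ = _ := by group
  rw [h1]
  have h2 : (κ * w' * κ⁻¹) * w'⁻¹ ∈ W1 i1 := mul_mem (hκr w' hw') (inv_mem hw')
  have h3 := hdW v hv _ h2
  have h4 : v⁻¹ * ((κ * w' * κ⁻¹) * w'⁻¹) * v = (κ * w' * κ⁻¹) * w'⁻¹ := by
    calc v⁻¹ * ((κ * w' * κ⁻¹) * w'⁻¹) * v = v⁻¹ * (((κ * w' * κ⁻¹) * w'⁻¹) * v) := by group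
      _ = _ := by rw [← h3]; group
  rw [h4]
  exact h2

/-- elements of `K` of odd order centralising `X_m` and normalising the first family centralise the doubled `X_m` -/
theorem cen [Finite G] (H : Half K R T P1 X1 W1 P2 X2 W2 Y1 Z1 i1 z1 i2 Xm Xd E1 τ) {t : G} (ht : t ∈ R) (ht1 : t ≠ 1)
    {κ : G} (hκ : κ ∈ K) (hF : ∀ f ∈ ⨆ i, W1 i, κ * f * κ⁻¹ ∈ ⨆ i, W1 i) (hτ : κ * τ = τ * κ)
    (hX : ∀ x ∈ Xm, κ * x = x * κ) (hodd : ∃ l : ℕ, Odd l ∧ κ ^ l = 1) :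
    ∀ w ∈ tw (⨆ i, W1 i) τ, κ * w = w * κ := by
  obtain ⟨l, hl, hκl⟩ := hodd
  refine H.dw.cen H.F.A ht ht1 hκ ?_ hX hl hκl
  intro w hw
  obtain ⟨-, f, hf, rfl⟩ := mem_tw (fun _ hf _ hg => H.F.comm hf hg) H.τF hw
  have h1 : κ * τ * κ⁻¹ = τ := by rw [hτ]; group
  have h2 : κ * br τ f * κ⁻¹ = br τ (κ * f * κ⁻¹) := by
    calc κ * br τ f * κ⁻¹ = (κ * f * κ⁻¹)⁻¹ * ((κ * τ * κ⁻¹) * (κ * f * κ⁻¹) * (κ * τ * κ⁻¹)⁻¹) := by
          unfold br; group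
      _ = _ := by rw [h1]; rfl
  rw [h2]
  exact br_mem_tw (hF f hf)

end Half

namespace Uni

variable {ι₁ ι₂ : Type*} {K R T : Subgroup G} {P1 X1 W1 : ι₁ → Subgroup G} {P2 X2 W2 : ι₂ → Subgroup G}
  {Y1 Z1 Y2 Z2 : Subgroup G} {i1 : ι₁} {z1 : G} {i2 : ι₂} {z2 : G} {Xm Xd E1 E2 : Subgroup G} {τ : G}

theorem symm (H : Uni K R T P1 X1 W1 P2 X2 W2 Y1 Z1 Y2 Z2 i1 z1 i2 z2 Xm Xd E1 E2 τ)
    (nd' : ∀ y ∈ Xm, y ≠ 1 → ∃ x ∈ Xd, cm x y ≠ 1) :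
    Uni K R T P2 X2 W2 P1 X1 W1 Y2 Z2 Y1 Z1 i2 z2 i1 z1 Xd Xm E2 E1 τ where
  H1 := H.H2
  H2 := H.H1
  TK := H.TK
  Tab := H.Tab
  Todd := H.Todd
  cmX := fun x hx y hy => by
    rw [← H.H1.eqX, ← cm_inv]
    exact inv_mem (H.cmX y hy x hx)
  nd := nd'

theorem XdK (H : Uni K R T P1 X1 W1 P2 X2 W2 Y1 Z1 Y2 Z2 i1 z1 i2 z2 Xm Xd E1 E2 τ) : Xd ≤ K :=
  H.H2.XmV.trans H.H2.F.VK

theorem XmK (H : Uni K R T P1 X1 W1 P2 X2 W2 Y1 Z1 Y2 Z2 i1 z1 i2 z2 Xm Xd E1 E2 τ) : Xm ≤ K :=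
  H.H1.XmV.trans H.H1.F.VK

/-- `[X_d, W_m] ≤ W_r` -/
theorem mem1 [Finite G] (H : Uni K R T P1 X1 W1 P2 X2 W2 Y1 Z1 Y2 Z2 i1 z1 i2 z2 Xm Xd E1 E2 τ)
    {t : G} (ht : t ∈ R) (ht1 : t ≠ 1) : ∀ y ∈ Xd, ∀ w ∈ tw (⨆ i, W1 i) τ, cm y w ∈ W1 i1 := by
  apply H.H1.mem (fun y hy x hx => by rw [← cm_inv]; exact inv_mem (H.cmX x hx y hy))
    (fun y hy => H.H2.F.VV (H.H2.XmV hy)) H.XdK ?_ ht ht1 ?_
  · intro y hy w hw
    rw [H.H1.eqW] at hw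
    exact ((H.H2.F.D i2).WP w hw y (H.H2.F.VP i2 (H.H2.XmV hy))).symm
  · have hzT := H.H2.ZT H.H2.F.zZ
    refine ⟨z2, H.H2.F.ZK H.H2.F.zZ, H.H2.Zm z2 H.H2.F.zZ,
      fun f hf => H.H2.F.zfix f (H.H2.XmV hf),
      H.H1.cen ht ht1 (H.H2.F.ZK H.H2.F.zZ) (H.H2.Z2 z2 H.H2.F.zZ) (H.H2.Zτ z2 H.H2.F.zZ)
        (H.H2.Zd z2 H.H2.F.zZ) (H.Todd z2 hzT), ?_⟩
    intro w hw
    rw [H.H1.eqW] at hw ⊢
    exact H.H2.F.ZW z2 H.H2.F.zZ i2 w hw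

/-- `[X_m, W_d] ≤ W_r` -/
theorem mem2 [Finite G] (H : Uni K R T P1 X1 W1 P2 X2 W2 Y1 Z1 Y2 Z2 i1 z1 i2 z2 Xm Xd E1 E2 τ)
    {t : G} (ht : t ∈ R) (ht1 : t ≠ 1) : ∀ y ∈ Xm, ∀ w ∈ tw (⨆ i, W2 i) τ, cm y w ∈ W1 i1 := by
  rw [H.H1.eqW]
  apply H.H2.mem (fun y hy x hx => by rw [← H.H1.eqX]; exact H.cmX y hy x hx)
    (fun y hy => H.H1.F.VV (H.H1.XmV hy)) H.XmK ?_ ht ht1 ?_
  · intro y hy w hw
    rw [← H.H1.eqW] at hw
    exact ((H.H1.F.D i1).WP w hw y (H.H1.F.VP i1 (H.H1.XmV hy))).symm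
  · have hzT := H.H1.ZT H.H1.F.zZ
    refine ⟨z1, H.H1.F.ZK H.H1.F.zZ, H.H1.Zm z1 H.H1.F.zZ,
      fun f hf => H.H1.F.zfix f (H.H1.XmV hf),
      H.H2.cen ht ht1 (H.H1.F.ZK H.H1.F.zZ) (H.H1.Z2 z1 H.H1.F.zZ) (H.H1.Zτ z1 H.H1.F.zZ)
        (H.H1.Zd z1 H.H1.F.zZ) (H.Todd z1 hzT), ?_⟩
    intro w hw
    rw [← H.H1.eqW] at hw ⊢
    exact H.H1.F.ZW z1 H.H1.F.zZ i1 w hw

/-- the commutator formula -/
theorem br_cm [Finite G] (H : Uni K R T P1 X1 W1 P2 X2 W2 Y1 Z1 Y2 Z2 i1 z1 i2 z2 Xm Xd E1 E2 τ)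
    {t : G} (ht : t ∈ R) (ht1 : t ≠ 1) {a v y : G} (ha : a ∈ R) (hv : v ∈ tw (⨆ i, W1 i) τ)
    (hy : y ∈ tw (⨆ i, W2 i) τ) :
    br a (cm v y) = cm (br a v) y * cm (br a v) (br a y) * cm v (br a y) ∧
      cm (br a v) y ∈ W1 i1 ∧ cm (br a v) (br a y) ∈ X1 i1 ∧ cm v (br a y) ∈ W1 i1 ∧
      cm (br a v) y * cm (br a v) (br a y) * cm v (br a y) ∈ X1 i1 := by
  have Dm := H.H1.dw
  have Dd := H.H2.dw
  have hx := Dm.brk a ha v hv
  have hz := Dd.brk a ha y hy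
  have hvF := H.H1.twF hv
  have hyF := H.H2.twF hy
  have m1 : cm (br a v) y ∈ W1 i1 := H.mem2 ht ht1 _ hx y hy
  have m2 : cm (br a v) (br a y) ∈ X1 i1 := H.cmX _ hx _ hz
  have m3 : cm v (br a y) ∈ W1 i1 := by
    rw [← cm_inv]
    exact inv_mem (H.mem1 ht ht1 _ hz v hv)
  have m2' := (H.H1.F.D i1).XW m2
  -- `W_r` commutes with `v` and `y`
  have cv : ∀ w ∈ W1 i1, v * w = w * v := fun w hw => H.H1.F.comm hvF (le_iSup W1 i1 hw)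
  have cy : ∀ w ∈ W1 i1, y * w = w * y := by
    intro w hw
    rw [H.H1.eqW] at hw
    exact H.H2.F.comm hyF (le_iSup W2 i2 hw)
  have cc : ∀ w ∈ W1 i1, ∀ w' ∈ W1 i1, w * w' = w' * w := fun w hw w' hw' =>
    H.H1.F.comm (le_iSup W1 i1 hw) (le_iSup W1 i1 hw')
  have cvy : ∀ w ∈ W1 i1, cm v y * w = w * cm v y := by
    intro w hw
    exact (comm_cm (cv w hw).symm (cy w hw).symm).symm
  have E : br a (cm v y) = cm (br a v) y * cm (br a v) (br a y) * cm v (br a y) := by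
    have h1 : a * cm v y * a⁻¹ = cm (v * br a v) (y * br a y) := by
      rw [cm_conj, conj_eq a v, conj_eq a y]
    have h2 : cm (br a v) (y * br a y) = cm (br a v) y * cm (br a v) (br a y) := cm_mul_right (cy _ m2')
    have h3 : cm v (y * br a y) = cm v y * cm v (br a y) := cm_mul_right (cy _ m3)
    have m12 : cm (br a v) y * cm (br a v) (br a y) ∈ W1 i1 := mul_mem m1 m2'
    have h4 : cm (v * br a v) (y * br a y) = (cm v y * cm v (br a y)) * (cm (br a v) y * cm (br a v) (br a y)) := by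
      rw [cm_mul_left (v := v) (x := br a v) (y := y * br a y), h2, h3]
      · rw [h2]; exact cv _ m12
      · rw [h2, h3]
        have := cvy _ m12
        have h5 := cc _ m3 _ m12
        calc cm (br a v) y * cm (br a v) (br a y) * (cm v y * cm v (br a y))
            = (cm (br a v) y * cm (br a v) (br a y) * cm v y) * cm v (br a y) := by group
          _ = cm v y * (cm (br a v) y * cm (br a v) (br a y) * cm v (br a y)) := by rw [← this]; group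
          _ = _ := by rw [← h5]; group
    rw [br_def, h1, h4]
    have h5 := cc _ m3 _ m12
    calc (cm v y)⁻¹ * (cm v y * cm v (br a y) * (cm (br a v) y * cm (br a v) (br a y)))
        = cm v (br a y) * (cm (br a v) y * cm (br a v) (br a y)) := by group
      _ = _ := h5
  refine ⟨E, m1, m2, m3, ?_⟩
  by_cases ha1 : a = 1
  · rw [ha1]
    have e1 : ∀ g : G, br (1 : G) g = 1 := fun g => by unfold br; group
    have e2 : ∀ g : G, cm 1 g = 1 := fun g => by unfold cm; group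
    have e3 : ∀ g : G, cm g 1 = 1 := fun g => by unfold cm; group
    rw [e1, e1, e2, e2, e3]
    simp
  apply (H.H1.F.D i1).fix a ha ha1 _ (mul_mem (mul_mem m1 m2') m3)
  apply br_eq_one.mp
  rw [(H.H1.F.D i1).br_mul ha (mul_mem m1 m2') m3, (H.H1.F.D i1).br_mul ha m1 m2',
    (H.H1.F.D i1).br_x H.H1.F.A ha m2, mul_one]
  -- `br a (cm x y) = cm x z = br a (cm v z)`
  have hxK := H.XmK hx
  have hzK := H.XdK hz
  have f1 : br a (cm (br a v) y) = cm (br a v) (br a y) := by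
    have h0 : a * br a v * a⁻¹ = br a v := by rw [H.H1.F.A.comm a ha _ hxK]; group
    have h1 : a * cm (br a v) y * a⁻¹ = cm (br a v) y * cm (br a v) (br a y) := by
      rw [cm_conj, h0, conj_eq a y]
      exact cm_mul_right (cy _ m2')
    rw [br_def, h1]; group
  have f2 : br a (cm v (br a y)) = cm (br a v) (br a y) := by
    have h0 : a * br a y * a⁻¹ = br a y := by rw [H.H1.F.A.comm a ha _ hzK]; group
    have h1 : a * cm v (br a y) * a⁻¹ = cm v (br a y) * cm (br a v) (br a y) := by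
      rw [cm_conj, h0, conj_eq a v]
      exact cm_mul_left (cv _ m2') (cc _ m2' _ m3)
    rw [br_def, h1]; group
  rw [f1, f2]
  exact (H.H1.F.D i1).XX _ m2

/-- **`R` has at most one involution.** -/
theorem eq_of_ne_one [Finite G] (H : Uni K R T P1 X1 W1 P2 X2 W2 Y1 Z1 Y2 Z2 i1 z1 i2 z2 Xm Xd E1 E2 τ)
    (hd : ∃ y ∈ Xd, y ≠ 1) {t t' : G} (ht : t ∈ R) (ht1 : t ≠ 1) (ht' : t' ∈ R) (ht'1 : t' ≠ 1) : t' = t := by
  have A := H.H1.F.A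
  have Dm := H.H1.dw
  have Dd := H.H2.dw
  have Dr := H.H1.F.D i1
  obtain ⟨h, hh, eh⟩ := H.H1.F.scal ht ht1 ht' ht'1
  obtain ⟨k, hk, ek⟩ := H.H2.F.scal ht ht1 ht' ht'1
  have hhK := H.H1.F.ZK hh
  have hkK := H.H2.F.ZK hk
  have chd : ∀ w ∈ tw (⨆ i, W2 i) τ, h * w = w * h :=
    H.H2.cen ht ht1 hhK (H.H1.Z2 h hh) (H.H1.Zτ h hh) (H.H1.Zd h hh) (H.Todd h (H.H1.ZT hh))
  have ckm : ∀ w ∈ tw (⨆ i, W1 i) τ, k * w = w * k :=
    H.H1.cen ht ht1 hkK (H.H2.Z2 k hk) (H.H2.Zτ k hk) (H.H2.Zd k hk) (H.Todd k (H.H2.ZT hk))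
  -- `h` and `k` agree on `X_r`, hence on `W_r`
  have hkX : ∀ x ∈ X1 i1, h * x * h⁻¹ = k * x * k⁻¹ := by
    intro x hx
    obtain ⟨w, hw, e⟩ := Dr.surj t ht ht1 x hx
    have h1 := eh w (le_iSup W1 i1 hw)
    have h2 : w ∈ ⨆ i, W2 i := by
      rw [H.H1.eqW] at hw
      exact le_iSup W2 i2 hw
    have h3 := ek w h2
    rw [e] at h1 h3
    rw [← h1, ← h3]
  have hkW : ∀ w ∈ W1 i1, h * w * h⁻¹ = k * w * k⁻¹ := by
    have hT := mul_mem (inv_mem (H.H1.ZT hh)) (H.H2.ZT hk)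
    obtain ⟨l, hl, hl1⟩ := H.Todd _ hT
    have h1 := Dr.cen A ht ht1 (H.TK hT) (by
      intro w hw
      have e1 : k * w * k⁻¹ ∈ W1 i1 := by
        rw [H.H1.eqW] at hw ⊢
        exact H.H2.F.ZW k hk i2 w hw
      have e2 := H.H1.F.ZW h⁻¹ (inv_mem hh) i1 _ e1
      have e3 : h⁻¹ * k * w * (h⁻¹ * k)⁻¹ = h⁻¹ * (k * w * k⁻¹) * h⁻¹⁻¹ := by group
      rw [e3]; exact e2) (by
      intro x hx
      have e1 := hkX x hx
      calc h⁻¹ * k * x = h⁻¹ * (k * x * k⁻¹) * k := by group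
        _ = h⁻¹ * (h * x * h⁻¹) * k := by rw [e1]
        _ = x * (h⁻¹ * k) := by group) hl hl1
    intro w hw
    have h2 := h1 w hw
    calc h * w * h⁻¹ = h * (w * (h⁻¹ * k)) * k⁻¹ := by group
      _ = h * (h⁻¹ * k * w) * k⁻¹ := by rw [h2]
      _ = k * w * k⁻¹ := by group
  -- the comparison
  have main : ∀ v ∈ tw (⨆ i, W1 i) τ, ∀ y ∈ tw (⨆ i, W2 i) τ,
      cm (br t' v) (br t' y) = cm (br t' v) (br t y) := by
    intro v hv y hy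
    obtain ⟨E1', -, -, m3, m4⟩ := H.br_cm ht ht1 ht hv hy
    obtain ⟨E2', -, -, -, m4'⟩ := H.br_cm ht ht1 ht' hv hy
    rw [← E1'] at m4
    obtain ⟨w, hw, ew⟩ := Dr.surj t ht ht1 _ m4
    have h1 : t * (cm v y * w⁻¹) = (cm v y * w⁻¹) * t := comm_of_br_eq ew.symm
    have hvF := H.H1.twF hv
    have hyF := H.H2.twF hy
    have cv : ∀ w ∈ W1 i1, v * w = w * v := fun w hw => H.H1.F.comm hvF (le_iSup W1 i1 hw)
    have cy : ∀ w ∈ W1 i1, y * w = w * y := by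
      intro w hw
      rw [H.H1.eqW] at hw
      exact H.H2.F.comm hyF (le_iSup W2 i2 hw)
    have cvy : ∀ w ∈ W1 i1, cm v y * w = w * cm v y := by
      intro w hw
      exact (comm_cm (cv w hw).symm (cy w hw).symm).symm
    have hbrw : ∀ a ∈ R, br a (cm v y * w⁻¹) = br a (cm v y) * (br a w)⁻¹ := by
      intro a ha
      have e1 : br a (cm v y) * w⁻¹ = w⁻¹ * br a (cm v y) := by
        obtain ⟨E, -, -, -, m⟩ := H.br_cm ht ht1 ha hv hy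
        rw [E]
        exact H.H1.F.comm (H.H1.F.VF (le_iSup X1 i1 m)) (le_iSup W1 i1 (inv_mem hw))
      rw [br_mul' e1, Dr.br_inv ha hw]
    have h2 : ∀ a ∈ R, br a (cm v y * w⁻¹) ∈ K := by
      intro a ha
      obtain ⟨E, -, -, -, m⟩ := H.br_cm ht ht1 ha hv hy
      rw [hbrw a ha, E]
      exact mul_mem (Dr.XK m) (inv_mem (Dr.XK (Dr.brk a ha w hw)))
    have h3 := A.tight ht ht1 h1.symm h2 t' ht'
    have h4 := br_eq_one.mpr h3.symm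
    rw [hbrw t' ht'] at h4
    have h5 : br t' (cm v y) = br t' w := mul_inv_eq_one.mp h4
    have h6 : br t' w = h * br t w * h⁻¹ := eh w (le_iSup W1 i1 hw)
    rw [h6, ew, E1', E2', conj_mul, conj_mul, cm_conj, cm_conj] at h5
    have f1 : h * br t v * h⁻¹ = br t' v := (eh v hvF).symm
    have f2 : h * y * h⁻¹ = y := by rw [chd y hy]; group
    have hz := Dd.brk t ht y hy
    have f3 : h * br t y * h⁻¹ = br t y := by rw [H.H1.Zd h hh _ hz]; group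
    have f4 : h * cm v (br t y) * h⁻¹ = cm v (br t' y) := by
      rw [hkW _ m3, cm_conj, ckm v hv, ek y hyF]
      congr 1
      group
    rw [f1, f2, f3, f4] at h5
    have h7 := mul_right_cancel h5
    exact mul_left_cancel h7
  by_contra hne
  have htt : t' * t ∈ R := mul_mem ht' ht
  have htt1 : t' * t ≠ 1 := by
    intro h0
    apply hne
    calc t' = (t' * t) * t⁻¹ := by group
      _ = t := by rw [h0, one_mul, A.inv_eq ht]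
  obtain ⟨x0, hx0, hx01⟩ := hd
  obtain ⟨y, hy, ey⟩ := Dd.surj t ht ht1 x0 hx0
  have hz := Dd.brk t ht y hy
  have hz' := Dd.brk t' ht' y hy
  have h1 : br t y = br t' y := by
    by_contra hzz
    have hd1 : (br t y)⁻¹ * br t' y ∈ Xd := mul_mem (inv_mem hz) hz'
    have hd2 : (br t y)⁻¹ * br t' y ≠ 1 := by
      intro h0
      exact hzz (inv_mul_eq_one.mp h0)
    obtain ⟨x, hx, hx1⟩ := H.nd _ hd1 hd2
    obtain ⟨v, hv, ev⟩ := Dm.surj t' ht' ht'1 x hx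
    have h2 := main v hv y hy
    rw [ev] at h2
    apply hx1
    have hXr := H.cmX x hx _ hd1
    have h3 : br t' y = br t y * ((br t y)⁻¹ * br t' y) := by group
    have h4 : cm x (br t' y) = cm x (br t y) * cm x ((br t y)⁻¹ * br t' y) := by
      conv_lhs => rw [h3]
      apply cm_mul_right
      have e1 : cm x ((br t y)⁻¹ * br t' y) ∈ X2 i2 := by rw [← H.H1.eqX]; exact hXr
      exact H.H2.F.comm (H.H2.F.VF (H.H2.XmV hz)) (H.H2.F.VF (le_iSup X2 i2 e1))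
    rw [h2] at h4
    exact (mul_eq_left.mp h4.symm)
  -- `t' t` commutes with `y`
  have h2 : t * y * t⁻¹ = t' * y * t'⁻¹ := by rw [conj_eq, conj_eq, h1]
  have h3 : (t' * t) * y = y * (t' * t) := by
    have e1 : t'⁻¹ = t' := A.inv_eq ht'
    have e2 : t⁻¹ = t := A.inv_eq ht
    have e3 := A.tt t' ht'
    calc (t' * t) * y = t' * (t * y * t⁻¹) * t := by group
      _ = t' * (t' * y * t'⁻¹) * t := by rw [h2]
      _ = (t' * t') * y * (t'⁻¹ * t) := by group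
      _ = y * (t' * t) := by rw [e3, one_mul, e1]
  have h4 := Dd.fix _ htt htt1 y hy h3
  have h5 := Dd.br_x A ht h4
  rw [ey] at h5
  exact hx01 h5

end Uni

end Cfsg.Agent.OddHalf.DblR
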