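import Cfsg.Agent.Nodes.RGDLib
import Cfsg.Agent.OddHalf.DblR.Uni
import Cfsg.Agent.OddHalf.DblR.BaseS

/-!
# ODD, D4, unitary groups: the facts on `K` used by `Uni` (helper350)

* `HalfK` : one totally isotropic line `L = ⟨e₁, e₂⟩`: `X₀` the long root group of `e₁`, `P = C_K(X₀)`, `A` the group
  `SL(L)`, `V = ⟨X₀^A⟩` the long root groups of the points of `L`, `Z` the torus of scalars on `L`;
* `UK` : two of them, `L = ⟨e₁, e₂⟩`, `L' = ⟨e₁, f₂⟩`;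
* `UK.map` : transport from `Y` to the image of an injective homomorphism `Y →* G`;
* **`UK.eq_of_ne_one`** : with a doubled root group (`Base`), `R` has at most one involution.
-/

set_option autoImplicit false

namespace Cfsg.Agent.OddHalf.DblR

open Cfsg.Agent.Nodes.Reps

/-- One half of the facts on `K`. `Cn S Z` : "what centralises `S` is induced by `Z`". -/
structure HalfK {Y : Type*} [Group Y] (Cn : Subgroup Y → Subgroup Y → Prop) (T P X0 A V S Z Xm Xd E : Subgroup Y)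
    (z τ : Y) : Prop where
  hV : V = ⨆ k : ↥A, cj (k : Y) X0
  AP : ∀ k ∈ A, cj k X0 ≤ P
  AZ : ∀ k ∈ A, ∀ h ∈ Z, h * k = k * h
  SP : ∀ k ∈ A, S ≤ cj k P
  zZ : z ∈ Z
  ZT : Z ≤ T
  Ztr : ∀ x ∈ X0, x ≠ 1 → ∀ x' ∈ X0, x' ≠ 1 → ∃ h ∈ Z, h * x * h⁻¹ = x'
  zfix : ∀ x ∈ V, z * x = x * z → x = 1
  cen : Cn S V
  /-- two points of `L` -/
  sep : ∀ k ∈ A, cj k X0 ≠ X0 → (∀ x ∈ X0, x ∈ cj k X0 → x = 1) ∧ Cn (P ⊓ cj k P) (X0 ⊔ cj k X0) ∧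
    ∃ κ ∈ cj k P, cj κ X0 = X0 ∧ ∀ x ∈ X0, κ * x = x * κ → x = 1
  /-- `T` and `X_d` permute the points of `L` -/
  nor : ∀ g, g ∈ T ∨ g ∈ Xd → ∀ k ∈ A, ∃ k' ∈ A, cj (g * k) X0 = cj k' X0
  τdec : ∀ ρ ∈ V, ∃ c ∈ V, τ * c = c * τ ∧ ∃ x ∈ Xm, ρ = c * x
  XmV : Xm ≤ V
  TXm : ∀ g ∈ T, ∀ x ∈ Xm, g * x * g⁻¹ ∈ Xm
  τfix : ∀ x ∈ Xm, τ * x = x * τ → x = 1
  Zd : ∀ h ∈ Z, ∀ y ∈ Xd, h * y = y * h
  dXr : ∀ y ∈ Xd, ∀ x ∈ X0, y * x = x * y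
  VE : ∀ ρ ∈ V, ∃ a ∈ X0, ∃ b ∈ Xm, ∃ e ∈ E, ρ = a * b * e
  EV : E ≤ V
  cE : ∀ y ∈ Xd, ∀ e ∈ E, cm y e ∈ X0 → y = 1 ∨ e = 1

/-- **The facts on `K`.** -/
structure UK {Y : Type*} [Group Y] (Cn : Subgroup Y → Subgroup Y → Prop) (T P0 P X0 A1 V1 S1 Z1 A2 V2 S2 Z2
    Xm Xd E1 E2 : Subgroup Y) (z1 z2 τ : Y) : Prop where
  H1 : HalfK Cn T P X0 A1 V1 S1 Z1 Xm Xd E1 z1 τ
  H2 : HalfK Cn T P X0 A2 V2 S2 Z2 Xd Xm E2 z2 τ
  X0P : X0 ≤ P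
  TX : ∀ g ∈ T, cj g X0 = X0
  Tab : ∀ h ∈ T, ∀ k ∈ T, h * k = k * h
  Todd : ∀ h ∈ T, ∃ l : ℕ, Odd l ∧ h ^ l = 1
  τT : τ ∈ T
  cmX : ∀ x ∈ Xm, ∀ y ∈ Xd, cm x y ∈ X0
  nd : ∀ y ∈ Xd, y ≠ 1 → ∃ x ∈ Xm, cm x y ≠ 1
  hd : ∃ y ∈ Xd, y ≠ 1
  /-- `P = P₀ (elements of odd order centralising X₀)` -/
  P0P : P0 ≤ P
  up : ∀ p ∈ P, ∃ a ∈ P0, ∃ s : Y, p = a * s ∧ (∀ x ∈ X0, s * x = x * s) ∧ ∃ m : ℕ, Odd m ∧ s ^ m = 1

/-- `Cn` for automorphisms -/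
def CnAut {Y : Type*} [Group Y] (S Z : Subgroup Y) : Prop :=
  ∀ α : MulAut Y, (∀ y ∈ S, α y = y) → ∃ ρ ∈ Z, α = MulAut.conj ρ

/-- `Cn` for elements of an overgroup of `K` commuting with `R` -/
def CnR {G : Type*} [Group G] (K R : Subgroup G) (S Z : Subgroup G) : Prop :=
  ∀ c : G, (∀ a ∈ R, c * a = a * c) → (∀ y ∈ S, c * y = y * c) → ∃ ρ ∈ Z, ρ⁻¹ * c ∈ C1 K R

section map

variable {Y G : Type*} [Group Y] [Group G] (f : Y →* G) (hf : Function.Injective f)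
include hf

theorem map_comm' {a b : Y} : f a * f b = f b * f a ↔ a * b = b * a := by
  rw [← map_mul, ← map_mul]
  exact ⟨fun h => hf h, fun h => by rw [h]⟩

theorem map_eq_one' {a : Y} : f a = 1 ↔ a = 1 := by
  rw [← map_one f]
  exact ⟨fun h => hf h, fun h => by rw [h]⟩

theorem HalfK.map {Cn : Subgroup Y → Subgroup Y → Prop} {Cn' : Subgroup G → Subgroup G → Prop}
    (hCn : ∀ S Z, Cn S Z → Cn' (S.map f) (Z.map f)) {T P X0 A V S Z Xm Xd E : Subgroup Y} {z τ : Y}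
    (H : HalfK Cn T P X0 A V S Z Xm Xd E z τ) :
    HalfK Cn' (T.map f) (P.map f) (X0.map f) (A.map f) (V.map f) (S.map f) (Z.map f) (Xm.map f) (Xd.map f)
      (E.map f) (f z) (f τ) := by
  have cjf : ∀ (k : Y) (B : Subgroup Y), cj (f k) (B.map f) = (cj k B).map f := fun k B =>
    Cfsg.Agent.Nodes.RGDLib.cj_map f k B
  have mi : ∀ {k : Y} {B : Subgroup Y}, f k ∈ B.map f → k ∈ B := by
    rintro k B ⟨b, hb, e⟩
    rwa [← hf e]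
  refine ⟨?_, ?_, ?_, ?_, ?_, ?_, ?_, ?_, ?_, ?_, ?_, ?_, ?_, ?_, ?_, ?_, ?_, ?_, ?_, ?_⟩
  · conv_lhs => rw [H.hV]
    rw [Subgroup.map_iSup]
    apply le_antisymm
    · refine iSup_le fun k => ?_
      rw [← cjf]
      exact le_iSup (fun k : ↥(A.map f) => cj (k : G) (X0.map f)) ⟨f k, ⟨k, k.2, rfl⟩⟩
    · refine iSup_le ?_
      rintro ⟨_, k, hk, rfl⟩
      show cj (f k) (X0.map f) ≤ _
      rw [cjf]
      exact le_iSup (fun k : ↥A => (cj (k : Y) X0).map f) ⟨k, hk⟩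
  · rintro _ ⟨k, hk, rfl⟩
    rw [cjf]; exact Subgroup.map_mono (H.AP k hk)
  · rintro _ ⟨k, hk, rfl⟩ _ ⟨h, hh, rfl⟩
    rw [map_comm' f hf]; exact H.AZ k hk h hh
  · rintro _ ⟨k, hk, rfl⟩
    rw [cjf]; exact Subgroup.map_mono (H.SP k hk)
  · exact ⟨z, H.zZ, rfl⟩
  · exact Subgroup.map_mono H.ZT
  · rintro _ ⟨x, hx, rfl⟩ h1 _ ⟨y, hy, rfl⟩ h2
    obtain ⟨h, hh, e⟩ := H.Ztr x hx (fun h0 => h1 (by rw [h0, map_one])) y hy (fun h0 => h2 (by rw [h0, map_one]))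
    exact ⟨f h, ⟨h, hh, rfl⟩, by rw [← e]; simp⟩
  · rintro _ ⟨x, hx, rfl⟩ h1
    rw [H.zfix x hx ((map_comm' f hf).1 h1), map_one]
  · exact hCn _ _ H.cen
  · rintro _ ⟨k, hk, rfl⟩ hne
    rw [cjf] at hne
    obtain ⟨h1, h2, κ, hκ, h3, h4⟩ := H.sep k hk fun h0 => hne (by rw [h0])
    refine ⟨?_, ?_, f κ, ?_, ?_, ?_⟩
    · rintro _ ⟨x, hx, rfl⟩ h5
      rw [cjf] at h5
      rw [h1 x hx (mi h5), map_one]
    · have := hCn _ _ h2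
      rwa [Subgroup.map_inf _ _ _ hf, Subgroup.map_sup, ← cjf, ← cjf] at this
    · rw [cjf]; exact ⟨κ, hκ, rfl⟩
    · rw [cjf, h3]
    · rintro _ ⟨x, hx, rfl⟩ h5
      rw [h4 x hx ((map_comm' f hf).1 h5), map_one]
  · rintro g hg _ ⟨k, hk, rfl⟩
    obtain ⟨g, hg', rfl⟩ : ∃ g', (g' ∈ T ∨ g' ∈ Xd) ∧ f g' = g := by
      rcases hg with ⟨g', h, e⟩ | ⟨g', h, e⟩
      · exact ⟨g', Or.inl h, e⟩
      · exact ⟨g', Or.inr h, e⟩
    obtain ⟨k', hk', e⟩ := H.nor g hg' k hk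
    exact ⟨f k', ⟨k', hk', rfl⟩, by rw [← map_mul, cjf, cjf, e]⟩
  · rintro _ ⟨ρ, hρ, rfl⟩
    obtain ⟨c, hc, h1, x, hx, e⟩ := H.τdec ρ hρ
    exact ⟨f c, ⟨c, hc, rfl⟩, (map_comm' f hf).2 h1, f x, ⟨x, hx, rfl⟩, by rw [e, map_mul]⟩
  · exact Subgroup.map_mono H.XmV
  · rintro _ ⟨g, hg, rfl⟩ _ ⟨x, hx, rfl⟩
    exact ⟨g * x * g⁻¹, H.TXm g hg x hx, by simp⟩
  · rintro _ ⟨x, hx, rfl⟩ h1
    rw [H.τfix x hx ((map_comm' f hf).1 h1), map_one]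
  · rintro _ ⟨h, hh, rfl⟩ _ ⟨y, hy, rfl⟩
    exact (map_comm' f hf).2 (H.Zd h hh y hy)
  · rintro _ ⟨h, hh, rfl⟩ _ ⟨y, hy, rfl⟩
    exact (map_comm' f hf).2 (H.dXr h hh y hy)
  · rintro _ ⟨ρ, hρ, rfl⟩
    obtain ⟨a, ha, b, hb, e, he, h⟩ := H.VE ρ hρ
    exact ⟨f a, ⟨a, ha, rfl⟩, f b, ⟨b, hb, rfl⟩, f e, ⟨e, he, rfl⟩, by rw [h, map_mul, map_mul]⟩
  · exact Subgroup.map_mono H.EV
  · rintro _ ⟨y, hy, rfl⟩ _ ⟨e, he, rfl⟩ h1
    have h2 : cm (f y) (f e) = f (cm y e) := by unfold cm; simp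
    rw [h2] at h1
    rcases H.cE y hy e he (mi h1) with h | h
    · left; rw [h, map_one]
    · right; rw [h, map_one]

theorem UK.map {Cn : Subgroup Y → Subgroup Y → Prop} {Cn' : Subgroup G → Subgroup G → Prop}
    (hCn : ∀ S Z, Cn S Z → Cn' (S.map f) (Z.map f)) {T P0 P X0 A1 V1 S1 Z1 A2 V2 S2 Z2 Xm Xd E1 E2 : Subgroup Y}
    {z1 z2 τ : Y} (H : UK Cn T P0 P X0 A1 V1 S1 Z1 A2 V2 S2 Z2 Xm Xd E1 E2 z1 z2 τ) :
    UK Cn' (T.map f) (P0.map f) (P.map f) (X0.map f) (A1.map f) (V1.map f) (S1.map f) (Z1.map f) (A2.map f)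
      (V2.map f) (S2.map f) (Z2.map f) (Xm.map f) (Xd.map f) (E1.map f) (E2.map f) (f z1) (f z2) (f τ) := by
  have cjf : ∀ (k : Y) (B : Subgroup Y), cj (f k) (B.map f) = (cj k B).map f := fun k B =>
    Cfsg.Agent.Nodes.RGDLib.cj_map f k B
  refine ⟨H.H1.map f hf hCn, H.H2.map f hf hCn, Subgroup.map_mono H.X0P, ?_, ?_, ?_, ⟨τ, H.τT, rfl⟩, ?_, ?_, ?_,
    Subgroup.map_mono H.P0P, ?_⟩
  · rintro _ ⟨g, hg, rfl⟩
    rw [cjf, H.TX g hg]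
  · rintro _ ⟨h, hh, rfl⟩ _ ⟨k, hk, rfl⟩
    exact (map_comm' f hf).2 (H.Tab h hh k hk)
  · rintro _ ⟨h, hh, rfl⟩
    obtain ⟨l, hl, e⟩ := H.Todd h hh
    exact ⟨l, hl, by rw [← map_pow, e, map_one]⟩
  · rintro _ ⟨x, hx, rfl⟩ _ ⟨y, hy, rfl⟩
    exact ⟨cm x y, H.cmX x hx y hy, by unfold cm; simp⟩
  · rintro _ ⟨y, hy, rfl⟩ h1
    obtain ⟨x, hx, h2⟩ := H.nd y hy fun h0 => h1 (by rw [h0, map_one])
    refine ⟨f x, ⟨x, hx, rfl⟩, ?_⟩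
    have h3 : cm (f x) (f y) = f (cm x y) := by unfold cm; simp
    rw [h3]
    exact fun h0 => h2 ((map_eq_one' f hf).1 h0)
  · obtain ⟨y, hy, h1⟩ := H.hd
    exact ⟨f y, ⟨y, hy, rfl⟩, fun h0 => h1 ((map_eq_one' f hf).1 h0)⟩
  · rintro _ ⟨p, hp, rfl⟩
    obtain ⟨a, ha, s, e, h1, m, hm, h2⟩ := H.up p hp
    refine ⟨f a, ⟨a, ha, rfl⟩, f s, by rw [e, map_mul], ?_, m, hm, by rw [← map_pow, h2, map_one]⟩
    rintro _ ⟨x, hx, rfl⟩
    exact (map_comm' f hf).2 (h1 x hx)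

end map

variable {G : Type*} [Group G]

/-- elements permuting the points normalise `⨆ W` -/
theorem nor_iSup {K R P X0 W A : Subgroup G} (B : Base K R P X0 W) (hA : A ≤ K) {g : G} (hg : g ∈ K)
    (h : ∀ k ∈ A, ∃ k' ∈ A, cj (g * k) X0 = cj k' X0) : ∀ f ∈ ⨆ i : ↥A, cj (i : G) W,
      g * f * g⁻¹ ∈ ⨆ i : ↥A, cj (i : G) W := by
  have key : cj g (⨆ i : ↥A, cj (i : G) W) ≤ ⨆ i : ↥A, cj (i : G) W := by
    rw [cj_iSup]
    refine iSup_le fun i => ?_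
    obtain ⟨k', hk', e⟩ := h i i.2
    rw [← cj_mul, B.cj_eq (mul_mem hg (hA i.2)) (hA hk') e]
    exact le_iSup (fun i : ↥A => cj (i : G) W) ⟨k', hk'⟩
  intro f hf
  exact key (conj_mem_cj.2 hf)

/-- the doubled root groups of the points of `L` form a `Fan` -/
theorem HalfK.fan [Finite G] {K R T P X0 Am V S Z Xm Xd E W : Subgroup G} {z τ : G} (A : Amb K R)
    (H : HalfK (CnR K R) T P X0 Am V S Z Xm Xd E z τ) (B : Base K R P X0 W) (hW : ∀ v ∈ W, ∀ w ∈ W, v * w = w * v)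
    (TX : ∀ g ∈ T, cj g X0 = X0) (TK : T ≤ K) (AK : Am ≤ K) (Tab : ∀ h ∈ T, ∀ k ∈ T, h * k = k * h)
    {t : G} (ht : t ∈ R) (ht1 : t ≠ 1) (hX0 : ∃ x ∈ X0, x ≠ 1) :
    Fan K R (fun i : ↥Am => cj (i : G) P) (fun i => cj (i : G) X0) (fun i => cj (i : G) W) S Z 1 z := by
  have hsep1 : ∀ k ∈ Am, cj k X0 ≠ X0 → ∀ w ∈ W, ∀ y ∈ cj k W, cm w y ∈ X0 := by
    intro k hk hne
    obtain ⟨h1, h2, κ, hκ, h3, h4⟩ := H.sep k hk hne
    have D' := B.dw.conj A (AK hk)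
    have hκK : κ ∈ K := D'.PK hκ
    have hX1 : X0 ≤ cj k P := by
      have := cj_mono k (H.AP k⁻¹ (inv_mem hk))
      rwa [cj_cj_inv] at this
    refine half60 A B.dw D' ht ht1 hX1 (H.AP k hk) inf_le_left inf_le_right ?_ hκK ?_ ?_ h4
      (fun y hy => (D'.WP y hy κ hκ).symm)
    · intro c hc hcS
      obtain ⟨ρ, hρ, e⟩ := h2 c hc hcS
      -- `ρ = x x'`
      have h5 : X0 ≤ Subgroup.normalizer (cj k X0 : Set G) := by
        intro x hx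
        rw [Subgroup.mem_normalizer_iff]
        have hcom : ∀ y ∈ cj k X0, x * y = y * x := fun y hy => (D'.WP y (D'.XW hy) x (hX1 hx)).symm
        intro y
        constructor
        · intro hy
          have e2 : x * y * x⁻¹ = y := by rw [hcom y hy]; group
          rwa [e2]
        · intro hy
          have e2 : y = x * y * x⁻¹ := by
            have := hcom _ hy
            calc y = x⁻¹ * ((x * y * x⁻¹) * x) := by group
              _ = x⁻¹ * (x * (x * y * x⁻¹)) := by rw [this]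
              _ = _ := by group
          rw [e2]; exact hy
      have h6 : ρ ∈ ((X0 ⊔ cj k X0 : Subgroup G) : Set G) := hρ
      rw [Subgroup.coe_mul_of_left_le_normalizer_right _ _ h5] at h6
      obtain ⟨x, hx, x', hx', rfl⟩ := h6
      exact ⟨x, hx, x', hx', e⟩
    · intro w hw
      have := conj_mem_cj (g := κ).2 hw
      rwa [B.nor κ hκK h3] at this
    · intro x hx
      have := conj_mem_cj (g := κ).2 hx
      rwa [h3] at this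
  -- `[W, k W] = 1`
  have hww : ∀ k ∈ Am, ∀ w ∈ W, ∀ y ∈ cj k W, w * y = y * w := by
    intro k hk w hw y hy
    by_cases hne : cj k X0 = X0
    · rw [B.nor k (AK hk) hne] at hy
      exact hW w hw y hy
    · have h1 := hsep1 k hk hne w hw y hy
      have hne' : cj k⁻¹ X0 ≠ X0 := by
        intro h0
        apply hne
        conv_lhs => rw [← h0]
        exact cj_cj_inv k X0
      rw [mem_cj] at hy
      have h2 := hsep1 k⁻¹ (inv_mem hk) hne' _ hy (k⁻¹ * w * k) (by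
        rw [mem_cj]
        have : k⁻¹⁻¹ * (k⁻¹ * w * k) * k⁻¹ = w := by group
        rw [this]; exact hw)
      have h3 : cm y w ∈ cj k X0 := by
        rw [mem_cj]
        have : k⁻¹ * cm y w * k = cm (k⁻¹ * y * k) (k⁻¹ * w * k) := by unfold cm; group
        rw [this]; exact h2
      have h4 : cm w y ∈ cj k X0 := by
        rw [← cm_inv]; exact inv_mem h3
      exact cm_eq_one.1 ((H.sep k hk hne).1 _ h1 h4)
  have invX : ∀ {k x : G} {A : Subgroup G}, cj k A = A → x ∈ A → k * x * k⁻¹ ∈ A := by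
    intro k x A h hx
    have := conj_mem_cj (g := k).2 hx
    rwa [h] at this
  have hZi : ∀ h ∈ Z, ∀ i ∈ Am, ∀ C : Subgroup G, cj h C = C → cj h (cj i C) = cj i C := by
    intro h hh i hi C e
    rw [← cj_mul, H.AZ i hi h hh, cj_mul, e]
  refine ⟨A, fun i => B.dw.conj A (AK i.2), ?_, ?_, fun i => H.SP i i.2, fun h hh => TK (H.ZT hh), H.zZ,
    fun h hh k hk => Tab h (H.ZT hh) k (H.ZT hk), ?_, ?_, ?_, ?_, ?_, ?_, ?_⟩
  · intro i j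
    rw [← cj_le_cj_iff ((i : G)⁻¹), cj_inv_cj, ← cj_mul]
    exact H.AP _ (mul_mem (inv_mem i.2) j.2)
  · intro i j v hv w hw
    rw [mem_cj] at hv
    have h1 := hww ((i : G)⁻¹ * j) (mul_mem (inv_mem i.2) j.2) _ hv ((i : G)⁻¹ * w * i) (by
      rw [cj_mul, mem_cj]
      have : ((i : G)⁻¹)⁻¹ * ((i : G)⁻¹ * w * i) * (i : G)⁻¹ = w := by group
      rw [this]; exact hw)
    calc v * w = i * (((i : G)⁻¹ * v * i) * ((i : G)⁻¹ * w * i)) * (i : G)⁻¹ := by group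
      _ = i * (((i : G)⁻¹ * w * i) * ((i : G)⁻¹ * v * i)) * (i : G)⁻¹ := by rw [h1]
      _ = w * v := by group
  · intro h hh i x hx
    exact invX (hZi h hh i i.2 X0 (TX h (H.ZT hh))) hx
  · intro h hh i x hx
    exact invX (hZi h hh i i.2 W (B.nor h (TK (H.ZT hh)) (TX h (H.ZT hh)))) hx
  · intro x hx hx1 x' hx' hx1'
    have e : cj ((1 : ↥Am) : G) X0 = X0 := cj_one X0
    rw [e] at hx hx'
    exact H.Ztr x hx hx1 x' hx' hx1'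
  · obtain ⟨x, hx, hx1⟩ := hX0
    refine ⟨x, ?_, hx1⟩
    have e : cj ((1 : ↥Am) : G) X0 = X0 := cj_one X0
    rw [e]; exact hx
  · intro i
    refine ⟨i, AK i.2, H.AZ i i.2, fun w hw => ?_⟩
    have e : cj ((1 : ↥Am) : G) W = W := cj_one W
    rw [e]
    exact mem_cj.1 hw
  · intro x hx
    rw [← H.hV] at hx
    exact H.zfix x hx
  · intro c hc hcS
    have := H.cen c hc hcS
    rwa [H.hV] at this

/-- the hypotheses `Half` -/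
theorem HalfK.half [Finite G] {K R T P X0 A1 V1 S1 Z1 A2 V2 S2 Z2 Xm Xd E1 E2 W : Subgroup G} {z1 z2 τ : G}
    (A : Amb K R) (H : HalfK (CnR K R) T P X0 A1 V1 S1 Z1 Xm Xd E1 z1 τ)
    (H' : HalfK (CnR K R) T P X0 A2 V2 S2 Z2 Xd Xm E2 z2 τ) (B : Base K R P X0 W)
    (hW : ∀ v ∈ W, ∀ w ∈ W, v * w = w * v)
    (TX : ∀ g ∈ T, cj g X0 = X0) (TK : T ≤ K) (AK : A1 ≤ K) (AK' : A2 ≤ K) (XdK : Xd ≤ K)
    (Tab : ∀ h ∈ T, ∀ k ∈ T, h * k = k * h) (Todd : ∀ h ∈ T, ∃ l : ℕ, Odd l ∧ h ^ l = 1) (hτ : τ ∈ T)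
    {t : G} (ht : t ∈ R) (ht1 : t ≠ 1) (hX0 : ∃ x ∈ X0, x ≠ 1) :
    Half K R T (fun i : ↥A1 => cj (i : G) P) (fun i => cj (i : G) X0) (fun i => cj (i : G) W)
      (fun i : ↥A2 => cj (i : G) P) (fun i => cj (i : G) X0) (fun i => cj (i : G) W) S1 Z1 1 z1 1 Xm Xd E1 τ := by
  have e1 : cj ((1 : ↥A1) : G) X0 = X0 := cj_one X0
  have e2 : cj ((1 : ↥A2) : G) X0 = X0 := cj_one X0
  have e3 : cj ((1 : ↥A1) : G) W = W := cj_one W
  have e4 : cj ((1 : ↥A2) : G) W = W := cj_one W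
  have hV := H.hV
  exact {
    F := H.fan A B hW TX TK AK Tab ht ht1 hX0
    eqX := by show cj ((1 : ↥A1) : G) X0 = cj ((1 : ↥A2) : G) X0; rw [e1, e2]
    eqW := by show cj ((1 : ↥A1) : G) W = cj ((1 : ↥A2) : G) W; rw [e3, e4]
    τK := TK hτ
    τodd := Todd τ hτ
    τF := nor_iSup B AK (TK hτ) (H.nor τ (Or.inl hτ))
    τdec := by rw [← hV]; exact H.τdec
    ZT := H.ZT
    XmV := by rw [← hV]; exact H.XmV
    τX := H.TXm τ hτ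
    τfix := H.τfix
    Zd := H.Zd
    Zm := fun h hh => H.TXm h (H.ZT hh)
    Z2 := fun h hh => nor_iSup B AK' (TK (H.ZT hh)) (H'.nor h (Or.inl (H.ZT hh)))
    Zτ := fun h hh => Tab h (H.ZT hh) τ hτ
    dF := fun y hy => nor_iSup B AK (XdK hy) (H.nor y (Or.inr hy))
    dXr := by
      intro y hy x hx
      rw [e1] at hx
      exact H.dXr y hy x hx
    VE := by
      intro ρ hρ
      rw [← hV] at hρ
      rw [e1]
      exact H.VE ρ hρ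
    EV := by rw [← hV]; exact H.EV
    cE := by
      intro y hy e he h
      rw [e1] at h
      exact H.cE y hy e he h }

/-- **`R` has at most one involution.** -/
theorem UK.eq_of_ne_one [Finite G] {K R T P0 P X0 A1 V1 S1 Z1 A2 V2 S2 Z2 Xm Xd E1 E2 W : Subgroup G} {z1 z2 τ : G}
    (H : UK (CnR K R) T P0 P X0 A1 V1 S1 Z1 A2 V2 S2 Z2 Xm Xd E1 E2 z1 z2 τ) (A : Amb K R)
    (B : Base K R P0 X0 W) (hW : ∀ v ∈ W, ∀ w ∈ W, v * w = w * v) (TK : T ≤ K) (PK : P ≤ K) (AK : A1 ≤ K)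
    (AK' : A2 ≤ K) (XmK : Xm ≤ K) (XdK : Xd ≤ K) (hX0 : ∃ x ∈ X0, x ≠ 1)
    {t t' : G} (ht : t ∈ R) (ht1 : t ≠ 1) (ht' : t' ∈ R) (ht1' : t' ≠ 1) : t' = t := by
  have B' : Base K R P X0 W := by
    refine ⟨B.dw.upgrade A ht ht1 H.P0P PK ?_, B.nor⟩
    intro p hp
    obtain ⟨a, ha, s, e, h1, m, hm, h2⟩ := H.up p hp
    have hsK : s ∈ K := by
      have : s = a⁻¹ * p := by rw [e]; group
      rw [this]
      exact mul_mem (inv_mem (B.dw.PK ha)) (PK hp)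
    have h3 : cj s X0 = X0 := by
      apply le_antisymm
      · intro x hx
        rw [mem_cj] at hx
        have h4 := h1 _ hx
        have : x = s⁻¹ * x * s := by
          calc x = (s * (s⁻¹ * x * s)) * s⁻¹ := by group
            _ = ((s⁻¹ * x * s) * s) * s⁻¹ := by rw [h4]
            _ = _ := by group
        rw [this]; exact hx
      · intro x hx
        rw [mem_cj]
        have h4 := h1 x hx
        have : s⁻¹ * x * s = x := by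
          calc s⁻¹ * x * s = s⁻¹ * (x * s) := by group
            _ = s⁻¹ * (s * x) := by rw [h4]
            _ = x := by group
        rwa [this]
    refine ⟨a, ha, s, hsK, e, h1, ?_, m, hm, h2⟩
    intro w hw
    have := conj_mem_cj (g := s).2 hw
    rwa [B.nor s hsK h3] at this
  have F1 := H.H1.half A H.H2 B' hW H.TX TK AK AK' XdK H.Tab H.Todd H.τT ht ht1 hX0
  have F2 := H.H2.half A H.H1 B' hW H.TX TK AK' AK XmK H.Tab H.Todd H.τT ht ht1 hX0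
  have U : Uni K R T (fun i : ↥A1 => cj (i : G) P) (fun i => cj (i : G) X0) (fun i => cj (i : G) W)
      (fun i : ↥A2 => cj (i : G) P) (fun i => cj (i : G) X0) (fun i => cj (i : G) W) S1 Z1 S2 Z2 1 z1 1 z2
      Xm Xd E1 E2 τ := by
    refine ⟨F1, F2, TK, H.Tab, H.Todd, ?_, H.nd⟩
    intro x hx y hy
    have e1 : cj ((1 : ↥A1) : G) X0 = X0 := cj_one X0
    show cm x y ∈ cj ((1 : ↥A1) : G) X0
    rw [e1]
    exact H.cmX x hx y hy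
  exact U.eq_of_ne_one H.hd ht ht1 ht' ht1'

end Cfsg.Agent.OddHalf.DblR
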