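import Cfsg.Agent.KFacts.Unit.LineGL
import Cfsg.Agent.OddHalf.DblR.UnSheet

/-!
# ODD, D4, unitary groups: the subgroups of `PSU n F q` attached to a totally isotropic line (helper780)

`PE q u` : elements multiplying `u` by a scalar of norm one; `SE q e` : elements fixing all `e i`;
`VE hF E` : the group of the `aEl hF E H`. All are images in `PSU n F q` of subgroups `stE`, `fixE`, `aG` of `SU n F q`.
-/

set_option autoImplicit false

namespace Cfsg.Agent.OddHalf.DblR.UnF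

open Cfsg Cfsg.Agent.LieClassical.HermBasic Cfsg.Agent.LieClassical.HermSiegel
  Cfsg.Agent.LieClassical.HermGen Cfsg.Agent.LieClassical.SUBasic Matrix
  Cfsg.Agent.ClassicalGeometry.PSUAutBasic Cfsg.Agent.ClassicalGeometry.PSUAutSylow
  Cfsg.Agent.ClassicalGeometry.PSUAutUnip Cfsg.Agent.KFacts.Unit

section Basic

variable {F : Type*} [Field F] {q n d : ℕ}

/-- The elements multiplying `u` by a scalar of norm one. -/
def stE (q : ℕ) (u : Fin n → F) : Subgroup (SU n F q) where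
  carrier := {g | ∃ c : F, c * c ^ q = 1 ∧ act g u = c • u}
  one_mem' := ⟨1, by rw [one_pow, one_mul], by rw [act_one, one_smul]⟩
  mul_mem' := by
    rintro g h ⟨c, hc, hg⟩ ⟨d, hd, hh⟩
    refine ⟨c * d, ?_, ?_⟩
    · rw [mul_pow]
      calc c * d * (c ^ q * d ^ q) = (c * c ^ q) * (d * d ^ q) := by ring
        _ = 1 := by rw [hc, hd, one_mul]
    · rw [act_mul, hh, act_smul, hg, smul_smul, mul_comm]
  inv_mem' := by
    rintro g ⟨c, hc, hg⟩
    have hc0 : c ≠ 0 := by
      rintro rfl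
      rw [zero_mul] at hc
      exact zero_ne_one hc
    refine ⟨c⁻¹, ?_, ?_⟩
    · rw [inv_pow, ← mul_inv, hc, inv_one]
    · symm
      rw [← act_eq_iff, act_smul, hg, smul_smul, inv_mul_cancel₀ hc0, one_smul]

theorem mem_stE {u : Fin n → F} {g : SU n F q} : g ∈ stE q u ↔ ∃ c : F, c * c ^ q = 1 ∧ act g u = c • u := Iff.rfl

/-- Its image in `PSU`: the centraliser of `RR u`. -/
def PE (q : ℕ) (u : Fin n → F) : Subgroup (PSU n F q) := (stE q u).map (pr n F q)

theorem mem_PE {u : Fin n → F} {x : PSU n F q} :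
    x ∈ PE q u ↔ ∃ g : SU n F q, (∃ c : F, c * c ^ q = 1 ∧ act g u = c • u) ∧ pr n F q g = x := Iff.rfl

/-- The pointwise stabiliser of the family `e`. -/
def fixE (q : ℕ) (e : Fin d → (Fin n → F)) : Subgroup (SU n F q) where
  carrier := {g | ∀ i, act g (e i) = e i}
  one_mem' := fun i => act_one _
  mul_mem' := by
    intro g h hg hh i
    change act (g * h) (e i) = e i
    rw [act_mul, hh i, hg i]
  inv_mem' := by
    intro g hg i
    change act g⁻¹ (e i) = e i
    exact ((act_eq_iff g).1 (hg i)).symm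

theorem mem_fixE {e : Fin d → (Fin n → F)} {g : SU n F q} : g ∈ fixE q e ↔ ∀ i, act g (e i) = e i := Iff.rfl

/-- Its image in `PSU`. -/
def SE (q : ℕ) (e : Fin d → (Fin n → F)) : Subgroup (PSU n F q) := (fixE q e).map (pr n F q)

theorem mem_SE {e : Fin d → (Fin n → F)} {x : PSU n F q} :
    x ∈ SE q e ↔ ∃ g : SU n F q, (∀ i, act g (e i) = e i) ∧ pr n F q g = x := Iff.rfl

end Basic

variable {F : Type*} [Field F] [Fintype F] {q n d : ℕ}

theorem aEl_zero (hF : Fintype.card F = q ^ 2) {e f : Fin d → (Fin n → F)} (E : Frm q e f)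
    (h : IsSkew q (0 : Matrix (Fin d) (Fin d) F)) : aEl hF E 0 h = 1 := by
  apply ext_act
  intro v
  rw [act_aEl, act_one]
  simp

theorem IsSkew.neg' (hF : Fintype.card F = q ^ 2) {H : Matrix (Fin d) (Fin d) F} (hH : IsSkew q H) :
    IsSkew q (-H) := fun i j => by
  rw [Matrix.neg_apply, Matrix.neg_apply, neg_pow_q hF]
  linear_combination -hH i j

/-- The group of the `aEl hF E H`. -/
def aG (hF : Fintype.card F = q ^ 2) {e f : Fin d → (Fin n → F)} (E : Frm q e f) : Subgroup (SU n F q) where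
  carrier := {g | ∃ (H : Matrix (Fin d) (Fin d) F) (hH : IsSkew q H), g = aEl hF E H hH}
  one_mem' := ⟨0, IsSkew.zero (by have := two_le hF; omega), (aEl_zero hF E _).symm⟩
  mul_mem' := by
    rintro _ _ ⟨H, hH, rfl⟩ ⟨K, hK, rfl⟩
    exact ⟨_, _, aEl_mul hF E hH hK⟩
  inv_mem' := by
    rintro _ ⟨H, hH, rfl⟩
    refine ⟨-H, IsSkew.neg' hF hH, ?_⟩
    rw [inv_eq_iff_mul_eq_one, aEl_mul]
    have h0 : IsSkew q (0 : Matrix (Fin d) (Fin d) F) := IsSkew.zero (by have := two_le hF; omega)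
    rw [aEl_congr hF E _ h0 (add_neg_cancel H), aEl_zero]

theorem mem_aG {hF : Fintype.card F = q ^ 2} {e f : Fin d → (Fin n → F)} {E : Frm q e f} {g : SU n F q} :
    g ∈ aG hF E ↔ ∃ (H : Matrix (Fin d) (Fin d) F) (hH : IsSkew q H), g = aEl hF E H hH := Iff.rfl

/-- Its image in `PSU`. -/
def VE (hF : Fintype.card F = q ^ 2) {e f : Fin d → (Fin n → F)} (E : Frm q e f) : Subgroup (PSU n F q) :=
  (aG hF E).map (pr n F q)

theorem mem_VE {hF : Fintype.card F = q ^ 2} {e f : Fin d → (Fin n → F)} {E : Frm q e f} {x : PSU n F q} :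
    x ∈ VE hF E ↔ ∃ (H : Matrix (Fin d) (Fin d) F) (hH : IsSkew q H), pr n F q (aEl hF E H hH) = x := by
  constructor
  · rintro ⟨_, ⟨H, hH, rfl⟩, rfl⟩
    exact ⟨H, hH, rfl⟩
  · rintro ⟨H, hH, rfl⟩
    exact ⟨_, ⟨H, hH, rfl⟩, rfl⟩

/-- `aEl hF E H` is determined by its image in `PSU`, characteristic 2. -/
theorem aEl_pr_inj [CharP F 2] (hF : Fintype.card F = q ^ 2) (hn : 3 ≤ n) {e f : Fin d → (Fin n → F)}
    (E : Frm q e f) {H H' : Matrix (Fin d) (Fin d) F} {hH : IsSkew q H} {hH' : IsSkew q H'}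
    (h : pr n F q (aEl hF E H hH) = pr n F q (aEl hF E H' hH')) : H = H' := by
  have : Fact (Nat.Prime 2) := ⟨Nat.prime_two⟩
  have key : ∀ (H : Matrix (Fin d) (Fin d) F) (hH : IsSkew q H), aEl hF E H hH ^ 2 ^ 1 = 1 := by
    intro H hH
    rw [pow_one, pow_two, aEl_mul]
    have h0 : IsSkew q (0 : Matrix (Fin d) (Fin d) F) := IsSkew.zero (by have := two_le hF; omega)
    rw [aEl_congr hF E _ h0 (by ext i j; rw [Matrix.add_apply, Matrix.zero_apply]; exact CharTwo.add_self_eq_zero _),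
      aEl_zero]
  exact aEl_inj hF E (eq_of_pr_eq hF hn (key H hH) (key H' hH') h)

end Cfsg.Agent.OddHalf.DblR.UnF
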