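import Mathlib
import Cfsg.Agent.KFacts.Unit.GLAct

/-!
# ODD, D4, unitary groups: the abelian group of a totally isotropic line (helper642)

`Fr q e1 e2 f1 f2` : a frame written out. `vv hF E a b c` : the image in `PSU` of
`v ↦ v + (a h(v,e1) + b h(v,e2)) e1 + (b^q h(v,e1) + c h(v,e2)) e2`. `vv_mul`, `vv_inj`, `vv_conj`, `mem_RR_iff`,
`exDiag`, `exTrans`, `autCent`.
-/

set_option autoImplicit false

namespace Cfsg.Agent.OddHalf.DblR.UnVec

open Cfsg Cfsg.Agent.LieClassical.HermBasic Cfsg.Agent.LieClassical.HermSiegel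
  Cfsg.Agent.LieClassical.HermGen Cfsg.Agent.LieClassical.SUBasic Matrix
  Cfsg.Agent.ClassicalGeometry.PSUAutBasic Cfsg.Agent.ClassicalGeometry.PSUAutSylow
  Cfsg.Agent.ClassicalGeometry.PSUAutUnip Cfsg.Agent.KFacts.Unit

/-- A frame with two pairs, written out. -/
structure Fr {F : Type*} [Field F] {n : ℕ} (q : ℕ) (e1 e2 f1 f2 : Fin n → F) : Prop where
  a11 : hermForm n F q e1 e1 = 0
  a12 : hermForm n F q e1 e2 = 0
  a21 : hermForm n F q e2 e1 = 0
  a22 : hermForm n F q e2 e2 = 0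
  b11 : hermForm n F q f1 f1 = 0
  b12 : hermForm n F q f1 f2 = 0
  b21 : hermForm n F q f2 f1 = 0
  b22 : hermForm n F q f2 f2 = 0
  c11 : hermForm n F q e1 f1 = 1
  c12 : hermForm n F q e1 f2 = 0
  c21 : hermForm n F q e2 f1 = 0
  c22 : hermForm n F q e2 f2 = 1
  d11 : hermForm n F q f1 e1 = 1
  d12 : hermForm n F q f1 e2 = 0
  d21 : hermForm n F q f2 e1 = 0
  d22 : hermForm n F q f2 e2 = 1

/-- Orthogonal to the frame. -/
def Prp {F : Type*} [Field F] {n : ℕ} (q : ℕ) (e1 e2 f1 f2 v : Fin n → F) : Prop :=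
  hermForm n F q v e1 = 0 ∧ hermForm n F q v e2 = 0 ∧ hermForm n F q v f1 = 0 ∧ hermForm n F q v f2 = 0

/-- The action of `vv`. -/
def Ac {F : Type*} [Field F] {n : ℕ} (q : ℕ) (e1 e2 : Fin n → F) (a b c : F) (g : SU n F q) : Prop :=
  ∀ v, act g v = v + (a * hermForm n F q v e1 + b * hermForm n F q v e2) • e1 +
    (b ^ q * hermForm n F q v e1 + c * hermForm n F q v e2) • e2

variable {F : Type*} [Field F] {q n : ℕ} {e1 e2 f1 f2 : Fin n → F}

theorem Prp.swap {v : Fin n → F} (h : Prp q e1 e2 f1 f2 v) : Prp q e1 f2 f1 e2 v := ⟨h.1, h.2.2.2, h.2.2.1, h.2.1⟩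

theorem Fr.swap (H : Fr q e1 e2 f1 f2) : Fr q e1 f2 f1 e2 :=
  ⟨H.a11, H.c12, H.d21, H.b22, H.b11, H.d12, H.c21, H.a22, H.c11, H.a12, H.b21, H.d22, H.d11, H.b12, H.a21, H.c22⟩

theorem Fr.frm (H : Fr q e1 e2 f1 f2) : Frm q ![e1, e2] ![f1, f2] := by
  refine ⟨?_, ?_, ?_⟩
  · intro i j
    fin_cases i <;> fin_cases j
    · exact H.a11
    · exact H.a12
    · exact H.a21
    · exact H.a22
  · intro i j
    fin_cases i <;> fin_cases j
    · exact H.b11
    · exact H.b12
    · exact H.b21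
    · exact H.b22
  · intro i j
    fin_cases i <;> fin_cases j
    · exact H.c11
    · exact H.c12
    · exact H.c21
    · exact H.c22

theorem Fr.ne1 (H : Fr q e1 e2 f1 f2) : e1 ≠ 0 := by
  rintro rfl
  have := H.c11
  rw [herm_zero_left] at this
  exact zero_ne_one this

theorem Fr.ne2 (H : Fr q e1 e2 f1 f2) : e2 ≠ 0 := by
  rintro rfl
  have := H.c22
  rw [herm_zero_left] at this
  exact zero_ne_one this

/-- coefficients -/
theorem Fr.coef (H : Fr q e1 e2 f1 f2) {a b a' b' : F} (h : a • e1 + b • e2 = a' • e1 + b' • e2) :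
    a = a' ∧ b = b' := by
  have h0 := congrArg (fun v => hermForm n F q v f1) h
  have h1 := congrArg (fun v => hermForm n F q v f2) h
  simp only [herm_add_left, herm_smul_left, H.c11, H.c12, H.c21, H.c22] at h0 h1
  constructor
  · linear_combination h0
  · linear_combination h1

variable [Fintype F]

theorem Fr.of (hF : Fintype.card F = q ^ 2) (E : Frm q ![e1, e2] ![f1, f2]) : Fr q e1 e2 f1 f2 where
  a11 := E.ee 0 0
  a12 := E.ee 0 1
  a21 := E.ee 1 0
  a22 := E.ee 1 1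
  b11 := E.ff 0 0
  b12 := E.ff 0 1
  b21 := E.ff 1 0
  b22 := E.ff 1 1
  c11 := (E.ef 0 0).trans (if_pos rfl)
  c12 := (E.ef 0 1).trans (if_neg (by decide))
  c21 := (E.ef 1 0).trans (if_neg (by decide))
  c22 := (E.ef 1 1).trans (if_pos rfl)
  d11 := (E.fe hF 0 0).trans (if_pos rfl)
  d12 := (E.fe hF 0 1).trans (if_neg (by decide))
  d21 := (E.fe hF 1 0).trans (if_neg (by decide))
  d22 := (E.fe hF 1 1).trans (if_pos rfl)

omit [Fintype F] in
/-- every vector is a combination of the frame and a vector orthogonal to it -/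
theorem Fr.dec (H : Fr q e1 e2 f1 f2) (v : Fin n → F) : ∃ (a b c d : F) (r : Fin n → F), Prp q e1 e2 f1 f2 r ∧
    v = a • e1 + b • e2 + c • f1 + d • f2 + r := by
  refine ⟨hermForm n F q v f1, hermForm n F q v f2, hermForm n F q v e1, hermForm n F q v e2,
    v - (hermForm n F q v f1 • e1 + hermForm n F q v f2 • e2 + hermForm n F q v e1 • f1 + hermForm n F q v e2 • f2),
    ⟨?_, ?_, ?_, ?_⟩, by abel⟩
  · simp only [herm_sub_left, herm_add_left, herm_smul_left, H.a11, H.a21, H.d11, H.d21]; ring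
  · simp only [herm_sub_left, herm_add_left, herm_smul_left, H.a12, H.a22, H.d12, H.d22]; ring
  · simp only [herm_sub_left, herm_add_left, herm_smul_left, H.c11, H.c21, H.b11, H.b21]; ring
  · simp only [herm_sub_left, herm_add_left, herm_smul_left, H.c12, H.c22, H.b12, H.b22]; ring

omit [Fintype F] in
/-- elements agreeing on the frame and on its orthogonal space are equal -/
theorem Fr.ext (H : Fr q e1 e2 f1 f2) {g h : SU n F q} (h1 : act g e1 = act h e1) (h2 : act g e2 = act h e2)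
    (h3 : act g f1 = act h f1) (h4 : act g f2 = act h f2) (h5 : ∀ v, Prp q e1 e2 f1 f2 v → act g v = act h v) :
    g = h := by
  apply ext_act
  intro v
  obtain ⟨a, b, c, d, r, hr, rfl⟩ := H.dec v
  simp only [act_add, act_smul, h1, h2, h3, h4, h5 r hr]

/-- diagonal elements -/
theorem Fr.exDiag (hF : Fintype.card F = q ^ 2) (H : Fr q e1 e2 f1 f2) {a b a' b' : F} (ha : a * a' ^ q = 1)
    (hb : b * b' ^ q = 1) (hab : a * b * (a' * b') = 1) :
    ∃ g : SU n F q, act g e1 = a • e1 ∧ act g e2 = b • e2 ∧ act g f1 = a' • f1 ∧ act g f2 = b' • f2 ∧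
      ∀ v, Prp q e1 e2 f1 f2 v → act g v = v := by
  obtain ⟨g, h1, h2, h3⟩ := exists_GL hF H.frm (M := !![a, 0; 0, b]) (N := !![a', 0; 0, b']) (by
    ext i j
    fin_cases i <;> fin_cases j <;>
      simp [Matrix.mul_apply, Fin.sum_univ_two, LieClassical.HermBasic.conj_apply, zero_pow_q hF, ha, hb]) (by
    rw [det_fin_two_of, det_fin_two_of]; linear_combination hab)
  refine ⟨g, ?_, ?_, ?_, ?_, ?_⟩
  · have := h1 0
    rw [Fin.sum_univ_two] at this
    simpa using this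
  · have := h1 1
    rw [Fin.sum_univ_two] at this
    simpa using this
  · have := h2 0
    rw [Fin.sum_univ_two] at this
    simpa using this
  · have := h2 1
    rw [Fin.sum_univ_two] at this
    simpa using this
  · intro v hv
    apply h3
    · intro j
      fin_cases j
      · exact hv.1
      · exact hv.2.1
    · intro j
      fin_cases j
      · exact hv.2.2.1
      · exact hv.2.2.2

/-- `SL₂` is transitive on the vectors of the line -/
theorem Fr.exTrans (hF : Fintype.card F = q ^ 2) (H : Fr q e1 e2 f1 f2) {c1 c2 : F} (hc : ¬ (c1 = 0 ∧ c2 = 0)) :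
    ∃ (g : SU n F q) (a b : F) (s t u v : F), act g e1 = c1 • e1 + c2 • e2 ∧ act g e2 = a • e1 + b • e2 ∧
      act g f1 = s • f1 + t • f2 ∧ act g f2 = u • f1 + v • f2 ∧ ∀ v, Prp q e1 e2 f1 f2 v → act g v = v := by
  obtain ⟨x, y, hxy⟩ : ∃ x y : F, c1 * y - x * c2 = 1 := by
    by_cases h1 : c1 = 0
    · have h2 : c2 ≠ 0 := fun h => hc ⟨h1, h⟩
      exact ⟨-c2⁻¹, 0, by rw [h1]; field_simp; ring⟩
    · exact ⟨0, c1⁻¹, by field_simp; ring⟩
  have hdet : (!![c1, x; c2, y] : Matrix (Fin 2) (Fin 2) F).det = 1 := by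
    rw [det_fin_two_of, hxy]
  have hu : IsUnit (!![c1, x; c2, y] : Matrix (Fin 2) (Fin 2) F).det := by rw [hdet]; exact isUnit_one
  obtain ⟨N, hN⟩ : ∃ N : Matrix (Fin 2) (Fin 2) F,
      N = (((!![c1, x; c2, y] : Matrix (Fin 2) (Fin 2) F)⁻¹)ᵀ).map (LieClassical.HermBasic.conj hF) := ⟨_, rfl⟩
  obtain ⟨g, h1, h2, h3⟩ := exists_GL hF H.frm (M := !![c1, x; c2, y]) (N := N) (by
    have e1 : ((((!![c1, x; c2, y] : Matrix (Fin 2) (Fin 2) F)⁻¹)ᵀ).map (LieClassical.HermBasic.conj hF)).map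
        (LieClassical.HermBasic.conj hF) = ((!![c1, x; c2, y] : Matrix (Fin 2) (Fin 2) F)⁻¹)ᵀ := by
      ext i j
      rw [map_apply, map_apply, LieClassical.HermBasic.conj_apply, LieClassical.HermBasic.conj_apply,
        pow_q_pow_q hF]
    rw [hN, e1, ← transpose_mul, nonsing_inv_mul _ hu, transpose_one]) (by
    have e2 : ((((!![c1, x; c2, y] : Matrix (Fin 2) (Fin 2) F)⁻¹)ᵀ).map (LieClassical.HermBasic.conj hF)).det = 1 := by
      have e3 : (((!![c1, x; c2, y] : Matrix (Fin 2) (Fin 2) F)⁻¹)ᵀ).map (LieClassical.HermBasic.conj hF) =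
        (LieClassical.HermBasic.conj hF : F →+* F).mapMatrix ((!![c1, x; c2, y] : Matrix (Fin 2) (Fin 2) F)⁻¹)ᵀ := rfl
      rw [e3, ← RingHom.map_det, det_transpose, det_nonsing_inv, hdet, Ring.inverse_one, map_one]
    rw [hN, hdet, e2, mul_one])
  refine ⟨g, x, y, N 0 0, N 1 0, N 0 1, N 1 1, ?_, ?_, ?_, ?_, ?_⟩
  · have := h1 0
    rw [Fin.sum_univ_two] at this
    simpa using this
  · have := h1 1
    rw [Fin.sum_univ_two] at this
    simpa using this
  · have := h2 0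
    rw [Fin.sum_univ_two] at this
    exact this
  · have := h2 1
    rw [Fin.sum_univ_two] at this
    exact this
  · intro v hv
    apply h3
    · intro j
      fin_cases j
      · exact hv.1
      · exact hv.2.1
    · intro j
      fin_cases j
      · exact hv.2.2.1
      · exact hv.2.2.2

/-- Two elements fixing a vector with the same image in `PSU` are equal. -/
theorem eq_of_pr_of_fix (hF : Fintype.card F = q ^ 2) (hn : 3 ≤ n) {u : Fin n → F} (hu : u ≠ 0) {g h : SU n F q}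
    (hg : act g u = u) (hh : act h u = u) (e : pr n F q g = pr n F q h) : g = h := by
  obtain ⟨z, hz, rfl⟩ := exists_center_mul e
  obtain ⟨c, -, -, hc⟩ := exists_scalar_of_mem_center hF hn hz
  have h1 : c • u = u := by
    rw [act_mul, hc, act_smul, hg] at hh
    exact hh
  have h2 : c = 1 := by
    have h3 : (c - 1) • u = 0 := by rw [sub_smul, one_smul, h1, sub_self]
    exact sub_eq_zero.1 ((smul_eq_zero.1 h3).resolve_right hu)
  have h3 : z = 1 := ext_act fun v => by rw [hc, h2, one_smul, act_one]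
  rw [h3, mul_one]

section Two

variable [CharP F 2]

theorem isSkew_of (hF : Fintype.card F = q ^ 2) {a b c : F} (ha : a + a ^ q = 0) (hc : c + c ^ q = 0) :
    IsSkew q !![a, b; b ^ q, c] := by
  intro i j
  fin_cases i <;> fin_cases j
  · exact ha
  · change b + (b ^ q) ^ q = 0
    rw [pow_q_pow_q hF]; exact CharTwo.add_self_eq_zero b
  · change b ^ q + b ^ q = 0
    exact CharTwo.add_self_eq_zero _
  · exact hc

open Classical in
/-- `v ↦ v + (a h(v,e1) + b h(v,e2)) e1 + (b^q h(v,e1) + c h(v,e2)) e2` -/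
noncomputable def vv (hF : Fintype.card F = q ^ 2) (E : Fr q e1 e2 f1 f2) (a b c : F) : PSU n F q :=
  if h : IsSkew q !![a, b; b ^ q, c] then pr n F q (aEl hF E.frm _ h) else 1

theorem exists_vv (hF : Fintype.card F = q ^ 2) (E : Fr q e1 e2 f1 f2) {a b c : F} (ha : a + a ^ q = 0)
    (hc : c + c ^ q = 0) : ∃ g, vv hF E a b c = pr n F q g ∧ Ac q e1 e2 a b c g := by
  refine ⟨aEl hF E.frm _ (isSkew_of hF ha hc), dif_pos _, fun v => ?_⟩
  rw [act_aEl, Fin.sum_univ_two, Fin.sum_univ_two, Fin.sum_univ_two, ← add_assoc]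
  rfl

theorem vv_eq (hF : Fintype.card F = q ^ 2) (E : Fr q e1 e2 f1 f2) {a b c : F} (ha : a + a ^ q = 0)
    (hc : c + c ^ q = 0) {g : SU n F q} (hg : Ac q e1 e2 a b c g) : pr n F q g = vv hF E a b c := by
  obtain ⟨g', h1, h2⟩ := exists_vv hF E (b := b) ha hc
  rw [h1]
  congr 1
  exact ext_act fun v => by rw [hg v, h2 v]

omit [CharP F 2] in
theorem tr_add (hF : Fintype.card F = q ^ 2) {a b : F} (ha : a + a ^ q = 0) (hb : b + b ^ q = 0) :
    (a + b) + (a + b) ^ q = 0 := by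
  rw [add_pow_q hF]; linear_combination ha + hb

omit [CharP F 2] in
theorem tr_zero (hF : Fintype.card F = q ^ 2) : (0 : F) + 0 ^ q = 0 := by rw [zero_pow_q hF, add_zero]

omit [Fintype F] [CharP F 2] in
theorem Ac.fix1 {E : Fr q e1 e2 f1 f2} {a b c : F} {g : SU n F q} (hg : Ac q e1 e2 a b c g) : act g e1 = e1 := by
  rw [hg e1, E.a11, E.a12]; simp

omit [Fintype F] [CharP F 2] in
theorem Ac.fix2 {E : Fr q e1 e2 f1 f2} {a b c : F} {g : SU n F q} (hg : Ac q e1 e2 a b c g) : act g e2 = e2 := by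
  rw [hg e2, E.a21, E.a22]; simp

theorem vv_mul (hF : Fintype.card F = q ^ 2) (E : Fr q e1 e2 f1 f2) {a b c a' b' c' : F} (ha : a + a ^ q = 0)
    (hc : c + c ^ q = 0) (ha' : a' + a' ^ q = 0) (hc' : c' + c' ^ q = 0) :
    vv hF E a b c * vv hF E a' b' c' = vv hF E (a + a') (b + b') (c + c') := by
  obtain ⟨g, h1, h2⟩ := exists_vv hF E (b := b) ha hc
  obtain ⟨g', h1', h2'⟩ := exists_vv hF E (b := b') ha' hc'
  rw [h1, h1', ← map_mul]
  refine vv_eq hF E (tr_add hF ha ha') (tr_add hF hc hc') fun v => ?_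
  rw [act_mul, h2' v, h2]
  simp only [herm_add_left, herm_smul_left, E.a11, E.a12, E.a21, E.a22, add_pow_q hF]
  module

theorem vv_inj (hF : Fintype.card F = q ^ 2) (hn : 3 ≤ n) (E : Fr q e1 e2 f1 f2) {a b c a' b' c' : F}
    (ha : a + a ^ q = 0) (hc : c + c ^ q = 0) (ha' : a' + a' ^ q = 0) (hc' : c' + c' ^ q = 0)
    (h : vv hF E a b c = vv hF E a' b' c') : a = a' ∧ b = b' ∧ c = c' := by
  obtain ⟨g, h1, h2⟩ := exists_vv hF E (b := b) ha hc
  obtain ⟨g', h1', h2'⟩ := exists_vv hF E (b := b') ha' hc'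
  rw [h1, h1'] at h
  have h3 := eq_of_pr_of_fix hF hn E.ne1 (Ac.fix1 (E := E) h2) (Ac.fix1 (E := E) h2') h
  subst h3
  have h4 := h2 f1
  rw [h2' f1, E.d11, E.d12] at h4
  have h5 := h2 f2
  rw [h2' f2, E.d21, E.d22] at h5
  have h6 : a' • e1 + b' ^ q • e2 = a • e1 + b ^ q • e2 := by
    have h7 : f1 + (a' • e1 + b' ^ q • e2) = f1 + (a • e1 + b ^ q • e2) := by
      rw [← add_assoc, ← add_assoc]; simpa using h4
    exact add_left_cancel h7
  have h8 : b' • e1 + c' • e2 = b • e1 + c • e2 := by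
    have h7 : f2 + (b' • e1 + c' • e2) = f2 + (b • e1 + c • e2) := by
      rw [← add_assoc, ← add_assoc]; simpa using h5
    exact add_left_cancel h7
  exact ⟨(E.coef h6).1.symm, (E.coef h8).1.symm, (E.coef h8).2.symm⟩

theorem vv_zero (hF : Fintype.card F = q ^ 2) (E : Fr q e1 e2 f1 f2) : vv hF E 0 0 0 = 1 := by
  have h0 := tr_zero (F := F) hF
  rw [← vv_eq hF E h0 h0 (g := 1), map_one]
  intro v
  rw [act_one, zero_pow_q hF]; simp

theorem vv_inv (hF : Fintype.card F = q ^ 2) (E : Fr q e1 e2 f1 f2) {a b c : F} (ha : a + a ^ q = 0)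
    (hc : c + c ^ q = 0) : (vv hF E a b c)⁻¹ = vv hF E a b c := by
  rw [inv_eq_iff_mul_eq_one, vv_mul hF E ha hc ha hc, CharTwo.add_self_eq_zero, CharTwo.add_self_eq_zero,
    CharTwo.add_self_eq_zero, vv_zero]

theorem vv_comm (hF : Fintype.card F = q ^ 2) (E : Fr q e1 e2 f1 f2) {a b c a' b' c' : F} (ha : a + a ^ q = 0)
    (hc : c + c ^ q = 0) (ha' : a' + a' ^ q = 0) (hc' : c' + c' ^ q = 0) :
    vv hF E a b c * vv hF E a' b' c' = vv hF E a' b' c' * vv hF E a b c := by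
  rw [vv_mul hF E ha hc ha' hc', vv_mul hF E ha' hc' ha hc, add_comm a, add_comm b, add_comm c]

/-- conjugation by an element acting diagonally -/
theorem vv_conj_diag (hF : Fintype.card F = q ^ 2) (E : Fr q e1 e2 f1 f2) {a b c : F} (ha : a + a ^ q = 0)
    (hc : c + c ^ q = 0) {g : SU n F q} {x y : F} (h1 : act g e1 = x • e1) (h2 : act g e2 = y • e2) :
    pr n F q g * vv hF E a b c * (pr n F q g)⁻¹ = vv hF E (x * x ^ q * a) (x * y ^ q * b) (y * y ^ q * c) := by
  obtain ⟨k, h3, h4⟩ := exists_vv hF E (b := b) ha hc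
  rw [h3, ← map_mul, ← map_inv, ← map_mul]
  refine vv_eq hF E ?_ ?_ fun v => ?_
  · rw [mul_pow, norm_pow_q hF, ← mul_add, ha, mul_zero]
  · rw [mul_pow, norm_pow_q hF, ← mul_add, hc, mul_zero]
  · rw [act_mul, act_mul, h4, act_add, act_add, act_act_inv, act_smul, act_smul, h1, h2]
    have i1 : hermForm n F q (act g⁻¹ v) e1 = x ^ q * hermForm n F q v e1 := by
      rw [← herm_act g, act_act_inv, h1, herm_smul_right]
    have i2 : hermForm n F q (act g⁻¹ v) e2 = y ^ q * hermForm n F q v e2 := by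
      rw [← herm_act g, act_act_inv, h2, herm_smul_right]
    rw [i1, i2, mul_pow, mul_pow, pow_q_pow_q hF]
    module

/-- conjugation by a transvection of the line -/
theorem vv_conj_up (hF : Fintype.card F = q ^ 2) (E : Fr q e1 e2 f1 f2) {a b c : F} (ha : a + a ^ q = 0)
    (hc : c + c ^ q = 0) {g : SU n F q} {t : F} (h1 : act g e1 = e1) (h2 : act g e2 = e2 + t • e1) :
    pr n F q g * vv hF E a b c * (pr n F q g)⁻¹ =
      vv hF E (a + (t * b ^ q + t ^ q * b) + t * t ^ q * c) (b + t * c) c := by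
  obtain ⟨k, h3, h4⟩ := exists_vv hF E (b := b) ha hc
  rw [h3, ← map_mul, ← map_inv, ← map_mul]
  have h5 : c ^ q = c := by
    have h6 := CharTwo.add_self_eq_zero c
    linear_combination hc - h6
  refine vv_eq hF E ?_ hc fun v => ?_
  · have h6 := CharTwo.add_self_eq_zero (t * b ^ q + t ^ q * b + t * t ^ q * c)
    rw [add_pow_q hF, add_pow_q hF, add_pow_q hF, mul_pow, mul_pow, mul_pow, mul_pow, pow_q_pow_q hF, pow_q_pow_q hF,
      h5]
    linear_combination ha + h6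
  · rw [act_mul, act_mul, h4, act_add, act_add, act_act_inv, act_smul, act_smul, h1, h2]
    have i1 : hermForm n F q (act g⁻¹ v) e1 = hermForm n F q v e1 := by
      rw [← herm_act g, act_act_inv, h1]
    have i2 : hermForm n F q (act g⁻¹ v) e2 = hermForm n F q v e2 + t ^ q * hermForm n F q v e1 := by
      rw [← herm_act g, act_act_inv, h2, herm_add_right hF, herm_smul_right]
    rw [i1, i2, add_pow_q hF, mul_pow, h5]
    module

/-- the long root group of a point of the line -/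
theorem mem_RR_iff (hF : Fintype.card F = q ^ 2) (E : Fr q e1 e2 f1 f2) {c1 c2 : F}
    (hu : hermForm n F q (c1 • e1 + c2 • e2) (c1 • e1 + c2 • e2) = 0) {x : PSU n F q} :
    x ∈ RR hF (c1 • e1 + c2 • e2) hu ↔ ∃ μ : F, μ + μ ^ q = 0 ∧
      x = vv hF E (μ * (c1 * c1 ^ q)) (μ * (c1 * c2 ^ q)) (μ * (c2 * c2 ^ q)) := by
  have key : ∀ (μ : F) (hμ : μ + μ ^ q = 0), pr n F q (transv hF (c1 • e1 + c2 • e2) hu μ hμ) =
      vv hF E (μ * (c1 * c1 ^ q)) (μ * (c1 * c2 ^ q)) (μ * (c2 * c2 ^ q)) := by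
    intro μ hμ
    have h5 : μ ^ q = μ := by
      have h6 := CharTwo.add_self_eq_zero μ
      linear_combination hμ - h6
    refine vv_eq hF E ?_ ?_ fun v => ?_
    · rw [mul_pow, norm_pow_q hF, ← add_mul, hμ, zero_mul]
    · rw [mul_pow, norm_pow_q hF, ← add_mul, hμ, zero_mul]
    · rw [act_transv, herm_add_right hF, herm_smul_right, herm_smul_right, mul_pow, mul_pow, pow_q_pow_q hF, h5]
      module
  rw [mem_RR]
  constructor
  · rintro ⟨μ, hμ, rfl⟩
    exact ⟨μ, hμ, key μ hμ⟩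
  · rintro ⟨μ, hμ, rfl⟩
    exact ⟨μ, hμ, (key μ hμ).symm⟩

theorem mem_RR1 (hF : Fintype.card F = q ^ 2) (E : Fr q e1 e2 f1 f2) (hu : hermForm n F q e1 e1 = 0) {x : PSU n F q} :
    x ∈ RR hF e1 hu ↔ ∃ μ : F, μ + μ ^ q = 0 ∧ x = vv hF E μ 0 0 := by
  have h1 : (1 : F) • e1 + (0 : F) • e2 = e1 := by rw [one_smul, zero_smul, add_zero]
  have h2 : hermForm n F q ((1 : F) • e1 + (0 : F) • e2) ((1 : F) • e1 + (0 : F) • e2) = 0 := by rw [h1]; exact hu
  rw [RR_congr hF hu h2 h1.symm, mem_RR_iff hF E h2]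
  have h3 := zero_pow_q (F := F) hF
  constructor
  · rintro ⟨μ, hμ, rfl⟩
    refine ⟨μ, hμ, ?_⟩
    simp [h3]
  · rintro ⟨μ, hμ, rfl⟩
    refine ⟨μ, hμ, ?_⟩
    simp [h3]

theorem mem_RR2 (hF : Fintype.card F = q ^ 2) (E : Fr q e1 e2 f1 f2) (hu : hermForm n F q e2 e2 = 0) {x : PSU n F q} :
    x ∈ RR hF e2 hu ↔ ∃ μ : F, μ + μ ^ q = 0 ∧ x = vv hF E 0 0 μ := by
  have h1 : (0 : F) • e1 + (1 : F) • e2 = e2 := by rw [one_smul, zero_smul, zero_add]
  have h2 : hermForm n F q ((0 : F) • e1 + (1 : F) • e2) ((0 : F) • e1 + (1 : F) • e2) = 0 := by rw [h1]; exact hu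
  rw [RR_congr hF hu h2 h1.symm, mem_RR_iff hF E h2]
  have h3 := zero_pow_q (F := F) hF
  constructor
  · rintro ⟨μ, hμ, rfl⟩
    refine ⟨μ, hμ, ?_⟩
    simp [h3]
  · rintro ⟨μ, hμ, rfl⟩
    refine ⟨μ, hμ, ?_⟩
    simp [h3]

/-- **An automorphism trivial on the pointwise stabiliser of the line.** -/
theorem autCent (hF : Fintype.card F = q ^ 2) (hn : 4 ≤ n) (E : Fr q e1 e2 f1 f2) (α : MulAut (PSU n F q))
    (hα : ∀ g : SU n F q, act g e1 = e1 → act g e2 = e2 → α (pr n F q g) = pr n F q g) :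
    ∃ a b c : F, a + a ^ q = 0 ∧ c + c ^ q = 0 ∧ α = MulAut.conj (vv hF E a b c) := by
  obtain ⟨H, hH, h1⟩ := autCent_frame hF hn E.frm le_rfl α fun g hg => hα g (hg 0) (hg 1)
  refine ⟨H 0 0, H 0 1, H 1 1, hH 0 0, hH 1 1, ?_⟩
  rw [h1]
  congr 1
  refine vv_eq hF E (hH 0 0) (hH 1 1) fun v => ?_
  have h2 : H 0 1 ^ q = H 1 0 := by
    have h3 := hH 1 0
    have h4 := CharTwo.add_self_eq_zero (H 1 0)
    linear_combination h3 - h4
  rw [act_aEl, Fin.sum_univ_two, Fin.sum_univ_two, Fin.sum_univ_two, ← add_assoc, h2]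
  rfl

end Two

end Cfsg.Agent.OddHalf.DblR.UnVec
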