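import Mathlib
import Cfsg.Agent.KFacts.Unit.LineGL
import Cfsg.Agent.OddHalf.DblR.UnVec
import Cfsg.Agent.OddHalf.DblR.UnSheet
import Cfsg.Agent.OddHalf.DblR.UnFrameDefs

/-!
# ODD, D4, unitary groups: two points of a totally isotropic line (helper642)

For `PE`, `SE`, `VE` of `UnFrameDefs`: `ind_sep1`, `ind_sep2`, `ind_sep3`, `cen`, `PE_up`.
-/

set_option autoImplicit false

namespace Cfsg.Agent.OddHalf.DblR.UnSep

open Cfsg Cfsg.Agent.LieClassical.HermBasic Cfsg.Agent.LieClassical.HermSiegel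
  Cfsg.Agent.LieClassical.HermGen Cfsg.Agent.LieClassical.SUBasic Matrix
  Cfsg.Agent.ClassicalGeometry.PSUAutBasic Cfsg.Agent.ClassicalGeometry.PSUAutSylow
  Cfsg.Agent.ClassicalGeometry.PSUAutUnip Cfsg.Agent.ClassicalGeometry.PSUAutPhi Cfsg.Agent.KFacts.Unit
  Cfsg.Agent.OddHalf.DblR.UnVec
  Cfsg.Agent.Nodes.Reps

variable {F : Type*} [Field F] [Fintype F] {q n : ℕ} {e1 e2 f1 f2 : Fin n → F}

omit [Fintype F] in
/-- Transport of a frame. -/
theorem map_Fr (H : Fr q e1 e2 f1 f2) (g : SU n F q) : Fr q (act g e1) (act g e2) (act g f1) (act g f2) := by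
  constructor <;> rw [herm_act]
  · exact H.a11
  · exact H.a12
  · exact H.a21
  · exact H.a22
  · exact H.b11
  · exact H.b12
  · exact H.b21
  · exact H.b22
  · exact H.c11
  · exact H.c12
  · exact H.c21
  · exact H.c22
  · exact H.d11
  · exact H.d12
  · exact H.d21
  · exact H.d22

/-- A frame on two given vectors. -/
theorem exFr (hF : Fintype.card F = q ^ 2) {u v : Fin n → F} (huu : hermForm n F q u u = 0)
    (hvv : hermForm n F q v v = 0) (huv : hermForm n F q u v = 0)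
    (hind : ∀ a b : F, a • u + b • v = 0 → a = 0 ∧ b = 0) : ∃ f1 f2, Fr q u v f1 f2 := by
  obtain ⟨f, E⟩ := exists_dual2 hF huu hvv huv hind
  have h : f = ![f 0, f 1] := by
    funext i
    fin_cases i <;> rfl
  rw [h] at E
  exact ⟨f 0, f 1, Fr.of hF E⟩

/-- A frame on a given vector. -/
theorem exFr1 (hF : Fintype.card F = q ^ 2) (hn : 4 ≤ n) {u : Fin n → F} (hu0 : u ≠ 0)
    (hu : hermForm n F q u u = 0) : ∃ e2 f1 f2, Fr q u e2 f1 f2 := by
  obtain ⟨e, f, H⟩ := exists_frame (F := F) (q := q) (n := n) hF (by omega)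
  obtain ⟨g, -, hg⟩ := exists_map_iso hF (by omega) le_rfl (mem_coordSub_top e) (mem_coordSub_top u)
    (frame_ne_zero H) hu0 H.ee hu
  let i0 : Fin n := ⟨0, by omega⟩
  let i1 : Fin n := ⟨1, by omega⟩
  obtain ⟨p, p', a, b, ha, hp, hp', hpp, hp'p', hpp'⟩ :=
    exists_hyp_pair (q := q) hF (i := i0) (j := i1) (by simp [i0, i1])
  have m0 : (Pi.single i0 1 : Fin n → F) ∈ coordSub F n (n - 2) := single_mem_coordSub (by simp [i0]; omega) 1
  have m1 : (Pi.single i1 1 : Fin n → F) ∈ coordSub F n (n - 2) := single_mem_coordSub (by simp [i1]; omega) 1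
  have hpW : p ∈ coordSub F n (n - 2) := by
    rw [hp]; exact Submodule.add_mem _ m0 (Submodule.smul_mem _ _ m1)
  have hpW' : p' ∈ coordSub F n (n - 2) := by
    rw [hp']; exact Submodule.add_mem _ m0 (Submodule.smul_mem _ _ hpW)
  obtain ⟨h1, h2⟩ := (H.mem _).1 hpW
  obtain ⟨h3, h4⟩ := (H.mem _).1 hpW'
  have hfe : hermForm n F q f e = 1 := frame_fe hF H
  have hp'p : hermForm n F q p' p = 1 := by rw [herm_swap hF p p', hpp', one_pow]
  have E : Fr q e p f p' := ⟨H.ee, herm_eq_zero_swap hF h1, h1, hpp, H.ff, herm_eq_zero_swap hF h4, h4, hp'p', H.ef,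
    herm_eq_zero_swap hF h3, h2, hpp', hfe, herm_eq_zero_swap hF h2, h3, hp'p⟩
  have E' := map_Fr E g
  rw [hg] at E'
  exact ⟨_, _, _, E'⟩

/-- A norm one element. -/
theorem exists_norm_one (hF : Fintype.card F = q ^ 2) : ∃ c : F, c * c ^ q = 1 ∧ c ≠ 1 ∧ c ≠ 0 := by
  obtain ⟨x, hx⟩ := exists_not_fixed hF
  have h0 : x ≠ 0 := by
    rintro rfl
    exact hx (zero_pow_q hF)
  have h1 : x ^ q ≠ 0 := pow_ne_zero _ h0
  refine ⟨x / x ^ q, ?_, ?_, div_ne_zero h0 h1⟩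
  · rw [div_pow, pow_q_pow_q hF]; field_simp
  · intro h
    exact hx ((div_eq_one_iff_eq h1).1 h).symm

/-- A fixed element. -/
theorem exists_fix (hF : Fintype.card F = q ^ 2) (hq : q ≠ 2) : ∃ b : F, b ^ q = b ∧ b ≠ 0 ∧ b ≠ 1 := by
  have h2 := two_le hF
  by_contra hcon
  push Not at hcon
  have h3 : ({x : F | x ^ q = x} : Set F) ⊆ {0, 1} := by
    intro x hx
    by_cases h0 : x = 0
    · left; exact h0
    · right; exact hcon x hx h0
  have h4 := Set.ncard_le_ncard h3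
  have h5 : ({x : F | x ^ q = x} : Set F).ncard = q := card_fixed hF
  rw [h5, Set.ncard_pair zero_ne_one] at h4
  omega

section Two

variable [CharP F 2]

omit [Fintype F] in
theorem sq_ne_one {c : F} (h : c ≠ 1) : c * c ≠ 1 := by
  intro h1
  apply h
  have h2 : (c - 1) * (c - 1) = 0 := by
    have h3 : (2 : F) = 0 := CharTwo.two_eq_zero
    linear_combination h1 + (1 - c) * h3
  exact sub_eq_zero.1 (mul_self_eq_zero.1 h2)

/-- (sep1) -/
theorem sep1 (hF : Fintype.card F = q ^ 2) (hn : 3 ≤ n) (E : Fr q e1 e2 f1 f2) (h1 : hermForm n F q e1 e1 = 0)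
    (h2 : hermForm n F q e2 e2 = 0) {x : PSU n F q} (hx : x ∈ RR hF e1 h1) (hx' : x ∈ RR hF e2 h2) : x = 1 := by
  obtain ⟨μ, hμ, rfl⟩ := (mem_RR1 hF E h1).1 hx
  obtain ⟨ν, hν, e⟩ := (mem_RR2 hF E h2).1 hx'
  have h0 := tr_zero (F := F) hF
  obtain ⟨h3, -, -⟩ := vv_inj hF hn E hμ h0 h0 hν e
  rw [h3, vv_zero]

/-- (sep2) -/
theorem sep2 (hF : Fintype.card F = q ^ 2) (hn : 4 ≤ n) (E : Fr q e1 e2 f1 f2) (h1 : hermForm n F q e1 e1 = 0)
    (h2 : hermForm n F q e2 e2 = 0) (Q : Subgroup (PSU n F q))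
    (hQ : ∀ g : SU n F q, (∃ c : F, c * c ^ q = 1 ∧ act g e1 = c • e1) → (∃ c : F, c * c ^ q = 1 ∧ act g e2 = c • e2) →
      pr n F q g ∈ Q) : CnAut Q (RR hF e1 h1 ⊔ RR hF e2 h2) := by
  intro α hα
  obtain ⟨a, b, c, ha, hc, e⟩ := autCent hF hn E α fun g hg1 hg2 =>
    hα _ (hQ g ⟨1, by rw [one_pow, mul_one], by rw [hg1, one_smul]⟩ ⟨1, by rw [one_pow, mul_one], by rw [hg2, one_smul]⟩)
  obtain ⟨d, hd, hd1, hd0⟩ := exists_norm_one hF
  have hdi : d⁻¹ * d⁻¹ ^ q = 1 := by rw [inv_pow, ← mul_inv, hd, inv_one]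
  obtain ⟨g, g1, g2, -, -, -⟩ := E.exDiag hF (a := d) (b := d⁻¹) (a' := d) (b' := d⁻¹) hd hdi (by field_simp)
  have h3 := hα _ (hQ g ⟨d, hd, g1⟩ ⟨d⁻¹, hdi, g2⟩)
  rw [e, MulAut.conj_apply] at h3
  have h4 : pr n F q g * vv hF E a b c * (pr n F q g)⁻¹ = vv hF E a b c := by
    rw [mul_inv_eq_iff_eq_mul] at h3 ⊢
    exact h3.symm
  rw [vv_conj_diag hF E ha hc g1 g2] at h4
  have h5 : d⁻¹ ^ q = d := by
    have : d⁻¹ ^ q * d ^ q = 1 := by rw [← mul_pow, inv_mul_cancel₀ hd0, one_pow]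
    calc d⁻¹ ^ q = d⁻¹ ^ q * (d * d ^ q) := by rw [hd, mul_one]
      _ = d * (d⁻¹ ^ q * d ^ q) := by ring
      _ = d := by rw [this, mul_one]
  have h6 : b = 0 := by
    obtain ⟨-, h7, -⟩ := vv_inj hF (by omega) E (by rw [hd, one_mul]; exact ha) (by rw [hdi, one_mul]; exact hc) ha hc
      h4
    rw [h5] at h7
    by_contra hb
    exact sq_ne_one hd1 (mul_right_cancel₀ hb (h7.trans (one_mul b).symm))
  refine ⟨vv hF E a b c, ?_, e⟩
  have h0 := tr_zero (F := F) hF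
  have h7 : vv hF E a b c = vv hF E a 0 0 * vv hF E 0 0 c := by
    rw [vv_mul hF E ha h0 h0 hc, h6, add_zero, add_zero, zero_add]
  rw [h7]
  exact Subgroup.mul_mem_sup ((mem_RR1 hF E h1).2 ⟨a, ha, rfl⟩) ((mem_RR2 hF E h2).2 ⟨c, hc, rfl⟩)

omit [CharP F 2] in
/-- conjugation of a long root group -/
theorem cj_RR (hF : Fintype.card F = q ^ 2) {u v : Fin n → F} (hu : hermForm n F q u u = 0)
    (hv : hermForm n F q v v = 0) {g : SU n F q} (h : act g u = v) : cj (pr n F q g) (RR hF u hu) = RR hF v hv := by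
  subst h
  ext x
  rw [mem_cj, ← RR_conj hF hu g hv]

omit [CharP F 2] in
theorem cj_RR_smul (hF : Fintype.card F = q ^ 2) {u : Fin n → F} (hu : hermForm n F q u u = 0) {c : F} (hc : c ≠ 0)
    {g : SU n F q} (h : act g u = c • u) : cj (pr n F q g) (RR hF u hu) = RR hF u hu := by
  have h1 : hermForm n F q (c • u) (c • u) = 0 := by rw [herm_smul_left, herm_smul_right, hu, mul_zero, mul_zero]
  have h2 : hermForm n F q (act g u) (act g u) = 0 := by rw [herm_act]; exact hu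
  ext x
  rw [mem_cj, ← RR_conj hF hu g h2, RR_congr hF h2 h1 h, RR_le hF hu hc h1]

/-- (sep3) -/
theorem sep3 (hF : Fintype.card F = q ^ 2) (hn : 3 ≤ n) (hq : q ≠ 2) (E : Fr q e1 e2 f1 f2)
    (h1 : hermForm n F q e1 e1 = 0) : ∃ g : SU n F q, act g e2 = e2 ∧
      cj (pr n F q g) (RR hF e1 h1) = RR hF e1 h1 ∧
      ∀ x ∈ RR hF e1 h1, pr n F q g * x = x * pr n F q g → x = 1 := by
  obtain ⟨b, hb, hb0, hb1⟩ := exists_fix hF hq
  obtain ⟨g, g1, g2, -, -, -⟩ := E.exDiag hF (a := b) (b := 1) (a' := b⁻¹) (b' := 1)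
    (by rw [inv_pow, hb, mul_inv_cancel₀ hb0]) (by rw [one_pow, mul_one]) (by field_simp)
  rw [one_smul] at g2
  refine ⟨g, g2, cj_RR_smul hF h1 hb0 g1, ?_⟩
  intro x hx hc
  obtain ⟨μ, hμ, rfl⟩ := (mem_RR1 hF E h1).1 hx
  have h0 := tr_zero (F := F) hF
  have g2' : act g e2 = (1 : F) • e2 := by rw [one_smul]; exact g2
  have h3 : pr n F q g * vv hF E μ 0 0 * (pr n F q g)⁻¹ = vv hF E μ 0 0 := by rw [hc, mul_inv_cancel_right]
  rw [vv_conj_diag hF E hμ h0 g1 g2', hb] at h3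
  have h4 : (b * b * μ) + (b * b * μ) ^ q = 0 := by
    rw [mul_pow, mul_pow, hb, ← mul_add, hμ, mul_zero]
  obtain ⟨h5, -, -⟩ := vv_inj hF hn E h4 (by rw [mul_zero]; exact h0) hμ h0 h3
  have h6 : μ = 0 := by
    by_contra h
    exact sq_ne_one hb1 (mul_right_cancel₀ h (h5.trans (one_mul μ).symm))
  rw [h6, vv_zero]

/-- (up) -/
theorem up (hF : Fintype.card F = q ^ 2) (hn : 4 ≤ n) {u : Fin n → F} (hu0 : u ≠ 0) (hu : hermForm n F q u u = 0)
    {g : SU n F q} {c : F} (hc : c * c ^ q = 1) (hg : act g u = c • u) :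
    ∃ a ∈ (PP q u : Subgroup (PSU n F q)), ∃ s : PSU n F q, pr n F q g = a * s ∧ (∀ x ∈ RR hF u hu, s * x = x * s) ∧
      s ^ (q + 1) = 1 := by
  obtain ⟨e2, f1, f2, E⟩ := exFr1 hF hn hu0 hu
  have hc0 : c ≠ 0 := by
    rintro rfl
    rw [zero_mul] at hc
    exact zero_ne_one hc
  have hci : c⁻¹ * c⁻¹ ^ q = 1 := by rw [inv_pow, ← mul_inv, hc, inv_one]
  obtain ⟨s, s1, s2, s3, s4, s5⟩ := E.exDiag hF (a := c) (b := c⁻¹) (a' := c) (b' := c⁻¹) hc hci (by field_simp)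
  refine ⟨pr n F q (g * s⁻¹), ?_, pr n F q s, ?_, ?_, ?_⟩
  · refine mem_PP.2 ⟨g * s⁻¹, ?_, rfl⟩
    have h1 : act s⁻¹ u = c⁻¹ • u := by
      symm
      rw [← act_eq_iff, act_smul, s1, smul_smul, inv_mul_cancel₀ hc0, one_smul]
    rw [act_mul, h1, act_smul, hg, smul_smul, inv_mul_cancel₀ hc0, one_smul]
  · rw [← map_mul, inv_mul_cancel_right]
  · intro x hx
    obtain ⟨μ, hμ, rfl⟩ := (mem_RR1 hF E hu).1 hx
    have h0 := tr_zero (F := F) hF
    rw [← mul_inv_eq_iff_eq_mul, vv_conj_diag hF E hμ h0 s1 s2, hc, one_mul, mul_zero, mul_zero]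
  · have hpow : ∀ (v : Fin n → F) (d : F), act s v = d • v → ∀ m : ℕ, act (s ^ m) v = d ^ m • v := by
      intro v d hd m
      induction m with
      | zero => rw [pow_zero, act_one, pow_zero, one_smul]
      | succ m ih => rw [pow_succ, act_mul, hd, act_smul, ih, smul_smul, pow_succ, mul_comm]
    have hc1 : c ^ (q + 1) = 1 := by rw [pow_succ, mul_comm]; exact hc
    have hc2 : c⁻¹ ^ (q + 1) = 1 := by rw [inv_pow, hc1, inv_one]
    rw [← map_pow]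
    have h1 : s ^ (q + 1) = 1 := by
      apply E.ext
      · rw [hpow _ _ s1, hc1, one_smul, act_one]
      · rw [hpow _ _ s2, hc2, one_smul, act_one]
      · rw [hpow _ _ s3, hc1, one_smul, act_one]
      · rw [hpow _ _ s4, hc2, one_smul, act_one]
      · intro v hv
        rw [hpow v 1 (by rw [s5 v hv, one_smul]), one_pow, one_smul, act_one]
    rw [h1, map_one]

open Cfsg.Agent.OddHalf.DblR.UnF

theorem ind_sep1 (hF : Fintype.card F = q ^ 2) (hn : 3 ≤ n) {u u' : Fin n → F} (hu : hermForm n F q u u = 0)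
    (hu' : hermForm n F q u' u' = 0) (huu' : hermForm n F q u u' = 0)
    (hind : ∀ a b : F, a • u + b • u' = 0 → a = 0 ∧ b = 0) {x : PSU n F q} (hx : x ∈ RR hF u hu)
    (hx' : x ∈ RR hF u' hu') : x = 1 := by
  obtain ⟨f1, f2, E⟩ := exFr hF hu hu' huu' hind
  exact sep1 hF hn E hu hu' hx hx'

theorem ind_sep2 (hF : Fintype.card F = q ^ 2) (hn : 4 ≤ n) {u u' : Fin n → F} (hu : hermForm n F q u u = 0)
    (hu' : hermForm n F q u' u' = 0) (huu' : hermForm n F q u u' = 0)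
    (hind : ∀ a b : F, a • u + b • u' = 0 → a = 0 ∧ b = 0) :
    CnAut (PE q u ⊓ PE q u') (RR hF u hu ⊔ RR hF u' hu') := by
  obtain ⟨f1, f2, E⟩ := exFr hF hu hu' huu' hind
  exact sep2 hF hn E hu hu' _ fun g h1 h2 => ⟨mem_PE.2 ⟨g, h1, rfl⟩, mem_PE.2 ⟨g, h2, rfl⟩⟩

theorem ind_sep3 (hF : Fintype.card F = q ^ 2) (hn : 3 ≤ n) (hq : 4 ≤ q) {u u' : Fin n → F}
    (hu : hermForm n F q u u = 0) (hu' : hermForm n F q u' u' = 0) (huu' : hermForm n F q u u' = 0)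
    (hind : ∀ a b : F, a • u + b • u' = 0 → a = 0 ∧ b = 0) : ∃ κ ∈ (PE q u' : Subgroup (PSU n F q)),
      cj κ (RR hF u hu) = RR hF u hu ∧ ∀ x ∈ RR hF u hu, κ * x = x * κ → x = 1 := by
  obtain ⟨f1, f2, E⟩ := exFr hF hu hu' huu' hind
  obtain ⟨g, h1, h2, h3⟩ := sep3 hF hn (by omega) E hu
  exact ⟨pr n F q g, mem_PE.2 ⟨g, ⟨1, by rw [one_pow, mul_one], by rw [one_smul, h1]⟩, rfl⟩, h2, h3⟩

omit [CharP F 2] in
/-- (cen) -/
theorem cen (hF : Fintype.card F = q ^ 2) (hn : 4 ≤ n) {d : ℕ} (hd : 2 ≤ d) {e f : Fin d → (Fin n → F)}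
    (E : Frm q e f) : CnAut (SE q e) (VE hF E) := by
  intro α hα
  obtain ⟨H, hH, h1⟩ := autCent_frame hF hn E hd α fun g hg => hα _ (mem_SE.2 ⟨g, hg, rfl⟩)
  exact ⟨_, mem_VE.2 ⟨H, hH, rfl⟩, h1⟩

theorem even_q (hF : Fintype.card F = q ^ 2) : Even q := by
  obtain ⟨m, -, hm⟩ := FiniteField.card F 2
  have h1 : Even (q ^ 2) := by
    rw [← hF, hm]
    exact (even_two.pow_of_ne_zero m.ne_zero)
  exact (Nat.even_pow.1 h1).1

/-- (up) -/
theorem PE_up (hF : Fintype.card F = q ^ 2) (hn : 4 ≤ n) {u : Fin n → F} (hu0 : u ≠ 0)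
    (hu : hermForm n F q u u = 0) : ∀ p ∈ (PE q u : Subgroup (PSU n F q)), ∃ a ∈ (PP q u : Subgroup (PSU n F q)),
      ∃ s : PSU n F q, p = a * s ∧ (∀ x ∈ RR hF u hu, s * x = x * s) ∧ ∃ m : ℕ, Odd m ∧ s ^ m = 1 := by
  intro p hp
  obtain ⟨g, ⟨c, hc, hg⟩, rfl⟩ := mem_PE.1 hp
  obtain ⟨a, ha, s, h1, h2, h3⟩ := up hF hn hu0 hu hc hg
  exact ⟨a, ha, s, h1, h2, q + 1, (even_q hF).add_one, h3⟩

end Two

end Cfsg.Agent.OddHalf.DblR.UnSep
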