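import Cfsg.Agent.OddHalf.DblR.UnGrp
import Cfsg.Agent.OddHalf.DblR.UnSep

/-!
# ODD, D4, unitary groups: the facts `UK` for a frame with two pairs in `PSU n F q`, `n ≥ 4`, `q ≥ 4` even (helper780)

`halfK`, **`exists_UK`**.
-/

set_option autoImplicit false

namespace Cfsg.Agent.OddHalf.DblR.UnF

open Cfsg Cfsg.Agent.LieClassical.HermBasic Cfsg.Agent.LieClassical.HermSiegel
  Cfsg.Agent.LieClassical.HermGen Cfsg.Agent.LieClassical.SUBasic Matrix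
  Cfsg.Agent.ClassicalGeometry.PSUAutBasic Cfsg.Agent.ClassicalGeometry.PSUAutSylow
  Cfsg.Agent.ClassicalGeometry.PSUAutUnip Cfsg.Agent.KFacts.Unit Cfsg.Agent.Nodes.Reps

variable {F : Type*} [Field F] [Fintype F] [CharP F 2] {q n : ℕ} {e f e' f' : Fin 2 → (Fin n → F)}

/-- An element of `A` moving `e 0` to a given vector of the line. -/
theorem exists_slG (hF : Fintype.card F = q ^ 2) (E : Frm q e f) {a c : F} (h : ¬ (a = 0 ∧ c = 0)) :
    ∃ g ∈ (slG q e f : Subgroup (SU n F q)), act g (e 0) = a • e 0 + c • e 1 := by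
  by_cases ha : a = 0
  · have hc : c ≠ 0 := fun hc => h ⟨ha, hc⟩
    obtain ⟨g, hg, N, h1⟩ := exists_acts_det hF E (M := !![a, c⁻¹; c, 0]) (by
      rw [det_fin_two]
      simp only [of_apply, cons_val', cons_val_zero, cons_val_one, cons_val_fin_one, mul_zero, zero_sub]
      rw [inv_mul_cancel₀ hc]
      linear_combination -(two0 : (2 : F) = 0))
    exact ⟨g, hg, by rw [h1.e0]; rfl⟩
  · obtain ⟨g, hg, N, h1⟩ := exists_acts_det hF E (M := !![a, 0; c, a⁻¹]) (by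
      rw [det_fin_two]
      simp only [of_apply, cons_val', cons_val_zero, cons_val_one, cons_val_fin_one, zero_mul, sub_zero]
      exact mul_inv_cancel₀ ha)
    exact ⟨g, hg, by rw [h1.e0]; rfl⟩

theorem iso_act (hF : Fintype.card F = q ^ 2) (E : Frm q e f) {g : SU n F q} (hg : g ∈ slG q e f) :
    ∃ a c : F, act g (e 0) = a • e 0 + c • e 1 := by
  obtain ⟨M, N, -, -, h⟩ := hg
  exact ⟨_, _, h.e0⟩

theorem herm_gg (hF : Fintype.card F = q ^ 2) (E : Frm q e f) (g : SU n F q) :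
    hermForm n F q (act g (e 0)) (act g (e 0)) = 0 := by rw [herm_act]; exact E.ee 0 0

/-- `V` fixes the line. -/
theorem VE_le_PE (hF : Fintype.card F = q ^ 2) (E : Frm q e f) (i : Fin 2) : VE hF E ≤ PE q (e i) := by
  intro x hx
  obtain ⟨α, β, δ, hα, hδ, rfl⟩ := mem_VE'.1 hx
  exact ⟨_, ⟨1, by rw [one_pow, one_mul], by rw [hE_e, one_smul]⟩, rfl⟩

theorem RR0_le_VE (hF : Fintype.card F = q ^ 2) (E : Frm q e f) : RR hF (e 0) (E.ee 0 0) ≤ VE hF E := by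
  intro x hx
  obtain ⟨μ, h, rfl⟩ := (mem_RR0 hF E).1 hx
  exact mem_VE'.2 ⟨_, _, _, _, _, rfl⟩

theorem RR1_le_VE (hF : Fintype.card F = q ^ 2) (E : Frm q e f) : RR hF (e 1) (E.ee 1 1) ≤ VE hF E := by
  intro x hx
  obtain ⟨μ, h, rfl⟩ := (mem_RR1 hF E).1 hx
  exact mem_VE'.2 ⟨_, _, _, _, _, rfl⟩

theorem XE_le_VE (hF : Fintype.card F = q ^ 2) (E : Frm q e f) : XE hF E ≤ VE hF E := by
  intro x hx
  obtain ⟨a, rfl⟩ := mem_XE.1 hx
  exact mem_VE'.2 ⟨_, _, _, _, _, rfl⟩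

theorem VE_comm (hF : Fintype.card F = q ^ 2) (E : Frm q e f) {x y : PSU n F q} (hx : x ∈ VE hF E)
    (hy : y ∈ VE hF E) : x * y = y * x := by
  obtain ⟨α, β, δ, hα, hδ, rfl⟩ := mem_VE'.1 hx
  obtain ⟨α', β', δ', hα', hδ', rfl⟩ := mem_VE'.1 hy
  rw [← map_mul, ← map_mul, hE_mul, hE_mul]
  congr 1
  exact hE_congr hF E (add_comm _ _) (add_comm _ _) (add_comm _ _)

/-- (hV) -/
theorem VE_eq (hF : Fintype.card F = q ^ 2) (E : Frm q e f) :
    VE hF E = ⨆ k : ↥(AE q e f : Subgroup (PSU n F q)), cj (k : PSU n F q) (RR hF (e 0) (E.ee 0 0)) := by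
  apply le_antisymm
  · intro x hx
    obtain ⟨α, β, δ, hα, hδ, rfl⟩ := mem_VE'.1 hx
    -- the three pieces
    have z0 := zero_pow_q hF
    have h1 : (1 : F) ^ q = 1 := one_pow q
    have hN : (β ^ q * β) ^ q = β ^ q * β := by rw [mul_pow, pow_q_pow_q hF, mul_comm]
    have hA : (α + 1) ^ q = α + 1 := fix_add hF hα h1
    have hD : (δ + β ^ q * β) ^ q = δ + β ^ q * β := fix_add hF hδ hN
    obtain ⟨g, hg, Ng, hg1⟩ := exists_acts_det hF E (M := !![1, 0; β ^ q, 1]) (by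
      rw [det_fin_two]
      simp)
    obtain ⟨k, hk, Nk, hk1⟩ := exists_acts_det hF E (M := !![0, 1; 1, 0]) (by
      rw [det_fin_two]
      simp only [of_apply, cons_val', cons_val_zero, cons_val_one, cons_val_fin_one, mul_one, zero_mul, zero_sub]
      linear_combination -(two0 : (2 : F) = 0))
    have c1 : g * hE hF E 1 0 0 h1 z0 * g⁻¹ = hE hF E 1 β (β ^ q * β) h1 hN :=
      hE_conj hF E (a := 1) (b := 0) (c := β ^ q) (d := 1) (by rw [hg1.e0]; rfl) (by rw [hg1.e1]; rfl) h1 z0 h1 hN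
        (by rw [one_pow, z0]; ring) (by rw [pow_q_pow_q hF, z0]; ring) (by rw [pow_q_pow_q hF, z0]; ring)
    have c2 : k * hE hF E (δ + β ^ q * β) 0 0 hD z0 * k⁻¹ = hE hF E 0 0 (δ + β ^ q * β) z0 hD :=
      hE_conj hF E (a := 0) (b := 1) (c := 1) (d := 0) (by rw [hk1.e0]; rfl) (by rw [hk1.e1]; rfl) hD z0 z0 hD
        (by rw [z0]; ring) (by rw [z0]; ring) (by rw [one_pow, z0]; ring)
    have c3 : hE hF E α β δ hα hδ = hE hF E (α + 1) 0 0 hA z0 * (g * hE hF E 1 0 0 h1 z0 * g⁻¹) *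
        (k * hE hF E (δ + β ^ q * β) 0 0 hD z0 * k⁻¹) := by
      rw [c1, c2, hE_mul, hE_mul]
      refine hE_congr hF E ?_ ?_ ?_
      · linear_combination -(two0 : (2 : F) = 0)
      · ring
      · linear_combination -(β ^ q * β) * (two0 : (2 : F) = 0)
    have m0 : ∀ (μ : F) (hμ : μ ^ q = μ), pr n F q (hE hF E μ 0 0 hμ z0) ∈ RR hF (e 0) (E.ee 0 0) := fun μ hμ =>
      (mem_RR0 hF E).2 ⟨μ, hμ, rfl⟩
    have key : ∀ (g : SU n F q) (_ : g ∈ slG q e f) (y : SU n F q), pr n F q y ∈ RR hF (e 0) (E.ee 0 0) →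
        pr n F q (g * y * g⁻¹) ∈
          ⨆ k : ↥(AE q e f : Subgroup (PSU n F q)), cj (k : PSU n F q) (RR hF (e 0) (E.ee 0 0)) := by
      intro g hg y hy
      rw [map_mul, map_mul, map_inv]
      exact Subgroup.mem_iSup_of_mem (⟨pr n F q g, g, hg, rfl⟩ : ↥(AE q e f : Subgroup (PSU n F q)))
        (conj_mem_cj.2 hy)
    rw [c3, map_mul, map_mul]
    refine mul_mem (mul_mem ?_ (key g hg _ (m0 _ _))) (key k hk _ (m0 _ _))
    have := key 1 (one_mem _) _ (m0 _ hA)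
    rwa [one_mul, inv_one, mul_one] at this
  · refine iSup_le ?_
    rintro ⟨_, g, ⟨M, N, -, -, hg⟩, rfl⟩
    rintro _ ⟨y, hy, rfl⟩
    obtain ⟨x, hx, rfl⟩ := RR0_le_VE hF E hy
    refine ⟨g * x * g⁻¹, aG_conj hF E hg.he hx, ?_⟩
    rw [map_mul, map_mul, map_inv]
    rfl

/-- The two points are independent. -/
theorem ind_of_ne (hF : Fintype.card F = q ^ 2) (E : Frm q e f) {g : SU n F q}
    (h : cj (pr n F q g) (RR hF (e 0) (E.ee 0 0)) ≠ RR hF (e 0) (E.ee 0 0)) :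
    ∀ a b : F, a • e 0 + b • act g (e 0) = 0 → a = 0 ∧ b = 0 := by
  intro a b hab
  by_cases hb : b = 0
  · subst hb
    rw [zero_smul, add_zero, smul_eq_zero] at hab
    rcases hab with h1 | h1
    · exact ⟨h1, rfl⟩
    · exact absurd h1 (ne_zero_e E 0)
  · exfalso
    apply h
    have h1 : act g (e 0) = (b⁻¹ * -a) • e 0 := by
      have h2 : b • act g (e 0) = (-a) • e 0 := by
        rw [neg_smul, eq_neg_iff_add_eq_zero, add_comm]; exact hab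
      rw [mul_smul, ← h2, smul_smul, inv_mul_cancel₀ hb, one_smul]
    exact UnSep.cj_RR_smul hF (E.ee 0 0) (ne_zero_of_act (ne_zero_e E 0) h1) h1

/-- How the root group `X_d` (off-diagonal on the exchanged frame) acts on the line. -/
theorem act_xd (hF : Fintype.card F = q ^ 2) (E : Frm q e f) (E' : Frm q e' f') (s : Swp e f e' f') (a : F) :
    act (hE hF E' 0 a 0 (zero_pow_q hF) (zero_pow_q hF)) (e 0) = (1 : F) • e 0 + (0 : F) • e 1 ∧
    act (hE hF E' 0 a 0 (zero_pow_q hF) (zero_pow_q hF)) (e 1) = a • e 0 + (1 : F) • e 1 := by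
  constructor
  · have h := hE_e hF E' (zero_pow_q hF) (zero_pow_q hF) (β := a) (α := 0) (δ := 0) 0
    rw [s.e0] at h
    rw [h, one_smul, zero_smul, add_zero]
  · have h := hE_f1 hF E' (zero_pow_q hF) (zero_pow_q hF) (β := a) (α := 0) (δ := 0)
    rw [s.f1, s.e0, s.e1] at h
    rw [h, one_smul, zero_smul, add_zero, add_comm]

theorem mem_of_smul (hF : Fintype.card F = q ^ 2) {u : Fin n → F} {c : F} (hc : c * c ^ q = 1) {g : SU n F q}
    (h : act g u = c • u) : pr n F q g ∈ (PE q u : Subgroup (PSU n F q)) := ⟨g, ⟨c, hc, h⟩, rfl⟩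

/-- **One half of the facts on `K`.** -/
theorem halfK (hF : Fintype.card F = q ^ 2) (hn : 4 ≤ n) (hq : 4 ≤ q) (E : Frm q e f) (E' : Frm q e' f')
    (s : Swp e f e' f') {b c : F} (hb0 : b ≠ 0) (hbq : b ^ q = b) (hb1 : b ≠ 1) (hc : c * c ^ q = 1) (hc1 : c ≠ 1)
    {z τ : SU n F q} (hz : Acts q e f z !![b, 0; 0, b] !![b⁻¹, 0; 0, b⁻¹])
    (hτ : Acts q e f τ !![c, 0; 0, c⁻¹] !![c, 0; 0, c⁻¹]) :
    HalfK CnAut (TE q e f) (PE q (e 0)) (RR hF (e 0) (E.ee 0 0)) (AE q e f) (VE hF E) (SE q e) (ZE q e f)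
      (XE hF E) (XE hF E') (RR hF (e 1) (E.ee 1 1)) (pr n F q z) (pr n F q τ) := by
  have z0 := zero_pow_q hF
  have hn3 : 3 ≤ n := by omega
  have hc0 : c ≠ 0 := by
    rintro rfl
    rw [zero_mul] at hc
    exact zero_ne_one hc
  have hcq : c ^ q = c⁻¹ := eq_inv_of_mul_eq_one_right hc
  have hci : c⁻¹ ^ q = c := by rw [inv_pow, hcq, inv_inv]
  have τ0 : act τ (e 0) = c • e 0 + (0 : F) • e 1 := by rw [hτ.e0]; rfl
  have τ1 : act τ (e 1) = (0 : F) • e 0 + c⁻¹ • e 1 := by rw [hτ.e1]; rfl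
  refine ⟨VE_eq hF E, ?_, ?_, ?_, ?_, ?_, ?_, ?_, ?_, ?_, ?_, ?_, ?_, ?_, ?_, ?_, ?_, ?_, ?_, ?_⟩
  · -- AP
    intro k hk
    have h1 : cj k (RR hF (e 0) (E.ee 0 0)) ≤ VE hF E := by
      rw [VE_eq hF E]
      exact le_iSup (fun k : ↥(AE q e f : Subgroup (PSU n F q)) => cj (k : PSU n F q) (RR hF (e 0) (E.ee 0 0))) ⟨k, hk⟩
    exact h1.trans (VE_le_PE hF E 0)
  · -- AZ
    rintro _ ⟨k, ⟨M, N, -, -, hk⟩, rfl⟩ _ ⟨h, ⟨m, hm, hmq, hh⟩, rfl⟩
    rw [← map_mul, ← map_mul]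
    congr 1
    exact (hh.mul hk).ext hF E ((hk.mul hh).congr (scal_comm m M).symm (scal_comm m⁻¹ N).symm)
  · -- SP
    rintro _ ⟨k, hk, rfl⟩
    rw [PE_cj]
    rintro _ ⟨x, hx, rfl⟩
    obtain ⟨M, N, -, -, h⟩ := hk
    refine ⟨x, ⟨1, by rw [one_pow, one_mul], ?_⟩, rfl⟩
    rw [h.e0, act_add, act_smul, act_smul, hx 0, hx 1, one_smul]
  · -- zZ
    exact ⟨z, ⟨b, hb0, hbq, hz⟩, rfl⟩
  · -- ZT
    rintro _ ⟨h, ⟨m, hm, hmq, hh⟩, rfl⟩
    exact ⟨h, mem_tG_of_acts hh, rfl⟩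
  · -- Ztr
    intro x hx hx1 x' hx' hx1'
    obtain ⟨μ, hμ, rfl⟩ := (mem_RR0 hF E).1 hx
    obtain ⟨ν, hν, rfl⟩ := (mem_RR0 hF E).1 hx'
    have hμ0 : μ ≠ 0 := by
      rintro rfl
      exact hx1 (by rw [hE_zero, map_one])
    have hν0 : ν ≠ 0 := by
      rintro rfl
      exact hx1' (by rw [hE_zero, map_one])
    obtain ⟨m, hm2, hmq⟩ := exists_sqrt (F := F) q (c := ν / μ) (by rw [div_pow, hμ, hν])
    have hm : m ≠ 0 := by
      rintro rfl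
      rw [zero_pow two_ne_zero] at hm2
      exact div_ne_zero hν0 hμ0 hm2.symm
    obtain ⟨g, hg⟩ := exists_acts_dg hF E hm hm (by rw [hmq])
    rw [hmq] at hg
    refine ⟨pr n F q g, ⟨g, ⟨m, hm, hmq, hg⟩, rfl⟩, ?_⟩
    rw [← map_inv, ← map_mul, ← map_mul]
    congr 1
    refine hE_conj hF E (a := m) (b := 0) (c := 0) (d := m) (by rw [hg.e0]; rfl) (by rw [hg.e1]; rfl) hμ z0 hν z0
      ?_ ?_ ?_
    · rw [hmq, z0]
      have : m ^ 2 * μ = ν := by rw [hm2, div_mul_cancel₀ _ hμ0]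
      linear_combination -this
    · rw [z0]; ring
    · rw [z0]; ring
  · -- zfix
    intro x hx hcom
    obtain ⟨α, β, δ, hα, hδ, rfl⟩ := mem_VE'.1 hx
    have hb2 : b * b ≠ 1 := UnSep.sq_ne_one hb1
    have hfx : ∀ α : F, α ^ q = α → (b * b * α) ^ q = b * b * α := fun α hα => by rw [mul_pow, mul_pow, hbq, hα]
    have h1 : z * hE hF E α β δ hα hδ * z⁻¹ = hE hF E (b * b * α) (b * b * β) (b * b * δ) (hfx α hα) (hfx δ hδ) := by
      refine hE_conj hF E (a := b) (b := 0) (c := 0) (d := b) (by rw [hz.e0]; rfl) (by rw [hz.e1]; rfl) _ _ _ _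
        ?_ ?_ ?_
      · rw [hbq, z0]; ring
      · rw [hbq, z0]; ring
      · rw [hbq, z0]; ring
    have h2 : pr n F q (hE hF E (b * b * α) (b * b * β) (b * b * δ) (hfx α hα) (hfx δ hδ)) =
        pr n F q (hE hF E α β δ hα hδ) := by
      rw [← h1, map_mul, map_mul, map_inv, hcom, mul_inv_cancel_right]
    obtain ⟨h3, h4, h5⟩ := hE_inj hF hn3 E h2
    have key : ∀ x : F, b * b * x = x → x = 0 := by
      intro x hx
      by_contra h
      exact hb2 (mul_right_cancel₀ h (hx.trans (one_mul x).symm))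
    obtain rfl := key _ h3
    obtain rfl := key _ h4
    obtain rfl := key _ h5
    rw [hE_zero, map_one]
  · -- cen
    exact UnSep.cen hF hn le_rfl E
  · -- sep
    rintro _ ⟨g, hg, rfl⟩ hne
    have hind := ind_of_ne hF E hne
    have hgg := herm_gg hF E g
    obtain ⟨a, c', h1⟩ := iso_act hF E hg
    have h2 : hermForm n F q (e 0) (act g (e 0)) = 0 := by
      rw [h1, herm_add_right hF, herm_smul_right, herm_smul_right, E.ee, E.ee, mul_zero, mul_zero, add_zero]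
    rw [RR_cj hF (E.ee 0 0) g hgg, PE_cj]
    refine ⟨fun x hx hx' => UnSep.ind_sep1 hF hn3 (E.ee 0 0) hgg h2 hind hx hx',
      UnSep.ind_sep2 hF hn (E.ee 0 0) hgg h2 hind, ?_⟩
    exact UnSep.ind_sep3 hF hn3 hq (E.ee 0 0) hgg h2 hind
  · -- nor
    intro g hg k hk
    obtain ⟨k, hk, rfl⟩ := hk
    obtain ⟨a, c', h1⟩ := iso_act hF E hk
    obtain ⟨γ, rfl, a2, c2, h2⟩ : ∃ γ : SU n F q, pr n F q γ = g ∧ ∃ a2 c2 : F, act γ (act k (e 0)) = a2 • e 0 + c2 • e 1 := by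
      rcases hg with ⟨γ, hγ, e1⟩ | hg
      · obtain ⟨m0, m1, -, -, h3, h4, -⟩ := exists_tG hγ
        exact ⟨γ, e1, a * m0, c' * m1, by rw [h1, act_add, act_smul, act_smul, h3, h4, smul_smul, smul_smul]⟩
      · obtain ⟨a', e1⟩ := mem_XE.1 hg
        obtain ⟨h3, h4⟩ := act_xd hF E E' s a'
        refine ⟨_, e1, a + c' * a', c', ?_⟩
        rw [h1, act_add, act_smul, act_smul, h3, h4]
        module
    have hne : ¬ (a2 = 0 ∧ c2 = 0) := by
      rintro ⟨rfl, rfl⟩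
      rw [zero_smul, zero_smul, add_zero, act_eq_zero, act_eq_zero] at h2
      exact ne_zero_e E 0 h2
    obtain ⟨k', hk', h3⟩ := exists_slG hF E hne
    refine ⟨pr n F q k', ⟨k', hk', rfl⟩, ?_⟩
    have hg1 : hermForm n F q (act (γ * k) (e 0)) (act (γ * k) (e 0)) = 0 := herm_gg hF E _
    have hg2 := herm_gg hF E k'
    rw [← map_mul, RR_cj hF (E.ee 0 0) (γ * k) hg1, RR_cj hF (E.ee 0 0) k' hg2]
    exact RR_congr hF hg1 hg2 (by rw [act_mul, h2, h3])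
  · -- τdec
    intro ρ hρ
    obtain ⟨α, β, δ, hα, hδ, rfl⟩ := mem_VE'.1 hρ
    refine ⟨pr n F q (hE hF E α 0 δ hα hδ), mem_VE'.2 ⟨_, _, _, _, _, rfl⟩, ?_,
      pr n F q (hE hF E 0 β 0 z0 z0), mem_XE.2 ⟨β, rfl⟩, ?_⟩
    · rw [← map_mul, ← map_mul]
      congr 1
      rw [← mul_inv_eq_iff_eq_mul]
      refine hE_conj hF E τ0 τ1 _ _ _ _ ?_ ?_ ?_
      · rw [z0, hcq]; field_simp; ring
      · rw [z0]; ring
      · rw [z0, hci]; field_simp; ring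
    · rw [← map_mul, hE_mul]
      congr 1
      exact hE_congr hF E (add_zero _).symm (zero_add _).symm (add_zero _).symm
  · exact XE_le_VE hF E
  · -- TXm
    rintro _ ⟨g, hg, rfl⟩ x hx
    obtain ⟨a, rfl⟩ := mem_XE.1 hx
    obtain ⟨m0, m1, -, -, h0, h1, -⟩ := exists_tG hg
    refine mem_XE.2 ⟨m0 * a * m1 ^ q, ?_⟩
    rw [← map_inv, ← map_mul, ← map_mul]
    congr 1
    symm
    refine hE_conj hF E (a := m0) (b := 0) (c := 0) (d := m1) (by rw [h0, zero_smul, add_zero])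
      (by rw [h1, zero_smul, zero_add]) _ _ _ _ ?_ ?_ ?_
    · rw [z0]; ring
    · rw [z0]; ring
    · rw [z0]; ring
  · -- τfix
    intro x hx hcom
    obtain ⟨a, rfl⟩ := mem_XE.1 hx
    have h1 : τ * hE hF E 0 a 0 z0 z0 * τ⁻¹ = hE hF E 0 (c * c * a) 0 z0 z0 := by
      refine hE_conj hF E τ0 τ1 _ _ _ _ ?_ ?_ ?_
      · rw [z0]; ring
      · rw [z0, hci]; ring
      · rw [z0]; ring
    have h2 : pr n F q (hE hF E 0 (c * c * a) 0 z0 z0) = pr n F q (hE hF E 0 a 0 z0 z0) := by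
      rw [← h1, map_mul, map_mul, map_inv, hcom, mul_inv_cancel_right]
    obtain ⟨-, h4, -⟩ := hE_inj hF hn3 E h2
    have h5 : a = 0 := by
      by_contra h
      exact UnSep.sq_ne_one hc1 (mul_right_cancel₀ h (h4.trans (one_mul a).symm))
    subst h5
    rw [hE_zero, map_one]
  · -- Zd
    rintro _ ⟨h, ⟨m, hm, hmq, hh⟩, rfl⟩ y hy
    obtain ⟨a, rfl⟩ := mem_XE.1 hy
    have hh' := hh.swp s
    rw [← map_mul, ← map_mul]
    congr 1
    rw [← mul_inv_eq_iff_eq_mul]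
    refine hE_conj hF E' (a := m) (b := 0) (c := 0) (d := m⁻¹) (by rw [hh'.e0]; rfl) (by rw [hh'.e1]; rfl) _ _ _ _
      ?_ ?_ ?_
    · rw [z0]; ring
    · rw [z0, inv_pow, hmq]; field_simp; ring
    · rw [z0]; ring
  · -- dXr
    intro y hy x hx
    have h1 : x ∈ VE hF E' := by
      apply RR0_le_VE hF E'
      rwa [RR_congr hF (E'.ee 0 0) (E.ee 0 0) s.e0]
    exact VE_comm hF E' (XE_le_VE hF E' hy) h1
  · -- VE
    intro ρ hρ
    obtain ⟨α, β, δ, hα, hδ, rfl⟩ := mem_VE'.1 hρ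
    refine ⟨pr n F q (hE hF E α 0 0 hα z0), (mem_RR0 hF E).2 ⟨α, hα, rfl⟩, pr n F q (hE hF E 0 β 0 z0 z0),
      mem_XE.2 ⟨β, rfl⟩, pr n F q (hE hF E 0 0 δ z0 hδ), (mem_RR1 hF E).2 ⟨δ, hδ, rfl⟩, ?_⟩
    rw [← map_mul, ← map_mul, hE_mul, hE_mul]
    congr 1
    exact hE_congr hF E (by ring) (by ring) (by ring)
  · exact RR1_le_VE hF E
  · -- cE
    intro y hy x hx hcm
    obtain ⟨a, rfl⟩ := mem_XE.1 hy
    obtain ⟨μ, hμ, rfl⟩ := (mem_RR1 hF E).1 hx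
    obtain ⟨h3, h4⟩ := act_xd hF E E' s a
    have hN : (a * μ * a ^ q) ^ q = a * μ * a ^ q := by
      rw [mul_pow, mul_pow, pow_q_pow_q hF, hμ]; ring
    have h5 : hE hF E' 0 a 0 z0 z0 * hE hF E 0 0 μ z0 hμ * (hE hF E' 0 a 0 z0 z0)⁻¹ =
        hE hF E (a * μ * a ^ q) (a * μ) μ hN hμ := by
      refine hE_conj hF E h3 h4 _ _ _ _ ?_ ?_ ?_
      · rw [z0]; ring
      · rw [z0, one_pow]; ring
      · rw [z0, one_pow]; ring
    have h6 : cm (pr n F q (hE hF E' 0 a 0 z0 z0)) (pr n F q (hE hF E 0 0 μ z0 hμ)) =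
        pr n F q (hE hF E (a * μ * a ^ q + 0) (a * μ + 0) (μ + μ) (fix_add hF hN z0) (fix_add hF hμ hμ)) := by
      calc cm (pr n F q (hE hF E' 0 a 0 z0 z0)) (pr n F q (hE hF E 0 0 μ z0 hμ)) =
          pr n F q (hE hF E' 0 a 0 z0 z0 * hE hF E 0 0 μ z0 hμ * (hE hF E' 0 a 0 z0 z0)⁻¹ *
            (hE hF E 0 0 μ z0 hμ)⁻¹) := by unfold cm; simp only [map_mul, map_inv]
        _ = _ := by rw [h5, hE_inv, hE_mul]
    rw [h6] at hcm
    obtain ⟨ν, hν, h7⟩ := (mem_RR0 hF E).1 hcm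
    obtain ⟨-, h8, -⟩ := hE_inj hF hn3 E h7
    rw [add_zero] at h8
    rcases mul_eq_zero.1 h8 with h9 | h9
    · left
      subst h9
      rw [hE_zero, map_one]
    · right
      subst h9
      rw [hE_zero, map_one]

theorem zero_pow_q' (hF : Fintype.card F = q ^ 2) : (0 : F) ^ q = 0 := zero_pow_q hF

/-- Commutators of `X_m` and `X_d`. -/
theorem cm_xd (hF : Fintype.card F = q ^ 2) (E : Frm q e f) (E' : Frm q e' f') (s : Swp e f e' f') (a b : F)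
    (h : (a * b ^ q + b * a ^ q) ^ q = a * b ^ q + b * a ^ q) :
    cm (pr n F q (hE hF E 0 b 0 (zero_pow_q hF) (zero_pow_q hF)))
      (pr n F q (hE hF E' 0 a 0 (zero_pow_q hF) (zero_pow_q hF))) =
      pr n F q (hE hF E (a * b ^ q + b * a ^ q) 0 0 h (zero_pow_q hF)) := by
  have z0 := zero_pow_q hF
  obtain ⟨h3, h4⟩ := act_xd hF E E' s a
  have h5 : hE hF E' 0 a 0 z0 z0 * hE hF E 0 b 0 z0 z0 * (hE hF E' 0 a 0 z0 z0)⁻¹ =
      hE hF E (a * b ^ q + b * a ^ q) b 0 h z0 := by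
    refine hE_conj hF E h3 h4 _ _ _ _ ?_ ?_ ?_
    · rw [one_pow]; ring
    · rw [z0, one_pow]; ring
    · rw [z0]; ring
  calc cm (pr n F q (hE hF E 0 b 0 z0 z0)) (pr n F q (hE hF E' 0 a 0 z0 z0)) =
      pr n F q (hE hF E 0 b 0 z0 z0 * (hE hF E' 0 a 0 z0 z0 * (hE hF E 0 b 0 z0 z0)⁻¹ *
        (hE hF E' 0 a 0 z0 z0)⁻¹)) := by
        unfold cm; simp only [map_mul, map_inv, mul_assoc]
    _ = pr n F q (hE hF E 0 b 0 z0 z0 * hE hF E (a * b ^ q + b * a ^ q) b 0 h z0) := by rw [hE_inv hF E, h5]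
    _ = _ := by
      rw [hE_mul]
      congr 1
      exact hE_congr hF E (zero_add _) (add_self' b) (add_zero 0)

/-- **The facts on `K` for a frame with two pairs.** -/
theorem exists_UK (hF : Fintype.card F = q ^ 2) (hn : 4 ≤ n) (hq : 4 ≤ q) {e1 e2 f1 f2 : Fin n → F}
    (E : Frm q ![e1, e2] ![f1, f2]) (h11 : hermForm n F q e1 e1 = 0) :
    ∃ (T P A1 V1 S1 Z1 A2 V2 S2 Z2 Xm Xd E1 E2 : Subgroup (PSU n F q)) (z1 z2 τ : PSU n F q),
      UK CnAut T (PP q e1) P (RR hF e1 h11) A1 V1 S1 Z1 A2 V2 S2 Z2 Xm Xd E1 E2 z1 z2 τ := by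
  have z0 := zero_pow_q hF
  have hn3 : 3 ≤ n := by omega
  have Fr0 := UnVec.Fr.of hF E
  have E' : Frm q ![e1, f2] ![f1, e2] := Fr0.swap.frm
  have s : Swp ![e1, e2] ![f1, f2] ![e1, f2] ![f1, e2] := ⟨rfl, rfl, rfl, rfl⟩
  obtain ⟨b, hbq, hb0, hb1⟩ := UnSep.exists_fix hF (by omega)
  obtain ⟨c, hc, hc1, hc0⟩ := UnSep.exists_norm_one hF
  have hcq : c ^ q = c⁻¹ := eq_inv_of_mul_eq_one_right hc
  have hci : c⁻¹ ^ q = c := by rw [inv_pow, hcq, inv_inv]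
  obtain ⟨z, hz⟩ := exists_acts_dg hF E hb0 hb0 (by rw [hbq])
  obtain ⟨z', hz'⟩ := exists_acts_dg hF E' hb0 hb0 (by rw [hbq])
  rw [hbq] at hz hz'
  obtain ⟨τ, hτ⟩ := exists_acts_dg hF E hc0 (inv_ne_zero hc0) (by rw [hcq, hci, mul_inv_cancel₀ hc0, inv_mul_cancel₀ hc0])
  rw [hcq, hci, inv_inv] at hτ
  have hτ' := hτ.swp s
  have H1 := halfK hF hn hq E E' s hb0 hbq hb1 hc hc1 hz hτ
  have H2 := halfK hF hn hq E' E s.symm hb0 hbq hb1 hc hc1 hz' hτ'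
  rw [s.TE_eq] at H2
  have key : ∀ a : F, (pr n F q (hE hF E' 0 a 0 z0 z0) : PSU n F q) ≠ 1 → a ≠ 0 := by
    rintro a h rfl
    exact h (by rw [hE_zero, map_one])
  refine ⟨TE q ![e1, e2] ![f1, f2], PE q e1, AE q ![e1, e2] ![f1, f2], VE hF E, SE q ![e1, e2],
    ZE q ![e1, e2] ![f1, f2], AE q ![e1, f2] ![f1, e2], VE hF E', SE q ![e1, f2], ZE q ![e1, f2] ![f1, e2],
    XE hF E, XE hF E', RR hF e2 (E.ee 1 1), RR hF f2 (E'.ee 1 1), pr n F q z, pr n F q z', pr n F q τ,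
    H1, H2, ?_, ?_, ?_, ?_, ?_, ?_, ?_, ?_, ?_, ?_⟩
  · -- X0P
    exact (RR0_le_VE hF E).trans (VE_le_PE hF E 0)
  · -- TX
    rintro _ ⟨g, hg, rfl⟩
    obtain ⟨m0, m1, -, -, h0, h1, -⟩ := exists_tG hg
    exact UnSep.cj_RR_smul hF h11 (ne_zero_of_act (ne_zero_e E 0) h0) h0
  · -- Tab
    rintro _ ⟨g, hg, rfl⟩ _ ⟨h, hh, rfl⟩
    rw [← map_mul, ← map_mul, tG_comm hF E hg hh]
  · -- Todd
    rintro _ ⟨g, hg, rfl⟩
    exact ⟨_, odd_card_sub (F := F), by rw [← map_pow, tG_odd hF E hg, map_one]⟩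
  · exact ⟨τ, mem_tG_of_acts hτ, rfl⟩
  · -- cmX
    intro x hx y hy
    obtain ⟨b', rfl⟩ := mem_XE.1 hx
    obtain ⟨a, rfl⟩ := mem_XE.1 hy
    have h : (a * b' ^ q + b' * a ^ q) ^ q = a * b' ^ q + b' * a ^ q := by
      rw [add_pow_q hF, mul_pow, mul_pow, pow_q_pow_q hF, pow_q_pow_q hF]; ring
    rw [cm_xd hF E E' s a b' h]
    exact (mem_RR0 hF E).2 ⟨_, h, rfl⟩
  · -- nd
    intro y hy hy1
    obtain ⟨a, rfl⟩ := mem_XE.1 hy
    have ha : a ≠ 0 := key a hy1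
    obtain ⟨t, ht⟩ := exists_trace_eq hF (c := (1 : F)) (one_pow q)
    -- `b a^q = t`
    have haq : a ^ q ≠ 0 := pow_ne_zero _ ha
    have h1 : a * (t / a ^ q) ^ q + t / a ^ q * a ^ q = 1 := by
      rw [div_pow, pow_q_pow_q hF, div_mul_cancel₀ _ haq, mul_div_cancel₀ _ ha, add_comm, ht]
    have h : (a * (t / a ^ q) ^ q + t / a ^ q * a ^ q) ^ q = a * (t / a ^ q) ^ q + t / a ^ q * a ^ q := by
      rw [h1, one_pow]
    refine ⟨_, mem_XE.2 ⟨t / a ^ q, rfl⟩, ?_⟩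
    rw [cm_xd hF E E' s a _ h]
    intro h2
    have h3 := (hE_ne_one hF hn3 E h2).1
    rw [h1] at h3
    exact one_ne_zero h3
  · -- hd
    refine ⟨_, mem_XE.2 ⟨1, rfl⟩, fun h2 => ?_⟩
    exact one_ne_zero (hE_ne_one hF hn3 E' h2).2.1
  · -- P0P
    rintro _ ⟨g, hg, rfl⟩
    exact ⟨g, ⟨1, by rw [one_pow, one_mul], by rw [one_smul]; exact hg⟩, rfl⟩
  · -- up
    exact UnSep.PE_up hF hn (ne_zero_e E 0) h11

end Cfsg.Agent.OddHalf.DblR.UnF
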