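import Cfsg.Agent.OddHalf.D7.Uni.HeisLin

/-!
# The radical of an isotropic point, `n ≥ 4`: the hypotheses of `LocS` in the abstract situation

* `exists_iso_basis` : a basis of isotropic vectors;
* `norm_lin` : an additive map commuting with the transvections commutes with norms;
* `sc_abs`, `B_abs`.
-/

set_option autoImplicit false

namespace Cfsg.Agent.OddHalf.DblR.UnLoc

open Subgroup Cfsg.Agent.OddHalf.D7.Uni.Ex
open scoped commutatorElement

variable {G : Type*} [Group G] {F : Type*} [Field F] {N : Type*} [AddCommGroup N] [Module F N]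
  {σ : F →+* F} {B : N → N → F}

/-- A hermitian space with a hyperbolic pair has a basis of isotropic vectors. -/
theorem exists_iso_basis [Finite N] (H : Form σ B)
    (hp : ∃ x y, B x x = 0 ∧ B y y = 0 ∧ B x y = 1) :
    ∃ (s : Set N) (b : Module.Basis s F N), Finite s ∧ ∀ i, B (b i) (b i) = 0 := by
  obtain ⟨x, y, hx, hy, hxy⟩ := hp
  have hyx : B y x = 1 := by rw [H.symm, hxy, map_one]
  have hspan : (⊤ : Submodule F N) ≤ Submodule.span F {v | B v v = 0} := by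
    intro z _
    set w := z + B z y • x + B z x • y with hw
    have hwy : B w y = 0 := by
      rw [hw, H.add_left, H.add_left, H.smul_left, H.smul_left, hxy, hy, mul_one, mul_zero, add_zero, H.two]
    have hwx : B w x = 0 := by
      rw [hw, H.add_left, H.add_left, H.smul_left, H.smul_left, hyx, hx, mul_one, mul_zero, add_zero, H.two]
    obtain ⟨c, hc⟩ := H.exists_tr (H.self_sigma w)
    have h1 : B (w + x + c • y) (w + x + c • y) = 0 := by
      simp only [H.add_left, H.add_right, H.smul_left, H.smul_right, hwy, hwx, H.swap hwy, H.swap hwx, hx, hy, hxy,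
        hyx]
      linear_combination (c + σ c) * H.two 1 - hc
    have h2 : z = (w + x + c • y) + x + c • y + B z y • x + B z x • y := by
      have e1 := H.two' x
      have e2 := H.two' (c • y)
      have e3 := H.two' (B z y • x)
      have e4 := H.two' (B z x • y)
      calc z = z + (B z y • x + B z y • x) + (B z x • y + B z x • y) + (x + x) + (c • y + c • y) := by
            rw [e1, e2, e3, e4]; abel
        _ = _ := by rw [hw]; abel
    rw [h2]
    have hx' : x ∈ Submodule.span F {v | B v v = 0} := Submodule.subset_span hx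
    have hy' : y ∈ Submodule.span F {v | B v v = 0} := Submodule.subset_span hy
    exact Submodule.add_mem _ (Submodule.add_mem _ (Submodule.add_mem _ (Submodule.add_mem _
      (Submodule.subset_span h1) hx') (Submodule.smul_mem _ _ hy')) (Submodule.smul_mem _ _ hx'))
      (Submodule.smul_mem _ _ hy')
  let b := Module.Basis.ofSpan hspan
  exact ⟨_, b, inferInstance, fun i => Module.Basis.ofSpan_subset hspan ⟨i, rfl⟩⟩

/-- An additive map commuting with the transvections commutes with norms. -/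
theorem norm_lin (H : Form σ B) {ν : N → N} (hν : ∀ x y, ν (x + y) = ν x + ν y)
    (hc : ∀ e, B e e = 0 → ∀ x, ν (B x e • e) = B (ν x) e • e) {ι : Type*} [Fintype ι]
    {b : Module.Basis ι F N} (hb : ∀ i, B (b i) (b i) = 0) (c : F) (x : N) :
    ν ((c * σ c) • x) = (c * σ c) • ν x := by
  have h1 : ∀ s, B s s = 0 → s ≠ 0 → ∀ l : F, ν ((c * σ c) • (l • s)) = (c * σ c) • ν (l • s) := by
    intro s hs hs0 l
    obtain ⟨x0, hx0⟩ := H.exists_one hs0
    have h2 : B (c • s) (c • s) = 0 := by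
      rw [H.smul_left, H.smul_right, hs, mul_zero, mul_zero]
    have h3 := hc _ h2 (l • x0)
    have h4 := hc _ hs (l • x0)
    rw [H.smul_left, hx0, mul_one] at h4
    rw [H.smul_left, H.smul_right, H.smul_right, hx0, mul_one, smul_smul, smul_smul] at h3
    rw [h4, smul_smul, smul_smul]
    rw [show c * σ c * l = l * σ c * c by ring, h3]
    congr 1
    ring
  have h0 : ν 0 = 0 := by
    have := hν 0 0
    rw [add_zero] at this
    exact (add_eq_left.1 this.symm)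
  have hsum : ∀ (s : Finset ι) (g : ι → F),
      ν ((c * σ c) • ∑ i ∈ s, g i • b i) = (c * σ c) • ν (∑ i ∈ s, g i • b i) := by
    intro s g
    classical
    induction s using Finset.induction_on with
    | empty => simp [h0]
    | insert i s hi ih =>
      rw [Finset.sum_insert hi, smul_add, hν, hν, smul_add, ih, h1 _ (hb i) (b.ne_zero i)]
  rw [← b.sum_repr x]
  exact hsum _ _

variable {X Q P : Subgroup G} {S : N → F → G}

theorem quot_mem (H : Heis σ B X Q S) {x : N} {a a' : F} (ha : a + σ a = B x x) (ha' : a' + σ a' = B x x) :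
    S x a * (S x a')⁻¹ ∈ X := by
  have h1 : σ (a + a') = a + a' := by
    have h4 : (a + a') + σ (a + a') = 0 := by
      rw [map_add]
      calc a + a' + (σ a + σ a') = (a + σ a) + (a' + σ a') := by ring
        _ = 0 := by rw [ha, ha', H.two]
    rw [add_eq_zero_iff_eq_neg, H.neg_eq] at h4
    exact h4.symm
  have h2 : S x a = S 0 (a + a') * S x a' := by
    rw [H.X_mul ha' h1]
    congr 1
    linear_combination - a' * H.two 1
  rw [h2, mul_inv_cancel_right]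
  exact H.mem_X h1

/-- **sc** -/
theorem sc_abs (H : Heis σ B X Q S) (T : HasTr σ B P S) {ι : Type*} [Fintype ι]
    {b : Module.Basis ι F N} (hb : ∀ i, B (b i) (b i) = 0) {e : G} (hQ : ∀ q ∈ Q, e * q * e⁻¹ ∈ Q)
    (hX : ∀ x ∈ X, e * x * e⁻¹ ∈ X) (hP : ∀ p ∈ P, e * p * e⁻¹ * p⁻¹ ∈ Q) {h : G} {c : F}
    (hh : ∀ x a, a + σ a = B x x → ∃ a', a' + σ a' = B ((c * σ c) • x) ((c * σ c) • x) ∧
      h * S x a * h⁻¹ = S ((c * σ c) • x) a') :
    ∀ v ∈ Q, h * (e * v * e⁻¹) * h⁻¹ * (e * (h * v * h⁻¹) * e⁻¹)⁻¹ ∈ X := by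
  obtain ⟨ν, hν, hα⟩ := H.exists_nu (α := fun q => e * q * e⁻¹) hQ hX (fun q _ r _ => by group)
  have hc := norm_lin H.toForm hν (fun s hs x => by
    obtain ⟨p, hp, hpS⟩ := T s hs
    refine H.nu_tr (α := fun q => e * q * e⁻¹) hν hα hs (hP p hp) hpS (fun v _ => ?_) x
    group) hb c
  intro v hv
  obtain ⟨x, a, ha, rfl⟩ := (H.memQ v).1 hv
  obtain ⟨a1, ha1, e1⟩ := hα x a ha
  obtain ⟨a2, ha2, e2⟩ := hh _ a1 ha1
  obtain ⟨a3, ha3, e3⟩ := hh x a ha
  obtain ⟨a4, ha4, e4⟩ := hα _ a3 ha3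
  have e1' : e * S x a * e⁻¹ = S (ν x) a1 := e1
  have e4' : e * S ((c * σ c) • x) a3 * e⁻¹ = S (ν ((c * σ c) • x)) a4 := e4
  rw [e1', e2, e3, e4', hc]
  rw [hc] at ha4
  exact quot_mem H ha2 ha4

/-- **B** -/
theorem B_abs [Finite N] (H : Heis σ B X Q S) (T : HasTr σ B P S) {ι : Type*} [Fintype ι]
    {b : Module.Basis ι F N} (hb : ∀ i, B (b i) (b i) = 0) (QP : Q ≤ P) (hPP : ⁅P, P⁆ = P)
    (QN : ∀ p ∈ P, ∀ q ∈ Q, p * q * p⁻¹ ∈ Q) (XZ : ∀ x ∈ X, ∀ p ∈ P, x * p = p * x)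
    {y : G} (h1 : ∀ p ∈ P, y * p * y⁻¹ * p⁻¹ ∈ Q)
    (h2 : ∀ v ∈ Q, y * v * y⁻¹ * v⁻¹ ∈ X) (h3 : ∀ x ∈ X, y * x = x * y) :
    ∃ q ∈ Q, ∀ p ∈ P, y * p * y⁻¹ = q * p * q⁻¹ := by
  have XQ := H.XQ
  -- `E2`
  obtain ⟨q0, hq0, hf⟩ := H.E2 T hb (f := fun v => y * v * y⁻¹ * v⁻¹) h2 (by
      intro v hv w hw
      have h4 : v⁻¹ * (y * w * y⁻¹ * w⁻¹) = (y * w * y⁻¹ * w⁻¹) * v⁻¹ := (XZ _ (h2 w hw) _ (QP (inv_mem hv))).symm
      show y * (v * w) * y⁻¹ * (v * w)⁻¹ = y * v * y⁻¹ * v⁻¹ * (y * w * y⁻¹ * w⁻¹)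
      calc y * (v * w) * y⁻¹ * (v * w)⁻¹ = y * v * y⁻¹ * ((y * w * y⁻¹ * w⁻¹) * v⁻¹) := by group
        _ = y * v * y⁻¹ * (v⁻¹ * (y * w * y⁻¹ * w⁻¹)) := by rw [h4]
        _ = _ := by group) (by
      intro x hx
      show y * x * y⁻¹ * x⁻¹ = 1
      rw [h3 x hx]; group) (by
      intro p hp
      refine ⟨p⁻¹ * (y * p * y⁻¹ * p⁻¹) * p, ?_, fun v hv => ?_⟩
      · have := QN _ (inv_mem hp) _ (h1 p hp)
        rwa [inv_inv] at this
      · set z := y * p * y⁻¹ * p⁻¹ with hz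
        have hzQ : z ∈ Q := h1 p hp
        have h4 := h2 v hv
        have h5 : p⁻¹ * z * p * v * (p⁻¹ * z * p)⁻¹ * v⁻¹ ∈ X := by
          have h6 := QN _ (inv_mem hp) _ hzQ
          rw [inv_inv] at h6
          exact H.QQ _ h6 _ hv
        have h7 : p * (p⁻¹ * z * p * v * (p⁻¹ * z * p)⁻¹ * v⁻¹) * p⁻¹ = p⁻¹ * z * p * v * (p⁻¹ * z * p)⁻¹ * v⁻¹ := by
          rw [← XZ _ h5 p hp]; group
        have h8 : z * p * (y * v * y⁻¹ * v⁻¹) * (z * p)⁻¹ = y * v * y⁻¹ * v⁻¹ := by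
          rw [← XZ _ h4 _ (mul_mem (QP hzQ) hp)]; group
        show y * (p * v * p⁻¹) * y⁻¹ * (p * v * p⁻¹)⁻¹ =
          y * v * y⁻¹ * v⁻¹ * (p⁻¹ * z * p * v * (p⁻¹ * z * p)⁻¹ * v⁻¹)
        calc y * (p * v * p⁻¹) * y⁻¹ * (p * v * p⁻¹)⁻¹
            = (z * p * (y * v * y⁻¹ * v⁻¹) * (z * p)⁻¹) * (p * (p⁻¹ * z * p * v * (p⁻¹ * z * p)⁻¹ * v⁻¹) * p⁻¹) := by
              rw [hz]; group
          _ = _ := by rw [h8, h7])
  -- `y' = q0⁻¹ y` centralises `Q`
  have hf' : ∀ v ∈ Q, y * v * y⁻¹ * v⁻¹ = q0 * v * q0⁻¹ * v⁻¹ := hf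
  have hyQ : ∀ v ∈ Q, q0⁻¹ * y * v * (q0⁻¹ * y)⁻¹ = v := by
    intro v hv
    have h4 : y * v * y⁻¹ = q0 * v * q0⁻¹ := mul_right_cancel (hf' v hv)
    calc q0⁻¹ * y * v * (q0⁻¹ * y)⁻¹ = q0⁻¹ * (y * v * y⁻¹) * q0 := by group
      _ = v := by rw [h4]; group
  set y' := q0⁻¹ * y with hy'
  have hyP : ∀ p ∈ P, y' * p * y'⁻¹ * p⁻¹ ∈ Q := by
    intro p hp
    have h4 := h1 p hp
    have h5 : q0⁻¹ * (y * p * y⁻¹ * p⁻¹) * q0 ∈ Q := mul_mem (mul_mem (inv_mem hq0) h4) hq0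
    have h6 : p * q0 * p⁻¹ ∈ Q := QN p hp _ hq0
    have e : y' * p * y'⁻¹ * p⁻¹ = (q0⁻¹ * (y * p * y⁻¹ * p⁻¹) * q0) * (q0⁻¹ * (p * q0 * p⁻¹)) := by rw [hy']; group
    rw [e]
    exact mul_mem h5 (mul_mem (inv_mem hq0) h6)
  have hyX : ∀ p ∈ P, y' * p * y'⁻¹ * p⁻¹ ∈ X := by
    intro p hp
    set z := y' * p * y'⁻¹ * p⁻¹ with hz
    apply H.ZQ z (hyP p hp)
    intro v hv
    have h4 : p⁻¹ * v * p ∈ Q := by
      have := QN _ (inv_mem hp) _ hv
      rwa [inv_inv] at this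
    have h5 := hyQ _ hv
    have h6 := hyQ _ h4
    have h7 : z * v * z⁻¹ = v := by
      calc z * v * z⁻¹ = y' * p * (y'⁻¹ * p⁻¹ * v * p * y') * p⁻¹ * y'⁻¹ := by rw [hz]; group
        _ = y' * p * (y'⁻¹ * (y' * (p⁻¹ * v * p) * y'⁻¹) * y') * p⁻¹ * y'⁻¹ := by rw [h6]; group
        _ = y' * v * y'⁻¹ := by group
        _ = v := h5
    calc z * v = (z * v * z⁻¹) * z := by group
      _ = v * z := by rw [h7]
  -- a homomorphism from `P` to `X`
  have hmul : ∀ a ∈ P, ∀ b ∈ P, y' * (a * b) * y'⁻¹ * (a * b)⁻¹ = (y' * a * y'⁻¹ * a⁻¹) * (y' * b * y'⁻¹ * b⁻¹) := by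
    intro a ha b hb
    have h4 := XZ _ (hyX b hb) _ (inv_mem ha)
    calc y' * (a * b) * y'⁻¹ * (a * b)⁻¹ = y' * a * y'⁻¹ * ((y' * b * y'⁻¹ * b⁻¹) * a⁻¹) := by group
      _ = _ := by rw [h4]; group
  have hcen : ∀ p ∈ P, y' * p * y'⁻¹ * p⁻¹ = 1 := by
    let M : Subgroup G :=
      { carrier := {p | p ∈ P ∧ y' * p * y'⁻¹ * p⁻¹ = 1}
        one_mem' := ⟨one_mem _, by group⟩
        mul_mem' := by
          rintro a b ⟨ha, ha'⟩ ⟨hb, hb'⟩
          exact ⟨mul_mem ha hb, by rw [hmul a ha b hb, ha', hb', mul_one]⟩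
        inv_mem' := by
          rintro a ⟨ha, ha'⟩
          refine ⟨inv_mem ha, ?_⟩
          have h4 := hmul a ha a⁻¹ (inv_mem ha)
          rw [ha', one_mul] at h4
          rw [← h4]; group }
    have hM : P ≤ M := by
      conv_lhs => rw [← hPP]
      rw [commutator_le]
      intro a ha b hb
      refine ⟨commutator_le_self P (commutator_mem_commutator ha hb), ?_⟩
      have ha1 := hyX a ha
      have hb1 := hyX b hb
      have ea : y' * a * y'⁻¹ = (y' * a * y'⁻¹ * a⁻¹) * a := by group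
      have eb : y' * b * y'⁻¹ = (y' * b * y'⁻¹ * b⁻¹) * b := by group
      set u := y' * a * y'⁻¹ * a⁻¹ with hu
      set v := y' * b * y'⁻¹ * b⁻¹ with hv
      have cu := XZ u ha1
      have cv := XZ v hb1
      have hPc : y' * (a * b * a⁻¹ * b⁻¹) * y'⁻¹ = (u * a) * (v * b) * (u * a)⁻¹ * (v * b)⁻¹ := by
        rw [← ea, ← eb]; group
      show y' * ⁅a, b⁆ * y'⁻¹ * ⁅a, b⁆⁻¹ = 1
      rw [commutatorElement_def, hPc]
      have h5 : (u * a) * (v * b) * (u * a)⁻¹ * (v * b)⁻¹ = a * b * a⁻¹ * b⁻¹ := by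
        have c1 : Commute u a := cu a ha
        have c2 : Commute u b := cu b hb
        have c3 : Commute u v := cu v (QP (XQ hb1))
        have c4 : Commute v a := cv a ha
        have c5 : Commute v b := cv b hb
        calc (u * a) * (v * b) * (u * a)⁻¹ * (v * b)⁻¹ = u * (a * v) * b * a⁻¹ * u⁻¹ * b⁻¹ * v⁻¹ := by group
          _ = u * (v * (a * b * a⁻¹)) * u⁻¹ * b⁻¹ * v⁻¹ := by rw [← c4.eq]; group
          _ = (v * (a * b * a⁻¹)) * u * u⁻¹ * b⁻¹ * v⁻¹ := by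
              rw [(c3.mul_right ((c1.mul_right c2).mul_right c1.inv_right)).eq]
          _ = v * (a * b * a⁻¹ * b⁻¹) * v⁻¹ := by group
          _ = (a * b * a⁻¹ * b⁻¹) * v * v⁻¹ := by
              rw [(((c4.mul_right c5).mul_right c4.inv_right).mul_right c5.inv_right).eq]
          _ = _ := by group
      rw [h5, mul_inv_cancel]
    exact fun p hp => (hM hp).2
  refine ⟨q0, hq0, fun p hp => ?_⟩
  have h4 := hcen p hp
  rw [mul_inv_eq_one] at h4
  calc y * p * y⁻¹ = q0 * (y' * p * y'⁻¹) * q0⁻¹ := by rw [hy']; group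
    _ = q0 * p * q0⁻¹ := by rw [h4]

end Cfsg.Agent.OddHalf.DblR.UnLoc
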