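import Cfsg.Agent.OddHalf.DblR.ExistS
import Cfsg.Agent.OddHalf.DblR.UnLocAbs
import Cfsg.Agent.OddHalf.D7.Uni.HeisPoint

/-!
# `LocS` for an isotropic point of `PSU n F q`, `q ≥ 4` even, `n ≥ 4`
-/

set_option autoImplicit false
set_option linter.unusedSectionVars false

namespace Cfsg.Agent.OddHalf.DblR.UnLoc

open Subgroup Cfsg.Agent.OddHalf.D7.Uni.Ex
open Cfsg Cfsg.Agent.LieClassical.HermBasic Cfsg.Agent.LieClassical.HermSiegel
  Cfsg.Agent.LieClassical.HermGen Cfsg.Agent.LieClassical.SUBasic Matrix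
  Cfsg.Agent.ClassicalGeometry.PSUAutBasic Cfsg.Agent.ClassicalGeometry.PSUAutSylow
  Cfsg.Agent.ClassicalGeometry.PSUAutUnip Cfsg.Agent.KFacts.Unit

variable {F : Type*} [Field F] [Fintype F] {q n : ℕ} {G : Type*} [Group G] {e f : Fin n → F}

/-- From automorphisms to elements of an overgroup. -/
theorem exists_of_aut {Y : Type*} [Group Y] (f : Y →* G) (hf : Function.Injective f) {S : Set Y}
    {Z : Subgroup Y} (H : ∀ α : MulAut Y, (∀ x ∈ S, α x = x) → ∃ z ∈ Z, α = MulAut.conj z) {g : G}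
    (hg : g ∈ Subgroup.normalizer (f.range : Set G)) (hgS : ∀ x ∈ S, g * f x = f x * g) :
    ∃ z ∈ Z, ∀ y, (f z)⁻¹ * g * f y = f y * ((f z)⁻¹ * g) := by
  let e : Y ≃* ↥f.range := MonoidHom.ofInjective hf
  obtain ⟨β, hβ⟩ : ∃ β : MulAut ↥f.range, ∀ k : ↥f.range, ((β k : ↥f.range) : G) = g * k * g⁻¹ :=
    ⟨Subgroup.normalizerMonoidHom f.range ⟨g, hg⟩, fun k => rfl⟩
  obtain ⟨α, hα⟩ : ∃ α : MulAut Y, ∀ y, f (α y) = g * f y * g⁻¹ := by
    refine ⟨(e.trans β).trans e.symm, fun y => ?_⟩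
    have h1 : f (e.symm (β (e y))) = ((e (e.symm (β (e y))) : ↥f.range) : G) := rfl
    have h2 : ((e y : ↥f.range) : G) = f y := rfl
    show f (e.symm (β (e y))) = _
    rw [h1, MulEquiv.apply_symm_apply, hβ, h2]
  obtain ⟨z, hz, e⟩ := H α (fun x hx => hf (by rw [hα, hgS x hx, mul_inv_cancel_right]))
  refine ⟨z, hz, fun y => ?_⟩
  have h1 := hα y
  rw [e, MulAut.conj_apply, map_mul, map_mul, map_inv] at h1
  calc (f z)⁻¹ * g * f y = (f z)⁻¹ * (g * f y * g⁻¹) * g := by group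
    _ = (f z)⁻¹ * (f z * f y * (f z)⁻¹) * g := by rw [h1]
    _ = _ := by group

section Two

variable [CharP F 2]

/-- A hyperbolic pair of `N`. -/
theorem exists_pair (hF : Fintype.card F = q ^ 2) (hn : 4 ≤ n) (H : Hyp q e f) :
    ∃ x y : NN q e f, BB q e f x x = 0 ∧ BB q e f y y = 0 ∧ BB q e f x y = 1 := by
  obtain ⟨x, y, hxe, hye, hxx, hyy, hxy⟩ := exists_pair_of_iso hF hn H.ne_zero H.ee
  have key : ∀ x y : Fin n → F, hermForm n F q x e = 0 → hermForm n F q y e = 0 →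
      hermForm n F q (prN q e f x) (prN q e f y) = hermForm n F q x y := by
    intro x y hx hy
    rw [prN, prN, hx, hy, zero_smul, sub_zero, sub_zero, herm_sub_left, herm_sub_right hF,
      herm_sub_right hF, herm_smul_left, herm_smul_left, herm_smul_right, herm_smul_right, hx, H.ee,
      herm_eq_zero_swap hF hy]
    ring
  exact ⟨⟨prN q e f x, prN_e hF H x, prN_f H x⟩, ⟨prN q e f y, prN_e hF H y, prN_f H y⟩,
    (key x x hxe hxe).trans hxx, (key y y hye hye).trans hyy, (key x y hxe hye).trans hxy⟩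

/-- The torus acts on `Q / X` by norms. -/
theorem HH_act (hF : Fintype.card F = q ^ 2) (H : Hyp q e f) (ρ : PSU n F q →* G) {h : G}
    (hh : h ∈ (HH hF H).map ρ) : ∃ c : F, ∀ (x : NN q e f) (a : F), a + frb hF a = BB q e f x x →
      ∃ a', a' + frb hF a' = BB q e f ((c * frb hF c) • x) ((c * frb hF c) • x) ∧
        h * SS hF e f ρ x a * h⁻¹ = SS hF e f ρ ((c * frb hF c) • x) a' := by
  obtain ⟨_, ⟨b, hb, hbq, rfl⟩, rfl⟩ := hh
  obtain ⟨c, hc⟩ := exists_norm_eq hF hbq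
  refine ⟨c, fun x a ha => ?_⟩
  have hcb : c * frb hF c = b := hc
  rw [hcb]
  have h0 : b * b * a + frb hF (b * b * a) = BB q e f (b • x) (b • x) := by
    have h1 : frb hF b = b := hbq
    have F0 := form hF H
    rw [map_mul, map_mul, h1, F0.smul_left, F0.smul_right, h1, ← ha]
    ring
  refine ⟨b * b * a, h0, ?_⟩
  have h2 := (isSiegel_iff H).2 ha
  have h3 := (isSiegel_iff H).2 h0
  rw [SS_eq hF ρ h2, SS_eq hF ρ h3, ← map_inv, ← map_inv, ← map_mul, ← map_mul, ← map_mul, ← map_mul, conj_siegel]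
  congr 2
  apply ext_act
  intro v
  have h4 : act (hyp hF H b hb hbq) (x : Fin n → F) = x := act_hyp_of_orth hF H hb hbq x.2.1 x.2.2
  rw [act_siegel, act_siegel, act_hyp_e, h4]
  have h5 : ((b • x : NN q e f) : Fin n → F) = b • (x : Fin n → F) := rfl
  rw [h5]
  simp only [herm_smul_right, smul_smul, hbq]
  funext i
  simp only [Pi.add_apply, Pi.smul_apply, smul_eq_mul]
  ring

/-- The transvection group is elementary abelian. -/
theorem RR_sq (hF : Fintype.card F = q ^ 2) {u : Fin n → F} (hu : hermForm n F q u u = 0)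
    {x : PSU n F q} (hx : x ∈ RR hF u hu) : x * x = 1 := by
  obtain ⟨μ, hμ, rfl⟩ := mem_RR.1 hx
  rw [← map_mul]
  have h1 : transv hF u hu μ hμ * transv hF u hu μ hμ = 1 := by
    apply ext_act
    intro v
    rw [act_mul, act_transv, act_transv, act_one, herm_add_left, herm_smul_left, hu, mul_zero, add_zero, add_assoc,
      ← add_smul, CharTwo.add_self_eq_zero, zero_smul, add_zero]
  rw [h1, map_one]

theorem exists_RR_ne (hF : Fintype.card F = q ^ 2) (hn : 3 ≤ n) (H : Hyp q e f) : ∃ x ∈ RR hF e H.ee, x ≠ 1 := by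
  obtain ⟨μ, hμ0, hμ⟩ := exists_trace_zero_ne hF
  refine ⟨pr n F q (transv hF e H.ee μ hμ), mem_RR.2 ⟨μ, hμ, rfl⟩, fun h1 => ?_⟩
  have h00 : (0 : F) + 0 ^ q = 0 := by rw [zero_pow_q hF, add_zero]
  have h2 : pr n F q (transv hF e H.ee μ hμ) = pr n F q (transv hF e H.ee 0 h00) := by
    rw [h1, transv_zero, map_one]
  have h3 := siegel_pr_inj hF hn _ _ h2
  have h4 := congrArg (fun g => act g f) h3
  change act (transv hF e H.ee μ hμ) f = act (transv hF e H.ee 0 h00) f at h4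
  rw [act_transv, act_transv, H.fe hF, mul_one, zero_mul, zero_smul, add_zero, add_eq_left] at h4
  rcases smul_eq_zero.1 h4 with h5 | h5
  · exact hμ0 h5
  · exact H.ne_zero h5

/-- The torus is commutative. -/
theorem HH_comm (hF : Fintype.card F = q ^ 2) (H : Hyp q e f) {h k : PSU n F q} (hh : h ∈ HH hF H) (hk : k ∈ HH hF H) :
    h * k = k * h := by
  obtain ⟨b, hb, hbq, rfl⟩ := hh
  obtain ⟨c, hc, hcq, rfl⟩ := hk
  rw [← map_mul, ← map_mul, hyp_mul, hyp_mul]
  congr 1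
  apply ext_act
  intro v
  rw [act_hyp, act_hyp, mul_comm b c]

/-- **`LocS` for an isotropic point.** -/
theorem locS [Finite G] (hF : Fintype.card F = q ^ 2) (hn : 4 ≤ n) (hq : 4 ≤ q) (H : Hyp q e f)
    (hperf : ⁅PP q e, PP q e⁆ = (PP q e : Subgroup (PSU n F q))) (ρ : PSU n F q →* G) (hρ : Function.Injective ρ)
    {R : Subgroup G} (A : Amb ρ.range R) (hR : ∃ t ∈ R, t ≠ 1)
    (two : ∀ c ∈ C1 ρ.range R, IsPGroup 2 (Subgroup.zpowers c) → c ∈ R) :
    LocS ρ.range R ((PP q e).map ρ) ((QQ hF e H.ee).map ρ) ((RR hF e H.ee).map ρ) ((HH hF H).map ρ) := by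
  have HE := heis hF (by omega) H hρ
  have T := hasTr hF H ρ
  obtain ⟨s, b, hfin, hb⟩ := exists_iso_basis (form hF H) (exists_pair hF hn H)
  have := Fintype.ofFinite s
  have hQP : (QQ hF e H.ee).map ρ ≤ (PP q e).map ρ := map_mono (QQ_le_PP hF H.ee)
  have hXZ : ∀ x ∈ (RR hF e H.ee).map ρ, ∀ p ∈ (PP q e).map ρ, x * p = p * x := by
    rintro _ ⟨x, hx, rfl⟩ _ ⟨p, hp, rfl⟩
    rw [← map_mul, ← map_mul, PP_comm_RR hF H.ee hp hx]
  have hQN : ∀ p ∈ (PP q e).map ρ, ∀ v ∈ (QQ hF e H.ee).map ρ, p * v * p⁻¹ ∈ (QQ hF e H.ee).map ρ := by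
    rintro _ ⟨p, hp, rfl⟩ _ ⟨v, hv, rfl⟩
    rw [← map_mul, ← map_inv, ← map_mul]
    exact mem_map_of_mem _ (PP_conj_QQ hF H.ee hp hv)
  have hPP : ⁅(PP q e).map ρ, (PP q e).map ρ⁆ = (PP q e).map ρ := by rw [← map_commutator, hperf]
  exact
    { amb := A
      PK := map_le_range ρ _
      QP := hQP
      XQ := map_mono (RR_le_QQ hF H.ee)
      XX := by
        rintro _ ⟨x, hx, rfl⟩
        rw [← map_mul, RR_sq hF H.ee hx, map_one]
      XZ := hXZ
      QN := hQN
      TK := map_le_range ρ _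
      TX := by
        rintro _ ⟨h, hh, rfl⟩ _ ⟨x, hx, rfl⟩
        rw [← map_mul, ← map_inv, ← map_mul]
        exact mem_map_of_mem _ (HH_conj_RR hF H hh hx)
      TQ := by
        rintro _ ⟨h, hh, rfl⟩ _ ⟨x, hx, rfl⟩
        rw [← map_mul, ← map_inv, ← map_mul, ← map_inv, ← map_mul]
        exact mem_map_of_mem _ (HH_conj_PP hF H hh hx)
      Tab := by
        rintro _ ⟨h, hh, rfl⟩ _ ⟨k, hk, rfl⟩
        rw [← map_mul, HH_comm hF H hh hk, map_mul]
      Ttr := by
        rintro _ ⟨x, hx, rfl⟩ hx1 _ ⟨y, hy, rfl⟩ hy1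
        obtain ⟨h, hh, e1⟩ := HH_trans hF H hx hy (fun h0 => hx1 (by rw [h0, map_one]))
          (fun h0 => hy1 (by rw [h0, map_one]))
        exact ⟨ρ h, mem_map_of_mem _ hh, by rw [← map_mul, ← map_inv, ← map_mul, e1]⟩
      big := by
        obtain ⟨x, hx, hx1⟩ := exists_RR_ne hF (by omega) H
        obtain ⟨h, hh, hfix⟩ := exists_HH_free hF (by omega) (by omega) H
        refine ⟨ρ x, mem_map_of_mem _ hx, ρ (h * x * h⁻¹), mem_map_of_mem _ (HH_conj_RR hF H hh hx), ?_, ?_, ?_⟩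
        · intro h0
          exact hx1 (hρ (h0.trans (map_one ρ).symm))
        · intro h0
          have h1 := hρ (h0.trans (map_one ρ).symm)
          apply hx1
          calc x = h⁻¹ * (h * x * h⁻¹) * h := by group
            _ = 1 := by rw [h1]; group
        · intro h0
          exact hx1 (hfix x hx (hρ h0).symm)
      two := two
      k3 := by
        intro c hcR hcP
        obtain ⟨t, ht, ht1⟩ := hR
        have hct := hcR t ht
        have h1 : ∀ k ∈ ρ.range, c * k * c⁻¹ ∈ ρ.range := A.nor t ht ht1 c hct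
        have hct' : c⁻¹ * t = t * c⁻¹ := by
          calc c⁻¹ * t = c⁻¹ * (t * c) * c⁻¹ := by group
            _ = c⁻¹ * (c * t) * c⁻¹ := by rw [hct]
            _ = t * c⁻¹ := by group
        have h2 : ∀ k ∈ ρ.range, c⁻¹ * k * c ∈ ρ.range := by
          intro k hk
          have := A.nor t ht ht1 c⁻¹ hct' k hk
          rwa [inv_inv] at this
        have hcn : c ∈ Subgroup.normalizer (ρ.range : Set G) := by
          rw [Subgroup.mem_normalizer_iff]
          refine fun k => ⟨fun hk => h1 k hk, fun hk => ?_⟩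
          have := h2 _ hk
          rwa [show c⁻¹ * (c * k * c⁻¹) * c = k by group] at this
        obtain ⟨z, hz, hcz⟩ := exists_of_aut ρ hρ (S := (QQ hF e H.ee : Set (PSU n F q))) (Z := RR hF e H.ee)
          (fun α hα => autCent_point hF hn H.ne_zero H.ee α hα) hcn (fun x hx => hcP _ (hQP (mem_map_of_mem _ hx)))
        refine ⟨ρ z, mem_map_of_mem _ hz, mem_C1.2 ⟨?_, fun a ha => ?_⟩⟩
        · rintro _ ⟨y, rfl⟩
          exact hcz y
        · have h3 : a * ρ z = ρ z * a := A.comm a ha _ ⟨z, rfl⟩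
          have h4 := hcR a ha
          have h5 : (ρ z)⁻¹ * a = a * (ρ z)⁻¹ := by
            calc (ρ z)⁻¹ * a = (ρ z)⁻¹ * (a * ρ z) * (ρ z)⁻¹ := by group
              _ = a * (ρ z)⁻¹ := by rw [h3]; group
          calc (ρ z)⁻¹ * c * a = (ρ z)⁻¹ * (c * a) := by group
            _ = ((ρ z)⁻¹ * a) * c := by rw [h4]; group
            _ = a * ((ρ z)⁻¹ * c) := by rw [h5]; group
      sc := by
        intro e' h1 h2 h3 h4 h hh v hv
        obtain ⟨c, hc⟩ := HH_act hF H ρ hh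
        exact sc_abs HE T hb h2 h3 h4 hc v hv
      gen := by
        apply HE.XQQ
        obtain ⟨x, y, -, -, hxy⟩ := exists_pair hF hn H
        refine ⟨x, ?_⟩
        rintro rfl
        rw [(form hF H).zero_left] at hxy
        exact zero_ne_one hxy
      B := by
        intro y _ h1 h2 h3
        exact B_abs HE T hb hQP hPP hQN hXZ h1 h2 h3 }

end Two

end Cfsg.Agent.OddHalf.DblR.UnLoc
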