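import Cfsg.Agent.Schreier.PSU

/-!
# ODD, D4, unitary groups: perfect groups of automorphisms of `PSU n F q` are inner (helper423)

`out_PSU` : the field `out` of `Sheet` for `Y = PSU n F q`; it is the Schreier property `Schreier.PSU.sch`.
-/

set_option autoImplicit false

namespace Cfsg.Agent.OddHalf.DblR

open Cfsg

/-- The Schreier property in the form of `Sheet.out`. -/
theorem out_of_sch {Y : Type*} [Group Y] (h : Cfsg.Agent.Schreier.Basic.Sch Y) :
    ∀ H : Subgroup (MulAut Y), H ≤ ⁅H, H⁆ → ∀ α ∈ H, ∃ y, α = MulAut.conj y := by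
  intro H hH α hα
  obtain ⟨y, hy⟩ := h H (le_antisymm (Subgroup.commutator_le_self H) hH) hα
  exact ⟨y, hy.symm⟩

/-- **Perfect groups of automorphisms of `PSU n F q` are inner**, `n ≥ 3`, `(n, q) ≠ (3, 2)`. -/
theorem out_PSU' {F : Type*} [Field F] [Fintype F] {q n : ℕ} (hF : Fintype.card F = q ^ 2) (hn : 3 ≤ n)
    (h32 : ¬ (n = 3 ∧ q = 2)) :
    ∀ H : Subgroup (MulAut (PSU n F q)), H ≤ ⁅H, H⁆ → ∀ α ∈ H, ∃ y, α = MulAut.conj y :=
  out_of_sch (Cfsg.Agent.Schreier.PSU.sch hF hn h32)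

/-- **Perfect groups of automorphisms of `PSU n F q` are inner**, `n ≥ 4`. -/
theorem out_PSU {F : Type*} [Field F] [Fintype F] {q n : ℕ} (hF : Fintype.card F = q ^ 2) (hn : 4 ≤ n) :
    ∀ H : Subgroup (MulAut (PSU n F q)), H ≤ ⁅H, H⁆ → ∀ α ∈ H, ∃ y, α = MulAut.conj y :=
  out_PSU' hF (by omega) (by omega)

end Cfsg.Agent.OddHalf.DblR
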