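import Cfsg.Agent.OddHalf.DblR.UnNor
import Cfsg.Agent.OddHalf.DblR.UnSheet

/-!
# ODD, D4, unitary groups: no commuting pair of root type (helper350)

* `exists_of_aut'` : from automorphisms to elements of an overgroup;
* `cnR_of_cnAut` : `CnAut → CnR`;
* **`no_pair_frame`** : no pair of root type, for `K ≅ PSU n F q`, from `LocS` and `UK`;
* `no_pair_of` : the same at an arbitrary isotropic vector.
-/

set_option autoImplicit false

namespace Cfsg.Agent.OddHalf.DblR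

open Cfsg.Agent.Nodes.Reps
open scoped commutatorElement

theorem exists_of_aut' {Y G : Type*} [Group Y] [Group G] (f : Y →* G) (hf : Function.Injective f) {S Z : Subgroup Y}
    (H : CnAut S Z) {g : G} (hg : ∀ k ∈ f.range, g * k * g⁻¹ ∈ f.range) (hg' : ∀ k ∈ f.range, g⁻¹ * k * g ∈ f.range)
    (hgS : ∀ x ∈ S, g * f x = f x * g) : ∃ z ∈ Z, ∀ y, (f z)⁻¹ * g * f y = f y * ((f z)⁻¹ * g) := by
  choose a ha using fun y : Y => (hg (f y) ⟨y, rfl⟩ : ∃ z, f z = g * f y * g⁻¹)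
  choose b hb using fun y : Y => (hg' (f y) ⟨y, rfl⟩ : ∃ z, f z = g⁻¹ * f y * g)
  let α : MulAut Y :=
    { toFun := a
      invFun := b
      left_inv := fun y => hf (by rw [hb, ha]; group)
      right_inv := fun y => hf (by rw [ha, hb]; group)
      map_mul' := fun x y => hf (by rw [ha, map_mul, map_mul, ha, ha]; group) }
  have hα : ∀ y, f (α y) = g * f y * g⁻¹ := ha
  obtain ⟨z, hz, e⟩ := H α (fun x hx => hf (by rw [hα, hgS x hx, mul_inv_cancel_right]))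
  refine ⟨z, hz, fun y => ?_⟩
  have h1 := hα y
  rw [e, MulAut.conj_apply, map_mul, map_mul, map_inv] at h1
  calc (f z)⁻¹ * g * f y = (f z)⁻¹ * (g * f y * g⁻¹) * g := by group
    _ = (f z)⁻¹ * (f z * f y * (f z)⁻¹) * g := by rw [h1]
    _ = _ := by group

theorem cnR_of_cnAut {Y G : Type*} [Group Y] [Group G] (f : Y →* G) (hf : Function.Injective f) {R : Subgroup G}
    (A : Amb f.range R) (hR : ∃ t ∈ R, t ≠ 1) (S Z : Subgroup Y) (H : CnAut S Z) :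
    CnR f.range R (S.map f) (Z.map f) := by
  intro c hc hcS
  obtain ⟨t, ht, ht1⟩ := hR
  have hci : c⁻¹ * t = t * c⁻¹ := comm_inv (hc t ht)
  obtain ⟨z, hz, h1⟩ := exists_of_aut' f hf H (g := c) (fun k hk => A.nor t ht ht1 c (hc t ht) k hk)
    (fun k hk => by
      have := A.nor t ht ht1 c⁻¹ hci k hk
      rwa [inv_inv] at this)
    (fun x hx => hcS _ ⟨x, hx, rfl⟩)
  refine ⟨f z, ⟨z, hz, rfl⟩, mem_C1.2 ⟨?_, ?_⟩⟩
  · rintro _ ⟨y, rfl⟩
    exact h1 y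
  · intro a ha
    have h2 := comm_inv' (A.comm a ha (f z) ⟨z, rfl⟩)
    calc (f z)⁻¹ * c * a = (f z)⁻¹ * (c * a) := by group
      _ = ((f z)⁻¹ * a) * c := by rw [hc a ha]; group
      _ = a * ((f z)⁻¹ * c) := by rw [← h2]; group

namespace Un

open Cfsg Cfsg.Agent.LieClassical.HermBasic Cfsg.Agent.LieClassical.HermSiegel
  Cfsg.Agent.LieClassical.HermGen Cfsg.Agent.LieClassical.SUBasic Matrix
  Cfsg.Agent.ClassicalGeometry.PSUAutBasic Cfsg.Agent.ClassicalGeometry.PSUAutSylow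
  Cfsg.Agent.ClassicalGeometry.PSUAutUnip Cfsg.Agent.ClassicalGeometry.PSUAutPhi
  Cfsg.Agent.ClassicalGeometry.PSUAutTorus Cfsg.Agent.KFacts.Unit

variable {F : Type*} [Field F] [Fintype F] {q n : ℕ} [CharP F 2]

omit [CharP F 2] in
theorem hyp_of_frame {e e' : Fin n → F} (H : IsFrame q e e') : Hyp q e e' := ⟨H.ee, H.ff, H.ef⟩

/-- the facts `UK` at the vector `e` -/
def HasUK (hF : Fintype.card F = q ^ 2) (e : Fin n → F) (he : hermForm n F q e e = 0) : Prop :=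
  ∃ (T P A1 V1 S1 Z1 A2 V2 S2 Z2 Xm Xd E1 E2 : Subgroup (PSU n F q)) (z1 z2 τ : PSU n F q),
    UK CnAut T (PP q e) P (RR hF e he) A1 V1 S1 Z1 A2 V2 S2 Z2 Xm Xd E1 E2 z1 z2 τ

/-- **No pair of root type**, at a frame vector. -/
theorem no_pair_frame {G : Type*} [Group G] [Finite G] (hF : Fintype.card F = q ^ 2) (hn : 4 ≤ n) (hq : q ≠ 2)
    (f : PSU n F q →* G) (hf : Function.Injective f) {R : Subgroup G} {e e' : Fin n → F} (H : IsFrame q e e')
    (L : LocS f.range R ((PP q e).map f) ((QQ hF e H.ee).map f) ((RR hF e H.ee).map f)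
      ((HH hF (hyp_of_frame H)).map f))
    (U : HasUK hF e H.ee)
    (hout : ∀ H : Subgroup G, H ≤ Subgroup.normalizer (f.range : Set G) → H ≤ ⁅H, H⁆ →
      ∀ x ∈ H, ∃ k ∈ f.range, ∃ c : G, (∀ y ∈ f.range, c * y = y * c) ∧ x = k * c)
    (hC1 : ∀ H : Subgroup G, H ≤ C1 f.range R → H ≤ ⁅H, H⁆ → H = ⊥)
    {t t' : G} (ht : t ∈ R) (ht1 : t ≠ 1) (ht' : t' ∈ R) (ht1' : t' ≠ 1) (hne : t' ≠ t)
    {γ k : G} (hk : k ∈ f.range) (hg1 : cj γ R ≤ R ⊔ (RR hF e H.ee).map f)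
    (hg2 : R ≤ cj γ (R ⊔ cj k ((RR hF e H.ee).map f))) (hg3 : ¬ cj γ R ≤ R) : False := by
  have he0 : e ≠ 0 := frame_ne_zero H
  have hle : ∀ S : Subgroup (PSU n F q), S.map f ≤ f.range := by
    rintro S _ ⟨x, -, rfl⟩
    exact ⟨x, rfl⟩
  obtain ⟨W, B, hW⟩ := L.base_of_pair (norX f hf hF (by omega) (hyp_of_frame H)) res res_cj
    (fun S h1 h2 h3 => res_eq L.amb (fun p hp x hx => (L.XZ x hx p hp).symm) L.PK (hle _) ⟨t, ht, ht1⟩
      (by
        rw [← Subgroup.map_commutator]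
        exact Subgroup.map_mono (PP_perf hF hn hq he0 H.ee)) hout hC1
      (fun x hx hx1 H' hH hHx hp => le_PP_of_perfect f hf hF (by omega) he0 H.ee hx hx1 hH hHx hp) S h1 h2 h3)
    (fun g hg => cj_of_cj_PP f hf hF (by omega) H hg) hk hg1 hg2 hg3
  obtain ⟨T, P, A1, V1, S1, Z1, A2, V2, S2, Z2, Xm, Xd, E1, E2, z1, z2, τ, U⟩ := U
  have U' := U.map f hf (Cn' := CnR f.range R) (cnR_of_cnAut f hf L.amb ⟨t, ht, ht1⟩)
  obtain ⟨y, hy, hy1⟩ := exists_RR_ne hF (by omega) he0 H.ee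
  exact hne (U'.eq_of_ne_one L.amb B hW (hle _) (hle _) (hle _) (hle _) (hle _) (hle _)
    ⟨f y, ⟨y, hy, rfl⟩, fun h => hy1 (hf (by rw [h, map_one]))⟩ ht ht1 ht' ht1')

/-- **No pair of root type.** -/
theorem no_pair_of {G : Type*} [Group G] [Finite G] (hF : Fintype.card F = q ^ 2) (hn : 4 ≤ n) (hq : q ≠ 2)
    (f : PSU n F q →* G) (hf : Function.Injective f) {R : Subgroup G} {e e' : Fin n → F} (H : IsFrame q e e')
    (L : LocS f.range R ((PP q e).map f) ((QQ hF e H.ee).map f) ((RR hF e H.ee).map f)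
      ((HH hF (hyp_of_frame H)).map f))
    (U : HasUK hF e H.ee)
    (hout : ∀ H : Subgroup G, H ≤ Subgroup.normalizer (f.range : Set G) → H ≤ ⁅H, H⁆ →
      ∀ x ∈ H, ∃ k ∈ f.range, ∃ c : G, (∀ y ∈ f.range, c * y = y * c) ∧ x = k * c)
    (hC1 : ∀ H : Subgroup G, H ≤ C1 f.range R → H ≤ ⁅H, H⁆ → H = ⊥)
    {t t' : G} (ht : t ∈ R) (ht1 : t ≠ 1) (ht' : t' ∈ R) (ht1' : t' ≠ 1) (hne : t' ≠ t)
    {u : Fin n → F} (hu0 : u ≠ 0) (hu : hermForm n F q u u = 0)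
    {γ k : G} (hk : k ∈ f.range) (hg1 : cj γ R ≤ R ⊔ (RR hF u hu).map f)
    (hg2 : R ≤ cj γ (R ⊔ cj k ((RR hF u hu).map f))) (hg3 : ¬ cj γ R ≤ R) : False := by
  have he0 : e ≠ 0 := frame_ne_zero H
  obtain ⟨g, -, hg⟩ := exists_map_iso hF (by omega) le_rfl (mem_coordSub_top e) (mem_coordSub_top u)
    he0 hu0 H.ee hu
  subst hg
  set s := f (pr n F q g) with hs
  have hsK : s ∈ f.range := ⟨_, rfl⟩
  have hX : (RR hF (act g e) hu).map f = cj s ((RR hF e H.ee).map f) := by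
    rw [hs, Cfsg.Agent.Nodes.RGDLib.cj_map, cj_RR hF g H.ee hu]
  have hsR : ∀ k ∈ f.range, cj k R = R := by
    intro k hk
    have key : ∀ k ∈ f.range, cj k R ≤ R := by
      intro k hk x hx
      rw [mem_cj] at hx
      have h1 := L.amb.comm _ hx k hk
      have : x = k⁻¹ * x * k := by
        calc x = k * (k⁻¹ * x * k) * k⁻¹ := by group
          _ = (k⁻¹ * x * k) * k * k⁻¹ := by rw [← h1]
          _ = _ := by group
      rw [this]; exact hx
    apply le_antisymm (key k hk)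
    have := cj_mono k (key k⁻¹ (inv_mem hk))
    rwa [cj_cj_inv] at this
  have hsi := hsR s⁻¹ (inv_mem hsK)
  refine no_pair_frame hF hn hq f hf H L U hout hC1 ht ht1 ht' ht1' hne (γ := s⁻¹ * γ) (k := k * s)
    (mul_mem hk hsK) ?_ ?_ ?_
  · have h1 := cj_mono s⁻¹ hg1
    rwa [← cj_mul, cj_sup, hX, cj_inv_cj, hsi] at h1
  · have h1 := cj_mono s⁻¹ hg2
    rwa [← cj_mul, hX, ← cj_mul, hsi] at h1
  · intro h0
    apply hg3
    have h1 := cj_mono s h0
    rwa [← cj_mul, mul_inv_cancel_left, hsR s hsK] at h1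

end Un

end Cfsg.Agent.OddHalf.DblR
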