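import Cfsg.Agent.OddHalf.DblR.RowCore
import Cfsg.Agent.OddHalf.DblR.UnPair
import Cfsg.Agent.OddHalf.DblR.UnLoc
import Cfsg.Agent.OddHalf.DblR.UnFrame
import Cfsg.Agent.OddHalf.DblR.UnOut

/-!
# ODD, D4, unitary groups `PSU_n(q)`, `n ≥ 4`, `q ≥ 4` even: no commuting pair of root type (helper350)

**`Un.row`** : `f : PSU n F q →* G` injective with image `K`, `E` a Sylow 2-subgroup of `C_G(K)` with at least two
involutions, `u` an isotropic vector, `X_u` its long root group: there is no `γ` with `E^γ ≤ E X_u`,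
`E ≤ (E X_u^k)^γ`, `E^γ ≰ E` (`k ∈ K`).  The literal form of `Sheet.row` (`DblR/Row.lean`).
-/

set_option autoImplicit false

namespace Cfsg.Agent.OddHalf.DblR.Un

open scoped commutatorElement

open Cfsg Cfsg.Agent.LieClassical.HermBasic Cfsg.Agent.LieClassical.HermSiegel
  Cfsg.Agent.LieClassical.HermGen Cfsg.Agent.LieClassical.SUBasic Matrix
  Cfsg.Agent.ClassicalGeometry.PSUAutBasic Cfsg.Agent.ClassicalGeometry.PSUAutSylow
  Cfsg.Agent.ClassicalGeometry.PSUAutUnip Cfsg.Agent.ClassicalGeometry.PSUAutPhi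
  Cfsg.Agent.ClassicalGeometry.PSUAutTorus Cfsg.Agent.KFacts.Unit Cfsg.Agent.Nodes.Reps

variable {F : Type*} [Field F] [Fintype F] {q n : ℕ} [CharP F 2]

omit [CharP F 2] in
/-- a second hyperbolic pair -/
theorem exists_frm (hF : Fintype.card F = q ^ 2) (hn : 4 ≤ n) {e e' : Fin n → F} (H : IsFrame q e e') :
    ∃ p p' : Fin n → F, Frm q ![e, p] ![e', p'] := by
  obtain ⟨p, p', a, b, ha, hp, hp', hpp, hp'p', hpp'⟩ := exists_hyp_pair (q := q) hF
    (i := (⟨0, by omega⟩ : Fin n)) (j := ⟨1, by omega⟩) (by simp)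
  have e0 : (Pi.single (⟨0, by omega⟩ : Fin n) 1 : Fin n → F) ∈ coordSub F n (n - 2) :=
    single_mem_coordSub (by simp; omega) 1
  have e1 : (Pi.single (⟨1, by omega⟩ : Fin n) 1 : Fin n → F) ∈ coordSub F n (n - 2) :=
    single_mem_coordSub (by simp; omega) 1
  have hpV : p ∈ coordSub F n (n - 2) := by
    rw [hp]; exact Submodule.add_mem _ e0 (Submodule.smul_mem _ _ e1)
  have hp'V : p' ∈ coordSub F n (n - 2) := by
    rw [hp']; exact Submodule.add_mem _ e0 (Submodule.smul_mem _ _ hpV)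
  obtain ⟨h1, h2⟩ := (H.mem p).1 hpV
  obtain ⟨h3, h4⟩ := (H.mem p').1 hp'V
  have h1' := herm_eq_zero_swap hF h1
  have h2' := herm_eq_zero_swap hF h2
  have h3' := herm_eq_zero_swap hF h3
  have h4' := herm_eq_zero_swap hF h4
  refine ⟨p, p', ?_, ?_, ?_⟩
  · intro i j
    fin_cases i <;> fin_cases j <;> simp [H.ee, h1, h1', hpp]
  · intro i j
    fin_cases i <;> fin_cases j <;> simp [H.ff, h4, h4', hp'p']
  · intro i j
    fin_cases i <;> fin_cases j <;> simp [H.ef, h2, h3', hpp']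

theorem hasUK (hF : Fintype.card F = q ^ 2) (hn : 4 ≤ n) (hq : 4 ≤ q) {e e' : Fin n → F} (H : IsFrame q e e') :
    HasUK hF e H.ee := by
  obtain ⟨p, p', E⟩ := exists_frm hF hn H
  exact UnF.exists_UK hF hn hq E H.ee

/-- **No commuting pair of root type**, `K ≅ PSU_n(q)`, `n ≥ 4`, `q ≥ 4` even. -/
theorem row {G : Type*} [Group G] [Finite G] (hF : Fintype.card F = q ^ 2) (hn : 4 ≤ n) (hq : 4 ≤ q)
    (f : PSU n F q →* G) (hf : Function.Injective f) {K : Subgroup G} (hK : f.range = K)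
    (St : Std1 K) {E : Subgroup G} (hE : E ≤ Subgroup.centralizer (K : Set G)) (hE2 : IsPGroup 2 ↥E)
    (hEmax : ∀ D : Subgroup G, E ≤ D → D ≤ Subgroup.centralizer (K : Set G) → IsPGroup 2 ↥D → D ≤ E)
    (hC1 : ∀ H : Subgroup G, H ≤ C1 K E → H ≤ ⁅H, H⁆ → H = ⊥)
    {t t' : G} (ht : t ∈ E) (ht1 : t ≠ 1) (ht' : t' ∈ E) (ht1' : t' ≠ 1) (hne : t' ≠ t)
    {u : Fin n → F} (hu0 : u ≠ 0) (hu : hermForm n F q u u = 0) {γ k : G} (hk : k ∈ K)
    (hg1 : cj γ E ≤ E ⊔ (RR hF u hu).map f) (hg2 : E ≤ cj γ (E ⊔ cj k ((RR hF u hu).map f)))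
    (hg3 : ¬ cj γ E ≤ E) : False := by
  subst hK
  have hle : ∀ S : Subgroup (PSU n F q), S.map f ≤ f.range := by
    rintro S _ ⟨x, -, rfl⟩
    exact ⟨x, rfl⟩
  obtain ⟨A, two⟩ := St.core (hle _) (X := (RR hF u hu).map f) (by
    rintro _ ⟨x, hx, rfl⟩
    obtain ⟨μ, hμ, rfl⟩ := mem_RR.1 hx
    rw [← map_mul, ← map_mul]
    have h1 : transv hF u hu μ hμ * transv hF u hu μ hμ = 1 := by
      apply ext_act
      intro v
      rw [act_mul, act_transv, act_transv, act_one, herm_add_left, herm_smul_left, hu, mul_zero, add_zero, add_assoc,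
        ← add_smul, CharTwo.add_self_eq_zero, zero_smul, add_zero]
    rw [h1, map_one, map_one]) hE hE2 hEmax hg1 hg3
  obtain ⟨e, e', H⟩ := exists_frame (F := F) (q := q) (n := n) hF (by omega)
  have he0 : e ≠ 0 := frame_ne_zero H
  have hperf : ⁅PP q e, PP q e⁆ = (PP q e : Subgroup (PSU n F q)) :=
    le_antisymm (Subgroup.commutator_le_self _) (PP_perf hF hn (by omega) he0 H.ee)
  have L := UnLoc.locS hF hn hq (hyp_of_frame H) hperf f hf A ⟨t, ht, ht1⟩ two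
  exact no_pair_of hF hn (by omega) f hf H L (hasUK hF hn hq H) (schreier f hf (out_PSU hF hn)) hC1 ht ht1 ht' ht1'
    hne hu0 hu hk hg1 hg2 hg3

end Cfsg.Agent.OddHalf.DblR.Un
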