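import Cfsg.Agent.OddHalf.DblR.UnActs

/-!
# ODD, D4, unitary groups: the groups `A`, `Z`, `T` of a frame with two pairs (helper780)

`slG`, `AE` : `SL` of the line; `zG`, `ZE` : scalars; `tG`, `TE` : the diagonal torus.
-/

set_option autoImplicit false

namespace Cfsg.Agent.OddHalf.DblR.UnF

open Cfsg Cfsg.Agent.LieClassical.HermBasic Cfsg.Agent.LieClassical.HermSiegel
  Cfsg.Agent.LieClassical.HermGen Cfsg.Agent.LieClassical.SUBasic Matrix
  Cfsg.Agent.ClassicalGeometry.PSUAutBasic Cfsg.Agent.ClassicalGeometry.PSUAutSylow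
  Cfsg.Agent.ClassicalGeometry.PSUAutUnip Cfsg.Agent.KFacts.Unit Cfsg.Agent.Nodes.Reps

section

variable {F : Type*} [Field F] {q n : ℕ}

/-- The elements acting on the frame by matrices of determinant one. -/
def slG (q : ℕ) (e f : Fin 2 → (Fin n → F)) : Subgroup (SU n F q) where
  carrier := {g | ∃ M N : Matrix (Fin 2) (Fin 2) F, M.det = 1 ∧ N.det = 1 ∧ Acts q e f g M N}
  one_mem' := ⟨1, 1, det_one, det_one, Acts.one⟩
  mul_mem' := by
    rintro g h ⟨M, N, h1, h2, h3⟩ ⟨M', N', h1', h2', h3'⟩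
    exact ⟨M * M', N * N', by rw [det_mul, h1, h1', one_mul], by rw [det_mul, h2, h2', one_mul], h3.mul h3'⟩
  inv_mem' := by
    rintro g ⟨M, N, h1, h2, h3⟩
    have key : ∀ A : Matrix (Fin 2) (Fin 2) F, A.det = 1 → A⁻¹.det = 1 := by
      intro A hA
      rw [det_nonsing_inv, hA, Ring.inverse_one]
    exact ⟨M⁻¹, N⁻¹, key M h1, key N h2,
      h3.inv (mul_nonsing_inv M (by rw [h1]; exact isUnit_one)) (mul_nonsing_inv N (by rw [h2]; exact isUnit_one))⟩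

theorem mem_slG {e f : Fin 2 → (Fin n → F)} {g : SU n F q} : g ∈ slG q e f ↔
    ∃ M N : Matrix (Fin 2) (Fin 2) F, M.det = 1 ∧ N.det = 1 ∧ Acts q e f g M N := Iff.rfl

def AE (q : ℕ) (e f : Fin 2 → (Fin n → F)) : Subgroup (PSU n F q) := (slG q e f).map (pr n F q)

theorem mul_scal (b c : F) : !![b, 0; 0, b] * !![c, 0; 0, c] = !![b * c, 0; 0, b * c] := by
  ext i j
  fin_cases i <;> fin_cases j <;> simp [mul_apply, Fin.sum_univ_two]

theorem scal_comm (b : F) (M : Matrix (Fin 2) (Fin 2) F) : !![b, 0; 0, b] * M = M * !![b, 0; 0, b] := by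
  ext i j
  rw [mul_apply, mul_apply, Fin.sum_univ_two, Fin.sum_univ_two]
  fin_cases i <;> fin_cases j <;> simp [mul_comm]

theorem mk_one : !![(1 : F), 0; 0, 1] = 1 := by
  ext i j
  fin_cases i <;> fin_cases j <;> simp

/-- The scalars of the fixed field on the line. -/
def zG (q : ℕ) (e f : Fin 2 → (Fin n → F)) : Subgroup (SU n F q) where
  carrier := {g | ∃ b : F, b ≠ 0 ∧ b ^ q = b ∧ Acts q e f g !![b, 0; 0, b] !![b⁻¹, 0; 0, b⁻¹]}
  one_mem' := ⟨1, one_ne_zero, one_pow q, by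
    rw [inv_one, mk_one]; exact Acts.one⟩
  mul_mem' := by
    rintro g h ⟨b, hb, hbq, h3⟩ ⟨c, hc, hcq, h3'⟩
    exact ⟨b * c, mul_ne_zero hb hc, by rw [mul_pow, hbq, hcq], (h3.mul h3').congr (mul_scal b c)
      (by rw [mul_scal, mul_inv])⟩
  inv_mem' := by
    rintro g ⟨b, hb, hbq, h3⟩
    exact ⟨b⁻¹, inv_ne_zero hb, by rw [inv_pow, hbq], h3.inv
      (by rw [mul_scal, mul_inv_cancel₀ hb, mk_one]) (by rw [mul_scal, mul_inv_cancel₀ (inv_ne_zero hb), mk_one])⟩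

theorem mem_zG {e f : Fin 2 → (Fin n → F)} {g : SU n F q} : g ∈ zG q e f ↔
    ∃ b : F, b ≠ 0 ∧ b ^ q = b ∧ Acts q e f g !![b, 0; 0, b] !![b⁻¹, 0; 0, b⁻¹] := Iff.rfl

def ZE (q : ℕ) (e f : Fin 2 → (Fin n → F)) : Subgroup (PSU n F q) := (zG q e f).map (pr n F q)

/-- The diagonal torus. -/
def tG (q : ℕ) (e f : Fin 2 → (Fin n → F)) : Subgroup (SU n F q) where
  carrier := {g | (∀ i, ∃ m : F, act g (e i) = m • e i) ∧ (∀ i, ∃ m : F, act g (f i) = m • f i) ∧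
    ∀ v, (∀ j, hermForm n F q v (e j) = 0) → (∀ j, hermForm n F q v (f j) = 0) → act g v = v}
  one_mem' := ⟨fun i => ⟨1, by rw [act_one, one_smul]⟩, fun i => ⟨1, by rw [act_one, one_smul]⟩,
    fun v _ _ => act_one v⟩
  mul_mem' := by
    rintro g h ⟨h1, h2, h3⟩ ⟨k1, k2, k3⟩
    refine ⟨fun i => ?_, fun i => ?_, fun v hv hv' => by rw [act_mul, k3 v hv hv', h3 v hv hv']⟩
    · obtain ⟨m, hm⟩ := h1 i
      obtain ⟨l, hl⟩ := k1 i
      exact ⟨l * m, by rw [act_mul, hl, act_smul, hm, smul_smul]⟩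
    · obtain ⟨m, hm⟩ := h2 i
      obtain ⟨l, hl⟩ := k2 i
      exact ⟨l * m, by rw [act_mul, hl, act_smul, hm, smul_smul]⟩
  inv_mem' := by
    rintro g ⟨h1, h2, h3⟩
    have key : ∀ w : Fin n → F, (∃ m : F, act g w = m • w) → ∃ m : F, act g⁻¹ w = m • w := by
      rintro w ⟨m, hm⟩
      by_cases h0 : m = 0
      · rw [h0, zero_smul, act_eq_zero] at hm
        exact ⟨0, by rw [hm, act_zero, smul_zero]⟩
      · refine ⟨m⁻¹, ?_⟩
        symm
        rw [← act_eq_iff, act_smul, hm, smul_smul, inv_mul_cancel₀ h0, one_smul]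
    exact ⟨fun i => key _ (h1 i), fun i => key _ (h2 i), fun v hv hv' => ((act_eq_iff g).1 (h3 v hv hv')).symm⟩

theorem mem_tG {e f : Fin 2 → (Fin n → F)} {g : SU n F q} : g ∈ tG q e f ↔
    (∀ i, ∃ m : F, act g (e i) = m • e i) ∧ (∀ i, ∃ m : F, act g (f i) = m • f i) ∧
    ∀ v, (∀ j, hermForm n F q v (e j) = 0) → (∀ j, hermForm n F q v (f j) = 0) → act g v = v := Iff.rfl

def TE (q : ℕ) (e f : Fin 2 → (Fin n → F)) : Subgroup (PSU n F q) := (tG q e f).map (pr n F q)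

theorem exists_tG {e f : Fin 2 → (Fin n → F)} {g : SU n F q} (hg : g ∈ tG q e f) :
    ∃ m0 m1 l0 l1 : F, act g (e 0) = m0 • e 0 ∧ act g (e 1) = m1 • e 1 ∧
      Acts q e f g !![m0, 0; 0, m1] !![l0, 0; 0, l1] := by
  obtain ⟨h1, h2, h3⟩ := hg
  obtain ⟨m0, hm0⟩ := h1 0
  obtain ⟨m1, hm1⟩ := h1 1
  obtain ⟨l0, hl0⟩ := h2 0
  obtain ⟨l1, hl1⟩ := h2 1
  exact ⟨m0, m1, l0, l1, hm0, hm1, actsE (by rw [hm0, zero_smul, add_zero]) (by rw [hm1, zero_smul, zero_add]),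
    actsE (by rw [hl0, zero_smul, add_zero]) (by rw [hl1, zero_smul, zero_add]), h3⟩

theorem mem_tG_of_acts {e f : Fin 2 → (Fin n → F)} {g : SU n F q} {m0 m1 l0 l1 : F}
    (h : Acts q e f g !![m0, 0; 0, m1] !![l0, 0; 0, l1]) : g ∈ tG q e f := by
  refine ⟨Fin.forall_fin_two.2 ⟨⟨m0, ?_⟩, ⟨m1, ?_⟩⟩, Fin.forall_fin_two.2 ⟨⟨l0, ?_⟩, ⟨l1, ?_⟩⟩, h.ho⟩
  · rw [h.e0]; simp
  · rw [h.e1]; simp
  · rw [h.f0]; simp
  · rw [h.f1]; simp

theorem mul_dg (a b c d : F) : !![a, 0; 0, b] * !![c, 0; 0, d] = !![a * c, 0; 0, b * d] := by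
  ext i j
  fin_cases i <;> fin_cases j <;> simp [mul_apply, Fin.sum_univ_two]

theorem pow_dg (a b : F) (k : ℕ) : !![a, 0; 0, b] ^ k = !![a ^ k, 0; 0, b ^ k] := by
  induction k with
  | zero => rw [pow_zero, pow_zero, pow_zero, mk_one]
  | succ k ih => rw [pow_succ, ih, mul_dg, pow_succ, pow_succ]

/-- Two frames which differ by exchanging `e 1` and `f 1`. -/
structure Swp (e f e' f' : Fin 2 → (Fin n → F)) : Prop where
  e0 : e' 0 = e 0
  e1 : e' 1 = f 1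
  f0 : f' 0 = f 0
  f1 : f' 1 = e 1

theorem Swp.symm {e f e' f' : Fin 2 → (Fin n → F)} (s : Swp e f e' f') : Swp e' f' e f :=
  ⟨s.e0.symm, s.f1.symm, s.f0.symm, s.e1.symm⟩

theorem Swp.tG_eq {e f e' f' : Fin 2 → (Fin n → F)} (s : Swp e f e' f') : tG q e' f' = (tG q e f : Subgroup (SU n F q)) := by
  ext g
  rw [mem_tG, mem_tG]
  simp only [Fin.forall_fin_two, s.e0, s.e1, s.f0, s.f1]
  constructor
  · rintro ⟨⟨a1, a2⟩, ⟨a3, a4⟩, a5⟩
    exact ⟨⟨a1, a4⟩, ⟨a3, a2⟩, fun v h1 h2 => a5 v ⟨h1.1, h2.2⟩ ⟨h2.1, h1.2⟩⟩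
  · rintro ⟨⟨a1, a2⟩, ⟨a3, a4⟩, a5⟩
    exact ⟨⟨a1, a4⟩, ⟨a3, a2⟩, fun v h1 h2 => a5 v ⟨h1.1, h2.2⟩ ⟨h2.1, h1.2⟩⟩

theorem Swp.TE_eq {e f e' f' : Fin 2 → (Fin n → F)} (s : Swp e f e' f') : TE q e' f' = (TE q e f : Subgroup (PSU n F q)) := by
  unfold TE
  rw [s.tG_eq]

/-- How a torus element acts on the exchanged frame. -/
theorem Acts.swp {e f e' f' : Fin 2 → (Fin n → F)} (s : Swp e f e' f') {g : SU n F q} {m0 m1 l0 l1 : F}
    (h : Acts q e f g !![m0, 0; 0, m1] !![l0, 0; 0, l1]) : Acts q e' f' g !![m0, 0; 0, l1] !![l0, 0; 0, m1] := by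
  have h0 := h.e0
  have h1 := h.e1
  have h2 := h.f0
  have h3 := h.f1
  simp only [of_apply, cons_val', cons_val_zero, cons_val_one, cons_val_fin_one, zero_smul, add_zero, zero_add] at h0 h1 h2 h3
  refine ⟨actsE ?_ ?_, actsE ?_ ?_, fun v hv hv' => ?_⟩
  · rw [s.e0, s.e1, h0, zero_smul, add_zero]
  · rw [s.e0, s.e1, h3, zero_smul, zero_add]
  · rw [s.f0, s.f1, h2, zero_smul, add_zero]
  · rw [s.f0, s.f1, h1, zero_smul, zero_add]
  · have a0 := hv 0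
    have a1 := hv 1
    have b0 := hv' 0
    have b1 := hv' 1
    rw [s.e0] at a0
    rw [s.e1] at a1
    rw [s.f0] at b0
    rw [s.f1] at b1
    exact h.ho v (Fin.forall_fin_two.2 ⟨a0, b1⟩) (Fin.forall_fin_two.2 ⟨b0, a1⟩)

end

variable {F : Type*} [Field F] [Fintype F] {q n : ℕ} {e f : Fin 2 → (Fin n → F)}

theorem exists_acts_det (hF : Fintype.card F = q ^ 2) (E : Frm q e f) {M : Matrix (Fin 2) (Fin 2) F}
    (hdet : M.det = 1) : ∃ g ∈ (slG q e f : Subgroup (SU n F q)), ∃ N, Acts q e f g M N := by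
  have hu : IsUnit M.det := by rw [hdet]; exact isUnit_one
  have e2 : (((M⁻¹)ᵀ).map (LieClassical.HermBasic.conj hF)).det = 1 := by
    have e3 : ((M⁻¹)ᵀ).map (LieClassical.HermBasic.conj hF) = (LieClassical.HermBasic.conj hF : F →+* F).mapMatrix (M⁻¹)ᵀ := rfl
    rw [e3, ← RingHom.map_det, det_transpose, det_nonsing_inv, hdet, Ring.inverse_one, map_one]
  obtain ⟨g, hg⟩ := Frm.exists_acts hF E (M := M) (N := ((M⁻¹)ᵀ).map (LieClassical.HermBasic.conj hF)) (by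
    have e1 : (((M⁻¹)ᵀ).map (LieClassical.HermBasic.conj hF)).map (LieClassical.HermBasic.conj hF) = (M⁻¹)ᵀ := by
      ext i j
      rw [map_apply, map_apply, LieClassical.HermBasic.conj_apply, LieClassical.HermBasic.conj_apply, pow_q_pow_q hF]
    rw [e1, ← transpose_mul, nonsing_inv_mul _ hu, transpose_one]) (by
    rw [hdet, e2, mul_one])
  exact ⟨g, ⟨M, _, hdet, e2, hg⟩, _, hg⟩

/-- Diagonal elements. -/
theorem exists_acts_dg (hF : Fintype.card F = q ^ 2) (E : Frm q e f) {a b : F} (ha : a ≠ 0) (hb : b ≠ 0)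
    (h : a * b = a ^ q * b ^ q) :
    ∃ g : SU n F q, Acts q e f g !![a, 0; 0, b] !![(a ^ q)⁻¹, 0; 0, (b ^ q)⁻¹] := by
  apply Frm.exists_acts hF E
  · ext i j
    rw [mul_apply, Fin.sum_univ_two]
    fin_cases i <;> fin_cases j <;>
      simp [LieClassical.HermBasic.conj_apply, pow_q_pow_q hF, ha, hb, zero_pow_q hF]
  · rw [det_fin_two, det_fin_two]
    simp only [of_apply, cons_val', cons_val_zero, cons_val_one, cons_val_fin_one, mul_zero, sub_zero]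
    rw [h]
    field_simp

/-- The torus is abelian. -/
theorem tG_comm (hF : Fintype.card F = q ^ 2) (E : Frm q e f) {g h : SU n F q} (hg : g ∈ tG q e f)
    (hh : h ∈ tG q e f) : g * h = h * g := by
  obtain ⟨m0, m1, l0, l1, -, -, h1⟩ := exists_tG hg
  obtain ⟨m0', m1', l0', l1', -, -, h2⟩ := exists_tG hh
  refine (h1.mul h2).ext hF E ((h2.mul h1).congr ?_ ?_)
  · rw [mul_dg, mul_dg, mul_comm m0', mul_comm m1']
  · rw [mul_dg, mul_dg, mul_comm l0', mul_comm l1']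

theorem ne_zero_e (E : Frm q e f) (i : Fin 2) : e i ≠ 0 := (E.hyp i).ne_zero

theorem ne_zero_of_act {g : SU n F q} {w : Fin n → F} (hw : w ≠ 0) {m : F} (h : act g w = m • w) : m ≠ 0 := by
  rintro rfl
  rw [zero_smul, act_eq_zero] at h
  exact hw h

/-- The torus has odd exponent. -/
theorem tG_odd [CharP F 2] (hF : Fintype.card F = q ^ 2) (E : Frm q e f) {g : SU n F q} (hg : g ∈ tG q e f) :
    g ^ (Fintype.card F - 1) = 1 := by
  obtain ⟨m0, m1, l0, l1, -, -, h1⟩ := exists_tG hg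
  have a0 : m0 ≠ 0 := ne_zero_of_act (ne_zero_e E 0) (g := g) (by rw [h1.e0]; simp)
  have a1 : m1 ≠ 0 := ne_zero_of_act (ne_zero_e E 1) (g := g) (by rw [h1.e1]; simp)
  have b0 : l0 ≠ 0 := ne_zero_of_act (ne_zero_e (E.symm hF) 0) (g := g) (by rw [h1.f0]; simp)
  have b1 : l1 ≠ 0 := ne_zero_of_act (ne_zero_e (E.symm hF) 1) (g := g) (by rw [h1.f1]; simp)
  have key : ∀ x : F, x ≠ 0 → x ^ (Fintype.card F - 1) = 1 := fun x hx => FiniteField.pow_card_sub_one_eq_one x hx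
  refine (h1.pow _).ext hF E (Acts.one.congr ?_ ?_)
  · rw [pow_dg, key _ a0, key _ a1, mk_one]
  · rw [pow_dg, key _ b0, key _ b1, mk_one]

theorem odd_card_sub [CharP F 2] : Odd (Fintype.card F - 1) := by
  obtain ⟨k, hk⟩ := exists_card_eq (F := F) 2
  have h0 : k ≠ 0 := by
    rintro rfl
    have : 1 < Fintype.card F := Fintype.one_lt_card
    rw [hk, pow_zero] at this
    exact lt_irrefl 1 this
  rw [hk]
  have h2 : Even (2 ^ k) := (Nat.even_pow' h0).2 even_two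
  have h3 : 1 ≤ 2 ^ k := Nat.one_le_two_pow
  obtain ⟨m, hm⟩ := h2
  exact ⟨m - 1, by omega⟩

/-- Conjugates of the group of `aEl`. -/
theorem aG_conj (hF : Fintype.card F = q ^ 2) (E : Frm q e f) {g x : SU n F q} {M : Matrix (Fin 2) (Fin 2) F}
    (hg : ∀ j, act g (e j) = ∑ i, M i j • e i) (hx : x ∈ aG hF E) : g * x * g⁻¹ ∈ aG hF E := by
  obtain ⟨H, hH, rfl⟩ := hx
  exact ⟨_, _, conj_aEl hF E hH hg⟩

theorem RR_cj (hF : Fintype.card F = q ^ 2) {u : Fin n → F} (hu : hermForm n F q u u = 0) (g : SU n F q)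
    (hgu : hermForm n F q (act g u) (act g u) = 0) : cj (pr n F q g) (RR hF u hu) = RR hF (act g u) hgu := by
  ext x
  rw [mem_cj, RR_conj hF hu g hgu]

omit [Fintype F] in
theorem PE_cj {u : Fin n → F} (g : SU n F q) : cj (pr n F q g) (PE q u) = PE q (act g u) := by
  have key : ∀ (g : SU n F q) (u : Fin n → F), cj (pr n F q g) (PE q u) ≤ PE q (act g u) := by
    rintro g u _ ⟨_, ⟨x, ⟨c, hc, hx⟩, rfl⟩, rfl⟩
    refine ⟨g * x * g⁻¹, ⟨c, hc, ?_⟩, ?_⟩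
    · rw [act_mul, act_mul, act_inv_act, hx, act_smul]
    · rw [map_mul, map_mul, map_inv]; rfl
  apply le_antisymm (key g u)
  have h1 := key g⁻¹ (act g u)
  rw [act_inv_act] at h1
  have h2 := cj_mono (pr n F q g) h1
  rwa [map_inv, cj_cj_inv] at h2

end Cfsg.Agent.OddHalf.DblR.UnF
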