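import Cfsg.Agent.KFacts.Unit.Extend

/-!
# The stabiliser of an isotropic vector in `SU n F q`, `q ≥ 4` even, `n ≥ 4`, is perfect (helper350)

* `plane_mem` : an element of `SU` trivial on the orthogonal space of a hyperbolic pair is a product of transvections;
* `transv_mem`, `siegel_mem` : transvections and Siegel elements as commutators with torus elements;
* **`stab_perfect`** : `stabV q u` is perfect.
-/

set_option autoImplicit false

namespace Cfsg.Agent.OddHalf.DblR.Un

open scoped commutatorElement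

open Cfsg Cfsg.Agent.LieClassical.HermBasic Cfsg.Agent.LieClassical.HermSiegel
  Cfsg.Agent.LieClassical.HermGen Cfsg.Agent.LieClassical.SUBasic Matrix
  Cfsg.Agent.ClassicalGeometry.PSUAutBasic Cfsg.Agent.ClassicalGeometry.PSUAutSylow
  Cfsg.Agent.ClassicalGeometry.PSUAutUnip Cfsg.Agent.ClassicalGeometry.PSUAutPhi
  Cfsg.Agent.ClassicalGeometry.PSUAutTorus Cfsg.Agent.KFacts.Unit

variable {F : Type*} [Field F] [Fintype F] {q n : ℕ}

/-- Isotropic vectors span a space containing a hyperbolic pair. -/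
theorem iso_ind (hF : Fintype.card F = q ^ 2) {W : Submodule F (Fin n → F)} {x y : Fin n → F} (hx : x ∈ W)
    (hy : y ∈ W) (hxx : hermForm n F q x x = 0) (hyy : hermForm n F q y y = 0) (hxy : hermForm n F q x y = 1)
    {P : (Fin n → F) → Prop} (hadd : ∀ a b, a ∈ W → b ∈ W → P a → P b → P (a + b))
    (hiso : ∀ s ∈ W, hermForm n F q s s = 0 → P s) : ∀ w ∈ W, P w := by
  have key : ∀ z ∈ W, hermForm n F q z z = 0 → ∀ w ∈ W, hermForm n F q z w ≠ 0 → P w := by
    intro z hz hzz w hw hne
    obtain ⟨t, ht⟩ := exists_iso_correct hF hzz hne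
    have e1 : w = (w + t • z) + (-(t • z)) := by abel
    rw [e1]
    refine hadd _ _ (W.add_mem hw (W.smul_mem _ hz)) (W.neg_mem (W.smul_mem _ hz))
      (hiso _ (W.add_mem hw (W.smul_mem _ hz)) ht) (hiso _ (W.neg_mem (W.smul_mem _ hz)) ?_)
    rw [herm_neg_left, herm_neg_right hF, herm_smul_left, herm_smul_right, hzz]; ring
  intro w hw
  by_cases hwx : hermForm n F q x w = 0
  · by_cases hwy : hermForm n F q y w = 0
    · have e1 : w = (w + x) + (-x) := by abel
      rw [e1]
      refine hadd _ _ (W.add_mem hw hx) (W.neg_mem hx) (key y hy hyy _ (W.add_mem hw hx) ?_)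
        (hiso _ (W.neg_mem hx) ?_)
      · rw [herm_add_right hF, hwy, zero_add, herm_swap hF x y, hxy, one_pow]
        exact one_ne_zero
      · rw [herm_neg_left, herm_neg_right hF, hxx]; ring
    · exact key y hy hyy w hw hwy
  · exact key x hx hxx w hw hwx

theorem dec_prN (p p' v : Fin n → F) :
    v = prN q p p' v + hermForm n F q v p' • p + hermForm n F q v p • p' := by
  rw [prN_def]; abel

/-- An element preserving a hyperbolic plane: the decomposition of the image. -/
theorem plane_eq (hF : Fintype.card F = q ^ 2) {p p' : Fin n → F} (H : Hyp q p p') {g : SU n F q}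
    (hg : ∀ v, hermForm n F q v p = 0 → hermForm n F q v p' = 0 → act g v = v) {u : Fin n → F}
    (hu : ∀ v, hermForm n F q v p = 0 → hermForm n F q v p' = 0 → hermForm n F q v u = 0) :
    act g u = hermForm n F q (act g u) p' • p + hermForm n F q (act g u) p • p' := by
  rw [← sub_eq_zero]
  have h0 : act g u - (hermForm n F q (act g u) p' • p + hermForm n F q (act g u) p • p') =
      prN q p p' (act g u) := by rw [prN_def]; abel
  rw [h0]
  apply herm_nondeg hF
  intro v
  have hv : v = prN q p p' v + hermForm n F q v p' • p + hermForm n F q v p • p' := dec_prN (q := q) p p' v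
  have h1 : hermForm n F q (prN q p p' (act g u)) p = 0 := prN_e hF H _
  have h2 : hermForm n F q (prN q p p' (act g u)) p' = 0 := prN_f H _
  have h3 : hermForm n F q (prN q p p' (act g u)) (prN q p p' v) = 0 := by
    have h4 : act g (prN q p p' v) = prN q p p' v := hg _ (prN_e hF H v) (prN_f H v)
    have h5 : hermForm n F q (act g u) (prN q p p' v) = 0 := by
      have h6 := herm_act g u (prN q p p' v)
      rw [h4] at h6
      rw [h6]
      exact herm_eq_zero_swap hF (hu _ (prN_e hF H v) (prN_f H v))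
    rw [← h0, herm_sub_left, herm_add_left, herm_smul_left, herm_smul_left, h5,
      herm_eq_zero_swap hF (prN_e hF H v), herm_eq_zero_swap hF (prN_f H v)]
    ring
  conv_lhs => rw [hv]
  rw [herm_add_right hF, herm_add_right hF, herm_smul_right, herm_smul_right, h1, h2, h3]
  ring

section Two

variable [CharP F 2]

omit [Fintype F] in
theorem tr_of_fixed {c : F} (hc : c ^ q = c) : c + c ^ q = 0 := by rw [hc]; exact CharTwo.add_self_eq_zero c

theorem fixed_inv {c : F} (hc : c ^ q = c) : (c⁻¹) ^ q = c⁻¹ := by rw [inv_pow, hc]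

/-- Elements trivial on the orthogonal space of a hyperbolic pair and swapping its two points. -/
theorem plane_swap_mem (hF : Fintype.card F = q ^ 2) {p p' : Fin n → F} (H : Hyp q p p') {A : Subgroup (SU n F q)}
    (hA : ∀ μ (hμ : μ + μ ^ q = 0), transv hF p H.ee μ hμ ∈ A) (hA' : ∀ μ (hμ : μ + μ ^ q = 0), transv hF p' H.ff μ hμ ∈ A)
    {g : SU n F q} (hg : ∀ v, hermForm n F q v p = 0 → hermForm n F q v p' = 0 → act g v = v) {γ : F}
    (h1 : act g p = γ • p') (h2 : act g p' = (γ ^ q)⁻¹ • p) : g ∈ A := by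
  have hp0 : p ≠ 0 := H.ne_zero
  have hγ : γ ≠ 0 := by
    rintro rfl
    rw [zero_smul] at h1
    exact hp0 ((act_eq_zero g).1 h1)
  have hγq : γ ^ q ≠ 0 := pow_ne_zero _ hγ
  -- the square is a scalar on the plane
  set ζ := γ * (γ ^ q)⁻¹ with hζ
  have hζq : (ζ ^ q)⁻¹ = ζ := by
    rw [hζ, mul_pow, inv_pow, pow_q_pow_q hF]
    field_simp
  have hz : mat (g * g) = hypMat q p p' ζ := by
    apply Matrix.ext_of_mulVec_single
    intro i
    generalize (Pi.single i 1 : Fin n → F) = v
    rw [hypMat_mulVec H.ff, hζq, ← act_def]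
    have hv : v = prN q p p' v + hermForm n F q v p' • p + hermForm n F q v p • p' := dec_prN (q := q) p p' v
    have h4 : act g (prN q p p' v) = prN q p p' v := hg _ (prN_e hF H v) (prN_f H v)
    have h5 : act (g * g) v = prN q p p' v + (ζ * hermForm n F q v p') • p + (ζ * hermForm n F q v p) • p' := by
      conv_lhs => rw [hv]
      simp only [act_mul, act_add, act_smul, h4, h1, h2, smul_smul]
      rw [hζ]
      have a1 : hermForm n F q v p' * (γ * (γ ^ q)⁻¹) = γ * (γ ^ q)⁻¹ * hermForm n F q v p' := by ring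
      have a2 : hermForm n F q v p * ((γ ^ q)⁻¹ * γ) = γ * (γ ^ q)⁻¹ * hermForm n F q v p := by ring
      rw [a1, a2]
    rw [h5, prN_def]
    funext i
    simp only [Pi.add_apply, Pi.sub_apply, Pi.smul_apply, smul_eq_mul]
    ring
  have hζ1 : ζ = 1 := by
    have hd := det_mat (g * g)
    rw [hz, det_hypMat H.ef (H.fe hF), hζq] at hd
    have h3 : (ζ + 1) ^ 2 = 0 := by
      have h4 : (2 : F) = 0 := CharTwo.two_eq_zero
      linear_combination hd + (ζ + 1) * h4
    have h5 := pow_eq_zero_iff (two_ne_zero) |>.1 h3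
    exact CharTwo.add_eq_zero.1 h5
  have hγγ : γ ^ q = γ := by
    have : γ = γ ^ q := by
      rw [hζ] at hζ1
      exact (mul_inv_eq_one₀ hγq).1 hζ1
    exact this.symm
  have t1 := tr_of_fixed (q := q) hγγ
  have t2 := tr_of_fixed (q := q) (fixed_inv hγγ)
  have hkey : g = transv hF p H.ee γ⁻¹ t2 * transv hF p' H.ff γ t1 * transv hF p H.ee γ⁻¹ t2 := by
    apply ext_act
    intro v
    have hv : v = prN q p p' v + hermForm n F q v p' • p + hermForm n F q v p • p' := dec_prN (q := q) p p' v
    have h4 : act g (prN q p p' v) = prN q p p' v := hg _ (prN_e hF H v) (prN_f H v)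
    have h5 : act g v = prN q p p' v + (hermForm n F q v p' * γ) • p' + (hermForm n F q v p * γ⁻¹) • p := by
      conv_lhs => rw [hv]
      rw [act_add, act_add, act_smul, act_smul, h4, h1, h2, smul_smul, smul_smul, hγγ]
    rw [h5, act_mul, act_mul, act_transv, act_transv, act_transv, prN_def]
    simp only [herm_add_left, herm_smul_left, H.ee, H.ef, H.ff, H.fe hF]
    have h6 : (2 : F) = 0 := CharTwo.two_eq_zero
    funext i
    simp only [Pi.add_apply, Pi.sub_apply, Pi.smul_apply, smul_eq_mul]
    field_simp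
    linear_combination (-(hermForm n F q v p * γ * p i) - hermForm n F q v p' * γ ^ 2 * p i
      - hermForm n F q v p * γ ^ 2 * p' i) * h6
  rw [hkey]
  exact mul_mem (mul_mem (hA _ _) (hA' _ _)) (hA _ _)

/-- **An element trivial on the orthogonal space of a hyperbolic pair is a product of transvections.** -/
theorem plane_mem (hF : Fintype.card F = q ^ 2) {p p' : Fin n → F} (H : Hyp q p p') {A : Subgroup (SU n F q)}
    (hA : ∀ μ (hμ : μ + μ ^ q = 0), transv hF p H.ee μ hμ ∈ A) (hA' : ∀ μ (hμ : μ + μ ^ q = 0), transv hF p' H.ff μ hμ ∈ A)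
    {g : SU n F q} (hg : ∀ v, hermForm n F q v p = 0 → hermForm n F q v p' = 0 → act g v = v) : g ∈ A := by
  have h2F : (2 : F) = 0 := CharTwo.two_eq_zero
  -- the case `γ ≠ 0`
  have key : ∀ g : SU n F q, (∀ v, hermForm n F q v p = 0 → hermForm n F q v p' = 0 → act g v = v) →
      hermForm n F q (act g p) p ≠ 0 → g ∈ A := by
    intro g hg hγ
    have hgp := plane_eq hF H hg (u := p) (fun v hv _ => hv)
    set α := hermForm n F q (act g p) p' with hα
    set γ := hermForm n F q (act g p) p with hγd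
    have hγq : γ ^ q ≠ 0 := pow_ne_zero _ hγ
    have e1 : hermForm n F q (act g p) (act g p) = 0 := by rw [herm_act, H.ee]
    rw [hgp] at e1
    simp only [herm_add_left, herm_add_right hF, herm_smul_left, herm_smul_right, H.ee, H.ef, H.ff, H.fe hF] at e1
    have hs : α / γ + (α / γ) ^ q = 0 := by
      rw [div_pow]
      field_simp
      linear_combination e1
    set g1 := transv hF p H.ee (α / γ) hs * g with hg1
    have h1p : act g1 p = γ • p' := by
      rw [hg1, act_mul, hgp, act_transv]
      simp only [herm_add_left, herm_smul_left, H.ee, H.fe hF]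
      funext i
      simp only [Pi.add_apply, Pi.smul_apply, smul_eq_mul]
      field_simp
      linear_combination (γ * α * p i) * h2F
    have h1 : ∀ v, hermForm n F q v p = 0 → hermForm n F q v p' = 0 → act g1 v = v := by
      intro v hv hv'
      rw [hg1, act_mul, hg v hv hv', act_transv, hv, mul_zero, zero_smul, add_zero]
    have h1p' := plane_eq hF H h1 (u := p') (fun v _ hv => hv)
    set β := hermForm n F q (act g1 p') p' with hβ
    set δ := hermForm n F q (act g1 p') p with hδ
    have e2 : hermForm n F q (act g1 p') (act g1 p') = 0 := by rw [herm_act, H.ff]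
    have e3 : hermForm n F q (act g1 p') (act g1 p) = 1 := by rw [herm_act, H.fe hF]
    rw [h1p'] at e2
    rw [h1p', h1p] at e3
    simp only [herm_add_left, herm_add_right hF, herm_smul_left, herm_smul_right, H.ee, H.ef, H.ff, H.fe hF] at e2 e3
    have e4 : β * γ ^ q = 1 := by linear_combination e3
    have hβ0 : β ≠ 0 := by
      intro h
      rw [h, zero_mul] at e4
      exact zero_ne_one e4
    have hβq : β ^ q ≠ 0 := pow_ne_zero _ hβ0
    have hβγ : β = (γ ^ q)⁻¹ := eq_inv_of_mul_eq_one_left e4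
    have hr : δ / β + (δ / β) ^ q = 0 := by
      rw [div_pow]
      field_simp
      linear_combination e2
    have h2 : transv hF p' H.ff (δ / β) hr * g1 ∈ A := by
      refine plane_swap_mem hF H hA hA' (γ := γ) ?_ ?_ ?_
      · intro v hv hv'
        rw [act_mul, h1 v hv hv', act_transv, hv', mul_zero, zero_smul, add_zero]
      · rw [act_mul, h1p, act_transv, herm_smul_left, H.ff, mul_zero, mul_zero, zero_smul, add_zero]
      · rw [act_mul, h1p', act_transv, ← hβγ]
        simp only [herm_add_left, herm_smul_left, H.ff, H.ef]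
        funext i
        simp only [Pi.add_apply, Pi.smul_apply, smul_eq_mul]
        field_simp
        linear_combination (β * δ * p' i) * h2F
    have h3 : g = (transv hF p H.ee (α / γ) hs)⁻¹ * ((transv hF p' H.ff (δ / β) hr)⁻¹ *
        (transv hF p' H.ff (δ / β) hr * g1)) := by rw [hg1]; group
    rw [h3]
    exact mul_mem (inv_mem (hA _ _)) (mul_mem (inv_mem (hA' _ _)) h2)
  by_cases hγ : hermForm n F q (act g p) p = 0
  · -- multiply by a transvection
    have h1 : (1 : F) + 1 ^ q = 0 := by rw [one_pow]; exact CharTwo.add_self_eq_zero 1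
    have hgp := plane_eq hF H hg (u := p) (fun v hv _ => hv)
    rw [hγ, zero_smul, add_zero] at hgp
    have e1 : hermForm n F q (act g p) (act g p') = 1 := by rw [herm_act, H.ef]
    have h2 : g * transv hF p' H.ff 1 h1 ∈ A := by
      apply key
      · intro v hv hv'
        rw [act_mul, act_transv, hv', mul_zero, zero_smul, add_zero, hg v hv hv']
      · intro h0
        rw [act_mul, act_transv, H.ef, mul_one, one_smul, act_add, herm_add_left, hγ, zero_add] at h0
        rw [hgp, herm_smul_left, herm_eq_zero_swap hF h0, mul_zero] at e1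
        exact zero_ne_one e1
    have h3 : g = (g * transv hF p' H.ff 1 h1) * (transv hF p' H.ff 1 h1)⁻¹ := by group
    rw [h3]
    exact mul_mem h2 (inv_mem (hA' _ _))
  · exact key g hg hγ

/-- an element of the fixed field different from `0`, `1` -/
theorem exists_b (hF : Fintype.card F = q ^ 2) (hq : q ≠ 2) : ∃ b : F, b ^ q = b ∧ b ≠ 0 ∧ b ≠ 1 := by
  have h2 := two_le hF
  by_contra hcon
  push Not at hcon
  have h3 : ({x : F | x ^ q = x} : Set F) ⊆ {0, 1} := by
    intro x hx
    by_cases h0 : x = 0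
    · left; exact h0
    · right; exact hcon x hx h0
  have h4 := Set.ncard_le_ncard h3
  have h5 : ({x : F | x ^ q = x} : Set F).ncard = q := card_fixed hF
  rw [h5, Set.ncard_pair zero_ne_one] at h4
  omega

omit [Fintype F] in
theorem b_sq_ne {b : F} (hb1 : b ≠ 1) : b ^ 2 - 1 ≠ 0 := by
  intro h7
  have h8 : (b - 1) ^ 2 = 0 := by
    have h9 : (2 : F) = 0 := CharTwo.two_eq_zero
    linear_combination h7 + (1 - b) * h9
  exact hb1 (sub_eq_zero.1 (pow_eq_zero_iff two_ne_zero |>.1 h8))

/-- A transvection with centre `s` is a commutator with a torus element. -/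
theorem transv_mem (hF : Fintype.card F = q ^ 2) (hq : q ≠ 2) {s s' : Fin n → F} (H : Hyp q s s')
    {A : Subgroup (SU n F q)} (hA : ∀ μ (hμ : μ + μ ^ q = 0), transv hF s H.ee μ hμ ∈ A)
    (hh : ∀ (b : F) (hb : b ≠ 0) (hbq : b ^ q = b), hyp hF H b hb hbq ∈ A) (μ : F) (hμ : μ + μ ^ q = 0) :
    transv hF s H.ee μ hμ ∈ ⁅A, A⁆ := by
  obtain ⟨b, hbq, hb0, hb1⟩ := exists_b (F := F) hF hq
  have hb2 := b_sq_ne hb1
  have hμq : μ ^ q = μ := fixed_of_tr hμ
  set ν := μ / (b ^ 2 - 1) with hν
  have hνq : ν ^ q = ν := by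
    rw [hν, div_pow, hμq, sub_pow_q hF, one_pow, ← pow_mul, mul_comm 2 q, pow_mul, hbq]
  have h1 : ν + ν ^ q = 0 := tr_of_fixed hνq
  have h2 : b ^ 2 * ν + (b ^ 2 * ν) ^ q = 0 := by
    apply tr_of_fixed
    rw [mul_pow, hνq, ← pow_mul, mul_comm 2 q, pow_mul, hbq]
  have h3 := Subgroup.commutator_mem_commutator (hh b hb0 hbq) (hA ν h1)
  have h4 : ⁅hyp hF H b hb0 hbq, transv hF s H.ee ν h1⁆ = transv hF s H.ee μ hμ := by
    rw [commutatorElement_def, hyp_conj_transv hF H hb0 hbq h1 h2, mul_inv_eq_iff_eq_mul]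
    apply ext_act
    intro v
    rw [act_mul, act_transv, act_transv, act_transv, herm_add_left, herm_smul_left, H.ee, mul_zero, add_zero,
      add_assoc, ← add_smul]
    congr 2
    rw [hν]
    field_simp
    ring
  rwa [h4] at h3

/-- A Siegel element is a product of commutators with torus elements and transvections. -/
theorem siegel_mem (hF : Fintype.card F = q ^ 2) (hq : q ≠ 2) {s s' : Fin n → F} (H : Hyp q s s')
    {A : Subgroup (SU n F q)} {w : Fin n → F} {μ : F} (h : IsSiegel q s w μ)
    (hA : ∀ (c : F) μ (h : IsSiegel q s (c • w) μ), siegel hF s (c • w) μ h ∈ A)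
    (hA0 : ∀ μ (hμ : μ + μ ^ q = 0), transv hF s H.ee μ hμ ∈ A)
    (hh : ∀ (b : F) (hb : b ≠ 0) (hbq : b ^ q = b), hyp hF H b hb hbq ∈ A) :
    siegel hF s w μ h ∈ ⁅A, A⁆ := by
  obtain ⟨b, hbq, hb0, hb1⟩ := exists_b (F := F) hF hq
  have hb' : b - 1 ≠ 0 := sub_ne_zero.2 hb1
  have ht : ∀ μ (hμ : μ + μ ^ q = 0), transv hF s H.ee μ hμ ∈ ⁅A, A⁆ := transv_mem hF hq H hA0 hh
  -- the property
  let P : (Fin n → F) → Prop := fun w => ∃ (μ : F) (h : IsSiegel q s w μ), siegel hF s w μ h ∈ ⁅A, A⁆
  have hPadd : ∀ w w', P w → P w' → P (w + w') := by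
    rintro w w' ⟨μ, h, hm⟩ ⟨μ', h', hm'⟩
    exact ⟨_, h.mul hF h', by rw [← siegel_mul hF h h']; exact mul_mem hm hm'⟩
  have hPs : ∀ c : F, P (c • s) := by
    intro c
    obtain ⟨ν, hν⟩ := exists_isSiegel_of_orth hF H.ee (w := c • s) (by rw [herm_smul_left, H.ee, mul_zero])
    obtain ⟨κ, hκ, e⟩ := siegel_smul_self_mem hF H.ee hν
    exact ⟨ν, hν, by rw [e]; exact ht _ _⟩
  -- the commutator
  obtain ⟨w', hw'⟩ : ∃ w' : Fin n → F, w' = (b - 1)⁻¹ • w := ⟨_, rfl⟩
  have hw's : hermForm n F q w' s = 0 := by rw [hw', herm_smul_left, h.orth, mul_zero]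
  obtain ⟨ν, hν⟩ := exists_isSiegel_of_orth hF H.ee hw's
  have hmem : siegel hF s w' ν hν ∈ A := by
    subst hw'
    exact hA _ ν hν
  have h3 := Subgroup.commutator_mem_commutator (hh b hb0 hbq) hmem
  have hbs : act (hyp hF H b hb0 hbq) s = b • s := act_hyp_e hF H hb0 hbq
  have hbw : act (hyp hF H b hb0 hbq) w' = w' + ((b - 1) * hermForm n F q w' s') • s := by
    rw [act_hyp, hw's, mul_zero, zero_smul, add_zero]
  have hS : IsSiegel q s (w' + ((b - 1) * hermForm n F q w' s') • s) ν := by
    refine ⟨H.ee, ?_, ?_⟩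
    · rw [herm_add_left, herm_smul_left, hw's, H.ee]; ring
    · rw [herm_add_left, herm_add_right hF, herm_add_right hF, herm_smul_left, herm_smul_left, herm_smul_right,
        herm_smul_right, H.ee, hw's, herm_eq_zero_swap hF hw's]
      linear_combination hν.tr
  have hS' := hS.smul' hF (c := b)
  have e1 : ⁅hyp hF H b hb0 hbq, siegel hF s w' ν hν⁆ =
      siegel hF s (b ^ q • (w' + ((b - 1) * hermForm n F q w' s') • s)) (b * b ^ q * ν) hS' *
        siegel hF s (-w') (ν ^ q) (hν.inv hF) := by
    rw [commutatorElement_def, conj_siegel, siegel_inv, ← siegel_smul hF hS]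
    congr 1
    exact siegel_congr hF _ _ hbs hbw rfl
  rw [e1, siegel_mul] at h3
  have e2 : b ^ q • (w' + ((b - 1) * hermForm n F q w' s') • s) + -w' =
      w + (b * ((b - 1) * hermForm n F q w' s')) • s := by
    have : w = (b - 1) • w' := by rw [hw', smul_smul, mul_inv_cancel₀ hb', one_smul]
    rw [hbq, this, smul_add, smul_smul, sub_smul, one_smul]
    abel
  have h4 : P (w + (b * ((b - 1) * hermForm n F q w' s')) • s) := by
    rw [← e2]
    exact ⟨_, _, h3⟩
  have h5 : P w := by
    have h6 := hPadd _ _ h4 (hPs (-(b * ((b - 1) * hermForm n F q w' s'))))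
    have e3 : w + (b * ((b - 1) * hermForm n F q w' s')) • s + (-(b * ((b - 1) * hermForm n F q w' s'))) • s = w := by
      rw [neg_smul, add_neg_cancel_right]
    rwa [e3] at h6
  obtain ⟨μ', h', hm⟩ := h5
  exact siegel_mem_of_mem hF h' h (fun _ ν hν => ht ν hν) hm

/-- A partner in the coordinate subspace. -/
theorem exists_partner_coord (hF : Fintype.card F = q ^ 2) {k : ℕ} {u : Fin n → F} (hu : u ∈ coordSub F n k)
    (hu0 : u ≠ 0) (huu : hermForm n F q u u = 0) : ∃ u' ∈ coordSub F n k, Hyp q u u' := by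
  obtain ⟨z, hz, hzz, huz, -⟩ := exists_iso_common hF hu hu hu0 hu0 huu huu
  refine ⟨((hermForm n F q u z)⁻¹ ^ q) • z, Submodule.smul_mem _ _ hz, huu, ?_, ?_⟩
  · rw [herm_smul_left, herm_smul_right, hzz]; ring
  · rw [herm_smul_right, pow_q_pow_q hF, inv_mul_cancel₀ huz]

theorem stab_perfect_frame (hF : Fintype.card F = q ^ 2) (hn : 4 ≤ n) (hq : q ≠ 2) {e f : Fin n → F}
    (H : IsFrame q e f) : stabV q e ≤ ⁅stabV q e, stabV q e⁆ := by
  have he0 := frame_ne_zero H
  have hfe : hermForm n F q f e = 1 := frame_fe hF H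
  have one_tr' : (1 : F) + 1 ^ q = 0 := by rw [one_pow]; exact CharTwo.add_self_eq_zero 1
  set G0 : Subgroup (SU n F q) := ⁅stabV q e, stabV q e⁆ with hG0
  have hNe : ∀ w ∈ coordSub F n (n - 2), hermForm n F q e w = 0 := fun w hw =>
    herm_eq_zero_swap hF ((H.mem w).1 hw).1
  -- the transvections with centre `e`
  obtain ⟨w, w', hwe, hw'e, hww, hw'w', hww'⟩ := exists_pair_of_iso hF hn he0 H.ee
  have ht : ∀ (hs : hermForm n F q e e = 0) μ (hμ : μ + μ ^ q = 0), transv hF e hs μ hμ ∈ G0 := by
    intro hs μ hμ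
    obtain ⟨ν, h, h', e1⟩ := transv_eq_commutator hF hs hμ hww hw'w' hww' hwe hw'e
    rw [e1]
    exact Subgroup.commutator_mem_commutator (siegG_le_stabV hF hs ⟨_, _, h, rfl⟩)
      (siegG_le_stabV hF hs ⟨_, _, h', rfl⟩)
  let P : (Fin n → F) → Prop := fun w => ∃ (μ : F) (h : IsSiegel q e w μ), siegel hF e w μ h ∈ G0
  have hPadd : ∀ w w', P w → P w' → P (w + w') := by
    rintro w w' ⟨μ, h, hm⟩ ⟨μ', h', hm'⟩
    exact ⟨_, h.mul hF h', by rw [← siegel_mul hF h h']; exact mul_mem hm hm'⟩
  have hPe : ∀ c : F, P (c • e) := by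
    intro c
    obtain ⟨ν, hν⟩ := exists_isSiegel_of_orth hF H.ee (w := c • e) (by rw [herm_smul_left, H.ee, mul_zero])
    obtain ⟨κ, hκ, e1⟩ := siegel_smul_self_mem hF H.ee hν
    exact ⟨ν, hν, by rw [e1]; exact ht _ _ _⟩
  have hPiso : ∀ s ∈ coordSub F n (n - 2), hermForm n F q s s = 0 → P s := by
    intro s hs hss
    by_cases hs0 : s = 0
    · refine ⟨0, by rw [hs0]; exact IsSiegel.zero hF H.ee, ?_⟩
      rw [siegel_congr hF _ (IsSiegel.zero hF H.ee) rfl hs0 rfl, siegel_zero]
      exact one_mem _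
    obtain ⟨x, hx, Hx⟩ := exists_partner_coord hF hs hs0 hss
    have hxs : hermForm n F q x s = 1 := Hx.fe hF
    have hxe := ((H.mem x).1 hx).1
    obtain ⟨a, ha⟩ := exists_isSiegel_of_orth hF H.ee hxe
    have h1 : transv hF s hss 1 one_tr' ∈ stabV q e := by
      rw [mem_stabV, act_transv, hNe s hs, mul_zero, zero_smul, add_zero]
    have h2 : siegel hF e x a ha ∈ stabV q e := act_siegel_self hF ha
    have h3 := Subgroup.commutator_mem_commutator h1 h2
    have h4 : act (transv hF s hss 1 one_tr') x = x + s := by rw [act_transv, hxs, mul_one, one_smul]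
    have h5 : IsSiegel q e (x + s) a := by
      have := ha.map (transv hF s hss 1 one_tr')
      rwa [h4, mem_stabV.1 h1] at this
    have e1 : ⁅transv hF s hss 1 one_tr', siegel hF e x a ha⁆ =
        siegel hF e (x + s) a h5 * siegel hF e (-x) (a ^ q) (ha.inv hF) := by
      rw [commutatorElement_def, conj_siegel, siegel_inv]
      congr 1
      exact siegel_congr hF _ _ h1 h4 rfl
    rw [e1, siegel_mul] at h3
    have h6 : P (x + s + -x) := ⟨_, _, h3⟩
    have e2 : x + s + -x = s := by abel
    rwa [e2] at h6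
  -- a hyperbolic pair in the coordinate subspace
  obtain ⟨p, p', a, b, ha, hp, hp', hpp, hp'p', hpp'⟩ := exists_hyp_pair (q := q) hF
    (i := (⟨0, by omega⟩ : Fin n)) (j := ⟨1, by omega⟩) (by simp)
  have e0 : (Pi.single (⟨0, by omega⟩ : Fin n) 1 : Fin n → F) ∈ coordSub F n (n - 2) :=
    single_mem_coordSub (by simp; omega) 1
  have e1 : (Pi.single (⟨1, by omega⟩ : Fin n) 1 : Fin n → F) ∈ coordSub F n (n - 2) :=
    single_mem_coordSub (by simp; omega) 1
  have hpV : p ∈ coordSub F n (n - 2) := by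
    rw [hp]; exact Submodule.add_mem _ e0 (Submodule.smul_mem _ _ e1)
  have hp'V : p' ∈ coordSub F n (n - 2) := by
    rw [hp']; exact Submodule.add_mem _ e0 (Submodule.smul_mem _ _ hpV)
  have hPN : ∀ w ∈ coordSub F n (n - 2), P w :=
    iso_ind hF hpV hp'V hpp hp'p' hpp' (fun a b _ _ ha hb => hPadd a b ha hb) hPiso
  -- Siegel elements
  have hPperp : ∀ w, hermForm n F q w e = 0 → P w := by
    intro w hw
    have h1 : w - hermForm n F q w f • e ∈ coordSub F n (n - 2) := by
      rw [H.mem]
      constructor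
      · rw [herm_sub_left, herm_smul_left, H.ee, hw]; ring
      · rw [herm_sub_left, herm_smul_left, H.ef]; ring
    have h2 := hPadd _ _ (hPN _ h1) (hPe (hermForm n F q w f))
    rwa [sub_add_cancel] at h2
  have hSieg : ∀ {w : Fin n → F} {μ : F} (h : IsSiegel q e w μ), siegel hF e w μ h ∈ G0 := by
    intro w μ h
    obtain ⟨μ', h', hm⟩ := hPperp w h.orth
    exact siegel_mem_of_mem hF h' h ht hm
  -- the elements fixing `e` and `f`
  have hfix : (fixGrp (n - 2) : Subgroup (SU n F q)) ≤ G0 := by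
    -- elements at a hyperbolic pair of the coordinate subspace
    have hh : ∀ {u u' : Fin n → F} (K : Hyp q u u'), u ∈ coordSub F n (n - 2) → u' ∈ coordSub F n (n - 2) →
        ∀ (b : F) (hb : b ≠ 0) (hbq : b ^ q = b), hyp hF K b hb hbq ∈ stabV q e := by
      intro u u' K hu hu' b hb hbq
      exact act_hyp_of_orth hF K hb hbq (hNe u hu) (hNe u' hu')
    have htr : ∀ {u : Fin n → F} (huu : hermForm n F q u u = 0), u ∈ coordSub F n (n - 2) →
        ∀ μ (hμ : μ + μ ^ q = 0), transv hF u huu μ hμ ∈ stabV q e := by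
      intro u huu hu μ hμ
      rw [mem_stabV, act_transv, hNe u hu, mul_zero, zero_smul, add_zero]
    rcases Nat.lt_or_ge n 5 with h5 | h5
    · have hn4 : n = 4 := by omega
      subst hn4
      intro g hg
      have K : Hyp q p p' := ⟨hpp, hp'p', hpp'⟩
      refine plane_mem hF K (A := G0) (fun μ hμ => transv_mem hF hq K (htr _ hpV) (hh K hpV hp'V) μ hμ)
        (fun μ hμ => transv_mem hF hq (K.symm hF) (htr _ hp'V) (hh (K.symm hF) hp'V hpV) μ hμ) ?_
      intro v hv hv'
      have h0 : v 0 = 0 := by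
        have h1 : hermForm 4 F q v (Pi.single (⟨0, by omega⟩ : Fin 4) 1) = 0 := by
          have e3 : (Pi.single (⟨0, by omega⟩ : Fin 4) 1 : Fin 4 → F) = p' - b • p := by rw [hp', add_sub_cancel_right]
          rw [e3, herm_sub_right hF, herm_smul_right, hv, hv', mul_zero, sub_zero]
        rw [herm_single_right hF, one_pow, mul_one] at h1
        exact h1
      have h1 : v 1 = 0 := by
        have h2 : hermForm 4 F q v p = 0 := hv
        rw [hp, herm_add_right hF, herm_smul_right, herm_single_right hF, herm_single_right hF, one_pow, mul_one,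
          mul_one] at h2
        change v 0 + a ^ q * v 1 = 0 at h2
        rw [h0, zero_add] at h2
        exact (mul_eq_zero.1 h2).resolve_left (pow_ne_zero _ ha)
      rw [pi_eq_sum_univ' v, act_sum]
      refine Finset.sum_congr rfl fun i _ => ?_
      by_cases hi : 2 ≤ i.val
      · rw [act_smul, hg i hi]
      · have : i = 0 ∨ i = 1 := by
          rcases i with ⟨i, hi'⟩
          simp only [not_le] at hi
          interval_cases i
          · left; rfl
          · right; rfl
        rcases this with rfl | rfl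
        · rw [h0, zero_smul, act_zero]
        · rw [h1, zero_smul, act_zero]
    · refine (fixGrp_le_sG hF (by omega) (by omega)).trans ?_
      rw [sG, Subgroup.closure_le]
      rintro _ ⟨u, hu, w, hw, μ, hs, rfl⟩
      by_cases hu0 : u = 0
      · have : siegel hF u w μ hs = 1 := by
          apply ext_act
          intro v
          rw [act_siegel, act_one, hu0, herm_zero_right hF, zero_smul, smul_zero, add_zero, add_zero]
        rw [this]
        exact one_mem _
      obtain ⟨u', hu', K⟩ := exists_partner_coord hF hu hu0 hs.iso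
      refine siegel_mem hF hq K hs (fun c μ h => ?_) (htr _ hu) (hh K hu hu')
      rw [mem_stabV]
      apply act_siegel_of_orth hF h (hNe u hu)
      rw [herm_smul_right, hNe w hw, mul_zero]
  intro g hg
  have hge : act g e = e := hg
  obtain ⟨c, μ, hs, hact⟩ := exists_siegel_map hF H.ee (v := f) (v' := act g f)
    (by rw [herm_act]) (by conv_rhs => rw [← hge, herm_act]) (by rw [hfe]; exact one_ne_zero)
  have hse : act (siegel hF e (c • (act g f - f)) μ hs)⁻¹ e = e := ((act_eq_iff _).1 (act_siegel_self hF hs)).symm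
  have h2 : (siegel hF e (c • (act g f - f)) μ hs)⁻¹ * g ∈ (fixGrp (n - 2) : Subgroup (SU n F q)) :=
    mem_fixGrp_of_frame hF H (by rw [act_mul, hge, hse]) (by
      rw [act_mul]; nth_rewrite 2 [← hact]; rw [act_inv_act])
  have h4 : g = siegel hF e (c • (act g f - f)) μ hs * ((siegel hF e (c • (act g f - f)) μ hs)⁻¹ * g) := by group
  rw [h4]
  exact mul_mem (hSieg hs) (hfix h2)

/-- **The stabiliser of an isotropic vector is perfect**, `q ≥ 4` even, `n ≥ 4`. -/
theorem stab_perfect (hF : Fintype.card F = q ^ 2) (hn : 4 ≤ n) (hq : q ≠ 2) {u : Fin n → F} (hu0 : u ≠ 0)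
    (hu : hermForm n F q u u = 0) : stabV q u ≤ ⁅stabV q u, stabV q u⁆ := by
  obtain ⟨e, f, H⟩ := exists_frame (F := F) (q := q) (n := n) hF (by omega)
  have he0 := frame_ne_zero H
  obtain ⟨g, -, hg⟩ := exists_map_iso hF (by omega) le_rfl (mem_coordSub_top e) (mem_coordSub_top u)
    he0 hu0 H.ee hu
  have h1 : stabV q u = (stabV q e).map (MulAut.conj g).toMonoidHom := by
    ext x
    constructor
    · intro hx
      refine ⟨g⁻¹ * x * g, ?_, by simp [MulAut.conj_apply]; group⟩
      change act (g⁻¹ * x * g) e = e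
      rw [act_mul, act_mul, hg, mem_stabV.1 hx, ← hg, act_inv_act]
    · rintro ⟨y, hy, rfl⟩
      change act (g * y * g⁻¹) u = u
      rw [act_mul, act_mul]
      nth_rewrite 1 [← hg]
      rw [act_inv_act, mem_stabV.1 hy, hg]
  rw [h1, ← Subgroup.map_commutator]
  exact Subgroup.map_mono (stab_perfect_frame hF hn hq H)

theorem PP_perf (hF : Fintype.card F = q ^ 2) (hn : 4 ≤ n) (hq : q ≠ 2) {u : Fin n → F} (hu0 : u ≠ 0)
    (hu : hermForm n F q u u = 0) : PP q u ≤ ⁅PP q u, (PP q u : Subgroup (PSU n F q))⁆ := by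
  rw [PP, ← Subgroup.map_commutator]
  exact Subgroup.map_mono (stab_perfect hF hn hq hu0 hu)

end Two

end Cfsg.Agent.OddHalf.DblR.Un
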