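import Cfsg.Agent.KFacts.Unit.PentExt
import Cfsg.Agent.Nodes.RGDLib
import Cfsg.Agent.OddHalf.DblR.UnPerf
import Cfsg.Agent.OddHalf.DblR.Res
import Cfsg.Agent.OddHalf.DblR.BaseS

/-!
# ODD, D4, unitary groups: the normaliser of the long root group and what `P` determines (helper350)

* `cj_PP`, `cj_RR`, `cj_QQ` : conjugation in `PSU n F q`;
* `norX` : `NorX`;
* `le_PP_of_perfect` : perfect subgroups of the centraliser of an element of `RR u` lie in `PP u`;
* `cj_of_cj_PP` : `PP e` determines `QQ e` and `RR e`.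
-/

set_option autoImplicit false

namespace Cfsg.Agent.OddHalf.DblR.Un

open scoped commutatorElement

open Cfsg Cfsg.Agent.LieClassical.HermBasic Cfsg.Agent.LieClassical.HermSiegel
  Cfsg.Agent.LieClassical.HermGen Cfsg.Agent.LieClassical.SUBasic Matrix
  Cfsg.Agent.ClassicalGeometry.PSUAutBasic Cfsg.Agent.ClassicalGeometry.PSUAutSylow
  Cfsg.Agent.ClassicalGeometry.PSUAutUnip Cfsg.Agent.ClassicalGeometry.PSUAutPhi
  Cfsg.Agent.ClassicalGeometry.PSUAutTorus Cfsg.Agent.KFacts.Unit Cfsg.Agent.Nodes.Reps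

variable {F : Type*} [Field F] [Fintype F] {q n : ℕ}

omit [Fintype F] in
theorem cj_PP (g : SU n F q) (u : Fin n → F) : cj (pr n F q g) (PP q u) = PP q (act g u) := by
  apply le_antisymm
  · intro x hx
    rw [mem_cj] at hx
    have h1 := PP_conj g hx
    have e : pr n F q g * ((pr n F q g)⁻¹ * x * pr n F q g) * (pr n F q g)⁻¹ = x := by group
    rwa [e] at h1
  · intro x hx
    rw [mem_cj]
    have h1 := PP_conj g⁻¹ hx
    rwa [act_inv_act, map_inv, inv_inv] at h1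

theorem cj_RR (hF : Fintype.card F = q ^ 2) (g : SU n F q) {u : Fin n → F} (hu : hermForm n F q u u = 0)
    (hgu : hermForm n F q (act g u) (act g u) = 0) :
    cj (pr n F q g) (RR hF u hu) = RR hF (act g u) hgu := by
  ext x
  rw [mem_cj, RR_conj hF hu g hgu]

theorem act_of_cj_RR (hF : Fintype.card F = q ^ 2) (hn : 3 ≤ n) {g : SU n F q} {u : Fin n → F} (hu0 : u ≠ 0)
    (hu : hermForm n F q u u = 0) (h : cj (pr n F q g) (RR hF u hu) = RR hF u hu) :
    ∃ c : F, c ≠ 0 ∧ act g u = c • u := by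
  rw [← normRR_iff hF hn hu0 hu]
  intro y
  constructor
  · intro hy
    rw [← h] at hy
    exact mem_cj.1 hy
  · intro hy
    rw [← h]
    exact mem_cj.2 hy

/-- an element commuting with a non-trivial element of `RR u` fixes the point `⟨u⟩` -/
theorem act_of_commute (hF : Fintype.card F = q ^ 2) (hn : 3 ≤ n) {u : Fin n → F} (hu0 : u ≠ 0)
    (hu : hermForm n F q u u = 0) {y : PSU n F q} (hy : y ∈ RR hF u hu) (hy1 : y ≠ 1) {a : SU n F q}
    (hxy : pr n F q a * y = y * pr n F q a) : ∃ c : F, c ≠ 0 ∧ act a u = c • u := by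
  obtain ⟨μ, hμ, rfl⟩ := mem_RR.1 hy
  have hμ0 : μ ≠ 0 := by
    rintro rfl
    exact hy1 (by rw [transv_zero, map_one])
  have h1 : pr n F q (a * transv hF u hu μ hμ * a⁻¹) = pr n F q (transv hF u hu μ hμ) := by
    rw [map_mul, map_mul, map_inv, hxy, mul_inv_cancel_right]
  rw [transv, conj_siegel] at h1
  have h2 := siegel_pr_inj hF hn _ _ h1
  obtain ⟨f, -, huf, hfu⟩ := exists_partner hF hu0 hu
  have h3 := congrArg (fun g => act g f) h2
  simp only [act_siegel] at h3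
  rw [act_zero, smul_zero, smul_zero, herm_zero_right hF, sub_zero, sub_zero, add_zero, add_right_inj, hfu,
    mul_one] at h3
  have hne : μ * hermForm n F q f (act a u) ≠ 0 := by
    intro h0
    rw [h0, zero_smul] at h3
    rcases smul_eq_zero.1 h3.symm with h5 | h5
    · exact hμ0 h5
    · exact hu0 h5
  have h4 : act a u = ((μ * hermForm n F q f (act a u))⁻¹ * μ) • u := by
    rw [mul_smul, ← h3, smul_smul, inv_mul_cancel₀ hne, one_smul]
  exact ⟨_, mul_ne_zero (inv_ne_zero hne) hμ0, h4⟩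

/-- commutators of elements fixing the point `⟨u⟩` fix `u` -/
theorem commutator_fix {g g' : SU n F q} {u : Fin n → F} {c c' : F} (hc : c ≠ 0) (hc' : c' ≠ 0)
    (h : act g u = c • u) (h' : act g' u = c' • u) : act (g * g' * g⁻¹ * g'⁻¹) u = u := by
  have h1 : act g⁻¹ u = c⁻¹ • u := by
    have h2 := act_inv_act g u
    rw [h, act_smul] at h2
    rw [← h2, smul_smul, inv_mul_cancel₀ hc, one_smul]
    rw [h2]
  have h1' : act g'⁻¹ u = c'⁻¹ • u := by
    have h2 := act_inv_act g' u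
    rw [h', act_smul] at h2
    rw [← h2, smul_smul, inv_mul_cancel₀ hc', one_smul]
    rw [h2]
  simp only [act_mul, h1', act_smul, h1, h', h, smul_smul]
  have e : c'⁻¹ * (c⁻¹ * (c' * c)) = 1 := by field_simp
  first
    | rw [e, one_smul]
    | (have e' : c'⁻¹ * c⁻¹ * c' * c = 1 := by field_simp
       rw [e', one_smul])

theorem exists_RR_ne (hF : Fintype.card F = q ^ 2) (hn : 3 ≤ n) {u : Fin n → F} (hu0 : u ≠ 0)
    (hu : hermForm n F q u u = 0) : ∃ y ∈ RR hF u hu, y ≠ 1 := by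
  obtain ⟨μ, hμ0, hμ⟩ := exists_trace_zero_ne hF
  refine ⟨pr n F q (transv hF u hu μ hμ), mem_RR.2 ⟨μ, hμ, rfl⟩, ?_⟩
  intro h0
  have h00 : (0 : F) + 0 ^ q = 0 := by
    have := two_le hF
    rw [zero_add, zero_pow (by omega)]
  have h2 : pr n F q (transv hF u hu μ hμ) = pr n F q (transv hF u hu 0 h00) := by
    rw [h0]
    symm
    have : transv hF u hu 0 h00 = 1 := by
      apply ext_act
      intro v
      rw [act_transv, act_one, zero_mul, zero_smul, add_zero]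
    rw [this, map_one]
  have h3 := siegel_pr_inj hF hn _ _ h2
  obtain ⟨f, hff, huf, hfu⟩ := exists_partner hF hu0 hu
  have h4 := congrArg (fun g => act g f) h3
  change act (transv hF u hu μ hμ) f = act (transv hF u hu 0 h00) f at h4
  rw [act_transv, act_transv, hfu, mul_one, zero_mul, zero_smul, add_zero, add_eq_left] at h4
  rcases smul_eq_zero.1 h4 with h5 | h5
  · exact hμ0 h5
  · exact hu0 h5

theorem isPGroup_QQ' [CharP F 2] (hF : Fintype.card F = q ^ 2) {u : Fin n → F} (hu : hermForm n F q u u = 0) :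
    IsPGroup 2 ↥(QQ hF u hu) := by
  have : Fact (Nat.Prime 2) := ⟨Nat.prime_two⟩
  exact (isPGroup_siegG hF 2 hu).map _

section map

variable {G : Type*} [Group G] (f : PSU n F q →* G) (hf : Function.Injective f)
include hf

theorem map_inj' {A B : Subgroup (PSU n F q)} (h : A.map f = B.map f) : A = B := Subgroup.map_injective hf h

theorem norX [CharP F 2] (hF : Fintype.card F = q ^ 2) (hn : 3 ≤ n) {e e' : Fin n → F} (H : Hyp q e e') :
    NorX f.range ((PP q e).map f) ((RR hF e H.ee).map f) ((HH hF H).map f) := by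
  have key : ∀ k ∈ f.range, cj k ((RR hF e H.ee).map f) = (RR hF e H.ee).map f →
      ∃ g : SU n F q, k = f (pr n F q g) ∧ ∃ c : F, c ≠ 0 ∧ act g e = c • e := by
    rintro _ ⟨x, rfl⟩ h
    obtain ⟨g, rfl⟩ := pr_surjective x
    rw [Cfsg.Agent.Nodes.RGDLib.cj_map] at h
    exact ⟨g, rfl, act_of_cj_RR hF hn H.ne_zero H.ee (map_inj' f hf h)⟩
  refine ⟨?_, ?_⟩
  · intro k hk h
    obtain ⟨g, rfl, c, hc, hg⟩ := key k hk h
    rw [Cfsg.Agent.Nodes.RGDLib.cj_map, cj_PP, hg, PP_smul hc]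
  · rintro k hk h _ ⟨y, hy, rfl⟩
    obtain ⟨g, rfl, c, hc, hg⟩ := key k hk h
    obtain ⟨b, hb, hbq, rfl⟩ := mem_HH.1 hy
    have hbe := act_hyp_e hF H hb hbq
    set t := hyp hF H b hb hbq with ht
    have h1 : act t⁻¹ e = b⁻¹ • e := by
      have h2 := act_inv_act t e
      rw [hbe, act_smul] at h2
      rw [← h2, smul_smul, inv_mul_cancel₀ hb, one_smul]
      rw [h2]
    have h2 := commutator_fix (g := t⁻¹) (g' := g) (inv_ne_zero hb) hc h1 hg
    refine ⟨f (pr n F q (t⁻¹ * g * t⁻¹⁻¹ * g⁻¹)), ⟨_, mem_PP.2 ⟨_, h2, rfl⟩, rfl⟩, ?_⟩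
    rw [← map_mul, ← map_inv, ← map_inv, ← map_mul, ← map_mul, ← map_mul, ← map_mul, ← map_mul]
    congr 2
    group

theorem le_PP_of_perfect (hF : Fintype.card F = q ^ 2) (hn : 3 ≤ n) {u : Fin n → F} (hu0 : u ≠ 0)
    (hu : hermForm n F q u u = 0) {x : G} (hx : x ∈ (RR hF u hu).map f) (hx1 : x ≠ 1) {H : Subgroup G}
    (hH : H ≤ f.range) (hHx : ∀ y ∈ H, y * x = x * y) (hp : H ≤ ⁅H, H⁆) : H ≤ (PP q u).map f := by
  obtain ⟨x, hx, rfl⟩ := hx
  have hx1' : x ≠ 1 := by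
    rintro rfl
    exact hx1 (map_one f)
  refine hp.trans ?_
  rw [Subgroup.commutator_le]
  have key : ∀ y ∈ H, ∃ g : SU n F q, y = f (pr n F q g) ∧ ∃ c : F, c ≠ 0 ∧ act g u = c • u := by
    intro y hy
    obtain ⟨y', rfl⟩ := hH hy
    obtain ⟨g, rfl⟩ := pr_surjective y'
    have h1 := hHx _ hy
    rw [← map_mul, ← map_mul] at h1
    exact ⟨g, rfl, act_of_commute hF hn hu0 hu hx hx1' (hf h1)⟩
  intro y hy y' hy'
  obtain ⟨g, rfl, c, hc, hg⟩ := key y hy
  obtain ⟨g', rfl, c', hc', hg'⟩ := key y' hy'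
  refine ⟨pr n F q (g * g' * g⁻¹ * g'⁻¹), mem_PP.2 ⟨_, commutator_fix hc hc' hg hg', rfl⟩, ?_⟩
  rw [commutatorElement_def]
  simp

theorem cj_of_cj_PP [CharP F 2] (hF : Fintype.card F = q ^ 2) (hn : 3 ≤ n) {e e' : Fin n → F} (H : IsFrame q e e')
    {g : G} (hg : cj g ((PP q e).map f) = (PP q e).map f) :
    cj g ((QQ hF e H.ee).map f) = (QQ hF e H.ee).map f ∧ cj g ((RR hF e H.ee).map f) = (RR hF e H.ee).map f := by
  have : Fact (Nat.Prime 2) := ⟨Nat.prime_two⟩
  have he0 : e ≠ 0 := frame_ne_zero H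
  have hgi : cj g⁻¹ ((PP q e).map f) = (PP q e).map f := by
    conv_lhs => rw [← hg]
    exact cj_inv_cj _ _
  have mi : ∀ {k : PSU n F q} {B : Subgroup (PSU n F q)}, f k ∈ B.map f → k ∈ B := by
    rintro k B ⟨b, hb, e⟩
    rwa [← hf e]
  have key1 : ∀ g : G, cj g ((PP q e).map f) = (PP q e).map f → cj g ((QQ hF e H.ee).map f) ≤ (QQ hF e H.ee).map f := by
    intro g hg
    have hQP : (QQ hF e H.ee).map f ≤ (PP q e).map f := Subgroup.map_mono (QQ_le_PP hF H.ee)
    have hle : cj g ((QQ hF e H.ee).map f) ≤ (PP q e).map f := by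
      have := cj_mono g hQP
      rwa [hg] at this
    set N : Subgroup (PSU n F q) := (cj g ((QQ hF e H.ee).map f)).comap f with hN
    have hmN : ∀ x, x ∈ N ↔ f x ∈ cj g ((QQ hF e H.ee).map f) := fun x => Iff.rfl
    have hN2 : IsPGroup 2 ↥N := by
      have h1 : IsPGroup 2 ↥(cj g ((QQ hF e H.ee).map f)) := ((isPGroup_QQ' hF H.ee).map f).map _
      rintro ⟨x, hx⟩
      obtain ⟨k, hk⟩ := h1 ⟨f x, hx⟩
      refine ⟨k, Subtype.ext ?_⟩
      have h2 : (f x) ^ 2 ^ k = 1 := congrArg Subtype.val hk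
      have h3 : f (x ^ 2 ^ k) = f 1 := by rw [map_pow, h2, map_one]
      exact hf h3
    have h1 : N ≤ QQ hF e H.ee := by
      apply le_QQ hF hn 2 H N hN2
      · intro a ha
        have h2 : pr n F q a ∈ PP q e := mi (hle ((hmN _).1 ha))
        obtain ⟨y, hy, hy1⟩ := exists_RR_ne hF hn he0 H.ee
        exact act_of_commute hF hn he0 H.ee hy hy1 (PP_comm_RR hF H.ee h2 hy)
      · intro a ha x hx
        rw [hmN] at hx ⊢
        rw [mem_cj] at hx ⊢
        obtain ⟨s, hs, hse⟩ := hx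
        have h2 : f (pr n F q a) ∈ (PP q e).map f := ⟨_, mem_PP.2 ⟨a, ha, rfl⟩, rfl⟩
        rw [← hg, mem_cj] at h2
        obtain ⟨p, hp, hpe⟩ := h2
        refine ⟨p * s * p⁻¹, PP_conj_QQ hF H.ee hp hs, ?_⟩
        rw [map_mul, map_mul, map_inv, map_mul, map_mul, map_inv, hpe, hse]
        group
    intro x hx
    obtain ⟨y, hy, rfl⟩ := hle hx
    exact ⟨y, h1 ((hmN _).2 hx), rfl⟩
  have key2 : ∀ g : G, cj g ((PP q e).map f) = (PP q e).map f → cj g ((RR hF e H.ee).map f) ≤ (RR hF e H.ee).map f := by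
    intro g hg x hx
    rw [mem_cj] at hx
    have hRP : (RR hF e H.ee).map f ≤ (PP q e).map f :=
      Subgroup.map_mono ((RR_le_QQ hF H.ee).trans (QQ_le_PP hF H.ee))
    have hxP : x ∈ (PP q e).map f := by
      rw [← hg, mem_cj]
      exact hRP hx
    obtain ⟨y, hy, rfl⟩ := hxP
    refine ⟨y, mem_RR_of_comm hF hn he0 H.ee hy ?_, rfl⟩
    intro s hs
    apply hf
    have h1 : f s ∈ (PP q e).map f := ⟨s, QQ_le_PP hF H.ee hs, rfl⟩
    rw [← hg, mem_cj] at h1
    obtain ⟨p, hp, hpe⟩ := h1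
    obtain ⟨r, hr, hre⟩ := hx
    have h2 := PP_comm_RR hF H.ee hp hr
    have h3 := congrArg f h2
    rw [map_mul, map_mul, hpe, hre] at h3
    rw [map_mul, map_mul]
    calc f y * f s = g * ((g⁻¹ * f y * g) * (g⁻¹ * f s * g)) * g⁻¹ := by group
      _ = g * ((g⁻¹ * f s * g) * (g⁻¹ * f y * g)) * g⁻¹ := by rw [h3]
      _ = f s * f y := by group
  have eqof : ∀ B : Subgroup G, cj g B ≤ B → cj g⁻¹ B ≤ B → cj g B = B := by
    intro B h1 h2
    apply le_antisymm h1
    have := cj_mono g h2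
    rwa [cj_cj_inv] at this
  exact ⟨eqof _ (key1 g hg) (key1 g⁻¹ hgi), eqof _ (key2 g hg) (key2 g⁻¹ hgi)⟩

end map

end Cfsg.Agent.OddHalf.DblR.Un
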