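import Cfsg.Agent.KFacts.Unit.Over
import Cfsg.Agent.OddHalf.DblR.UnNor
import Cfsg.Agent.OddHalf.DblR.UnLoc
import Cfsg.Agent.OddHalf.DblR.UnOut
import Cfsg.Agent.OddHalf.D4.Input
import Cfsg.Agent.S0283

/-!
# ODD, D4, unitary groups: the K-facts of LEMMA INPUT (helper422)

* `center_eq_bot`, `gen_PSU` : facts on `PSU n F q`;
* `exists_point` : every Sylow 2-subgroup lies between `QQ u` and `PP u`;
* `out_range` : perfect subgroups of the normaliser of `f.range` lie in `f.range C(f.range)`;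
* **`inp`** : for `f : PSU n F q →* G` injective, `n ≥ 4`, `q ≥ 4` even, and every Sylow 2-subgroup `S` of `f.range`:
  `Inp f.range S (RR u).map f (PP u).map f` for an isotropic vector `u`.
-/

set_option autoImplicit false

namespace Cfsg.Agent.OddHalf.DblR.UnInput

open Subgroup Cfsg.Agent.OddHalf.D4 Cfsg.Agent.OddHalf.D4.Basic Cfsg.Agent.OddHalf.D4.Input
  Cfsg.Agent.OddHalf.D7.Uni.Ex
open Cfsg Cfsg.Agent.LieClassical.HermBasic Cfsg.Agent.LieClassical.HermSiegel
  Cfsg.Agent.LieClassical.HermGen Cfsg.Agent.LieClassical.SUBasic Matrix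
  Cfsg.Agent.ClassicalGeometry.PSUAutBasic Cfsg.Agent.ClassicalGeometry.PSUAutSylow
  Cfsg.Agent.ClassicalGeometry.PSUAutUnip Cfsg.Agent.ClassicalGeometry.PSUAutPhi Cfsg.Agent.KFacts.Unit
open scoped commutatorElement

variable {F : Type*} [Field F] [Fintype F] {q n : ℕ} {G : Type*} [Group G]

theorem center_eq_bot (hF : Fintype.card F = q ^ 2) (hn : 4 ≤ n) : Subgroup.center (PSU n F q) = ⊥ := by
  have hs : IsSimpleGroup (PSU n F q) := Cfsg.Agent.S0283.result hF n (by omega) (by omega)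
  rcases hs.eq_bot_or_eq_top_of_normal (Subgroup.center (PSU n F q))
    (inferInstance : (Subgroup.center (PSU n F q)).Normal) with h | h
  · exact h
  · exfalso
    obtain ⟨e, f, H⟩ := exists_frame (F := F) (q := q) (n := n) hF (by omega)
    have he0 : e ≠ 0 := frame_ne_zero H
    have hf0 : f ≠ 0 := (⟨H.ee, H.ff, H.ef⟩ : Hyp q e f).ne_zero' hF
    obtain ⟨y, hy, hy1⟩ := Un.exists_RR_ne hF (by omega) he0 H.ee
    obtain ⟨g, -, hg⟩ := exists_map_iso hF (by omega) le_rfl (mem_coordSub_top e) (mem_coordSub_top f)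
      he0 hf0 H.ee H.ff
    have hc : pr n F q g ∈ Subgroup.center (PSU n F q) := by rw [h]; trivial
    obtain ⟨c, -, hc⟩ := Un.act_of_commute hF (by omega) he0 H.ee hy hy1 (Subgroup.mem_center_iff.1 hc y).symm
    rw [hg] at hc
    have h1 := H.ef
    rw [hc, herm_smul_right, H.ee, mul_zero] at h1
    exact zero_ne_one h1

theorem eq_of_conj (hF : Fintype.card F = q ^ 2) (hn : 4 ≤ n) {x y : PSU n F q}
    (h : MulAut.conj x = MulAut.conj y) : x = y := by
  have h1 : y⁻¹ * x ∈ Subgroup.center (PSU n F q) := by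
    rw [Subgroup.mem_center_iff]
    intro z
    have h2 : x * z * x⁻¹ = y * z * y⁻¹ := by
      have := congrArg (fun α => α z) h
      simpa [MulAut.conj_apply] using this
    calc z * (y⁻¹ * x) = y⁻¹ * (y * z * y⁻¹) * x := by group
      _ = y⁻¹ * (x * z * x⁻¹) * x := by rw [h2]
      _ = _ := by group
  rw [center_eq_bot hF hn, Subgroup.mem_bot] at h1
  exact (inv_mul_eq_one.1 h1).symm

/-- every Sylow 2-subgroup lies between `QQ u` and `PP u` -/
theorem exists_point [CharP F 2] (hF : Fintype.card F = q ^ 2) (hn : 3 ≤ n) (U : Sylow 2 (PSU n F q)) :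
    ∃ (u : Fin n → F) (_ : u ≠ 0) (hu : hermForm n F q u u = 0),
      QQ hF u hu ≤ (U : Subgroup (PSU n F q)) ∧ (U : Subgroup (PSU n F q)) ≤ PP q u := by
  have : Fact (Nat.Prime 2) := ⟨Nat.prime_two⟩
  obtain ⟨S, hS⟩ := exists_sylow_lift (F := F) (q := q) (n := n) 2 U
  obtain ⟨u, hu0, hu, hfix⟩ := exists_fixed 2 hF (by omega) S.isPGroup'
  have hQS := siegG_le_sylow 2 hF S hu hfix
  refine ⟨u, hu0, hu, ?_, ?_⟩
  · rw [← hS]; exact Subgroup.map_mono hQS
  · rw [← hS]; exact Subgroup.map_mono (fun g hg => hfix g hg)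

omit [Fintype F] in
/-- In a Heisenberg group the commutators with a non-central element are all elements of the centre. -/
theorem exists_comm_eq {N : Type*} [AddCommGroup N] [Module F N] {σ : F →+* F} {B : N → N → F}
    {X Q : Subgroup G} {S : N → F → G} (H : Cfsg.Agent.OddHalf.D7.Uni.Ex.Heis σ B X Q S) {v : G} (hv : v ∈ Q)
    (hvX : v ∉ X) {t : G} (ht : t ∈ X) : ∃ s ∈ Q, s * v * s⁻¹ * v⁻¹ = t := by
  obtain ⟨x, a, ha, rfl⟩ := (H.memQ v).1 hv
  obtain ⟨c, hc, rfl⟩ := (H.memX t).1 ht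
  have hx : x ≠ 0 := by
    rintro rfl
    apply hvX
    refine H.mem_X ?_
    rw [H.zero_left, add_eq_zero_iff_eq_neg, H.neg_eq] at ha
    exact ha.symm
  obtain ⟨y0, hy0⟩ := H.exists_one hx
  obtain ⟨d, hd⟩ := H.exists_tr hc
  obtain ⟨b, hb⟩ := H.exists_S (d • y0)
  refine ⟨S (d • y0) b, H.mem_Q hb, ?_⟩
  rw [H.comm ha hb, H.symm (d • y0) x, H.smul_left, hy0, mul_one, H.σσ, add_comm, hd]

theorem heis_id [CharP F 2] (hF : Fintype.card F = q ^ 2) (hn : 4 ≤ n) {u f : Fin n → F} (H : Hyp q u f) :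
    Cfsg.Agent.OddHalf.D7.Uni.Ex.Heis (frb hF) (BB q u f) (RR hF u H.ee) (QQ hF u H.ee)
      (SS hF u f (MonoidHom.id (PSU n F q))) := by
  have HE := heis hF (by omega) H (ρ := MonoidHom.id (PSU n F q)) Function.injective_id
  rwa [Subgroup.map_id, Subgroup.map_id] at HE

/-- a non-central normal subgroup of `PP u` contains an element of `QQ u` outside `RR u` -/
theorem not_le_RR [CharP F 2] (hF : Fintype.card F = q ^ 2) (hn : 4 ≤ n) {u : Fin n → F} (hu0 : u ≠ 0)
    (hu : hermForm n F q u u = 0) {B : Subgroup (PSU n F q)} (hB : B ≤ PP q u)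
    (hBn : ∀ y ∈ PP q u, ∀ b ∈ B, y * b * y⁻¹ ∈ B) (hnc : ∃ b ∈ B, ∃ y ∈ PP q u, y * b ≠ b * y) :
    ¬ (B ⊓ QQ hF u hu ≤ RR hF u hu) := by
  intro hA
  obtain ⟨b, hb, y, hy, hne⟩ := hnc
  have hBQ : B ≤ QQ hF u hu := by
    intro b hb
    obtain ⟨s, hs, hconj⟩ := autCent_mod hF hn hu0 hu (MulAut.conj b) (fun x hx => by
      rw [MulAut.conj_apply, PP_comm_RR hF hu (hB hb) hx, mul_inv_cancel_right]) (fun x hx => by
      rw [MulAut.conj_apply]
      apply hA
      refine ⟨?_, ?_⟩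
      · have h1 := hBn x (QQ_le_PP hF hu hx) b⁻¹ (inv_mem hb)
        have e : b * x * b⁻¹ * x⁻¹ = b * (x * b⁻¹ * x⁻¹) := by group
        rw [e]; exact mul_mem hb h1
      · exact (QQ hF u hu).mul_mem (PP_conj_QQ hF hu (hB hb) hx) ((QQ hF u hu).inv_mem hx))
    rw [eq_of_conj hF hn hconj]
    exact ⟨s, hs, rfl⟩
  exact hne (PP_comm_RR hF hu hy (hA ⟨hb, hBQ hb⟩))

/-- **non-central normal subgroups of `PP u` contain `RR u`** -/
theorem RR_le_of_normal [CharP F 2] (hF : Fintype.card F = q ^ 2) (hn : 4 ≤ n) {u : Fin n → F} (hu0 : u ≠ 0)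
    (hu : hermForm n F q u u = 0) {B : Subgroup (PSU n F q)} (hB : B ≤ PP q u)
    (hBn : ∀ y ∈ PP q u, ∀ b ∈ B, y * b * y⁻¹ ∈ B) (hnc : ∃ b ∈ B, ∃ y ∈ PP q u, y * b ≠ b * y) :
    RR hF u hu ≤ B := by
  have hA := not_le_RR hF hn hu0 hu hB hBn hnc
  obtain ⟨x, ⟨hxB, hxQ⟩, hxR⟩ : ∃ x ∈ B ⊓ QQ hF u hu, x ∉ RR hF u hu := by
    by_contra hcon
    push Not at hcon
    exact hA hcon
  obtain ⟨f, H⟩ := exists_hyp hF hu0 hu
  intro t ht
  obtain ⟨s, hs, e⟩ := exists_comm_eq (heis_id hF hn H) hxQ hxR ht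
  rw [← e]
  exact mul_mem (hBn s (QQ_le_PP hF hu hs) x hxB) (inv_mem hxB)

/-- **normal subgroups of `PP u`, not central, and centralisers of involutions** -/
theorem gen_PSU [CharP F 2] (hF : Fintype.card F = q ^ 2) (hn : 4 ≤ n) {u : Fin n → F} (hu0 : u ≠ 0)
    (hu : hermForm n F q u u = 0) {B : Subgroup (PSU n F q)} (hB : B ≤ PP q u)
    (hBn : ∀ y ∈ PP q u, ∀ b ∈ B, y * b * y⁻¹ ∈ B) (hnc : ∃ b ∈ B, ∃ y ∈ PP q u, y * b ≠ b * y)
    {J : Subgroup (PSU n F q)} (hJ : ∀ x ∈ B, x * x = 1 → x ≠ 1 → ∀ k, k * x = x * k → k ∈ J) : J = ⊤ := by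
  obtain ⟨x, ⟨hxB, hxQ⟩, hx1, hxx, g, hgx, hgu, -⟩ := exists_short hF hn hu0 hu (A := B ⊓ QQ hF u hu) inf_le_right
    (fun y hy a ha => ⟨hBn y hy a ha.1, PP_conj_QQ hF hu hy ha.2⟩) (not_le_RR hF hn hu0 hu hB hBn hnc)
  -- an involution of `B ∩ RR u`
  obtain ⟨t, ht, ht1⟩ := Un.exists_RR_ne hF (by omega) hu0 hu
  have htB : t ∈ B := RR_le_of_normal hF hn hu0 hu hB hBn hnc ht
  apply over_PP hF (by omega) hu0 hu (H := J) (g := g) _ (hJ x hxB hxx hx1 _ hgx) hgu
  intro y hy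
  exact hJ _ htB (UnLoc.RR_sq hF hu ht) ht1 y (PP_comm_RR hF hu hy ht)

/-- `PP u` is not commutative -/
theorem PP_nc [CharP F 2] (hF : Fintype.card F = q ^ 2) (hn : 4 ≤ n) {u : Fin n → F} (hu0 : u ≠ 0)
    (hu : hermForm n F q u u = 0) : ∃ b ∈ PP q u, ∃ y ∈ PP q u, y * b ≠ (b * y : PSU n F q) := by
  obtain ⟨f, H⟩ := exists_hyp hF hu0 hu
  have HE := heis_id hF hn H
  obtain ⟨x, y, -, -, hxy⟩ := UnLoc.exists_pair hF hn H
  obtain ⟨a, ha⟩ := HE.exists_S x
  have hx : x ≠ 0 := by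
    rintro rfl
    rw [HE.zero_left] at hxy
    exact zero_ne_one hxy
  by_contra hcon
  push Not at hcon
  have h1 := HE.ZQ _ (HE.mem_Q ha) (fun v hv => (hcon _ (QQ_le_PP hF hu (HE.mem_Q ha)) _ (QQ_le_PP hF hu hv)).symm)
  obtain ⟨c, hc, e⟩ := (HE.memX _).1 h1
  exact hx (HE.eq_iff ha (HE.tr0 hc) e).1

/-- Direct indecomposability, from: every non-central normal subgroup contains `X ≠ 1`. -/
theorem ind_of {H X : Subgroup G} (perf : H ≤ ⁅H, H⁆) (hX : X ≠ ⊥)
    (hn : ∀ B : Subgroup G, B ≤ H → (∀ y ∈ H, ∀ b ∈ B, y * b * y⁻¹ ∈ B) → (∃ b ∈ B, ∃ y ∈ H, y * b ≠ b * y) → X ≤ B)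
    (A B : Subgroup G) (hA : A ≤ H) (hB : B ≤ H) (hAB : ∀ a ∈ A, ∀ b ∈ B, a * b = b * a) (hdis : A ⊓ B = ⊥)
    (hH : ∀ y ∈ H, ∃ a ∈ A, ∃ b ∈ B, y = a * b) : A = ⊥ ∨ B = ⊥ := by
  -- one of the two is central: it is trivial
  have key : ∀ A B : Subgroup G, A ≤ H → B ≤ H → (∀ a ∈ A, ∀ b ∈ B, a * b = b * a) → A ⊓ B = ⊥ →
      (∀ y ∈ H, ∃ a ∈ A, ∃ b ∈ B, y = a * b) → (∀ a ∈ A, ∀ y ∈ H, y * a = a * y) → A = ⊥ := by
    intro A B hA hB hAB hdis hH hc
    have h1 : ⁅H, H⁆ ≤ B := by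
      rw [commutator_le]
      intro x hx y hy
      obtain ⟨a, ha, b, hb, rfl⟩ := hH x hx
      obtain ⟨a', ha', b', hb', rfl⟩ := hH y hy
      have ca : ∀ z ∈ H, a * z = z * a := fun z hz => (hc a ha z hz).symm
      have ca' : ∀ z ∈ H, a' * z = z * a' := fun z hz => (hc a' ha' z hz).symm
      have e : ⁅a * b, a' * b'⁆ = b * b' * b⁻¹ * b'⁻¹ := by
        rw [commutatorElement_def, _root_.mul_inv_rev, _root_.mul_inv_rev]
        have e1 := ca' b (hB hb)
        have e2 : a * (b * b' * b⁻¹ * b'⁻¹) = (b * b' * b⁻¹ * b'⁻¹) * a := ca _ (mul_mem (mul_mem (mul_mem (hB hb)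
          (hB hb')) (inv_mem (hB hb))) (inv_mem (hB hb')))
        have e3 : a' * (a * (b * b' * b⁻¹ * b'⁻¹) * a⁻¹) = (a * (b * b' * b⁻¹ * b'⁻¹) * a⁻¹) * a' :=
          ca' _ (mul_mem (mul_mem (hA ha) (mul_mem (mul_mem (mul_mem (hB hb) (hB hb')) (inv_mem (hB hb)))
            (inv_mem (hB hb')))) (inv_mem (hA ha)))
        have e4 : a⁻¹ * b'⁻¹ = b'⁻¹ * a⁻¹ := by
          have := ca b' (hB hb')
          calc a⁻¹ * b'⁻¹ = (b' * a)⁻¹ := by group
            _ = (a * b')⁻¹ := by rw [this]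
            _ = _ := by group
        have e5 : a * a' = a' * a := ca a' (hA ha')
        calc a * b * (a' * b') * (b⁻¹ * a⁻¹) * (b'⁻¹ * a'⁻¹)
            = a * (b * a') * b' * b⁻¹ * (a⁻¹ * b'⁻¹) * a'⁻¹ := by group
          _ = a * (a' * b) * b' * b⁻¹ * (b'⁻¹ * a⁻¹) * a'⁻¹ := by rw [e1, e4]
          _ = (a * a') * (b * b' * b⁻¹ * b'⁻¹) * a⁻¹ * a'⁻¹ := by group
          _ = (a' * a) * (b * b' * b⁻¹ * b'⁻¹) * a⁻¹ * a'⁻¹ := by rw [e5]
          _ = (a' * (a * (b * b' * b⁻¹ * b'⁻¹) * a⁻¹)) * a'⁻¹ := by group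
          _ = ((a * (b * b' * b⁻¹ * b'⁻¹)) * a⁻¹) * a' * a'⁻¹ := by rw [e3]
          _ = (((b * b' * b⁻¹ * b'⁻¹) * a) * a⁻¹) * a' * a'⁻¹ := by rw [e2]
          _ = _ := by group
      rw [e]
      exact mul_mem (mul_mem (mul_mem hb hb') (inv_mem hb)) (inv_mem hb')
    rw [eq_bot_iff, ← hdis]
    exact le_inf le_rfl (hA.trans (perf.trans h1))
  have nor : ∀ A B : Subgroup G, A ≤ H → (∀ a ∈ A, ∀ b ∈ B, a * b = b * a) →
      (∀ y ∈ H, ∃ a ∈ A, ∃ b ∈ B, y = a * b) → ∀ y ∈ H, ∀ a ∈ A, y * a * y⁻¹ ∈ A := by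
    intro A B hA hAB hH y hy a ha
    obtain ⟨a', ha', b, hb, rfl⟩ := hH y hy
    have e : a' * b * a * (a' * b)⁻¹ = a' * a * a'⁻¹ := by
      have h1 := hAB a ha b hb
      calc a' * b * a * (a' * b)⁻¹ = a' * (b * a) * b⁻¹ * a'⁻¹ := by group
        _ = a' * (a * b) * b⁻¹ * a'⁻¹ := by rw [h1]
        _ = _ := by group
    rw [e]
    exact mul_mem (mul_mem ha' ha) (inv_mem ha')
  have hBA : ∀ b ∈ B, ∀ a ∈ A, b * a = a * b := fun b hb a ha => (hAB a ha b hb).symm
  have hH' : ∀ y ∈ H, ∃ b ∈ B, ∃ a ∈ A, y = b * a := by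
    intro y hy
    obtain ⟨a, ha, b, hb, e⟩ := hH y hy
    exact ⟨b, hb, a, ha, by rw [e, hAB a ha b hb]⟩
  by_cases h1 : ∃ a ∈ A, ∃ y ∈ H, y * a ≠ a * y
  · by_cases h2 : ∃ b ∈ B, ∃ y ∈ H, y * b ≠ b * y
    · exfalso
      apply hX
      rw [eq_bot_iff, ← hdis]
      exact le_inf (hn A hA (nor A B hA hAB hH) h1) (hn B hB (nor B A hB hBA hH') h2)
    · push Not at h2
      right
      exact key B A hB hA hBA (by rw [inf_comm]; exact hdis) hH' h2
  · push Not at h1
    left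
    exact key A B hA hB hAB hdis hH h1

variable (f : PSU n F q →* G) (hf : Function.Injective f)
include hf

/-- perfect subgroups of the normaliser -/
theorem out_range (hF : Fintype.card F = q ^ 2) (hn : 4 ≤ n) (P : Subgroup G)
    (hP : P ≤ normalizer (f.range : Set G)) (hPP : P ≤ ⁅P, P⁆) :
    ∀ x ∈ P, ∃ k ∈ f.range, ∃ c : G, (∀ y ∈ f.range, c * y = y * c) ∧ x = k * c := by
  let e : PSU n F q ≃* ↥f.range := MonoidHom.ofInjective hf
  let θ : ↥(normalizer (f.range : Set G)) →* MulAut (PSU n F q) :=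
    (MulAut.congr e.symm).toMonoidHom.comp (Subgroup.normalizerMonoidHom f.range)
  have hθ : ∀ (g : ↥(normalizer (f.range : Set G))) (y : PSU n F q), f (θ g y) = (g : G) * f y * (g : G)⁻¹ := by
    intro g y
    have h1 : θ g y = e.symm (Subgroup.normalizerMonoidHom f.range g (e y)) := rfl
    have h2 : ∀ z : ↥f.range, f (e.symm z) = (z : G) := by
      intro z
      have h3 : f (e.symm z) = ((e (e.symm z) : ↥f.range) : G) := rfl
      rw [h3, MulEquiv.apply_symm_apply]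
    rw [h1, h2]
    rfl
  set H : Subgroup (MulAut (PSU n F q)) := (P.subgroupOf (normalizer (f.range : Set G))).map θ with hH
  have hHH : H ≤ ⁅H, H⁆ := by
    rw [hH, ← Subgroup.map_commutator]
    apply Subgroup.map_mono
    intro x hx
    have h1 := hPP (mem_subgroupOf.1 hx)
    have h2 : (⁅P.subgroupOf (normalizer (f.range : Set G)), P.subgroupOf (normalizer (f.range : Set G))⁆).map
        (normalizer (f.range : Set G)).subtype = ⁅P, P⁆ := by
      rw [Subgroup.map_commutator, Subgroup.subgroupOf_map_subtype, inf_eq_left.2 hP]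
    rw [← h2] at h1
    obtain ⟨y, hy, hyx⟩ := h1
    have : y = x := Subtype.ext hyx
    rwa [← this]
  intro x hx
  obtain ⟨y, hy⟩ := out_PSU hF hn H hHH (θ ⟨x, hP hx⟩) ⟨_, mem_subgroupOf.2 hx, rfl⟩
  refine ⟨f y, ⟨y, rfl⟩, (f y)⁻¹ * x, ?_, by group⟩
  rintro _ ⟨z, rfl⟩
  have h1 := hθ ⟨x, hP hx⟩ z
  rw [hy, MulAut.conj_apply, map_mul, map_mul, map_inv] at h1
  have h1' : f y * f z * (f y)⁻¹ = x * f z * x⁻¹ := h1
  calc (f y)⁻¹ * x * f z = (f y)⁻¹ * (x * f z * x⁻¹) * x := by group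
    _ = (f y)⁻¹ * (f y * f z * (f y)⁻¹) * x := by rw [h1']
    _ = f z * ((f y)⁻¹ * x) := by group

/-- **The K-facts of LEMMA INPUT** for `PSU n F q`. -/
theorem inp [CharP F 2] (hF : Fintype.card F = q ^ 2) (hn : 4 ≤ n) (hq : q ≠ 2) {S : Subgroup G}
    (hS : IsSyl S f.range) (tight : TightAt f.range)
    (even : Even (Nat.card ↥(centralizer (f.range : Set G))))
    (std : ∀ g : G, ¬ ∀ k ∈ f.range, ∀ l ∈ CommConj.cj g f.range, k * l = l * k)
    (core : ∀ Q : Subgroup G, IsSyl Q (centralizer (f.range : Set G)) → ∀ P : Subgroup G,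
      P ≤ centralizer (f.range : Set G) → (∀ x ∈ P, ∀ q ∈ Q, x * q = q * x) → P ≤ ⁅P, P⁆ → P = ⊥) :
    ∃ (u : Fin n → F) (_ : u ≠ 0) (hu : hermForm n F q u u = 0),
      Inp f.range S ((RR hF u hu).map f) ((PP q u).map f) := by
  have hs : IsSimpleGroup (PSU n F q) := Cfsg.Agent.S0283.result hF n (by omega) (by omega)
  -- the Sylow subgroup of `PSU`
  have hSf : (S.comap f).map f = S := by
    rw [Subgroup.map_comap_eq]
    exact inf_eq_right.2 hS.le
  let U : Sylow 2 (PSU n F q) :=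
    { toSubgroup := S.comap f
      isPGroup' := by
        rintro ⟨x, hx⟩
        obtain ⟨k, hk⟩ := hS.two ⟨f x, hx⟩
        refine ⟨k, Subtype.ext (hf ?_)⟩
        have h1 : (f x) ^ 2 ^ k = 1 := congrArg Subtype.val hk
        change f (x ^ 2 ^ k) = f 1
        rw [map_pow, h1, map_one]
      is_maximal' := by
        intro Q hQ hle
        apply le_antisymm _ hle
        intro x hx
        refine hS.max (Q.map f) (hQ.map f) ?_ ?_ ⟨x, hx, rfl⟩
        · rw [← hSf]; exact Subgroup.map_mono hle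
        · rintro _ ⟨y, -, rfl⟩; exact ⟨y, rfl⟩ }
  obtain ⟨u, hu0, hu, hQU, hUP⟩ := exists_point hF (by omega) U
  have hQU' : (QQ hF u hu).map f ≤ S := by rw [← hSf]; exact Subgroup.map_mono hQU
  have hUP' : S ≤ (PP q u).map f := by
    conv_lhs => rw [← hSf]
    exact Subgroup.map_mono hUP
  refine ⟨u, hu0, hu, ?_⟩
  exact
    { syl := hS
      tight := tight
      even := even
      ctr := by
        rintro _ ⟨x, rfl⟩ hx
        have h1 : x ∈ Subgroup.center (PSU n F q) := by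
          rw [Subgroup.mem_center_iff]
          intro y
          apply hf
          rw [map_mul, map_mul]
          exact mem_centralizer_iff.1 hx (f y) ⟨y, rfl⟩
        rw [center_eq_bot hF hn, Subgroup.mem_bot] at h1
        rw [h1, map_one]
      std := std
      simp := by
        intro N hN hNn
        have h1 : (N.comap f).map f = N := by
          rw [Subgroup.map_comap_eq]
          exact inf_eq_right.2 hN
        have h2 : (N.comap f).Normal := by
          constructor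
          intro x hx y
          show f (y * x * y⁻¹) ∈ N
          rw [map_mul, map_mul, map_inv]
          exact hNn (f y) ⟨y, rfl⟩ _ hx
        rcases hs.eq_bot_or_eq_top_of_normal (N.comap f) h2 with h | h
        · left
          rw [← h1, h, Subgroup.map_bot]
        · right
          rw [← h1, h, ← MonoidHom.range_eq_map]
      XS := (Subgroup.map_mono (RR_le_QQ hF hu)).trans hQU'
      SH := hUP'
      HK := by
        rintro _ ⟨y, -, rfl⟩
        exact ⟨y, rfl⟩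
      HX := by
        rintro _ ⟨y, hy, rfl⟩ _ ⟨x, hx, rfl⟩
        rw [← map_mul, ← map_mul, PP_comm_RR hF hu hy hx]
      perf := by
        rw [← Subgroup.map_commutator]
        exact Subgroup.map_mono (Un.PP_perf hF hn hq hu0 hu)
      cen := by
        intro y hy _ hyS
        obtain ⟨z, hz, hcz⟩ := UnLoc.exists_of_aut f hf (S := (QQ hF u hu : Set (PSU n F q))) (Z := RR hF u hu)
          (fun α hα => autCent_point hF hn hu0 hu α hα) hy (fun x hx => (hyS _ (hQU' ⟨x, hx, rfl⟩)).symm)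
        refine ⟨(f z)⁻¹ * y, ?_, f z, ⟨z, hz, rfl⟩, ?_⟩
        · rw [mem_centralizer_iff]
          rintro _ ⟨x, rfl⟩
          exact (hcz x).symm
        · rw [hcz z]; group
      res := by
        intro w hw hw1 P hPK hPP hPw
        exact Un.le_PP_of_perfect f hf hF (by omega) hu0 hu hw hw1 hPK hPw hPP
      out := by
        intro P hP hPP x hx
        obtain ⟨k, hk, c, hc, e⟩ := out_range f hf hF hn P hP hPP x hx
        rw [e]
        exact mul_mem_sup hk (mem_centralizer_iff.2 fun y hy => (hc y hy).symm)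
      ind := by
        apply ind_of (X := (RR hF u hu).map f)
        · rw [← Subgroup.map_commutator]
          exact Subgroup.map_mono (Un.PP_perf hF hn hq hu0 hu)
        · intro h0
          obtain ⟨t, ht, ht1⟩ := Un.exists_RR_ne hF (by omega) hu0 hu
          have h1 : f t ∈ (RR hF u hu).map f := ⟨t, ht, rfl⟩
          rw [h0, Subgroup.mem_bot] at h1
          exact ht1 (hf (h1.trans (map_one f).symm))
        · intro B hBH hBn hnc
          have h1 : (B.comap f).map f = B := by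
            rw [Subgroup.map_comap_eq]
            apply inf_eq_right.2
            intro x hx
            obtain ⟨y, -, rfl⟩ := hBH hx
            exact ⟨y, rfl⟩
          rw [← h1]
          apply Subgroup.map_mono
          apply RR_le_of_normal hF hn hu0 hu (B := B.comap f)
          · intro x hx
            obtain ⟨y, hy, e⟩ := hBH hx
            rwa [← hf e]
          · intro y hy b hb
            show f (y * b * y⁻¹) ∈ B
            rw [map_mul, map_mul, map_inv]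
            exact hBn (f y) ⟨y, hy, rfl⟩ _ hb
          · obtain ⟨b, hb, y, hy, hne⟩ := hnc
            obtain ⟨y, hy, rfl⟩ := hy
            obtain ⟨b', hb', rfl⟩ := hBH hb
            refine ⟨b', hb, y, hy, fun h0 => hne ?_⟩
            rw [← map_mul, h0, map_mul]
      gen := by
        intro J hJ
        have h2 : J.comap f = ⊤ := by
          apply gen_PSU hF hn hu0 hu (B := PP q u) le_rfl
          · intro y hy b hb
            exact mul_mem (mul_mem hy hb) (inv_mem hy)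
          · exact PP_nc hF hn hu0 hu
          · intro x hx hxx hx1 k hkx
            refine hJ (f x) ⟨x, hx, rfl⟩ ?_ ?_ (f k) ⟨k, rfl⟩ ?_
            · rw [← map_mul, hxx, map_one]
            · intro h0
              exact hx1 (hf (h0.trans (map_one f).symm))
            · rw [← map_mul, hkx, map_mul]
        rintro _ ⟨y, rfl⟩
        have h3 : y ∈ J.comap f := by rw [h2]; trivial
        exact h3
      core := core }

end Cfsg.Agent.OddHalf.DblR.UnInput
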