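import Cfsg.Agent.OddHalf.DblR.InpEnd
import Cfsg.Agent.OddHalf.DblR.UnEnd
import Cfsg.Agent.OddHalf.DblR.UnInput
import Cfsg.Agent.OddHalf.DblR.CoreOf
import Cfsg.Agent.OddHalf.D4.EvenPair

/-!
# ODD, D4: `K ≅ PSU_n(q)`, `n ≥ 4`, `q ≥ 4` even: no full pair `K`, `L` with a Sylow 2-subgroup of `K` in `N(L)`
(helper350)

* `emb` : `PSU n F q →* G` with image `K`, from an isomorphism;
* **`Un.no_full`**.
-/

set_option autoImplicit false

namespace Cfsg.Agent.OddHalf.DblR.Un

open Cfsg Subgroup Cfsg.Agent.OddHalf.D4 Cfsg.Agent.OddHalf.D4.Basic Cfsg.Agent.OddHalf.D4.Input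
open Cfsg.Agent.ClassicalGeometry.PSUAutUnip Cfsg.Agent.ClassicalGeometry.PSUAutSylow Cfsg.Agent.KFacts.Unit
open scoped commutatorElement

universe u

/-- the embedding with image `K` -/
theorem exists_emb {G : Type*} [Group G] {K : Subgroup G} {Y : Type*} [Group Y] (e : ↥K ≃* Y) :
    ∃ f : Y →* G, Function.Injective f ∧ f.range = K := by
  refine ⟨K.subtype.comp e.symm.toMonoidHom, K.subtype_injective.comp e.symm.injective, ?_⟩
  rw [MonoidHom.range_comp, MonoidHom.range_eq_top.2 e.symm.surjective, ← MonoidHom.range_eq_map]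
  exact K.range_subtype

variable {F : Type*} [Field F] [Fintype F] {q n : ℕ} [CharP F 2]

/-- **`Inp` and the end for `PSU_n(q)`.** -/
theorem exists_inp {G : Type u} [Group G] [Finite G] (hFT : CoreOf.FTu.{u}) {K : Subgroup G}
    (hK : IsStandardSubgroup K) (hF : Fintype.card F = q ^ 2) (hn : 4 ≤ n) (hq : 4 ≤ q) (e : ↥K ≃* PSU n F q)
    {S : Subgroup G} (hS : IsSyl S K) : ∃ X H : Subgroup G, Inp K S X H ∧ EndHyp K X := by
  obtain ⟨f, hf, rfl⟩ := exists_emb e
  have ht := EvenPair.tight_of_standard hK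
  obtain ⟨u, hu0, hu, h⟩ := UnInput.inp f hf hF hn (by omega) hS ht hK.2.1.1 (by
    intro g hcon
    by_cases h1 : f.range.map (MulAut.conj g).toMonoidHom = f.range
    · -- `K` is not commutative
      have h2 : ∀ k ∈ f.range, ∀ l ∈ f.range, k * l = l * k := by
        intro k hk l hl
        apply hcon k hk l
        show l ∈ f.range.map (MulAut.conj g).toMonoidHom
        rw [h1]; exact hl
      have hq2 : ⁅(⊤ : Subgroup ↥f.range), (⊤ : Subgroup ↥f.range)⁆ = ⊤ := hK.1.1.commutator_eq_top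
      have hq3 : ⁅(⊤ : Subgroup ↥f.range), (⊤ : Subgroup ↥f.range)⁆ = ⊥ := by
        rw [commutator_eq_bot_iff_le_centralizer]
        intro a _
        rw [mem_centralizer_iff]
        intro b _
        exact Subtype.ext (h2 b b.2 a a.2)
      rw [hq2] at hq3
      have hs : IsSimpleGroup ↥f.range := by
        have : IsSimpleGroup (PSU n F q) := Cfsg.Agent.S0283.result hF n (by omega) (by omega)
        exact e.isSimpleGroup_congr.2 this
      have := hs.toNontrivial
      exact absurd hq3 top_ne_bot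
    · apply hK.2.2.1 g h1
      rw [commutator_eq_bot_iff_le_centralizer]
      intro a ha
      rw [mem_centralizer_iff]
      intro b hb
      exact (hcon a ha b hb).symm) (fun Q hQ P hP hc hp => CoreOf.core_of hFT hQ hP hc hp)
  refine ⟨_, _, h, ?_⟩
  intro E hE hE2 hEmax hC1 t t' ht ht1 ht' ht1' hne γ k hk h1 h2 h3
  exact row hF hn hq f hf rfl h.std1 hE hE2 hEmax hC1 ht ht1 ht' ht1' hne hu0 hu hk h1 h2 h3

/-- **No full pair `K`, `L` such that `N(L)` contains a Sylow 2-subgroup of `K`.** -/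
theorem no_full {G : Type u} [Group G] [Finite G] (hFT : CoreOf.FTu.{u}) {K : Subgroup G}
    (hK : IsStandardSubgroup K) (hrk : ¬ PRankLE 2 1 ↥(centralizer (K : Set G)))
    (hF : Fintype.card F = q ^ 2) (hn : 4 ≤ n) (hq : 4 ≤ q) (e : ↥K ≃* PSU n F q)
    {L Q U S : Subgroup G} (hp : FullPair K L Q U) (hS : IsSyl S K) (hSL : S ≤ normalizer (L : Set G)) : False := by
  obtain ⟨X, H, h, hend⟩ := exists_inp hFT hK hF hn hq e hS
  exact h.no_full hend hrk hp hS hSL

end Cfsg.Agent.OddHalf.DblR.Un
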