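import Cfsg.Agent.OddHalf.DblR.RowEndB
import Cfsg.Agent.OddHalf.DblR.UnRowA

/-!
# ODD, D4: the rows `U_4(q)`, `U_5(q)`, `U_n(q)` (`n ≥ 6`), `q = 2^a ≥ 4` (helper350)

`UnBF` : the facts `BFacts K` of (1B) for `K ≅ PSU_n(2^a)`, `n ≥ 4`, `a ≥ 2`.

* **`u4e`**, **`u5e`**, **`une`** : the rows of `Cut.lean`, from `UnBF`.
-/

set_option autoImplicit false

namespace Cfsg.Agent.OddHalf.DblR.UnRow

open Cfsg Subgroup Cfsg.Agent.OddHalf.D4 Cfsg.Agent.OddHalf.D4.RowEnd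

universe u

/-- `BFacts K` for `K ≅ PSU_n(2^a)`, `n ≥ 4`, `a ≥ 2` -/
def UnBF : Prop := ∀ (G : Type u) [Group G] [Finite G] (K : Subgroup G) (F : Type) [Field F] [Fintype F] (a n : ℕ),
  2 ≤ a → Fintype.card F = 4 ^ a → 4 ≤ n → IsSimpleGroup ↥K → (↥K ≃* PSU n F (2 ^ a)) → Free.BFacts K

/-- `X ≅ PSU_n(2^a)`, `n ≥ 4`, `a ≥ 2` -/
def Ua (X : Type*) [Group X] : Prop := ∃ (F : Type) (_ : Field F) (_ : Fintype F) (a n : ℕ), 2 ≤ a ∧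
  Fintype.card F = 4 ^ a ∧ 4 ≤ n ∧ Nonempty (X ≃* PSU n F (2 ^ a))

theorem charTwo {F : Type*} [Field F] [Fintype F] {a : ℕ} (hF : Fintype.card F = 4 ^ a) :
    CharP F 2 := by
  obtain ⟨p, hp⟩ := CharP.exists F
  have hpp : p.Prime := CharP.char_is_prime F p
  obtain ⟨n, -, hn⟩ := FiniteField.card F p
  have h1 : p ∣ 4 ^ a := by
    rw [← hF, hn]
    exact dvd_pow_self p n.ne_zero
  have h2 : p ∣ 4 := hpp.dvd_of_dvd_pow h1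
  have h3 : p ∣ 2 := hpp.dvd_of_dvd_pow (n := 2) (by norm_num; exact h2)
  have h4 : p = 2 := (Nat.prime_dvd_prime_iff_eq hpp Nat.prime_two).1 h3
  rw [← h4]; exact hp

theorem card_sq {F : Type*} [Fintype F] {a : ℕ} (hF : Fintype.card F = 4 ^ a) : Fintype.card F = (2 ^ a) ^ 2 := by
  rw [hF, ← pow_mul, mul_comm, pow_mul]
  norm_num

theorem four_le {a : ℕ} (ha : 2 ≤ a) : 4 ≤ 2 ^ a := by
  calc 4 = 2 ^ 2 := by norm_num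
    _ ≤ 2 ^ a := Nat.pow_le_pow_right (by norm_num) ha

/-- all unitary rows at once -/
theorem ua (h1173 : Start.P1173.{u}) (hFT : CoreOf.FTu.{u}) (hBF : UnBF.{u}) : Cut.Row1.{u} (fun K _ => Ua K) := by
  refine row_of_bFacts h1173 ?_ ?_ ?_
  · rintro X Y _ _ e ⟨F, _, _, a, n, ha, hF, hn, ⟨e'⟩⟩
    exact ⟨F, _, _, a, n, ha, hF, hn, ⟨e.symm.trans e'⟩⟩
  · rintro G _ _ K hK - - ⟨F, _, _, a, n, ha, hF, hn, ⟨e⟩⟩ S hS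
    have : CharP F 2 := charTwo hF
    exact Un.exists_inp hFT hK (card_sq hF) hn (four_le ha) e hS
  · rintro G _ _ K hs ⟨F, _, _, a, n, ha, hF, hn, ⟨e⟩⟩
    exact hBF G K F a n ha hF hn hs e

/-- **D4, `K ≅ U_4(2^a)`, `a ≥ 2`.** -/
theorem u4e (h1173 : Start.P1173.{u}) (hFT : CoreOf.FTu.{u}) (hBF : UnBF.{u}) :
    Cut.Row1.{u} (fun K _ => Cut.U4e K) := by
  rintro G _ hG K hK hrk hz ⟨F, _, _, a, ha, hF, ⟨e⟩⟩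
  exact ua h1173 hFT hBF G hG K hK hrk hz ⟨F, _, _, a, 4, ha, hF, le_rfl, ⟨e⟩⟩

/-- **D4, `K ≅ U_5(2^a)`, `a ≥ 2`.** -/
theorem u5e (h1173 : Start.P1173.{u}) (hFT : CoreOf.FTu.{u}) (hBF : UnBF.{u}) :
    Cut.Row1.{u} (fun K _ => Cut.U5e K) := by
  rintro G _ hG K hK hrk hz ⟨F, _, _, a, ha, hF, ⟨e⟩⟩
  exact ua h1173 hFT hBF G hG K hK hrk hz ⟨F, _, _, a, 5, ha, hF, by norm_num, ⟨e⟩⟩

/-- **D4, `K ≅ U_n(2^a)`, `n ≥ 6`, `a ≥ 2`.** -/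
theorem une (h1173 : Start.P1173.{u}) (hFT : CoreOf.FTu.{u}) (hBF : UnBF.{u}) :
    Cut.Row1.{u} (fun K _ => Cut.Une K) := by
  rintro G _ hG K hK hrk hz ⟨F, _, _, a, n, ha, hF, hn, ⟨e⟩⟩
  exact ua h1173 hFT hBF G hG K hK hrk hz ⟨F, _, _, a, n, ha, hF, by omega, ⟨e⟩⟩

end Cfsg.Agent.OddHalf.DblR.UnRow
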